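import Cfsg.Agent.Base

/-!
# Vocabulary for Peterfalvi, sections 3 to 14

Class functions of a group `L` are functions `L → ℂ`; for `M : Subgroup G` they are functions on the
subtype `↥M`.  The cyclic group `W = W₁ × W₂` of sections 3 and 4 is given by two injective
homomorphisms `f₁ : X₁ →* G`, `f₂ : X₂ →* G` with ranges `W₁`, `W₂`, so that the characters
`eta` (on `G`) and `mu` (on a subgroup `M`) have the same index types `X₁ →* ℂˣ`, `X₂ →* ℂˣ`
(the principal character has index `1`; Peterfalvi's index `0`).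
-/

set_option autoImplicit false

namespace CL.PF

open Cfsg

/-- Canonical `Fintype` structure on a subgroup of a finite group. -/
noncomputable scoped instance (priority := high) fintypeSubgroup {G : Type*} [Group G] [Finite G]
    (H : Subgroup G) : Fintype H := Fintype.ofFinite H

/-- Canonical `Fintype` structure on a quotient of a finite group. -/
noncomputable scoped instance (priority := high) fintypeQuot {G : Type*} [Group G] [Finite G]
    (N : Subgroup G) : Fintype (G ⧸ N) := Fintype.ofFinite _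

/-- Canonical `Fintype` structure on the linear characters of a finite group. -/
noncomputable scoped instance (priority := high) fintypeDual {X : Type*} [Group X] [Finite X] :
    Fintype (X →* ℂˣ) := Fintype.ofFinite _

/-! ### generalities -/

/-- `χ ∈ ± Irr G`. -/
def IsSignedIrr (G : Type*) [Group G] (χ : G → ℂ) : Prop :=
  IsIrrCharacter G χ ∨ IsIrrCharacter G (-χ)

/-- `ℤ[Irr L, A]`: the virtual characters of `L` vanishing outside `A`. -/
def genOn (L : Type*) [Group L] (A : Set L) : Set (L → ℂ) :=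
  {α | IsGeneralizedCharacter L α ∧ ∀ x, x ∉ A → α x = 0}

/-- For `θ` a function on the subgroup `K` of `L`: `Y ⊓ K` is contained in the kernel of `θ`. -/
def InKer {L : Type*} [Group L] {K : Subgroup L} (Y : Subgroup L) (θ : K → ℂ) : Prop :=
  ∀ a : K, (a : L) ∈ Y → θ a = θ 1

/-- The functions on `L` induced from the irreducible characters of `K` whose kernel contains `Y`
but not `H` (`seqIndD K L H Y` of the Coq development). -/
def seqIndD {L : Type*} [Group L] [Fintype L] (K H Y : Subgroup L) : Set (L → ℂ) :=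
  {φ | ∃ θ : K → ℂ, IsIrrCharacter K θ ∧ ¬ InKer H θ ∧ InKer Y θ ∧ φ = indFun K θ}

/-- `χ` is induced from a linear character of the subgroup `K`. -/
def IsIndLin {L : Type*} [Group L] [Fintype L] (K : Subgroup L) (χ : L → ℂ) : Prop :=
  ∃ ξ : K →* ℂˣ, χ = indFun K (fun x => (ξ x : ℂ))

/-- `τ₁` is an extension to `ℤ[S]` of the restriction of `τ` to `ℤ[S, L^#]` (`coherent_with`). -/
def CoherentWith {L : Type*} [Group L] [Fintype L] {G : Type*} [Group G] [Fintype G]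
    (S : Set (L → ℂ)) (τ τ₁ : (L → ℂ) → (G → ℂ)) : Prop :=
  IsLinearIsometryOn (zspan S) τ₁ ∧ ∀ α ∈ zspanOn S {1}ᶜ, τ₁ α = τ α

/-- `C_L(H / H₀)`: the elements of `L` centralising `H` modulo the normal subgroup `H₀`. -/
def centMod {L : Type*} [Group L] (H H₀ : Subgroup L) [H₀.Normal] : Subgroup L :=
  (Subgroup.centralizer ((H.map (QuotientGroup.mk' H₀) : Subgroup (L ⧸ H₀)) : Set (L ⧸ H₀))).comap
    (QuotientGroup.mk' H₀)

/-- The group `L` is a Frobenius group with kernel `K`. -/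
structure FrobKer {L : Type*} [Group L] (K : Subgroup L) : Prop where
  normal : K.Normal
  ne_bot : K ≠ ⊥
  ne_top : K ≠ ⊤
  cent_le : ∀ k ∈ K, k ≠ 1 → Subgroup.centralizer ({k} : Set L) ≤ K

/-! ### section 3: cyclic TI-subsets -/

section
variable {G X₁ X₂ : Type*} [Group G] [Group X₁] [Group X₂]

/-- Hypothesis (3.1), for `W₁ = f₁.range`, `W₂ = f₂.range`. -/
structure CycTI (f₁ : X₁ →* G) (f₂ : X₂ →* G) : Prop where
  inj₁ : Function.Injective f₁
  inj₂ : Function.Injective f₂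
  selfNorm : IsSelfNormalizingCyclic f₁.range f₂.range
  odd : Odd (Nat.card ↥(f₁.range ⊔ f₂.range))

/-- The set `V = W - (W₁ ∪ W₂)`. -/
def cycV (f₁ : X₁ →* G) (f₂ : X₂ →* G) : Set G :=
  {g | ∃ x y, x ≠ 1 ∧ y ≠ 1 ∧ g = f₁ x * f₂ y}

/-- `V^G`, the union of the conjugates of `V`. -/
def cycVConj (f₁ : X₁ →* G) (f₂ : X₂ →* G) : Set G :=
  {g | ∃ m : G, ∃ v ∈ cycV f₁ f₂, g = m * v * m⁻¹}

/-- `η_{ij} = ω_{ij}^σ`: under `CycTI f₁ f₂`, the unique element of `± Irr G` that agrees with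
`ω_{ij}` on `V` ((3.2), (3.9.a)). -/
noncomputable def eta (f₁ : X₁ →* G) (f₂ : X₂ →* G) (i : X₁ →* ℂˣ) (j : X₂ →* ℂˣ) : G → ℂ :=
  Classical.epsilon fun χ : G → ℂ => IsSignedIrr G χ ∧
    ∀ x y, x ≠ 1 → y ≠ 1 → χ (f₁ x * f₂ y) = (i x : ℂ) * (j y : ℂ)

/-- `φ` is orthogonal to the image of `σ`. -/
def OrthEta [Fintype G] (f₁ : X₁ →* G) (f₂ : X₂ →* G) (φ : G → ℂ) : Prop :=
  ∀ i j, classInner φ (eta f₁ f₂ i j) = 0

/-- `∑_i η_{ij}` -/
noncomputable def etaCol [Finite X₁] (f₁ : X₁ →* G) (f₂ : X₂ →* G) (j : X₂ →* ℂˣ) : G → ℂ :=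
  ∑ i : X₁ →* ℂˣ, eta f₁ f₂ i j

/-- `∑_j η_{ij}` -/
noncomputable def etaRow [Finite X₂] (f₁ : X₁ →* G) (f₂ : X₂ →* G) (i : X₁ →* ℂˣ) : G → ℂ :=
  ∑ j : X₂ →* ℂˣ, eta f₁ f₂ i j

end

/-! ### section 4: the prime TI hypotheses -/

section
variable {L X₁ X₂ : Type*} [Group L] [Group X₁] [Group X₂]

/-- Hypothesis (4.2) for the group `L`, with `W₁ = f₁.range`, `W₂ = f₂.range`. -/
structure PrimeTI (K : Subgroup L) (f₁ : X₁ →* L) (f₂ : X₂ →* L) : Prop where
  inj₁ : Function.Injective f₁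
  inj₂ : Function.Injective f₂
  normal : K.Normal
  inf_eq : K ⊓ f₁.range = ⊥
  sup_eq : K ⊔ f₁.range = ⊤
  ne_bot₁ : f₁.range ≠ ⊥
  cyclic₁ : IsCyclic f₁.range
  hall : Nat.Coprime (Nat.card f₁.range) f₁.range.index
  ne_bot₂ : f₂.range ≠ ⊥
  cyclic₂ : IsCyclic f₂.range
  le₂ : f₂.range ≤ K
  cent : ∀ x ∈ f₁.range, x ≠ 1 → K ⊓ Subgroup.centralizer ({x} : Set L) = f₂.range
  odd : Odd (Nat.card ↥(f₁.range ⊔ f₂.range))

open Classical in
/-- The sign `δ_j` of (4.3.b). -/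
noncomputable def delta (f₁ : X₁ →* L) (f₂ : X₂ →* L) (j : X₂ →* ℂˣ) : ℤ :=
  if IsIrrCharacter L (eta f₁ f₂ 1 j) then 1 else -1

/-- The irreducible character `μ_{ij}` of (4.3.b): `δ_j μ_{ij} = ω_{ij}^σ` for the map `σ` of `L`. -/
noncomputable def mu (f₁ : X₁ →* L) (f₂ : X₂ →* L) (i : X₁ →* ℂˣ) (j : X₂ →* ℂˣ) : L → ℂ :=
  (delta f₁ f₂ j : ℂ) • eta f₁ f₂ i j

/-- `μ_j = ∑_i μ_{ij}` of (4.5). -/
noncomputable def muCol [Finite X₁] (f₁ : X₁ →* L) (f₂ : X₂ →* L) (j : X₂ →* ℂˣ) : L → ℂ :=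
  ∑ i : X₁ →* ℂˣ, mu f₁ f₂ i j

/-- `χ_j`, the restriction of `μ_{ij}` to `K` ((4.5.a)). -/
noncomputable def chiRes (K : Subgroup L) (f₁ : X₁ →* L) (f₂ : X₂ →* L) (j : X₂ →* ℂˣ) : K → ℂ :=
  fun k => mu f₁ f₂ 1 j k

end

/-- Hypothesis (4.6). -/
structure PrimeDade {G X₁ X₂ : Type*} [Group G] [Group X₁] [Group X₂] (L : Subgroup G)
    (K H : Subgroup L) (f₁ : X₁ →* L) (f₂ : X₂ →* L) (A A₀ : Set G) (R : G → Subgroup G) :
    Prop where
  primeTI : PrimeTI K f₁ f₂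
  cycTI : CycTI (L.subtype.comp f₁) (L.subtype.comp f₂)
  H_normal : H.Normal
  le_H : f₂.range ≤ H
  H_le : H ≤ K
  A_conj : ∀ x ∈ L, ∀ a ∈ A, x * a * x⁻¹ ∈ A
  cent_mem : ∀ h ∈ H, h ≠ 1 → ∀ k ∈ K, k ≠ 1 → k * h = h * k → (k : G) ∈ A
  A_sub : ∀ a ∈ A, a ≠ 1 ∧ ∃ k ∈ K, (k : G) = a
  A₀_eq : A₀ = A ∪ Subtype.val '' cycVConj f₁ f₂
  dade : DadeHypothesis A₀ L R

/-! ### section 7: the adjoint of the Dade map -/

section
variable {G : Type*} [Group G]

/-- The Dade support `Ã`: all conjugates of the cosets `a H(a)`, `a ∈ A`. -/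
def dadeSupp (A : Set G) (H : G → Subgroup G) : Set G :=
  {g | ∃ a ∈ A, ∃ u ∈ H a, ∃ x : G, x * g * x⁻¹ = a * u}

open Classical in
/-- The map `χ ↦ χ^ρ` of (7.1). -/
noncomputable def invDade (A : Set G) (L : Subgroup G) (H : G → Subgroup G) (χ : G → ℂ) : L → ℂ :=
  fun a => if (a : G) ∈ A then (Nat.card (H a) : ℂ)⁻¹ * ∑ᶠ u ∈ (H a : Set G), χ (a * u) else 0

/-! ### section 8: maximal subgroups of a minimal simple group of odd order -/

/-- The Dade isometry relative to `(A₀(M), M, G)`. -/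
noncomputable def ftTau (M : Subgroup G) : (M → ℂ) → (G → ℂ) :=
  dadeIsometry (typeA0 M) M (supportR M)

/-- `M` is a maximal subgroup of type `P` of the minimal simple group of odd order `G`. -/
structure PCtx (M W₁ U W₂ : Subgroup G) : Prop where
  hG : IsMinSimpleOddOrder G
  hM : IsCoatom M
  hP : IsTypePWith M W₁ U W₂

theorem PCtx.W₁_le {M W₁ U W₂ : Subgroup G} (c : PCtx M W₁ U W₂) : W₁ ≤ M := c.hP.W₁_compl.2.1

theorem PCtx.W₂_le {M W₁ U W₂ : Subgroup G} (c : PCtx M W₁ U W₂) : W₂ ≤ M :=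
  (c.hP.W₂_le.trans inf_le_left).trans (Subgroup.map_subtype_le _)

theorem PCtx.U_le {M W₁ U W₂ : Subgroup G} (c : PCtx M W₁ U W₂) : U ≤ M :=
  c.hP.U_compl.2.1.trans c.hP.W₁_compl.1

/-- the inclusion `W₁ → M` -/
abbrev PCtx.f₁ {M W₁ U W₂ : Subgroup G} (c : PCtx M W₁ U W₂) : W₁ →* M :=
  Subgroup.inclusion c.W₁_le

/-- the inclusion `W₂ → M` -/
abbrev PCtx.f₂ {M W₁ U W₂ : Subgroup G} (c : PCtx M W₁ U W₂) : W₂ →* M :=
  Subgroup.inclusion c.W₂_le

/-- Case (b) of (8.8), with type `P` data for both subgroups. -/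
structure PPair (S T W₁ W₂ U V : Subgroup G) : Prop where
  cS : PCtx S W₁ U W₂
  cT : PCtx T W₂ V W₁
  inf_eq : S ⊓ T = W₁ ⊔ W₂
  typeII : IsOfTypeII S ∨ IsOfTypeII T
  all : ∀ M : Subgroup G, IsCoatom M → IsOfTypeI M ∨ ∃ g : G,
    M = S.map (MulAut.conj g).toMonoidHom ∨ M = T.map (MulAut.conj g).toMonoidHom

theorem PPair.symm {S T W₁ W₂ U V : Subgroup G} (h : PPair S T W₁ W₂ U V) :
    PPair T S W₂ W₁ V U where
  cS := h.cT
  cT := h.cS
  inf_eq := by rw [inf_comm, h.inf_eq, sup_comm]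
  typeII := h.typeII.symm
  all M hM := (h.all M hM).imp id fun ⟨g, hg⟩ => ⟨g, hg.symm⟩

end

/-! ### section 9: internal structure of a group of type II, III or IV -/

section
variable {M X₁ X₂ : Type*} [Group M] [Group X₁] [Group X₂]

/-- What section 9 uses about the internal structure of a group `M` of type II, III or IV
(Hypothesis (9.2)), with `H = M_F`, `W₁ = f₁.range`, `W₂ = f₂.range`. -/
structure Hyp92 (H U : Subgroup M) (f₁ : X₁ →* M) (f₂ : X₂ →* M) : Prop where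
  primeTI : PrimeTI (commutator M) f₁ f₂
  odd : Odd (Nat.card M)
  solv : Group.IsSolvable M
  H_normal : H.Normal
  H_nil : Group.IsNilpotent H
  H_hall : Nat.Coprime (Nat.card H) H.index
  U_nil : Group.IsNilpotent U
  W₁_norm : f₁.range ≤ Subgroup.normalizer (U : Set M)
  inf_eq : H ⊓ U = ⊥
  sup_eq : H ⊔ U = commutator M
  W₂_le : f₂.range ≤ H
  W₂_le_der : f₂.range ≤ ⁅commutator M, commutator M⁆
  der_cent : ⁅U, U⁆ ≤ Subgroup.centralizer (H : Set M)
  not_cent : ¬ U ≤ Subgroup.centralizer (H : Set M)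
  prime : (Nat.card X₁).Prime

/-- Hypotheses (9.2), (9.4), (9.5): `H / H₀` is a chief factor of `M` and `C_H(U) ≤ H₀`. -/
structure Hyp95 (H U H₀ : Subgroup M) [H₀.Normal] (f₁ : X₁ →* M) (f₂ : X₂ →* M) : Prop
    extends Hyp92 H U f₁ f₂ where
  H₀_lt : H₀ < H
  chief : ∀ N : Subgroup M, N.Normal → H₀ ≤ N → N ≤ H → N = H₀ ∨ N = H
  cent_le : H ⊓ Subgroup.centralizer (U : Set M) ≤ H₀

/-- Case (9.7.b): `U` acts irreducibly on `H / H₀`. -/
def IsGalois9 (H U H₀ : Subgroup M) : Prop :=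
  ∀ N : Subgroup M, H₀ ≤ N → N ≤ H → U ≤ Subgroup.normalizer (N : Set M) → N = H₀ ∨ N = H

/-- `C = C_U(H / H₀)` -/
abbrev cOf (H U H₀ : Subgroup M) [H₀.Normal] : Subgroup M := U ⊓ centMod H H₀

/-- `u = |U : C_U(H / H₀)|` -/
noncomputable abbrev uOf (H U H₀ : Subgroup M) [H₀.Normal] : ℕ := (cOf H U H₀).relIndex U

/-- the prime `p` with `H / H₀` an elementary abelian `p`-group -/
noncomputable abbrev pOf (H H₀ : Subgroup M) : ℕ := (H₀.relIndex H).minFac

end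

end CL.PF
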