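import Cfsg.Agent.Base
import Cfsg.Agent.Char.Basic
import Cfsg.Agent.PF.Defs

/-!
# Integer spans, linear isometries on lattices of class functions, `conjFun`

Basic API for `Cfsg.zspan`, `Cfsg.zspanOn`, `Cfsg.IsLinearIsometryOn`, `Cfsg.conjFun`,
and the real part `rip` of the inner product.
-/

set_option autoImplicit false

open Cfsg CL.Char
open scoped ComplexConjugate

namespace CL.PF

/-! ### sets closed under integer linear combinations -/

/-- a set of functions which is (the carrier of) an additive subgroup -/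
class ZClosed {X : Type*} (E : Set (X → ℂ)) : Prop where
  zero_mem : (0 : X → ℂ) ∈ E
  add_mem : ∀ {α β : X → ℂ}, α ∈ E → β ∈ E → α + β ∈ E
  neg_mem : ∀ {α : X → ℂ}, α ∈ E → -α ∈ E

section ZClosed

variable {X : Type*} {E : Set (X → ℂ)} [hE : ZClosed E]

theorem zc_zero : (0 : X → ℂ) ∈ E := hE.zero_mem

theorem zc_add {α β : X → ℂ} (hα : α ∈ E) (hβ : β ∈ E) : α + β ∈ E := hE.add_mem hα hβ

theorem zc_neg {α : X → ℂ} (hα : α ∈ E) : -α ∈ E := hE.neg_mem hα

theorem zc_sub {α β : X → ℂ} (hα : α ∈ E) (hβ : β ∈ E) : α - β ∈ E := by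
  rw [sub_eq_add_neg]; exact zc_add hα (zc_neg hβ)

theorem zc_nsmul (n : ℕ) {α : X → ℂ} (hα : α ∈ E) : n • α ∈ E := by
  induction n with
  | zero => rw [zero_smul]; exact zc_zero
  | succ n ih => rw [succ_nsmul]; exact zc_add ih hα

theorem zc_zsmul (n : ℤ) {α : X → ℂ} (hα : α ∈ E) : n • α ∈ E := by
  obtain ⟨m, rfl | rfl⟩ := n.eq_nat_or_neg
  · rw [natCast_zsmul]; exact zc_nsmul m hα
  · rw [neg_smul, natCast_zsmul]; exact zc_neg (zc_nsmul m hα)

theorem zc_intCast_smul (n : ℤ) {α : X → ℂ} (hα : α ∈ E) : (n : ℂ) • α ∈ E := by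
  rw [Int.cast_smul_eq_zsmul]; exact zc_zsmul n hα

theorem zc_natCast_smul (n : ℕ) {α : X → ℂ} (hα : α ∈ E) : (n : ℂ) • α ∈ E := by
  rw [Nat.cast_smul_eq_nsmul]; exact zc_nsmul n hα

theorem zc_sum {ι : Type*} (s : Finset ι) {α : ι → X → ℂ} (h : ∀ i ∈ s, α i ∈ E) :
    ∑ i ∈ s, α i ∈ E :=
  Finset.sum_induction _ (· ∈ E) (fun _ _ => zc_add) zc_zero h

end ZClosed

section Span

variable {X : Type*} {S T : Set (X → ℂ)} {A B : Set X}

instance instZClosedZspan (S : Set (X → ℂ)) : ZClosed (zspan S) where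
  zero_mem := (Submodule.span ℤ S).zero_mem
  add_mem := (Submodule.span ℤ S).add_mem
  neg_mem := (Submodule.span ℤ S).neg_mem

instance instZClosedZspanOn (S : Set (X → ℂ)) (A : Set X) : ZClosed (zspanOn S A) where
  zero_mem := ⟨zc_zero, fun _ _ => rfl⟩
  add_mem := fun hα hβ => ⟨zc_add hα.1 hβ.1, fun x hx => by simp [hα.2 x hx, hβ.2 x hx]⟩
  neg_mem := fun hα => ⟨zc_neg hα.1, fun x hx => by simp [hα.2 x hx]⟩

theorem mem_zspan_iff {α : X → ℂ} : α ∈ zspan S ↔ α ∈ Submodule.span ℤ S := Iff.rfl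

theorem subset_zspan : S ⊆ zspan S := Submodule.subset_span

theorem mem_zspan {χ : X → ℂ} (h : χ ∈ S) : χ ∈ zspan S := subset_zspan h

theorem zspan_induction {P : (X → ℂ) → Prop} (hmem : ∀ χ ∈ S, P χ) (h0 : P 0)
    (hadd : ∀ α β, α ∈ zspan S → β ∈ zspan S → P α → P β → P (α + β))
    (hsmul : ∀ (n : ℤ) α, α ∈ zspan S → P α → P (n • α)) {α : X → ℂ} (hα : α ∈ zspan S) :
    P α :=
  Submodule.span_induction (p := fun α _ => P α) hmem h0 hadd hsmul hα

/-- `zspan S` is the least `ZClosed` set containing `S` -/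
theorem zspan_subset {E : Set (X → ℂ)} [ZClosed E] (h : S ⊆ E) : zspan S ⊆ E := fun _ hα =>
  zspan_induction (P := (· ∈ E)) h zc_zero (fun _ _ _ _ => zc_add) (fun n _ _ => zc_zsmul n) hα

theorem zspan_mono (h : S ⊆ T) : zspan S ⊆ zspan T := Submodule.span_mono h

theorem zspan_subset_zspan (h : S ⊆ zspan T) : zspan S ⊆ zspan T := zspan_subset h

theorem zspan_zspan : zspan (zspan S) = zspan S :=
  Set.Subset.antisymm (zspan_subset subset_rfl) subset_zspan

theorem mem_zspanOn {α : X → ℂ} : α ∈ zspanOn S A ↔ α ∈ zspan S ∧ ∀ x, x ∉ A → α x = 0 :=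
  Iff.rfl

theorem zspanOn_subset : zspanOn S A ⊆ zspan S := fun _ h => h.1

theorem zspanOn_mono (h : S ⊆ T) : zspanOn S A ⊆ zspanOn T A :=
  fun _ hα => ⟨zspan_mono h hα.1, hα.2⟩

theorem zspanOn_subset_zspanOn (h : S ⊆ zspan T) : zspanOn S A ⊆ zspanOn T A :=
  fun _ hα => ⟨zspan_subset_zspan h hα.1, hα.2⟩

theorem zspanOn_mono_right (h : A ⊆ B) : zspanOn S A ⊆ zspanOn S B :=
  fun _ hα => ⟨hα.1, fun x hx => hα.2 x fun hA => hx (h hA)⟩

theorem mem_zspan_union {α : X → ℂ} :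
    α ∈ zspan (S ∪ T) ↔ ∃ β ∈ zspan S, ∃ γ ∈ zspan T, α = β + γ := by
  rw [mem_zspan_iff, Submodule.span_union, Submodule.mem_sup]
  exact ⟨fun ⟨β, hβ, γ, hγ, h⟩ => ⟨β, hβ, γ, hγ, h.symm⟩,
    fun ⟨β, hβ, γ, hγ, h⟩ => ⟨β, hβ, γ, hγ, h.symm⟩⟩

theorem mem_zspan_singleton {χ α : X → ℂ} : α ∈ zspan {χ} ↔ ∃ n : ℤ, α = n • χ := by
  rw [mem_zspan_iff, Submodule.mem_span_singleton]
  exact ⟨fun ⟨n, h⟩ => ⟨n, h.symm⟩, fun ⟨n, h⟩ => ⟨n, h.symm⟩⟩

theorem mem_zspan_insert {χ α : X → ℂ} :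
    α ∈ zspan (insert χ S) ↔ ∃ n : ℤ, ∃ β ∈ zspan S, α = n • χ + β :=
  Submodule.mem_span_insert

theorem mem_zspan_pair {χ ψ α : X → ℂ} :
    α ∈ zspan {χ, ψ} ↔ ∃ m n : ℤ, α = m • χ + n • ψ := by
  rw [mem_zspan_iff, Submodule.mem_span_pair]
  exact ⟨fun ⟨m, n, h⟩ => ⟨m, n, h.symm⟩, fun ⟨m, n, h⟩ => ⟨m, n, h.symm⟩⟩

theorem mem_zspan_finset {s : Finset (X → ℂ)} {α : X → ℂ} :
    α ∈ zspan (s : Set (X → ℂ)) ↔ ∃ c : (X → ℂ) → ℤ, α = ∑ χ ∈ s, c χ • χ := by
  rw [mem_zspan_iff, Submodule.mem_span_finset]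
  exact ⟨fun ⟨c, _, h⟩ => ⟨c, h.symm⟩, fun ⟨c, h⟩ => by
    classical
    refine ⟨fun χ => if χ ∈ s then c χ else 0, fun χ hχ => ?_, ?_⟩
    · by_contra hs
      exact hχ (if_neg hs)
    · rw [h]; exact Finset.sum_congr rfl fun χ hχ => by simp only [if_pos hχ]⟩

/-- a function vanishing where all members of `S` vanish -/
theorem zspan_apply_eq_zero {x : X} (h : ∀ χ ∈ S, χ x = 0) {α : X → ℂ} (hα : α ∈ zspan S) :
    α x = 0 :=
  zspan_induction (P := fun α => α x = 0) h rfl (fun _ _ _ _ h1 h2 => by simp [h1, h2])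
    (fun _ _ _ h1 => by simp [h1]) hα

theorem zspan_apply_eq {x y : X} (h : ∀ χ ∈ S, χ x = χ y) {α : X → ℂ} (hα : α ∈ zspan S) :
    α x = α y :=
  zspan_induction (P := fun α => α x = α y) h rfl (fun _ _ _ _ h1 h2 => by simp [h1, h2])
    (fun _ _ _ h1 => by simp [h1]) hα

variable [One X]

theorem mem_zspanOn_one {α : X → ℂ} : α ∈ zspanOn S {1}ᶜ ↔ α ∈ zspan S ∧ α 1 = 0 := by
  simp [mem_zspanOn]

theorem mem_zspanOn_one_of {α : X → ℂ} (h : α ∈ zspan S) (h1 : α 1 = 0) : α ∈ zspanOn S {1}ᶜ :=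
  mem_zspanOn_one.mpr ⟨h, h1⟩

theorem apply_one_of_mem_zspanOn {α : X → ℂ} (h : α ∈ zspanOn S {1}ᶜ) : α 1 = 0 :=
  (mem_zspanOn_one.mp h).2

theorem sub_mem_zspanOn_one {α β : X → ℂ} (hα : α ∈ zspan S) (hβ : β ∈ zspan S)
    (h : α 1 = β 1) : α - β ∈ zspanOn S {1}ᶜ :=
  mem_zspanOn_one_of (zc_sub hα hβ) (by simp [h])

theorem sub_zsmul_mem_zspanOn_one {α β : X → ℂ} (hα : α ∈ zspan S) (hβ : β ∈ zspan S) {a : ℤ}
    (h : α 1 = a * β 1) : α - a • β ∈ zspanOn S {1}ᶜ :=
  sub_mem_zspanOn_one hα (zc_zsmul a hβ) (by simp [h])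

/-- If all members of `S` vanish off `A ∪ {1}` and `1 ∉ A` then `ℤ[S, X^#] = ℤ[S, A]`. -/
theorem zspanOn_one_eq (h1 : (1 : X) ∉ A) (h : ∀ χ ∈ S, ∀ x, x ≠ 1 → x ∉ A → χ x = 0) :
    zspanOn S {1}ᶜ = zspanOn S A := by
  refine Set.Subset.antisymm (fun α hα => ⟨hα.1, fun x hx => ?_⟩)
    (zspanOn_mono_right fun x hx hx1 => h1 (by rwa [Set.mem_singleton_iff.mp hx1] at hx))
  by_cases hx1 : x = 1
  · rw [hx1]; exact apply_one_of_mem_zspanOn hα
  · exact zspan_apply_eq_zero (fun χ hχ => h χ hχ x hx1 hx) hα.1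

end Span

/-! ### complex conjugation -/

section Conj

variable {X : Type*}

theorem conjFun_apply (χ : X → ℂ) (x : X) : conjFun χ x = conj (χ x) := rfl

theorem conjFun_eq (χ : X → ℂ) : conjFun χ = fun x => conj (χ x) := rfl

theorem conjFun_conjFun (χ : X → ℂ) : conjFun (conjFun χ) = χ := by
  funext x; simp [conjFun_apply]

theorem conjFun_injective : Function.Injective (conjFun : (X → ℂ) → (X → ℂ)) :=
  Function.LeftInverse.injective conjFun_conjFun

theorem conjFun_inj {χ ψ : X → ℂ} : conjFun χ = conjFun ψ ↔ χ = ψ := conjFun_injective.eq_iff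

theorem conjFun_eq_iff {χ ψ : X → ℂ} : conjFun χ = ψ ↔ χ = conjFun ψ :=
  ⟨fun h => by rw [← h, conjFun_conjFun], fun h => by rw [h, conjFun_conjFun]⟩

theorem conjFun_zero : conjFun (0 : X → ℂ) = 0 := by funext x; simp [conjFun_apply]

theorem conjFun_one : conjFun (fun _ : X => (1 : ℂ)) = fun _ => 1 := by
  funext x; simp [conjFun_apply]

theorem conjFun_add (χ ψ : X → ℂ) : conjFun (χ + ψ) = conjFun χ + conjFun ψ := by
  funext x; simp [conjFun_apply]

theorem conjFun_sub (χ ψ : X → ℂ) : conjFun (χ - ψ) = conjFun χ - conjFun ψ := by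
  funext x; simp [conjFun_apply]

theorem conjFun_neg (χ : X → ℂ) : conjFun (-χ) = -conjFun χ := by
  funext x; simp [conjFun_apply]

theorem conjFun_zsmul (n : ℤ) (χ : X → ℂ) : conjFun (n • χ) = n • conjFun χ := by
  funext x; simp [conjFun_apply]

theorem conjFun_nsmul (n : ℕ) (χ : X → ℂ) : conjFun (n • χ) = n • conjFun χ := by
  funext x; simp [conjFun_apply]

theorem conjFun_smul (c : ℂ) (χ : X → ℂ) : conjFun (c • χ) = conj c • conjFun χ := by
  funext x; simp [conjFun_apply]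

theorem conjFun_sum {ι : Type*} (s : Finset ι) (χ : ι → X → ℂ) :
    conjFun (∑ i ∈ s, χ i) = ∑ i ∈ s, conjFun (χ i) := by
  funext x; simp [conjFun_apply, Finset.sum_apply]

theorem conjFun_mem_zspan {S : Set (X → ℂ)} (hS : ∀ χ ∈ S, conjFun χ ∈ S) {α : X → ℂ}
    (hα : α ∈ zspan S) : conjFun α ∈ zspan S :=
  zspan_induction (P := fun α => conjFun α ∈ zspan S) (fun χ hχ => mem_zspan (hS χ hχ))
    (by rw [conjFun_zero]; exact zc_zero)
    (fun _ _ _ _ h1 h2 => by rw [conjFun_add]; exact zc_add h1 h2)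
    (fun n _ _ h1 => by rw [conjFun_zsmul]; exact zc_zsmul n h1) hα

theorem conjFun_mem_zspanOn {S : Set (X → ℂ)} (hS : ∀ χ ∈ S, conjFun χ ∈ S) {A : Set X}
    {α : X → ℂ} (hα : α ∈ zspanOn S A) : conjFun α ∈ zspanOn S A :=
  ⟨conjFun_mem_zspan hS hα.1, fun x hx => by simp [conjFun_apply, hα.2 x hx]⟩

variable {G : Type*} [Group G]

theorem classFun_conjFun {χ : G → ℂ} (h : IsClassFunction G χ) : IsClassFunction G (conjFun χ) :=
  classFun_conj h

theorem char_conjFun [Finite G] {χ : G → ℂ} (h : IsCharacter G χ) : IsCharacter G (conjFun χ) :=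
  char_conj h

theorem gen_conjFun [Finite G] {χ : G → ℂ} (h : IsGeneralizedCharacter G χ) :
    IsGeneralizedCharacter G (conjFun χ) := gen_conj h

theorem gen_conjFun_apply_one {χ : G → ℂ} (h : IsGeneralizedCharacter G χ) :
    conjFun χ 1 = χ 1 := by
  obtain ⟨n, hn⟩ := gen_apply_one h
  rw [conjFun_apply, hn, map_intCast]

theorem char_conjFun_apply_one {χ : G → ℂ} (h : IsCharacter G χ) : conjFun χ 1 = χ 1 :=
  gen_conjFun_apply_one (gen_of_char h)

theorem gen_conjFun_apply [Finite G] {χ : G → ℂ} (h : IsGeneralizedCharacter G χ) (g : G) :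
    conjFun χ g = χ g⁻¹ := (gen_apply_inv h g).symm

variable [Fintype G]

theorem classInner_conjFun (φ ψ : G → ℂ) :
    classInner (conjFun φ) (conjFun ψ) = classInner ψ φ := classInner_conj_conj φ ψ

theorem classInner_conjFun_left (φ ψ : G → ℂ) :
    classInner (conjFun φ) ψ = classInner (conjFun ψ) φ := by
  rw [← classInner_conjFun, conjFun_conjFun]

theorem classInner_conjFun_right (φ ψ : G → ℂ) :
    classInner φ (conjFun ψ) = classInner ψ (conjFun φ) := by
  rw [← classInner_conjFun, conjFun_conjFun]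

theorem irr_conjFun {χ : G → ℂ} (h : IsIrrCharacter G χ) : IsIrrCharacter G (conjFun χ) :=
  irr_of_char_norm_one (char_conjFun (irr_isCharacter h))
    (by rw [classInner_conjFun, irr_inner_self h])

end Conj

/-! ### virtual characters and spans -/

section Virt

variable {G : Type*} [Group G] {S : Set (G → ℂ)}

instance instZClosedGen : ZClosed {θ : G → ℂ | IsGeneralizedCharacter G θ} where
  zero_mem := gen_zero
  add_mem := gen_add
  neg_mem := gen_neg

instance instZClosedGenOn (A : Set G) : ZClosed (genOn G A) where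
  zero_mem := ⟨gen_zero, fun _ _ => rfl⟩
  add_mem := fun hα hβ => ⟨gen_add hα.1 hβ.1, fun x hx => by simp [hα.2 x hx, hβ.2 x hx]⟩
  neg_mem := fun hα => ⟨gen_neg hα.1, fun x hx => by simp [hα.2 x hx]⟩

theorem gen_of_mem_zspan (h : ∀ χ ∈ S, IsGeneralizedCharacter G χ) {α : G → ℂ}
    (hα : α ∈ zspan S) : IsGeneralizedCharacter G α :=
  zspan_subset (E := {θ : G → ℂ | IsGeneralizedCharacter G θ}) h hα

theorem zspanOn_subset_genOn (h : ∀ χ ∈ S, IsGeneralizedCharacter G χ) (A : Set G) :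
    zspanOn S A ⊆ genOn G A := fun _ hα => ⟨gen_of_mem_zspan h hα.1, hα.2⟩

theorem classFun_of_mem_zspan (h : ∀ χ ∈ S, IsClassFunction G χ) {α : G → ℂ}
    (hα : α ∈ zspan S) : IsClassFunction G α :=
  fun g x => zspan_apply_eq (fun χ hχ => h χ hχ g x) hα

variable [Fintype G]

theorem classInner_zspan_left {β : G → ℂ} (h : ∀ χ ∈ S, classInner χ β = 0) {α : G → ℂ}
    (hα : α ∈ zspan S) : classInner α β = 0 :=
  zspan_induction (P := fun α => classInner α β = 0) h (classInner_zero_left β)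
    (fun _ _ _ _ h1 h2 => by rw [classInner_add_left, h1, h2, add_zero])
    (fun _ _ _ h1 => by rw [classInner_zsmul_left, h1, mul_zero]) hα

theorem classInner_zspan_right {β : G → ℂ} (h : ∀ χ ∈ S, classInner β χ = 0) {α : G → ℂ}
    (hα : α ∈ zspan S) : classInner β α = 0 :=
  classInner_eq_zero_comm.mp
    (classInner_zspan_left (fun χ hχ => classInner_eq_zero_comm.mp (h χ hχ)) hα)

theorem classInner_zspan_zspan {T : Set (G → ℂ)} (h : ∀ χ ∈ S, ∀ ψ ∈ T, classInner χ ψ = 0)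
    {α β : G → ℂ} (hα : α ∈ zspan S) (hβ : β ∈ zspan T) : classInner α β = 0 :=
  classInner_zspan_left (fun χ hχ => classInner_zspan_right (h χ hχ) hβ) hα

end Virt

/-! ### the real part of the inner product -/

section Rip

variable {G : Type*} [Group G] [Fintype G]

/-- the real part of the inner product: a symmetric positive definite `ℝ`-bilinear form, equal to
`classInner` on virtual characters -/
noncomputable def rip (α β : G → ℂ) : ℝ := (classInner α β).re

theorem rip_def (α β : G → ℂ) : rip α β = (classInner α β).re := rfl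

theorem rip_comm (α β : G → ℂ) : rip α β = rip β α := by
  rw [rip_def, rip_def, ← conj_classInner, Complex.conj_re]

theorem rip_add_left (α β γ : G → ℂ) : rip (α + β) γ = rip α γ + rip β γ := by
  simp [rip_def, classInner_add_left]

theorem rip_add_right (α β γ : G → ℂ) : rip α (β + γ) = rip α β + rip α γ := by
  simp [rip_def, classInner_add_right]

theorem rip_sub_left (α β γ : G → ℂ) : rip (α - β) γ = rip α γ - rip β γ := by
  simp [rip_def, classInner_sub_left]

theorem rip_sub_right (α β γ : G → ℂ) : rip α (β - γ) = rip α β - rip α γ := by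
  simp [rip_def, classInner_sub_right]

theorem rip_neg_left (α β : G → ℂ) : rip (-α) β = -rip α β := by
  simp [rip_def, classInner_neg_left]

theorem rip_neg_right (α β : G → ℂ) : rip α (-β) = -rip α β := by
  simp [rip_def, classInner_neg_right]

theorem rip_zero_left (β : G → ℂ) : rip 0 β = 0 := by simp [rip_def, classInner_zero_left]

theorem rip_zero_right (β : G → ℂ) : rip β 0 = 0 := by simp [rip_def, classInner_zero_right]

theorem rip_zsmul_left (n : ℤ) (α β : G → ℂ) : rip (n • α) β = n * rip α β := by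
  simp only [rip_def, classInner_zsmul_left]; simp

theorem rip_zsmul_right (n : ℤ) (α β : G → ℂ) : rip α (n • β) = n * rip α β := by
  simp only [rip_def, classInner_zsmul_right]; simp

theorem rip_nsmul_left (n : ℕ) (α β : G → ℂ) : rip (n • α) β = n * rip α β := by
  simp only [rip_def, classInner_nsmul_left]; simp

theorem rip_nsmul_right (n : ℕ) (α β : G → ℂ) : rip α (n • β) = n * rip α β := by
  simp only [rip_def, classInner_nsmul_right]; simp

theorem rip_ofReal_smul_left (r : ℝ) (α β : G → ℂ) : rip ((r : ℂ) • α) β = r * rip α β := by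
  simp only [rip_def, classInner_smul_left]; simp

theorem rip_ofReal_smul_right (r : ℝ) (α β : G → ℂ) : rip α ((r : ℂ) • β) = r * rip α β := by
  simp only [rip_def, classInner_smul_right]; simp

theorem rip_sum_left {ι : Type*} (s : Finset ι) (α : ι → G → ℂ) (β : G → ℂ) :
    rip (∑ i ∈ s, α i) β = ∑ i ∈ s, rip (α i) β := by
  simp only [rip_def, classInner_sum_left, Complex.re_sum]

theorem rip_sum_right {ι : Type*} (s : Finset ι) (α : G → ℂ) (β : ι → G → ℂ) :
    rip α (∑ i ∈ s, β i) = ∑ i ∈ s, rip α (β i) := by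
  simp only [rip_def, classInner_sum_right, Complex.re_sum]

theorem rip_self_nonneg (α : G → ℂ) : 0 ≤ rip α α := classInner_self_re_nonneg α

theorem ofReal_rip_self (α : G → ℂ) : (rip α α : ℂ) = classInner α α :=
  ofReal_classInner_self_re α

theorem rip_self_eq_zero {α : G → ℂ} : rip α α = 0 ↔ α = 0 := by
  rw [← classInner_self_eq_zero, ← ofReal_rip_self, Complex.ofReal_eq_zero]

theorem rip_self_pos {α : G → ℂ} (h : α ≠ 0) : 0 < rip α α := classInner_self_re_pos h

theorem eq_zero_of_rip_self_nonpos {α : G → ℂ} (h : rip α α ≤ 0) : α = 0 :=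
  rip_self_eq_zero.mp (le_antisymm h (rip_self_nonneg α))

theorem rip_of_classInner_eq {α β : G → ℂ} {r : ℝ} (h : classInner α β = r) : rip α β = r := by
  rw [rip_def, h, Complex.ofReal_re]

theorem rip_of_classInner_eq_int {α β : G → ℂ} {n : ℤ} (h : classInner α β = n) :
    rip α β = n := by
  rw [rip_def, h, Complex.intCast_re]

theorem rip_of_classInner_eq_nat {α β : G → ℂ} {n : ℕ} (h : classInner α β = n) :
    rip α β = n := by
  rw [rip_def, h, Complex.natCast_re]

theorem rip_eq_zero_of {α β : G → ℂ} (h : classInner α β = 0) : rip α β = 0 := by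
  rw [rip_def, h, Complex.zero_re]

theorem rip_eq_one_of {α β : G → ℂ} (h : classInner α β = 1) : rip α β = 1 := by
  rw [rip_def, h, Complex.one_re]

theorem rip_congr {H : Type*} [Group H] [Fintype H] {α β : G → ℂ} {γ δ : H → ℂ}
    (h : classInner α β = classInner γ δ) : rip α β = rip γ δ := by
  rw [rip_def, h, rip_def]

theorem gen_ofReal_rip {α β : G → ℂ} (hα : IsGeneralizedCharacter G α)
    (hβ : IsGeneralizedCharacter G β) : (rip α β : ℂ) = classInner α β := by
  obtain ⟨n, hn⟩ := gen_inner_int hα hβ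
  rw [rip_of_classInner_eq_int hn, hn, Complex.ofReal_intCast]

theorem gen_rip_int {α β : G → ℂ} (hα : IsGeneralizedCharacter G α)
    (hβ : IsGeneralizedCharacter G β) : ∃ n : ℤ, rip α β = n := by
  obtain ⟨n, hn⟩ := gen_inner_int hα hβ
  exact ⟨n, rip_of_classInner_eq_int hn⟩

theorem gen_classInner_eq_of_rip {H : Type*} [Group H] [Fintype H] {α β : G → ℂ} {γ δ : H → ℂ}
    (hα : IsGeneralizedCharacter G α) (hβ : IsGeneralizedCharacter G β)
    (hγ : IsGeneralizedCharacter H γ) (hδ : IsGeneralizedCharacter H δ)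
    (h : rip α β = rip γ δ) : classInner α β = classInner γ δ := by
  rw [← gen_ofReal_rip hα hβ, ← gen_ofReal_rip hγ hδ, h]

theorem gen_classInner_eq_zero_of_rip {α β : G → ℂ} (hα : IsGeneralizedCharacter G α)
    (hβ : IsGeneralizedCharacter G β) (h : rip α β = 0) : classInner α β = 0 := by
  rw [← gen_ofReal_rip hα hβ, h, Complex.ofReal_zero]

theorem gen_one_le_rip_self {α : G → ℂ} (hα : IsGeneralizedCharacter G α) (h : α ≠ 0) :
    1 ≤ rip α α := by
  obtain ⟨n, hn⟩ := gen_rip_int hα hα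
  have := rip_self_pos h
  rw [hn] at this ⊢
  exact_mod_cast this

/-- Cauchy-Schwarz -/
theorem rip_sq_le (α β : G → ℂ) : rip α β ^ 2 ≤ rip α α * rip β β := by
  refine le_trans ?_ (normSq_classInner_le α β)
  rw [rip_def, ← sq_abs]
  exact pow_le_pow_left₀ (abs_nonneg _) (Complex.abs_re_le_norm _) 2

theorem rip_add_self (α β : G → ℂ) : rip (α + β) (α + β) = rip α α + 2 * rip α β + rip β β := by
  simp only [rip_add_left, rip_add_right, rip_comm β α]; ring

theorem rip_sub_self (α β : G → ℂ) : rip (α - β) (α - β) = rip α α - 2 * rip α β + rip β β := by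
  simp only [rip_sub_left, rip_sub_right, rip_comm β α]; ring

theorem rip_conjFun (α β : G → ℂ) : rip (conjFun α) (conjFun β) = rip α β := by
  rw [rip_def, classInner_conjFun, ← rip_def, rip_comm]

end Rip

end CL.PF
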