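import Cfsg.Agent.Base
import Cfsg.Agent.PF.CohBase

/-!
# Linear isometries on lattices of class functions; constructing coherent extensions

* API for `Cfsg.IsLinearIsometryOn`;
* `exists_linear_of_gram`: a map preserving inner products on a set extends to a `ℂ`-linear map;
* `CoherentWith S τ ν` (Coq's `coherent_with`), `pivot_coherentWith`, `glue_coherentWith`.
-/

set_option autoImplicit false

open Cfsg CL.Char
open scoped ComplexConjugate

namespace CL.PF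

variable {L : Type*} [Group L] [Fintype L] {G : Type*} [Group G] [Fintype G]

section Iso

variable {E E' : Set (L → ℂ)} {τ ν : (L → ℂ) → (G → ℂ)}

theorem iso_add (h : IsLinearIsometryOn E τ) {α β : L → ℂ} (hα : α ∈ E) (hβ : β ∈ E) :
    τ (α + β) = τ α + τ β := h.1 α hα β hβ

theorem iso_zsmul (h : IsLinearIsometryOn E τ) (n : ℤ) {α : L → ℂ} (hα : α ∈ E) :
    τ (n • α) = n • τ α := h.2.1 α hα n

theorem iso_inner (h : IsLinearIsometryOn E τ) {α β : L → ℂ} (hα : α ∈ E) (hβ : β ∈ E) :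
    classInner (τ α) (τ β) = classInner α β := h.2.2.1 α hα β hβ

theorem iso_rip (h : IsLinearIsometryOn E τ) {α β : L → ℂ} (hα : α ∈ E) (hβ : β ∈ E) :
    rip (τ α) (τ β) = rip α β := rip_congr (iso_inner h hα hβ)

theorem iso_gen (h : IsLinearIsometryOn E τ) {α : L → ℂ} (hα : α ∈ E) :
    IsGeneralizedCharacter G (τ α) := h.2.2.2 α hα

theorem iso_nsmul (h : IsLinearIsometryOn E τ) (n : ℕ) {α : L → ℂ} (hα : α ∈ E) :
    τ (n • α) = n • τ α := by
  rw [← natCast_zsmul, iso_zsmul h _ hα, natCast_zsmul]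

theorem iso_intCast_smul (h : IsLinearIsometryOn E τ) (n : ℤ) {α : L → ℂ} (hα : α ∈ E) :
    τ ((n : ℂ) • α) = (n : ℂ) • τ α := by
  rw [Int.cast_smul_eq_zsmul, Int.cast_smul_eq_zsmul, iso_zsmul h _ hα]

theorem iso_natCast_smul (h : IsLinearIsometryOn E τ) (n : ℕ) {α : L → ℂ} (hα : α ∈ E) :
    τ ((n : ℂ) • α) = (n : ℂ) • τ α := by
  rw [Nat.cast_smul_eq_nsmul, Nat.cast_smul_eq_nsmul, iso_nsmul h _ hα]

theorem iso_neg (h : IsLinearIsometryOn E τ) {α : L → ℂ} (hα : α ∈ E) : τ (-α) = -τ α := by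
  simpa using iso_zsmul h (-1) hα

theorem iso_mono (h : IsLinearIsometryOn E τ) (hE : E' ⊆ E) : IsLinearIsometryOn E' τ :=
  ⟨fun α hα β hβ => h.1 α (hE hα) β (hE hβ), fun α hα => h.2.1 α (hE hα),
   fun α hα β hβ => h.2.2.1 α (hE hα) β (hE hβ), fun α hα => h.2.2.2 α (hE hα)⟩

theorem iso_eq_zero_iff (h : IsLinearIsometryOn E τ) {α : L → ℂ} (hα : α ∈ E) :
    τ α = 0 ↔ α = 0 := by
  rw [← classInner_self_eq_zero, iso_inner h hα hα, classInner_self_eq_zero]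

theorem iso_injOn (h : IsLinearIsometryOn E τ) : Set.InjOn τ E := fun α hα β hβ hαβ => by
  rw [← sub_eq_zero, ← classInner_self_eq_zero]
  simp only [classInner_sub_left, classInner_sub_right]
  rw [← iso_inner h hα hα, ← iso_inner h hα hβ, ← iso_inner h hβ hα, ← iso_inner h hβ hβ, hαβ]
  ring

variable [ZClosed E]

theorem iso_zero (h : IsLinearIsometryOn E τ) : τ 0 = 0 := (iso_eq_zero_iff h zc_zero).mpr rfl

theorem iso_sub (h : IsLinearIsometryOn E τ) {α β : L → ℂ} (hα : α ∈ E) (hβ : β ∈ E) :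
    τ (α - β) = τ α - τ β := by
  rw [sub_eq_add_neg, iso_add h hα (zc_neg hβ), iso_neg h hβ, ← sub_eq_add_neg]

theorem iso_sum (h : IsLinearIsometryOn E τ) {ι : Type*} (s : Finset ι) {α : ι → L → ℂ}
    (hα : ∀ i ∈ s, α i ∈ E) : τ (∑ i ∈ s, α i) = ∑ i ∈ s, τ (α i) := by
  classical
  induction s using Finset.induction_on with
  | empty => simpa using iso_zero h
  | insert a s ha ih =>
    have h1 : ∀ i ∈ s, α i ∈ E := fun i hi => hα i (Finset.mem_insert_of_mem hi)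
    rw [Finset.sum_insert ha, Finset.sum_insert ha,
      iso_add h (hα a (Finset.mem_insert_self a s)) (zc_sum s h1), ih h1]

theorem iso_sub_zsmul (h : IsLinearIsometryOn E τ) {α β : L → ℂ} (hα : α ∈ E) (hβ : β ∈ E)
    (n : ℤ) : τ (α - n • β) = τ α - n • τ β := by
  rw [iso_sub h hα (zc_zsmul n hβ), iso_zsmul h n hβ]

theorem iso_congr (h : IsLinearIsometryOn E τ) (hν : ∀ α ∈ E, ν α = τ α) :
    IsLinearIsometryOn E ν :=
  ⟨fun α hα β hβ => by rw [hν _ (zc_add hα hβ), hν α hα, hν β hβ, iso_add h hα hβ],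
   fun α hα n => by rw [hν _ (zc_zsmul n hα), hν α hα, iso_zsmul h n hα],
   fun α hα β hβ => by rw [hν α hα, hν β hβ, iso_inner h hα hβ],
   fun α hα => by rw [hν α hα]; exact iso_gen h hα⟩

omit [ZClosed E] in
theorem iso_neg_map (h : IsLinearIsometryOn E τ) : IsLinearIsometryOn E (fun α => -τ α) :=
  ⟨fun α hα β hβ => by simp only [iso_add h hα hβ, neg_add],
   fun α hα n => by simp only [iso_zsmul h n hα, smul_neg],
   fun α hα β hβ => by
     simp only [classInner_neg_left, classInner_neg_right, neg_neg, iso_inner h hα hβ],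
   fun α hα => gen_neg (iso_gen h hα)⟩

end Iso

/-- two maps, additive on `ℤ[S]`, which agree on `S` agree on `ℤ[S]` -/
theorem iso_eqOn_zspan {S : Set (L → ℂ)} {E E' : Set (L → ℂ)} [ZClosed E] [ZClosed E']
    {τ ν : (L → ℂ) → (G → ℂ)} (hτ : IsLinearIsometryOn E τ) (hν : IsLinearIsometryOn E' ν)
    (hE : S ⊆ E) (hE' : S ⊆ E') (h : ∀ χ ∈ S, τ χ = ν χ) {α : L → ℂ} (hα : α ∈ zspan S) :
    τ α = ν α :=
  zspan_induction (P := fun α => τ α = ν α) h (by rw [iso_zero hτ, iso_zero hν])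
    (fun _ _ h1 h2 h3 h4 => by
      rw [iso_add hτ (zspan_subset hE h1) (zspan_subset hE h2),
        iso_add hν (zspan_subset hE' h1) (zspan_subset hE' h2), h3, h4])
    (fun n _ h1 h2 => by
      rw [iso_zsmul hτ n (zspan_subset hE h1), iso_zsmul hν n (zspan_subset hE' h1), h2]) hα

/-- the image of `ℤ[S]` under an isometry lies in any `ZClosed` set containing the image of `S` -/
theorem iso_mem_of_mem_zspan {S E : Set (L → ℂ)} [ZClosed E] {F : Set (G → ℂ)} [ZClosed F]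
    {ν : (L → ℂ) → (G → ℂ)} (hν : IsLinearIsometryOn E ν) (hE : S ⊆ E) (h : ∀ χ ∈ S, ν χ ∈ F)
    {α : L → ℂ} (hα : α ∈ zspan S) : ν α ∈ F :=
  zspan_induction (P := fun α => ν α ∈ F) h (by rw [iso_zero hν]; exact zc_zero)
    (fun _ _ h1 h2 h3 h4 => by
      rw [iso_add hν (zspan_subset hE h1) (zspan_subset hE h2)]; exact zc_add h3 h4)
    (fun n _ h1 h2 => by rw [iso_zsmul hν n (zspan_subset hE h1)]; exact zc_zsmul n h2) hα

theorem iso_inner_eq_zero_left {S E : Set (L → ℂ)} [ZClosed E]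
    {ν : (L → ℂ) → (G → ℂ)} (hν : IsLinearIsometryOn E ν) (hE : S ⊆ E) {β : G → ℂ}
    (h : ∀ χ ∈ S, classInner (ν χ) β = 0) {α : L → ℂ} (hα : α ∈ zspan S) :
    classInner (ν α) β = 0 :=
  classInner_zspan_left (S := ν '' S) (by rintro _ ⟨χ, hχ, rfl⟩; exact h χ hχ)
    (iso_mem_of_mem_zspan hν hE (fun χ hχ => mem_zspan (Set.mem_image_of_mem ν hχ)) hα)

theorem iso_inner_eq_zero_right {S E : Set (L → ℂ)} [ZClosed E]
    {ν : (L → ℂ) → (G → ℂ)} (hν : IsLinearIsometryOn E ν) (hE : S ⊆ E) {β : G → ℂ}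
    (h : ∀ χ ∈ S, classInner β (ν χ) = 0) {α : L → ℂ} (hα : α ∈ zspan S) :
    classInner β (ν α) = 0 :=
  classInner_eq_zero_comm.mp
    (iso_inner_eq_zero_left hν hE (fun χ hχ => classInner_eq_zero_comm.mp (h χ hχ)) hα)

/-! ### extension of Gram-preserving maps -/

/-- A family of functions on `G` with the same Gram matrix as a family of functions on `L` is the
image of the latter under a `ℂ`-linear map. -/
theorem exists_linear_of_gram {ι : Type*} (x : ι → L → ℂ) (y : ι → G → ℂ)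
    (h : ∀ i j, classInner (y i) (y j) = classInner (x i) (x j)) :
    ∃ ν : (L → ℂ) →ₗ[ℂ] (G → ℂ), ∀ i, ν (x i) = y i := by
  let a : (ι →₀ ℂ) →ₗ[ℂ] (L → ℂ) := Finsupp.linearCombination ℂ x
  let b : (ι →₀ ℂ) →ₗ[ℂ] (G → ℂ) := Finsupp.linearCombination ℂ y
  have hab : ∀ u v, classInner (b u) (b v) = classInner (a u) (a v) := by
    intro u v
    simp only [a, b, Finsupp.linearCombination_apply, Finsupp.sum, classInner_sum_left,
      classInner_sum_right, classInner_smul_left, classInner_smul_right, h]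
  have hker : LinearMap.ker a ≤ LinearMap.ker b := fun u hu => by
    rw [LinearMap.mem_ker] at hu ⊢
    rw [← classInner_self_eq_zero, hab, hu, classInner_zero_left]
  obtain ⟨ν, hν⟩ := LinearMap.exists_extend
    (((LinearMap.ker a).liftQ b hker).comp a.quotKerEquivRange.symm.toLinearMap)
  refine ⟨ν, fun i => ?_⟩
  have h1 : a (Finsupp.single i 1) = x i := by simp [a]
  have h2 : b (Finsupp.single i 1) = y i := by simp [b]
  have := LinearMap.congr_fun hν ⟨a (Finsupp.single i 1), LinearMap.mem_range_self _ _⟩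
  simp only [LinearMap.comp_apply, Submodule.subtype_apply, LinearEquiv.coe_coe,
    LinearMap.quotKerEquivRange_symm_apply_image, Submodule.mkQ_apply, Submodule.liftQ_apply]
    at this
  rw [← h1, this, h2]

/-- a `ℂ`-linear map preserving inner products on `T` and sending `T` to virtual characters is a
linear isometry on `ℤ[T]` -/
theorem iso_zspan_of_linear {T : Set (L → ℂ)} (ν : (L → ℂ) →ₗ[ℂ] (G → ℂ))
    (h : ∀ α ∈ T, ∀ β ∈ T, classInner (ν α) (ν β) = classInner α β)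
    (hv : ∀ α ∈ T, IsGeneralizedCharacter G (ν α)) : IsLinearIsometryOn (zspan T) ν := by
  refine ⟨fun α _ β _ => map_add ν α β, fun α _ n => map_zsmul ν n α, fun α hα β hβ => ?_,
    fun α hα => ?_⟩
  · refine zspan_induction (P := fun α => classInner (ν α) (ν β) = classInner α β)
      (fun χ hχ => ?_) (by simp [classInner_zero_left])
      (fun _ _ _ _ h1 h2 => by simp only [map_add, classInner_add_left, h1, h2])
      (fun _ _ _ h1 => by simp only [map_zsmul, classInner_zsmul_left, h1]) hα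
    exact zspan_induction (P := fun β => classInner (ν χ) (ν β) = classInner χ β)
      (h χ hχ) (by simp [classInner_zero_right])
      (fun _ _ _ _ h1 h2 => by simp only [map_add, classInner_add_right, h1, h2])
      (fun _ _ _ h1 => by simp only [map_zsmul, classInner_zsmul_right, h1]) hβ
  · exact zspan_induction (P := fun α => IsGeneralizedCharacter G (ν α)) hv
      (by rw [map_zero]; exact gen_zero) (fun _ _ _ _ h1 h2 => by rw [map_add]; exact gen_add h1 h2)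
      (fun n _ _ h1 => by rw [map_zsmul]; exact gen_zsmul n h1) hα

/-- A family of virtual characters with the same Gram matrix as the family `x` defines a
(`ℂ`-linear) isometry on the integer span of `x`. -/
theorem exists_iso_of_gram {ι : Type*} (x : ι → L → ℂ) (y : ι → G → ℂ)
    (h : ∀ i j, classInner (y i) (y j) = classInner (x i) (x j))
    (hv : ∀ i, IsGeneralizedCharacter G (y i)) :
    ∃ ν : (L → ℂ) →ₗ[ℂ] (G → ℂ), (∀ i, ν (x i) = y i) ∧
      IsLinearIsometryOn (zspan (Set.range x)) ν := by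
  obtain ⟨ν, hν⟩ := exists_linear_of_gram x y h
  refine ⟨ν, hν, iso_zspan_of_linear ν ?_ ?_⟩
  · rintro _ ⟨i, rfl⟩ _ ⟨j, rfl⟩; rw [hν, hν, h]
  · rintro _ ⟨i, rfl⟩; rw [hν]; exact hv i

theorem exists_iso_of_gram_set (T : Set (L → ℂ)) (f : (L → ℂ) → (G → ℂ))
    (h : ∀ α ∈ T, ∀ β ∈ T, classInner (f α) (f β) = classInner α β)
    (hv : ∀ α ∈ T, IsGeneralizedCharacter G (f α)) :
    ∃ ν : (L → ℂ) →ₗ[ℂ] (G → ℂ), (∀ α ∈ T, ν α = f α) ∧ IsLinearIsometryOn (zspan T) ν := by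
  obtain ⟨ν, h1, h2⟩ := exists_iso_of_gram (fun α : T => (α : L → ℂ)) (fun α : T => f α)
    (fun α β => h α α.2 β β.2) (fun α => hv α α.2)
  exact ⟨ν, fun α hα => h1 ⟨α, hα⟩, by rwa [Subtype.range_coe] at h2⟩

/-- two isometries whose images have the right mutual inner products glue together -/
theorem exists_iso_union {E₁ E₂ : Set (L → ℂ)} {ν₁ ν₂ : (L → ℂ) → (G → ℂ)}
    (h₁ : IsLinearIsometryOn E₁ ν₁) (h₂ : IsLinearIsometryOn E₂ ν₂)
    (h : ∀ α ∈ E₁, ∀ β ∈ E₂, classInner (ν₁ α) (ν₂ β) = classInner α β) :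
    ∃ ν : (L → ℂ) →ₗ[ℂ] (G → ℂ), (∀ α ∈ E₁, ν α = ν₁ α) ∧ (∀ β ∈ E₂, ν β = ν₂ β) ∧
      IsLinearIsometryOn (zspan (E₁ ∪ E₂)) ν := by
  obtain ⟨ν, h1, h2⟩ := exists_iso_of_gram
    (Sum.elim (fun α : E₁ => (α : L → ℂ)) (fun β : E₂ => (β : L → ℂ)))
    (Sum.elim (fun α : E₁ => ν₁ α) (fun β : E₂ => ν₂ β)) (by
      rintro (α | β) (α' | β')
      · exact iso_inner h₁ α.2 α'.2
      · exact h α α.2 β' β'.2
      · simp only [Sum.elim_inl, Sum.elim_inr]
        rw [← conj_classInner, h α' α'.2 β β.2, conj_classInner]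
      · exact iso_inner h₂ β.2 β'.2) (by
      rintro (α | β)
      · exact iso_gen h₁ α.2
      · exact iso_gen h₂ β.2)
  refine ⟨ν, fun α hα => h1 (Sum.inl ⟨α, hα⟩), fun β hβ => h1 (Sum.inr ⟨β, hβ⟩), ?_⟩
  rwa [Set.Sum.elim_range, Subtype.range_coe, Subtype.range_coe] at h2

/-! ### coherent extensions -/

section CoherentWith

variable {S S' S₁ S₂ : Set (L → ℂ)} {τ τ' ν ν₁ ν₂ : (L → ℂ) → (G → ℂ)}

theorem isCoherent_iff : IsCoherent S {1}ᶜ τ ↔
    (∃ α ∈ zspanOn S {1}ᶜ, α ≠ 0) ∧ ∃ ν, CoherentWith S τ ν := Iff.rfl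

theorem CoherentWith.iso (h : CoherentWith S τ ν) : IsLinearIsometryOn (zspan S) ν := h.1

theorem CoherentWith.eq (h : CoherentWith S τ ν) {α : L → ℂ} (hα : α ∈ zspanOn S {1}ᶜ) :
    ν α = τ α := h.2 α hα

theorem CoherentWith.inner (h : CoherentWith S τ ν) {α β : L → ℂ} (hα : α ∈ zspan S)
    (hβ : β ∈ zspan S) : classInner (ν α) (ν β) = classInner α β := iso_inner h.1 hα hβ

theorem CoherentWith.gen (h : CoherentWith S τ ν) {α : L → ℂ} (hα : α ∈ zspan S) :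
    IsGeneralizedCharacter G (ν α) := iso_gen h.1 hα

theorem CoherentWith.subgen (h : CoherentWith S τ ν) (hS : S' ⊆ zspan S) :
    CoherentWith S' τ ν :=
  ⟨iso_mono h.1 (zspan_subset_zspan hS), fun α hα => h.2 α (zspanOn_subset_zspanOn hS hα)⟩

theorem CoherentWith.mono (h : CoherentWith S τ ν) (hS : S' ⊆ S) : CoherentWith S' τ ν :=
  h.subgen (hS.trans subset_zspan)

theorem CoherentWith.congr_tau (h : CoherentWith S τ ν) (hτ : ∀ α ∈ zspanOn S {1}ᶜ, τ α = τ' α) :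
    CoherentWith S τ' ν := ⟨h.1, fun α hα => (h.2 α hα).trans (hτ α hα)⟩

theorem CoherentWith.congr (h : CoherentWith S τ ν) (hν : ∀ α ∈ zspan S, ν₁ α = ν α) :
    CoherentWith S τ ν₁ :=
  ⟨iso_congr h.1 hν, fun α hα => (hν α hα.1).trans (h.2 α hα)⟩

theorem CoherentWith.iso_tau (h : CoherentWith S τ ν) : IsLinearIsometryOn (zspanOn S {1}ᶜ) τ :=
  iso_congr (iso_mono h.1 zspanOn_subset) fun α hα => (h.2 α hα).symm

/-- a coherent extension can be taken to be `ℂ`-linear -/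
theorem CoherentWith.exists_linear (h : CoherentWith S τ ν) :
    ∃ ν' : (L → ℂ) →ₗ[ℂ] (G → ℂ), CoherentWith S τ ν' ∧ ∀ α ∈ zspan S, ν' α = ν α := by
  obtain ⟨ν', h1, -⟩ := exists_iso_of_gram_set (zspan S) ν (fun α hα β hβ => h.inner hα hβ)
    (fun α hα => h.gen hα)
  exact ⟨ν', h.congr h1, h1⟩

theorem CoherentWith.isCoherent (h : CoherentWith S τ ν) (hne : ∃ α ∈ zspanOn S {1}ᶜ, α ≠ 0) :
    IsCoherent S {1}ᶜ τ := ⟨hne, ν, h⟩

theorem coherent_exists (h : IsCoherent S {1}ᶜ τ) : ∃ ν, CoherentWith S τ ν := h.2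

theorem coherent_exists_linear (h : IsCoherent S {1}ᶜ τ) :
    ∃ ν : (L → ℂ) →ₗ[ℂ] (G → ℂ), CoherentWith S τ ν := by
  obtain ⟨ν, hν⟩ := h.2
  obtain ⟨ν', h', -⟩ := CoherentWith.exists_linear (ν := ν) hν
  exact ⟨ν', h'⟩

theorem coherent_subgen (h : IsCoherent S {1}ᶜ τ) (hS : S' ⊆ zspan S)
    (hne : ∃ α ∈ zspanOn S' {1}ᶜ, α ≠ 0) : IsCoherent S' {1}ᶜ τ := by
  obtain ⟨ν, hν⟩ := coherent_exists h
  exact (hν.subgen hS).isCoherent hne

theorem coherent_mono (h : IsCoherent S {1}ᶜ τ) (hS : S' ⊆ S)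
    (hne : ∃ α ∈ zspanOn S' {1}ᶜ, α ≠ 0) : IsCoherent S' {1}ᶜ τ :=
  coherent_subgen h (hS.trans subset_zspan) hne

theorem coherent_congr_tau (h : IsCoherent S {1}ᶜ τ) (hτ : ∀ α ∈ zspanOn S {1}ᶜ, τ α = τ' α) :
    IsCoherent S {1}ᶜ τ' := by
  obtain ⟨ν, hν⟩ := coherent_exists h
  exact (hν.congr_tau hτ).isCoherent h.1

omit [Fintype L] in
theorem exists_ne_zero_mono (h : ∃ α ∈ zspanOn S' {1}ᶜ, α ≠ 0) (hS : S' ⊆ S) :
    ∃ α ∈ zspanOn S {1}ᶜ, α ≠ 0 := by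
  obtain ⟨α, hα, h0⟩ := h
  exact ⟨α, zspanOn_mono hS hα, h0⟩

theorem CoherentWith.sub (h : CoherentWith S τ ν) {α β : L → ℂ} (hα : α ∈ zspan S)
    (hβ : β ∈ zspan S) (h1 : α 1 = β 1) : τ (α - β) = ν α - ν β := by
  rw [← h.eq (sub_mem_zspanOn_one hα hβ h1), iso_sub h.1 hα hβ]

theorem CoherentWith.sub_zsmul (h : CoherentWith S τ ν) {α β : L → ℂ} (hα : α ∈ zspan S)
    (hβ : β ∈ zspan S) {a : ℤ} (h1 : α 1 = a * β 1) : τ (α - a • β) = ν α - a • ν β := by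
  rw [← h.eq (sub_zsmul_mem_zspanOn_one hα hβ h1), iso_sub_zsmul h.1 hα hβ]

/-- Pivot lemma: if all degrees in `S` are integer multiples of the degree of `η₁ ∈ ℤ[S]`, a
coherent extension is determined by a suitable image `ζ₁` of `η₁`. -/
theorem pivot_coherentWith (hτ : IsLinearIsometryOn (zspanOn S {1}ᶜ) τ) {η₁ : L → ℂ}
    (hη₁ : η₁ ∈ zspan S) (h1 : η₁ 1 ≠ 0) {ζ₁ : G → ℂ} (hζ : IsGeneralizedCharacter G ζ₁)
    (hnorm : classInner ζ₁ ζ₁ = classInner η₁ η₁)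
    (h : ∀ η ∈ S, ∃ a : ℤ, η 1 = a * η₁ 1 ∧
      classInner (τ (η - a • η₁)) ζ₁ = classInner (η - a • η₁) η₁) :
    ∃ ν : (L → ℂ) →ₗ[ℂ] (G → ℂ), CoherentWith S τ ν ∧ ν η₁ = ζ₁ := by
  have key : ∀ η ∈ zspan S, ∃ a : ℤ, η 1 = a * η₁ 1 ∧
      classInner (τ (η - a • η₁)) ζ₁ = classInner (η - a • η₁) η₁ := by
    intro η hη
    refine zspan_induction (P := fun η => ∃ a : ℤ, η 1 = a * η₁ 1 ∧
      classInner (τ (η - a • η₁)) ζ₁ = classInner (η - a • η₁) η₁) h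
      ⟨0, by simp, by simp [iso_zero hτ, classInner_zero_left]⟩ ?_ ?_ hη
    · rintro α β hα hβ ⟨a, ha, ha'⟩ ⟨b, hb, hb'⟩
      refine ⟨a + b, by simp [ha, hb, add_mul], ?_⟩
      have : α + β - (a + b) • η₁ = (α - a • η₁) + (β - b • η₁) := by rw [add_smul]; abel
      rw [this, iso_add hτ (sub_zsmul_mem_zspanOn_one hα hη₁ ha)
        (sub_zsmul_mem_zspanOn_one hβ hη₁ hb), classInner_add_left, classInner_add_left, ha', hb']
    · rintro n α hα ⟨a, ha, ha'⟩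
      refine ⟨n * a, by simp [ha, mul_assoc], ?_⟩
      have : n • α - (n * a) • η₁ = n • (α - a • η₁) := by rw [smul_sub, mul_smul]
      rw [this, iso_zsmul hτ n (sub_zsmul_mem_zspanOn_one hα hη₁ ha), classInner_zsmul_left,
        classInner_zsmul_left, ha']
  have h₂ : IsLinearIsometryOn (zspan {η₁}) (fun α => (α 1 / η₁ 1) • ζ₁) := by
    have e : ∀ n : ℤ, ((n • η₁) 1 / η₁ 1) • ζ₁ = n • ζ₁ := fun n => by
      rw [Pi.smul_apply, zsmul_eq_mul, mul_div_assoc, div_self h1, mul_one, Int.cast_smul_eq_zsmul]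
    refine ⟨fun α _ β _ => by simp only [Pi.add_apply, add_div, add_smul], fun α _ n => ?_,
      fun α hα β hβ => ?_, fun α hα => ?_⟩
    · simp only [Pi.smul_apply, zsmul_eq_mul, mul_div_assoc, mul_smul, Int.cast_smul_eq_zsmul]
    · obtain ⟨m, rfl⟩ := mem_zspan_singleton.mp hα
      obtain ⟨n, rfl⟩ := mem_zspan_singleton.mp hβ
      simp only [e, classInner_zsmul_left, classInner_zsmul_right, hnorm]
    · obtain ⟨m, rfl⟩ := mem_zspan_singleton.mp hα
      simp only [e]; exact gen_zsmul m hζ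
  obtain ⟨ν, hν1, hν2, hν⟩ := exists_iso_union hτ h₂ (fun α hα β hβ => by
    obtain ⟨n, rfl⟩ := mem_zspan_singleton.mp hβ
    obtain ⟨a, ha, ha'⟩ := key α hα.1
    rw [apply_one_of_mem_zspanOn hα, eq_comm, mul_eq_zero, or_iff_left h1, Int.cast_eq_zero] at ha
    rw [ha, zero_smul, sub_zero] at ha'
    rw [Pi.smul_apply, zsmul_eq_mul, mul_div_assoc, div_self h1, mul_one, Int.cast_smul_eq_zsmul,
      classInner_zsmul_right, classInner_zsmul_right, ha'])
  refine ⟨ν, ⟨iso_mono hν (zspan_subset fun η hη => ?_), hν1⟩, ?_⟩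
  · obtain ⟨a, ha, -⟩ := h η hη
    have : η = (η - a • η₁) + a • η₁ := by abel
    rw [this]
    exact zc_add (mem_zspan (Or.inl (sub_zsmul_mem_zspanOn_one (mem_zspan hη) hη₁ ha)))
      (mem_zspan (Or.inr (zc_zsmul a (mem_zspan rfl))))
  · rw [hν2 η₁ (mem_zspan rfl), div_self h1, one_smul]

/-- Gluing lemma: coherent extensions on `S₁` and `S₂` with the right mutual inner products,
bridged by one element `χ - φ` of degree `0`, give a coherent extension on `S₁ ∪ S₂`. -/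
theorem glue_coherentWith (hτ : IsLinearIsometryOn (zspanOn (S₁ ∪ S₂) {1}ᶜ) τ)
    (hdeg : ∀ χ ∈ S₁, ∃ n : ℤ, χ 1 = n)
    (h₁ : CoherentWith S₁ τ ν₁) (h₂ : CoherentWith S₂ τ ν₂)
    (h : ∀ χ ∈ S₁, ∀ φ ∈ S₂, classInner (ν₁ χ) (ν₂ φ) = classInner χ φ)
    {χ φ : L → ℂ} (hχ : χ ∈ zspan S₁) (hφ : φ ∈ zspan S₂) (h1 : χ 1 = φ 1) (h0 : χ 1 ≠ 0)
    (hb : τ (χ - φ) = ν₁ χ - ν₂ φ) :
    ∃ ν : (L → ℂ) →ₗ[ℂ] (G → ℂ), CoherentWith (S₁ ∪ S₂) τ ν ∧
      (∀ α ∈ zspan S₁, ν α = ν₁ α) ∧ ∀ β ∈ zspan S₂, ν β = ν₂ β := by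
  obtain ⟨ν, hν1, hν2, hν⟩ := exists_iso_union (iso_mono h₁.1 subset_zspan)
    (iso_mono h₂.1 subset_zspan) h
  have e1 : ∀ α ∈ zspan S₁, ν α = ν₁ α := fun α hα =>
    iso_eqOn_zspan hν h₁.1 (Set.subset_union_left.trans subset_zspan) subset_zspan hν1 hα
  have e2 : ∀ α ∈ zspan S₂, ν α = ν₂ α := fun α hα =>
    iso_eqOn_zspan hν h₂.1 (Set.subset_union_right.trans subset_zspan) subset_zspan hν2 hα
  refine ⟨ν, ⟨hν, fun α hα => ?_⟩, e1, e2⟩
  have hdeg' : ∀ α ∈ zspan S₁, ∃ n : ℤ, α 1 = n := fun α hα =>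
    zspan_induction (P := fun α => ∃ n : ℤ, α 1 = n) hdeg ⟨0, by simp⟩
      (fun _ _ _ _ ⟨m, hm⟩ ⟨n, hn⟩ => ⟨m + n, by simp [hm, hn]⟩)
      (fun k _ _ ⟨n, hn⟩ => ⟨k * n, by simp [hn]⟩) hα
  obtain ⟨β, hβ, γ, hγ, rfl⟩ := mem_zspan_union.mp hα.1
  obtain ⟨d, hd⟩ := hdeg' χ hχ
  obtain ⟨m, hm⟩ := hdeg' β hβ
  have hγ1 : γ 1 = -m := by
    have := apply_one_of_mem_zspanOn hα
    rw [Pi.add_apply, hm] at this
    linear_combination this
  have hd0 : (d : ℂ) ≠ 0 := hd ▸ h0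
  have m1 : d • β - m • χ ∈ zspanOn S₁ {1}ᶜ :=
    sub_mem_zspanOn_one (zc_zsmul d hβ) (zc_zsmul m hχ) (by simp [hd, hm, mul_comm])
  have m2 : d • γ + m • φ ∈ zspanOn S₂ {1}ᶜ :=
    mem_zspanOn_one_of (zc_add (zc_zsmul d hγ) (zc_zsmul m hφ)) (by simp [← h1, hd, hγ1, mul_comm])
  have m3 : χ - φ ∈ zspanOn (S₁ ∪ S₂) {1}ᶜ :=
    sub_mem_zspanOn_one (zspan_mono Set.subset_union_left hχ)
      (zspan_mono Set.subset_union_right hφ) h1
  have m1' := zspanOn_mono (Set.subset_union_left (t := S₂)) m1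
  have m2' := zspanOn_mono (Set.subset_union_right (s := S₁)) m2
  have e : d • (β + γ) = (d • β - m • χ) + (d • γ + m • φ) + m • (χ - φ) := by
    simp only [smul_add, smul_sub]; abel
  have key : d • ν (β + γ) = d • τ (β + γ) := by
    rw [← iso_zsmul hτ d hα, ← map_zsmul, e, iso_add hτ (zc_add m1' m2') (zc_zsmul m m3),
      iso_add hτ m1' m2', iso_zsmul hτ m m3, hb, ← h₁.eq m1, ← h₂.eq m2, ← e1 _ m1.1,
      ← e2 _ m2.1, ← e1 _ hχ, ← e2 _ hφ]
    simp only [map_add, map_sub, map_zsmul]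
  rw [← Int.cast_smul_eq_zsmul ℂ, ← Int.cast_smul_eq_zsmul ℂ] at key
  exact smul_right_injective _ hd0 key

end CoherentWith

end CL.PF
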