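import Cfsg.Agent.Base
import Cfsg.Agent.PF.CohIso
import Cfsg.Agent.Char.Exceptional

/-!
# Orthonormal finite sets of class functions, projections, virtual characters of small norm
-/

set_option autoImplicit false

open Cfsg CL.Char
open scoped ComplexConjugate

namespace CL.PF

variable {G : Type*} [Group G] [Fintype G]

/-- an orthonormal finite set of functions -/
def IsON (R : Finset (G → ℂ)) : Prop :=
  (∀ α ∈ R, classInner α α = 1) ∧ ∀ α ∈ R, ∀ β ∈ R, α ≠ β → classInner α β = 0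

section ON

variable {R E : Finset (G → ℂ)}

theorem isON_iff [DecidableEq (G → ℂ)] :
    IsON R ↔ ∀ α ∈ R, ∀ β ∈ R, classInner α β = if α = β then 1 else 0 := by
  refine ⟨fun h α hα β hβ => ?_, fun h => ⟨fun α hα => by simpa using h α hα α hα,
    fun α hα β hβ hne => by simpa [hne] using h α hα β hβ⟩⟩
  split_ifs with hαβ
  · rw [← hαβ, h.1 α hα]
  · exact h.2 α hα β hβ hαβ

theorem IsON.inner_ite [DecidableEq (G → ℂ)] (h : IsON R) {α β : G → ℂ} (hα : α ∈ R)
    (hβ : β ∈ R) : classInner α β = if α = β then 1 else 0 := isON_iff.mp h α hα β hβ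

theorem IsON.mono (h : IsON R) (hE : E ⊆ R) : IsON E :=
  ⟨fun α hα => h.1 α (hE hα), fun α hα β hβ => h.2 α (hE hα) β (hE hβ)⟩

theorem isON_of_irr (h : ∀ α ∈ R, IsIrrCharacter G α) : IsON R :=
  ⟨fun α hα => irr_inner_self (h α hα), fun α hα β hβ => irr_inner_of_ne (h α hα) (h β hβ)⟩

theorem IsON.union [DecidableEq (G → ℂ)] (h : IsON R) (h' : IsON E)
    (hRE : ∀ α ∈ R, ∀ β ∈ E, classInner α β = 0) : IsON (R ∪ E) := by
  refine ⟨fun α hα => ?_, fun α hα β hβ hne => ?_⟩
  · rcases Finset.mem_union.mp hα with hα | hα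
    exacts [h.1 α hα, h'.1 α hα]
  · rcases Finset.mem_union.mp hα with hα | hα <;> rcases Finset.mem_union.mp hβ with hβ | hβ
    exacts [h.2 α hα β hβ hne, hRE α hα β hβ, classInner_eq_zero_comm.mp (hRE β hβ α hα),
      h'.2 α hα β hβ hne]

theorem IsON.disjoint (h : IsON R) (hRE : ∀ α ∈ R, ∀ β ∈ E, classInner α β = 0) :
    Disjoint R E :=
  Finset.disjoint_left.mpr fun α hα hα' => one_ne_zero ((h.1 α hα).symm.trans (hRE α hα α hα'))

theorem IsON.inner_sum_smul (h : IsON R) (c : (G → ℂ) → ℂ) {β : G → ℂ} (hβ : β ∈ R) :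
    classInner (∑ α ∈ R, c α • α) β = c β := by
  rw [classInner_sum_left, Finset.sum_eq_single β
    (fun α hα hne => by rw [classInner_smul_left, h.2 α hα β hβ hne, mul_zero])
    (fun hn => absurd hβ hn), classInner_smul_left, h.1 β hβ, mul_one]

theorem IsON.inner_sum_of_mem (h : IsON R) (hE : E ⊆ R) {β : G → ℂ} (hβ : β ∈ E) :
    classInner (∑ α ∈ E, α) β = 1 := by
  simpa using (h.mono hE).inner_sum_smul (fun _ => 1) hβ

theorem IsON.inner_sum_of_notMem (h : IsON R) (hE : E ⊆ R) {β : G → ℂ} (hβ : β ∈ R)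
    (hβE : β ∉ E) : classInner (∑ α ∈ E, α) β = 0 := by
  rw [classInner_sum_left]
  exact Finset.sum_eq_zero fun α hα => h.2 α (hE hα) β hβ fun e => hβE (e ▸ hα)

theorem IsON.inner_sum_sum [DecidableEq (G → ℂ)] (h : IsON R) (hE : E ⊆ R) {F : Finset (G → ℂ)}
    (hF : F ⊆ R) : classInner (∑ α ∈ E, α) (∑ α ∈ F, α) = (E ∩ F).card := by
  rw [classInner_sum_right, ← Finset.sum_filter_add_sum_filter_not F (· ∈ E),
    Finset.sum_congr rfl (g := fun _ => (1 : ℂ))
      (fun β hβ => h.inner_sum_of_mem hE (Finset.mem_filter.mp hβ).2),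
    Finset.sum_eq_zero (fun β hβ => h.inner_sum_of_notMem hE (hF (Finset.mem_filter.mp hβ).1)
      (Finset.mem_filter.mp hβ).2), Finset.filter_mem_eq_inter, Finset.inter_comm]
  simp

theorem IsON.inner_sum_self (h : IsON R) : classInner (∑ α ∈ R, α) (∑ α ∈ R, α) = R.card := by
  classical
  rw [h.inner_sum_sum subset_rfl subset_rfl, Finset.inter_self]

/-- orthogonal projection on the span of an orthonormal set -/
noncomputable def proj (R : Finset (G → ℂ)) (Z : G → ℂ) : G → ℂ := ∑ α ∈ R, classInner Z α • α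

theorem IsON.inner_proj (h : IsON R) (Z : G → ℂ) {β : G → ℂ} (hβ : β ∈ R) :
    classInner (proj R Z) β = classInner Z β := h.inner_sum_smul _ hβ

theorem IsON.inner_sub_proj (h : IsON R) (Z : G → ℂ) {β : G → ℂ} (hβ : β ∈ R) :
    classInner (Z - proj R Z) β = 0 := by
  rw [classInner_sub_left, h.inner_proj Z hβ, sub_self]

theorem inner_proj_eq_zero {W : G → ℂ} (h : ∀ α ∈ R, classInner W α = 0) (Z : G → ℂ) :
    classInner W (proj R Z) = 0 := by
  rw [proj, classInner_sum_right]
  exact Finset.sum_eq_zero fun α hα => by rw [classInner_smul_right, h α hα, mul_zero]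

theorem proj_inner_eq_zero {W : G → ℂ} (h : ∀ α ∈ R, classInner α W = 0) (Z : G → ℂ) :
    classInner (proj R Z) W = 0 :=
  classInner_eq_zero_comm.mp
    (inner_proj_eq_zero (fun α hα => classInner_eq_zero_comm.mp (h α hα)) Z)

theorem inner_proj_right (R : Finset (G → ℂ)) (W Z : G → ℂ) :
    classInner W (proj R Z) = ∑ α ∈ R, conj (classInner Z α) * classInner W α := by
  simp only [proj, classInner_sum_right, classInner_smul_right]

theorem inner_self_proj (R : Finset (G → ℂ)) (Z : G → ℂ) :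
    classInner Z (proj R Z) = ((∑ α ∈ R, ‖classInner Z α‖ ^ 2 : ℝ) : ℂ) := by
  rw [inner_proj_right]
  push_cast
  exact Finset.sum_congr rfl fun α _ => by rw [Complex.conj_mul']

theorem IsON.inner_proj_proj (h : IsON R) (Z : G → ℂ) :
    classInner (proj R Z) (proj R Z) = classInner Z (proj R Z) := by
  rw [← sub_eq_zero, ← neg_eq_zero, neg_sub, ← classInner_sub_left]
  exact inner_proj_eq_zero (fun α hα => h.inner_sub_proj Z hα) Z

theorem rip_self_proj (R : Finset (G → ℂ)) (Z : G → ℂ) :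
    rip Z (proj R Z) = ∑ α ∈ R, ‖classInner Z α‖ ^ 2 :=
  rip_of_classInner_eq (inner_self_proj R Z)

theorem IsON.rip_proj_proj (h : IsON R) (Z : G → ℂ) :
    rip (proj R Z) (proj R Z) = ∑ α ∈ R, ‖classInner Z α‖ ^ 2 := by
  rw [rip_congr (h.inner_proj_proj Z), rip_self_proj]

theorem IsON.rip_sub_proj (h : IsON R) (Z : G → ℂ) :
    rip (Z - proj R Z) (Z - proj R Z) = rip Z Z - ∑ α ∈ R, ‖classInner Z α‖ ^ 2 := by
  rw [rip_sub_self, h.rip_proj_proj, rip_self_proj]; ring

/-- Bessel's inequality -/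
theorem IsON.bessel (h : IsON R) (Z : G → ℂ) : ∑ α ∈ R, ‖classInner Z α‖ ^ 2 ≤ rip Z Z := by
  have := rip_self_nonneg (Z - proj R Z)
  rw [h.rip_sub_proj] at this
  linarith

theorem IsON.eq_proj_of_le (h : IsON R) {Z : G → ℂ}
    (hle : rip Z Z ≤ ∑ α ∈ R, ‖classInner Z α‖ ^ 2) : Z = proj R Z :=
  sub_eq_zero.mp (eq_zero_of_rip_self_nonpos (by rw [h.rip_sub_proj]; linarith))

theorem proj_mem_zspan (hR : ∀ α ∈ R, IsGeneralizedCharacter G α) {Z : G → ℂ}
    (hZ : IsGeneralizedCharacter G Z) : proj R Z ∈ zspan (R : Set (G → ℂ)) :=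
  zc_sum _ fun α hα => by
    obtain ⟨n, hn⟩ := gen_inner_int hZ (hR α hα)
    rw [hn]; exact zc_intCast_smul n (mem_zspan hα)

theorem gen_proj (hR : ∀ α ∈ R, IsGeneralizedCharacter G α) {Z : G → ℂ}
    (hZ : IsGeneralizedCharacter G Z) : IsGeneralizedCharacter G (proj R Z) :=
  gen_of_mem_zspan hR (proj_mem_zspan hR hZ)

theorem IsON.proj_eq_self (h : IsON R) {Z : G → ℂ} (hZ : Z ∈ zspan (R : Set (G → ℂ))) :
    proj R Z = Z := by
  obtain ⟨c, rfl⟩ := mem_zspan_finset.mp hZ
  refine Finset.sum_congr rfl fun α hα => ?_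
  simp only [← Int.cast_smul_eq_zsmul ℂ]
  rw [h.inner_sum_smul (fun χ => (c χ : ℂ)) hα]

theorem gen_norm_sq_eq_rip_sq {α β : G → ℂ} (hα : IsGeneralizedCharacter G α)
    (hβ : IsGeneralizedCharacter G β) : ‖classInner α β‖ ^ 2 = rip α β ^ 2 := by
  rw [← gen_ofReal_rip hα hβ, Complex.norm_real, Real.norm_eq_abs, sq_abs]

/-- Bessel's inequality for virtual characters -/
theorem IsON.bessel_rip (h : IsON R) (hR : ∀ α ∈ R, IsGeneralizedCharacter G α) {Z : G → ℂ}
    (hZ : IsGeneralizedCharacter G Z) : ∑ α ∈ R, rip Z α ^ 2 ≤ rip Z Z := by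
  rw [← Finset.sum_congr rfl fun α hα => gen_norm_sq_eq_rip_sq hZ (hR α hα)]
  exact h.bessel Z

/-- The basic inequality behind Peterfalvi (5.4): for a virtual character `X` and an orthonormal
set `R` of virtual characters, `⟨X, ∑ R⟩ ≤ ∑ ⟨X, α⟩²`. -/
theorem rip_sum_le_sum_sq (hR : ∀ α ∈ R, IsGeneralizedCharacter G α) {X : G → ℂ}
    (hX : IsGeneralizedCharacter G X) : rip X (∑ α ∈ R, α) ≤ ∑ α ∈ R, rip X α ^ 2 := by
  rw [rip_sum_right]
  refine Finset.sum_le_sum fun α hα => ?_
  obtain ⟨n, hn⟩ := gen_rip_int hX (hR α hα)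
  rw [hn]; exact_mod_cast Int.le_self_sq n

theorem inner_eq_zero_or_one_of_sum_sq_le (hR : ∀ α ∈ R, IsGeneralizedCharacter G α) {X : G → ℂ}
    (hX : IsGeneralizedCharacter G X) (hle : ∑ α ∈ R, rip X α ^ 2 ≤ rip X (∑ α ∈ R, α)) :
    ∀ α ∈ R, classInner X α = 0 ∨ classInner X α = 1 := by
  intro β hβ
  rw [rip_sum_right] at hle
  have h1 : ∀ α ∈ R, rip X α ≤ rip X α ^ 2 := fun α hα => by
    obtain ⟨n, hn⟩ := gen_rip_int hX (hR α hα)
    rw [hn]; exact_mod_cast Int.le_self_sq n
  have h2 := (Finset.sum_eq_sum_iff_of_le h1).mp (le_antisymm (Finset.sum_le_sum h1) hle) β hβ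
  rw [← gen_ofReal_rip hX (hR β hβ)]
  have : rip X β * (rip X β - 1) = 0 := by linarith
  rcases mul_eq_zero.mp this with h | h
  · left; rw [h, Complex.ofReal_zero]
  · right; rw [sub_eq_zero.mp h, Complex.ofReal_one]

theorem IsON.rip_sum_le (h : IsON R) (hR : ∀ α ∈ R, IsGeneralizedCharacter G α) {X : G → ℂ}
    (hX : IsGeneralizedCharacter G X) : rip X (∑ α ∈ R, α) ≤ rip X X :=
  (rip_sum_le_sum_sq hR hX).trans (h.bessel_rip hR hX)

/-- equality case: `X` is the sum of a subset of `R` -/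
theorem IsON.exists_eq_sum_subset (h : IsON R) (hR : ∀ α ∈ R, IsGeneralizedCharacter G α)
    {X : G → ℂ} (hX : IsGeneralizedCharacter G X) (hle : rip X X ≤ rip X (∑ α ∈ R, α)) :
    ∃ E ⊆ R, X = ∑ α ∈ E, α := by
  classical
  have h1 := rip_sum_le_sum_sq hR hX
  have h2 := h.bessel_rip hR hX
  have h3 := inner_eq_zero_or_one_of_sum_sq_le hR hX (h2.trans hle)
  have h4 : X = proj R X := h.eq_proj_of_le (by
    rw [Finset.sum_congr rfl fun α hα => gen_norm_sq_eq_rip_sq hX (hR α hα)]; linarith)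
  refine ⟨R.filter (fun α => classInner X α = 1), Finset.filter_subset _ _, ?_⟩
  conv_lhs => rw [h4, proj]
  rw [Finset.sum_filter]
  refine Finset.sum_congr rfl fun α hα => ?_
  rcases h3 α hα with h | h <;> simp [h]

end ON

/-! ### virtual characters of norm one or two -/

section Small

omit [Fintype G] in
theorem IsSignedIrr.neg {α : G → ℂ} (h : IsSignedIrr G α) : IsSignedIrr G (-α) := by
  rcases h with h | h
  · right; rwa [neg_neg]
  · left; exact h

omit [Fintype G] in
theorem IsSignedIrr.gen {α : G → ℂ} (h : IsSignedIrr G α) : IsGeneralizedCharacter G α := by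
  rcases h with h | h
  · exact gen_of_irr h
  · simpa using gen_neg (gen_of_irr h)

omit [Fintype G] in
theorem IsSignedIrr.apply_one_ne_zero {α : G → ℂ} (h : IsSignedIrr G α) : α 1 ≠ 0 := by
  rcases h with h | h
  · exact irr_apply_one_ne_zero h
  · simpa using irr_apply_one_ne_zero h

theorem IsSignedIrr.inner_self {α : G → ℂ} (h : IsSignedIrr G α) : classInner α α = 1 := by
  rcases h with h | h
  · exact irr_inner_self h
  · simpa [classInner_neg_left, classInner_neg_right] using irr_inner_self h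

theorem isSignedIrr_of_norm_one {α : G → ℂ} (h : IsGeneralizedCharacter G α)
    (h1 : classInner α α = 1) : IsSignedIrr G α := gen_norm_one h h1

theorem IsSignedIrr.conjFun {α : G → ℂ} (h : IsSignedIrr G α) : IsSignedIrr G (conjFun α) :=
  isSignedIrr_of_norm_one (gen_conjFun h.gen) (by rw [classInner_conjFun, h.inner_self])

omit [Fintype G] in
theorem IsSignedIrr.exists_sign {α : G → ℂ} (h : IsSignedIrr G α) :
    ∃ (ε : ℤ) (χ : G → ℂ), (ε = 1 ∨ ε = -1) ∧ IsIrrCharacter G χ ∧ α = ε • χ := by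
  rcases h with h | h
  · exact ⟨1, α, Or.inl rfl, h, by simp⟩
  · exact ⟨-1, -α, Or.inr rfl, h, by simp⟩

/-- two signed irreducible characters are equal, opposite or orthogonal -/
theorem IsSignedIrr.eq_or_eq_neg_or_orth {α β : G → ℂ} (hα : IsSignedIrr G α) (hβ : IsSignedIrr G β) :
    α = β ∨ α = -β ∨ classInner α β = 0 := by
  by_cases h0 : classInner α β = 0
  · exact Or.inr (Or.inr h0)
  rcases hα with hα | hα <;> rcases hβ with hβ | hβ
  · exact Or.inl (irr_eq_of_inner_ne_zero hα hβ h0)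
  · exact Or.inr (Or.inl (irr_eq_of_inner_ne_zero hα hβ (by simpa [classInner_neg_right] using h0)))
  · exact Or.inr (Or.inl (neg_eq_iff_eq_neg.mp
      (irr_eq_of_inner_ne_zero hα hβ (by simpa [classInner_neg_left] using h0))))
  · exact Or.inl (neg_injective (irr_eq_of_inner_ne_zero hα hβ
      (by simpa [classInner_neg_left, classInner_neg_right] using h0)))

theorem IsSignedIrr.eq_of_inner_eq_one {α β : G → ℂ} (hα : IsSignedIrr G α) (hβ : IsSignedIrr G β)
    (h : classInner α β = 1) : α = β := by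
  rw [← sub_eq_zero, ← classInner_self_eq_zero]
  have h' : classInner β α = 1 := by rw [← conj_classInner, h, map_one]
  simp only [classInner_sub_left, classInner_sub_right, hα.inner_self, hβ.inner_self, h, h']
  ring

/-- a virtual character of norm `2` is a sum of two orthogonal signed irreducible characters -/
theorem gen_norm_two_signed {θ : G → ℂ} (h : IsGeneralizedCharacter G θ) (h2 : classInner θ θ = 2) :
    ∃ α β : G → ℂ, IsSignedIrr G α ∧ IsSignedIrr G β ∧ classInner α β = 0 ∧ θ = α + β := by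
  have hθ0 : θ ≠ 0 := fun h0 => by
    rw [h0, classInner_zero_left] at h2; exact two_ne_zero h2.symm
  obtain ⟨χ, hχ, hc⟩ := exists_irr_inner_ne_zero (gen_isClassFunction h) hθ0
  obtain ⟨c, hc'⟩ := gen_inner_int h (gen_of_irr hχ)
  have hr : rip θ χ = c := rip_of_classInner_eq_int hc'
  have hθθ : rip θ θ = 2 := by rw [rip_def, h2]; simp
  have hχχ : rip χ χ = 1 := rip_eq_one_of (irr_inner_self hχ)
  have hle := rip_sq_le θ χ
  rw [hr, hθθ, hχχ] at hle
  have hc0 : c ≠ 0 := fun h0 => hc (by rw [hc', h0, Int.cast_zero])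
  have hle' : c ^ 2 ≤ 2 := by exact_mod_cast (by simpa using hle : (c : ℝ) ^ 2 ≤ 2)
  have hc1 : c ^ 2 = 1 := by
    have : -1 ≤ c ∧ c ≤ 1 := by constructor <;> nlinarith
    obtain ⟨h1, h2⟩ := this
    interval_cases c <;> simp_all
  have hc1' : (c : ℂ) * c = 1 := by exact_mod_cast (by linarith : c * c = 1)
  have hχθ : classInner χ θ = c := by rw [← conj_classInner, hc', map_intCast]
  have g1 : IsGeneralizedCharacter G (c • χ) := gen_zsmul c (gen_of_irr hχ)
  refine ⟨c • χ, θ - c • χ, isSignedIrr_of_norm_one g1 ?_, isSignedIrr_of_norm_one (gen_sub h g1) ?_, ?_,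
    by abel⟩
  · rw [classInner_zsmul_left, classInner_zsmul_right, irr_inner_self hχ, mul_one, hc1']
  · simp only [classInner_sub_left, classInner_sub_right, classInner_zsmul_left,
      classInner_zsmul_right, irr_inner_self hχ, hc', hχθ, h2]
    linear_combination -hc1'
  · simp only [classInner_sub_right, classInner_zsmul_left,
      classInner_zsmul_right, irr_inner_self hχ, hχθ]
    ring

/-- The orthogonality argument of Peterfalvi (4.1), for honest irreducible characters. -/
theorem irr_ne_of_inner_sub_sub {α β γ δ : G → ℂ} (hα : IsIrrCharacter G α)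
    (hβ : IsIrrCharacter G β) (hγ : IsIrrCharacter G γ) (hδ : IsIrrCharacter G δ)
    (hαβ : α ≠ β) (hγδ : γ ≠ δ) {a b c d : ℕ} (ha : 0 < a) (hb : 0 < b) (hc : 0 < c) (hd : 0 < d)
    (h : classInner (a • α - b • β) (c • γ - d • δ) = 0) :
    α ≠ γ ∧ α ≠ δ ∧ β ≠ γ ∧ β ≠ δ := by
  classical
  simp only [classInner_sub_left, classInner_sub_right, classInner_nsmul_left,
    classInner_nsmul_right, irr_inner hα hγ, irr_inner hα hδ, irr_inner hβ hγ,
    irr_inner hβ hδ] at h
  have h' := congrArg Complex.re h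
  have ha' : (0 : ℝ) < a := by exact_mod_cast ha
  have hb' : (0 : ℝ) < b := by exact_mod_cast hb
  have hc' : (0 : ℝ) < c := by exact_mod_cast hc
  have hd' : (0 : ℝ) < d := by exact_mod_cast hd
  have hac := mul_pos ha' hc'
  have had := mul_pos ha' hd'
  have hbc := mul_pos hb' hc'
  have hbd := mul_pos hb' hd'
  by_cases h1 : α = γ <;> by_cases h2 : α = δ <;> by_cases h3 : β = γ <;> by_cases h4 : β = δ <;>
    first
    | exact ⟨h1, h2, h3, h4⟩
    | exact absurd (h1.symm.trans h2) hγδ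
    | exact absurd (h3.symm.trans h4) hγδ
    | exact absurd (h1.trans h3.symm) hαβ
    | exact absurd (h2.trans h4.symm) hαβ
    | (simp only [if_pos h1, if_neg h2, if_neg h3, if_pos h4] at h'; simp at h'; nlinarith)
    | (simp only [if_pos h1, if_neg h2, if_neg h3, if_neg h4] at h'; simp at h'; omega)
    | (simp only [if_neg h1, if_pos h2, if_pos h3, if_neg h4] at h'; simp at h'; nlinarith)
    | (simp only [if_neg h1, if_pos h2, if_neg h3, if_neg h4] at h'; simp at h'; omega)
    | (simp only [if_neg h1, if_neg h2, if_pos h3, if_neg h4] at h'; simp at h'; omega)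
    | (simp only [if_neg h1, if_neg h2, if_neg h3, if_pos h4] at h'; simp at h'; omega)

end Small

end CL.PF
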