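import Cfsg.Agent.Base
import Cfsg.Agent.PF.CohON
import Cfsg.Agent.Char.Orth
import Cfsg.Agent.Char.Linear
import Cfsg.Agent.Char.InduceMore

/-!
# Peterfalvi section 3: group-theoretic preliminaries, signed irreducible characters and
induction along an injective homomorphism
-/

set_option autoImplicit false

namespace CL.PF

open Cfsg CL.Char
open scoped ComplexConjugate

/-! ### signed irreducible characters -/

section Signed

variable {G : Type*} [Group G] [Fintype G]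

omit [Fintype G] in
theorem IsSignedIrr.of_irr {χ : G → ℂ} (h : IsIrrCharacter G χ) : IsSignedIrr G χ := Or.inl h

theorem IsSignedIrr.isClassFunction {χ : G → ℂ} (h : IsSignedIrr G χ) : IsClassFunction G χ :=
  gen_isClassFunction h.gen

theorem IsSignedIrr.ne_zero {χ : G → ℂ} (h : IsSignedIrr G χ) : χ ≠ 0 := fun h0 =>
  h.apply_one_ne_zero (by rw [h0]; rfl)

theorem IsSignedIrr.sign_smul {χ : G → ℂ} (h : IsSignedIrr G χ) {ε : ℤ} (hε : ε = 1 ∨ ε = -1) :
    IsSignedIrr G ((ε : ℂ) • χ) := by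
  rcases hε with rfl | rfl
  · simpa using h
  · simpa using h.neg

theorem IsSignedIrr.sign_smul' {χ : G → ℂ} (h : IsSignedIrr G χ) {ε : ℂ} (hε : ε = 1 ∨ ε = -1) :
    IsSignedIrr G (ε • χ) := by
  rcases hε with rfl | rfl
  · simpa using h
  · simpa using h.neg

omit [Fintype G] in
theorem not_irr_neg_of_irr {χ : G → ℂ} (h : IsIrrCharacter G χ) : ¬ IsIrrCharacter G (-χ) := by
  intro h'
  obtain ⟨n, hn, h1⟩ := irr_apply_one h
  obtain ⟨m, hm, h2⟩ := irr_apply_one h'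
  rw [Pi.neg_apply, h1] at h2
  have : ((n + m : ℕ) : ℂ) = 0 := by push_cast; rw [← h2]; ring
  have : n + m = 0 := by exact_mod_cast this
  omega

omit [Fintype G] in
/-- A signed irreducible character with a value at `1` of nonnegative real part is irreducible. -/
theorem IsSignedIrr.irr_of_re_nonneg {χ : G → ℂ} (h : IsSignedIrr G χ) (h0 : 0 ≤ (χ 1).re) :
    IsIrrCharacter G χ := by
  rcases h with h | h
  · exact h
  · exfalso
    obtain ⟨m, hm, h2⟩ := irr_apply_one h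
    have h3 : χ 1 = -(m : ℂ) := by rw [← h2]; simp
    rw [h3] at h0
    simp only [Complex.neg_re, Complex.natCast_re] at h0
    have : (0 : ℝ) < m := by exact_mod_cast hm
    linarith

omit [Fintype G] in
/-- Two signed irreducible characters with the same value at `1` have the same sign. -/
theorem IsSignedIrr.irr_of_apply_one_eq {χ ψ : G → ℂ} (h : IsSignedIrr G χ)
    (hψ : IsIrrCharacter G ψ) (h1 : χ 1 = ψ 1) : IsIrrCharacter G χ := by
  obtain ⟨n, -, hn⟩ := irr_apply_one hψ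
  exact h.irr_of_re_nonneg (by rw [h1, hn]; simp)

omit [Fintype G] in
theorem IsSignedIrr.comp_surjective {H : Type*} [Group H] {χ : G → ℂ} (h : IsSignedIrr G χ)
    (f : H →* G) (hf : Function.Surjective f) : IsSignedIrr H (fun x => χ (f x)) := by
  rcases h with h | h
  · exact Or.inl (irr_comp_surjective h f hf)
  · exact Or.inr (irr_comp_surjective h f hf)

theorem IsSignedIrr.unitsHom_mul {χ : G → ℂ} (h : IsSignedIrr G χ) (f : G →* ℂˣ) :
    IsSignedIrr G (fun g => (f g : ℂ) * χ g) := by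
  rcases h with h | h
  · exact Or.inl (irr_unitsHom_mul f h)
  · right
    have := irr_unitsHom_mul f h
    convert this using 1
    funext g; simp

theorem isSignedIrr_iff {χ : G → ℂ} :
    IsSignedIrr G χ ↔ IsGeneralizedCharacter G χ ∧ classInner χ χ = 1 :=
  ⟨fun h => ⟨h.gen, h.inner_self⟩, fun h => isSignedIrr_of_norm_one h.1 h.2⟩

theorem IsSignedIrr.eq_or_eq_neg {χ ψ : G → ℂ} (hχ : IsSignedIrr G χ) (hψ : IsSignedIrr G ψ)
    (h : classInner χ ψ ≠ 0) : χ = ψ ∨ χ = -ψ := by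
  rcases hχ.eq_or_eq_neg_or_orth hψ with e | e | e
  · exact Or.inl e
  · exact Or.inr e
  · exact absurd e h

theorem IsSignedIrr.inner_cases {χ ψ : G → ℂ} (hχ : IsSignedIrr G χ) (hψ : IsSignedIrr G ψ) :
    classInner χ ψ = 1 ∨ classInner χ ψ = -1 ∨ classInner χ ψ = 0 := by
  rcases hχ.eq_or_eq_neg_or_orth hψ with e | e | e
  · left; rw [e, hψ.inner_self]
  · right; left; rw [e, classInner_neg_left, hψ.inner_self]
  · right; right; exact e

/-- Bessel's inequality for an orthonormal family of functions. -/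
theorem bessel_orthonormal {ι : Type*} (s : Finset ι) (e : ι → G → ℂ)
    (h1 : ∀ i ∈ s, classInner (e i) (e i) = 1)
    (h0 : ∀ i ∈ s, ∀ j ∈ s, i ≠ j → classInner (e i) (e j) = 0) (φ : G → ℂ) :
    (classInner (φ - ∑ i ∈ s, classInner φ (e i) • e i)
      (φ - ∑ i ∈ s, classInner φ (e i) • e i)).re + ∑ i ∈ s, ‖classInner φ (e i)‖ ^ 2 =
      (classInner φ φ).re := by
  classical
  have a1 : ∀ j ∈ s, classInner (∑ i ∈ s, classInner φ (e i) • e i) (e j) =
      classInner φ (e j) := fun j hj => by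
    rw [classInner_sum_left, Finset.sum_eq_single j]
    · rw [classInner_smul_left, h1 j hj, mul_one]
    · intro i hi hij
      rw [classInner_smul_left, h0 i hi j hj hij, mul_zero]
    · intro h; exact absurd hj h
  have a2 : classInner (φ - ∑ i ∈ s, classInner φ (e i) • e i)
      (∑ i ∈ s, classInner φ (e i) • e i) = 0 := by
    rw [classInner_sum_right]
    refine Finset.sum_eq_zero fun j hj => ?_
    rw [classInner_smul_right, classInner_sub_left, a1 j hj, sub_self, mul_zero]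
  rw [classInner_sub_right, a2, sub_zero, classInner_sub_left, classInner_sum_left]
  have a3 : ∀ i ∈ s, classInner (classInner φ (e i) • e i) φ =
      ((‖classInner φ (e i)‖ ^ 2 : ℝ) : ℂ) := fun i _ => by
    rw [classInner_smul_left, ← conj_classInner φ (e i), Complex.mul_conj,
      Complex.normSq_eq_norm_sq]
  rw [Finset.sum_congr rfl a3, ← Complex.ofReal_sum, Complex.sub_re, Complex.ofReal_re]
  ring

theorem bessel_orthonormal_le {ι : Type*} (s : Finset ι) (e : ι → G → ℂ)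
    (h1 : ∀ i ∈ s, classInner (e i) (e i) = 1)
    (h0 : ∀ i ∈ s, ∀ j ∈ s, i ≠ j → classInner (e i) (e j) = 0) (φ : G → ℂ) :
    ∑ i ∈ s, ‖classInner φ (e i)‖ ^ 2 ≤ (classInner φ φ).re := by
  have := bessel_orthonormal s e h1 h0 φ
  have := classInner_self_re_nonneg (φ - ∑ i ∈ s, classInner φ (e i) • e i)
  linarith

theorem eq_sum_of_bessel_eq {ι : Type*} (s : Finset ι) (e : ι → G → ℂ)
    (h1 : ∀ i ∈ s, classInner (e i) (e i) = 1)
    (h0 : ∀ i ∈ s, ∀ j ∈ s, i ≠ j → classInner (e i) (e j) = 0) (φ : G → ℂ)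
    (h : (classInner φ φ).re ≤ ∑ i ∈ s, ‖classInner φ (e i)‖ ^ 2) :
    φ = ∑ i ∈ s, classInner φ (e i) • e i := by
  have h2 := bessel_orthonormal s e h1 h0 φ
  have h3 := classInner_self_re_nonneg (φ - ∑ i ∈ s, classInner φ (e i) • e i)
  have h4 : (classInner (φ - ∑ i ∈ s, classInner φ (e i) • e i)
      (φ - ∑ i ∈ s, classInner φ (e i) • e i)).re = 0 := by linarith
  rw [← sub_eq_zero, ← classInner_self_eq_zero, ← ofReal_classInner_self_re, h4]
  simp

/-- A nonzero integer-valued inner product has norm at least one. -/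
theorem one_le_norm_sq_inner {φ ψ : G → ℂ} (hφ : IsGeneralizedCharacter G φ)
    (hψ : IsGeneralizedCharacter G ψ) (h : classInner φ ψ ≠ 0) : 1 ≤ ‖classInner φ ψ‖ ^ 2 := by
  obtain ⟨n, hn⟩ := gen_inner_int hφ hψ
  rw [hn] at h ⊢
  have h0 : n ≠ 0 := by exact_mod_cast h
  rw [Complex.norm_intCast, sq_abs]
  have : (1 : ℤ) ≤ n ^ 2 := by have := sq_pos_of_ne_zero h0; omega
  exact_mod_cast this

end Signed

/-! ### induction along an injective homomorphism -/

section IndHom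

variable {G W : Type*} [Group G] [Fintype G] [Group W]

/-- Induction along an injective homomorphism. -/
noncomputable def indHom (ι : W →* G) (α : W → ℂ) : G → ℂ :=
  indFun ι.range (fun h => Function.extend ι α 0 h)

theorem indHom_isClassFunction (ι : W →* G) (α : W → ℂ) : IsClassFunction G (indHom ι α) :=
  indFun_isClassFunction _ _

theorem indHom_eq_indFun {ι : W →* G} (hι : Function.Injective ι) {H : Subgroup G}
    (hH : ι.range = H) (α : W → ℂ) (θ : H → ℂ) (h : ∀ w, θ ⟨ι w, hH ▸ ⟨w, rfl⟩⟩ = α w) :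
    indHom ι α = indFun H θ := by
  subst hH
  unfold indHom
  congr 1
  funext x
  obtain ⟨_, w, rfl⟩ := x
  rw [h w]
  exact hι.extend_apply α 0 w

theorem indHom_sub {ι : W →* G} (hι : Function.Injective ι) (α β : W → ℂ) :
    indHom ι (α - β) = indHom ι α - indHom ι β := by
  unfold indHom
  rw [← indFun_sub]
  congr 1
  funext x
  obtain ⟨_, w, rfl⟩ := x
  simp only [Pi.sub_apply, hι.extend_apply]

theorem classInner_indHom_left [Fintype W] {ι : W →* G} (hι : Function.Injective ι) (α : W → ℂ)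
    {χ : G → ℂ} (hχ : IsClassFunction G χ) :
    classInner (indHom ι α) χ = classInner α (fun w => χ (ι w)) := by
  unfold indHom
  rw [classInner_indFun_left _ _ hχ, ← classInner_comp_mulEquiv (MonoidHom.ofInjective hι)]
  congr 1
  funext w
  exact hι.extend_apply α 0 w

theorem classInner_indHom_right [Fintype W] {ι : W →* G} (hι : Function.Injective ι) (α : W → ℂ)
    {χ : G → ℂ} (hχ : IsClassFunction G χ) :
    classInner χ (indHom ι α) = classInner (fun w => χ (ι w)) α := by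
  rw [← conj_classInner, classInner_indHom_left hι α hχ, conj_classInner]

theorem gen_indHom {ι : W →* G} (hι : Function.Injective ι) {α : W → ℂ}
    (hα : IsGeneralizedCharacter W α) : IsGeneralizedCharacter G (indHom ι α) := by
  have : Finite W := Finite.of_injective ι hι
  have := Fintype.ofFinite W
  refine gen_of_inner_int (indHom_isClassFunction ι α) fun χ hχ => ?_
  rw [classInner_indHom_left hι α (irr_isClassFunction hχ)]
  exact gen_inner_int hα (gen_comp (gen_of_irr hχ) ι)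

theorem indHom_eq_zero {ι : W →* G} (hι : Function.Injective ι) (α : W → ℂ) {g : G}
    (hg : ∀ (x : G) (w : W), x * g * x⁻¹ = ι w → α w = 0) : indHom ι α g = 0 := by
  refine indFun_eq_zero_of_forall _ _ fun x hx => ?_
  obtain ⟨w, hw⟩ := hx
  change Function.extend ι α 0 (x * g * x⁻¹) = 0
  rw [← hw, hι.extend_apply]
  exact hg x w hw.symm

theorem indHom_one {ι : W →* G} (hι : Function.Injective ι) (α : W → ℂ) :
    indHom ι α 1 = (ι.range.index : ℂ) * α 1 := by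
  unfold indHom
  rw [indFun_one]
  congr 1
  have := hι.extend_apply α (0 : G → ℂ) 1
  rwa [map_one] at this

/-- The value of an induced function at a point of a TI-subset. -/
theorem indHom_apply_of_ti {ι : W →* G} (hι : Function.Injective ι) {α : W → ℂ}
    (hα : IsClassFunction W α) (w : W)
    (hw : ∀ (x : G) (w' : W), x * ι w * x⁻¹ = ι w' → α w' ≠ 0 → x ∈ ι.range) :
    indHom ι α (ι w) = α w := by
  classical
  unfold indHom
  rw [indFun_apply']
  have h1 : ∀ x : G, extendByZero ι.range (fun h => Function.extend ι α 0 h) (x * ι w * x⁻¹) =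
      if x ∈ ι.range then α w else 0 := by
    intro x
    split_ifs with hx
    · obtain ⟨u, rfl⟩ := hx
      have : ι u * ι w * (ι u)⁻¹ = ι (u * w * u⁻¹) := by simp
      rw [this, extendByZero_of_mem ι.range _ (g := ι (u * w * u⁻¹)) ⟨_, rfl⟩]
      change Function.extend ι α 0 (ι _) = _
      rw [hι.extend_apply, hα]
    · by_cases hx' : x * ι w * x⁻¹ ∈ ι.range
      · rw [extendByZero_of_mem _ _ hx']
        obtain ⟨w', hw'⟩ := hx'
        change Function.extend ι α 0 (x * ι w * x⁻¹) = 0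
        rw [← hw', hι.extend_apply]
        by_contra hne
        exact hx (hw x w' hw'.symm hne)
      · exact extendByZero_of_not_mem _ _ hx'
  simp only [h1]
  rw [← Finset.sum_filter, Finset.sum_const, nsmul_eq_mul, ← mul_assoc]
  have : ((Finset.univ.filter (· ∈ ι.range)).card : ℂ) = Nat.card ι.range := by
    rw [Nat.card_eq_fintype_card, Fintype.card_subtype]
  rw [this, inv_mul_cancel₀ (natCard_cast_ne_zero _), one_mul]

end IndHom

/-! ### the group-theoretic hypothesis -/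

section TIPair

variable {G X₁ X₂ : Type*} [Group G] [Group X₁] [Group X₂]

/-- Hypothesis (3.1) without the parity condition. -/
structure TIPair (f₁ : X₁ →* G) (f₂ : X₂ →* G) : Prop where
  inj₁ : Function.Injective f₁
  inj₂ : Function.Injective f₂
  selfNorm : IsSelfNormalizingCyclic f₁.range f₂.range

variable {f₁ : X₁ →* G} {f₂ : X₂ →* G}

theorem CycTI.tiPair (h : CycTI f₁ f₂) : TIPair f₁ f₂ := ⟨h.inj₁, h.inj₂, h.selfNorm⟩

theorem selfNormalizingCyclic_symm {W₁ W₂ : Subgroup G} (h : IsSelfNormalizingCyclic W₁ W₂) :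
    IsSelfNormalizingCyclic W₂ W₁ := by
  obtain ⟨h1, h2, h3, h4, h5, h6⟩ := h
  refine ⟨h2, h1, by rw [inf_comm, h3], fun a ha b hb => (h4 b hb a ha).symm, by rwa [sup_comm],
    fun X hX hne => ?_⟩
  rw [sup_comm W₂ W₁, Set.union_comm] at hX
  rw [h6 X hX hne, sup_comm]

theorem TIPair.symm (h : TIPair f₁ f₂) : TIPair f₂ f₁ :=
  ⟨h.inj₂, h.inj₁, selfNormalizingCyclic_symm h.selfNorm⟩

theorem CycTI.symm (h : CycTI f₁ f₂) : CycTI f₂ f₁ :=
  ⟨h.inj₂, h.inj₁, selfNormalizingCyclic_symm h.selfNorm, by rw [sup_comm]; exact h.odd⟩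

theorem tiPair_subtype {W₁ W₂ : Subgroup G} (h : IsSelfNormalizingCyclic W₁ W₂) :
    TIPair W₁.subtype W₂.subtype :=
  ⟨W₁.subtype_injective, W₂.subtype_injective, by simpa only [Subgroup.range_subtype] using h⟩

theorem cycTI_subtype {W₁ W₂ : Subgroup G} (h : IsSelfNormalizingCyclic W₁ W₂)
    (hodd : Odd (Nat.card ↥(W₁ ⊔ W₂))) : CycTI W₁.subtype W₂.subtype :=
  ⟨W₁.subtype_injective, W₂.subtype_injective, by simpa only [Subgroup.range_subtype] using h,
    by simpa only [Subgroup.range_subtype] using hodd⟩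

theorem cycV_comm (hc : ∀ x y, f₁ x * f₂ y = f₂ y * f₁ x) : cycV f₂ f₁ = cycV f₁ f₂ := by
  ext g
  constructor
  · rintro ⟨y, x, hy, hx, rfl⟩
    exact ⟨x, y, hx, hy, (hc x y).symm⟩
  · rintro ⟨x, y, hx, hy, rfl⟩
    exact ⟨y, x, hy, hx, hc x y⟩

theorem mem_cycV {x : X₁} {y : X₂} (hx : x ≠ 1) (hy : y ≠ 1) : f₁ x * f₂ y ∈ cycV f₁ f₂ :=
  ⟨x, y, hx, hy, rfl⟩

theorem cycV_subset_cycVConj : cycV f₁ f₂ ⊆ cycVConj f₁ f₂ := fun v hv => ⟨1, v, hv, by simp⟩

theorem conj_mem_cycVConj {g : G} (hg : g ∈ cycVConj f₁ f₂) (m : G) :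
    m * g * m⁻¹ ∈ cycVConj f₁ f₂ := by
  obtain ⟨n, v, hv, rfl⟩ := hg
  exact ⟨m * n, v, hv, by group⟩

theorem mem_cycVConj_of_conj {g m : G} (hg : m * g * m⁻¹ ∈ cycVConj f₁ f₂) :
    g ∈ cycVConj f₁ f₂ := by
  have := conj_mem_cycVConj hg m⁻¹
  simpa [mul_assoc] using this

namespace TIPair

theorem comm (h : TIPair f₁ f₂) (x : X₁) (y : X₂) : f₁ x * f₂ y = f₂ y * f₁ x :=
  h.selfNorm.2.2.2.1 _ ⟨x, rfl⟩ _ ⟨y, rfl⟩

theorem commute (h : TIPair f₁ f₂) (x : X₁) (y : X₂) : Commute (f₁ x) (f₂ y) := h.comm x y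

theorem nontrivial₁ (h : TIPair f₁ f₂) : Nontrivial X₁ := by
  by_contra hn
  rw [not_nontrivial_iff_subsingleton] at hn
  apply h.selfNorm.1
  rw [eq_bot_iff]
  rintro _ ⟨x, rfl⟩
  rw [Subsingleton.elim x 1, map_one]
  exact one_mem _

theorem nontrivial₂ (h : TIPair f₁ f₂) : Nontrivial X₂ := h.symm.nontrivial₁

/-- The embedding of `X₁ × X₂` with image `W = W₁ W₂`. -/
def iota (h : TIPair f₁ f₂) : X₁ × X₂ →* G := f₁.noncommCoprod f₂ h.commute

theorem iota_apply (h : TIPair f₁ f₂) (p : X₁ × X₂) : h.iota p = f₁ p.1 * f₂ p.2 := rfl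

theorem iota_injective (h : TIPair f₁ f₂) : Function.Injective h.iota :=
  (MonoidHom.noncommCoprod_injective f₁ f₂ h.commute).2
    ⟨h.inj₁, h.inj₂, disjoint_iff.2 h.selfNorm.2.2.1⟩

theorem iota_range (h : TIPair f₁ f₂) : h.iota.range = f₁.range ⊔ f₂.range :=
  MonoidHom.noncommCoprod_range f₁ f₂ h.commute

theorem mem_sup_iff (h : TIPair f₁ f₂) {g : G} :
    g ∈ f₁.range ⊔ f₂.range ↔ ∃ x y, g = f₁ x * f₂ y := by
  rw [← h.iota_range]
  constructor
  · rintro ⟨p, rfl⟩; exact ⟨p.1, p.2, rfl⟩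
  · rintro ⟨x, y, rfl⟩; exact ⟨(x, y), rfl⟩

theorem mul_mem_sup (x : X₁) (y : X₂) : f₁ x * f₂ y ∈ f₁.range ⊔ f₂.range :=
  mul_mem (Subgroup.mem_sup_left ⟨x, rfl⟩) (Subgroup.mem_sup_right ⟨y, rfl⟩)

theorem mul_inj (h : TIPair f₁ f₂) {x x' : X₁} {y y' : X₂} (e : f₁ x * f₂ y = f₁ x' * f₂ y') :
    x = x' ∧ y = y' :=
  Prod.mk.inj (h.iota_injective (a₁ := (x, y)) (a₂ := (x', y')) e)

theorem mul_mem_range₁_iff (h : TIPair f₁ f₂) {x : X₁} {y : X₂} :
    f₁ x * f₂ y ∈ f₁.range ↔ y = 1 := by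
  constructor
  · rintro ⟨x', e⟩
    exact (h.mul_inj (x := x') (y := 1) (x' := x) (y' := y) (by rw [map_one, mul_one, e])).2.symm
  · rintro rfl; exact ⟨x, by simp⟩

theorem mul_mem_range₂_iff (h : TIPair f₁ f₂) {x : X₁} {y : X₂} :
    f₁ x * f₂ y ∈ f₂.range ↔ x = 1 := by
  rw [h.comm]; exact h.symm.mul_mem_range₁_iff

theorem mul_ne_one (h : TIPair f₁ f₂) {x : X₁} (hx : x ≠ 1) (y : X₂) : f₁ x * f₂ y ≠ 1 :=
  fun e => hx (h.mul_mem_range₂_iff.1 (e ▸ one_mem _))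

theorem mul_ne_one' (h : TIPair f₁ f₂) (x : X₁) {y : X₂} (hy : y ≠ 1) : f₁ x * f₂ y ≠ 1 :=
  fun e => hy (h.mul_mem_range₁_iff.1 (e ▸ one_mem _))

theorem mem_cycV_iff (h : TIPair f₁ f₂) {g : G} :
    g ∈ cycV f₁ f₂ ↔ g ∈ f₁.range ⊔ f₂.range ∧ g ∉ f₁.range ∧ g ∉ f₂.range := by
  constructor
  · rintro ⟨x, y, hx, hy, rfl⟩
    exact ⟨mul_mem_sup x y, fun e => hy (h.mul_mem_range₁_iff.1 e),
      fun e => hx (h.mul_mem_range₂_iff.1 e)⟩
  · rintro ⟨h1, h2, h3⟩
    obtain ⟨x, y, rfl⟩ := h.mem_sup_iff.1 h1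
    exact ⟨x, y, fun e => h3 (h.mul_mem_range₂_iff.2 e), fun e => h2 (h.mul_mem_range₁_iff.2 e),
      rfl⟩

theorem cycV_eq (h : TIPair f₁ f₂) : cycV f₁ f₂ =
    (↑(f₁.range ⊔ f₂.range) : Set G) \ (↑f₁.range ∪ ↑f₂.range) := by
  ext g
  rw [h.mem_cycV_iff]
  simp only [Set.mem_sdiff, SetLike.mem_coe, Set.mem_union, not_or]

theorem cycV_symm (h : TIPair f₁ f₂) : cycV f₂ f₁ = cycV f₁ f₂ := cycV_comm h.comm

theorem cycVConj_symm (h : TIPair f₁ f₂) : cycVConj f₂ f₁ = cycVConj f₁ f₂ := by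
  unfold cycVConj; rw [h.cycV_symm]

theorem one_not_mem_cycV (h : TIPair f₁ f₂) : (1 : G) ∉ cycV f₁ f₂ := fun e =>
  (h.mem_cycV_iff.1 e).2.1 (one_mem _)

theorem one_not_mem_cycVConj (h : TIPair f₁ f₂) : (1 : G) ∉ cycVConj f₁ f₂ := by
  rintro ⟨m, v, hv, e⟩
  have : v = 1 := by
    have := congrArg (fun t => m⁻¹ * t * m) e
    simpa [mul_assoc] using this.symm
  exact h.one_not_mem_cycV (this ▸ hv)

theorem cycV_nonempty (h : TIPair f₁ f₂) : (cycV f₁ f₂).Nonempty := by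
  have := h.nontrivial₁
  have := h.nontrivial₂
  obtain ⟨x, hx⟩ := exists_ne (1 : X₁)
  obtain ⟨y, hy⟩ := exists_ne (1 : X₂)
  exact ⟨_, mem_cycV hx hy⟩

theorem isCyclic_prod (h : TIPair f₁ f₂) : IsCyclic (X₁ × X₂) := by
  have := h.selfNorm.2.2.2.2.1
  rw [← h.iota_range] at this
  exact (MonoidHom.ofInjective h.iota_injective).isCyclic.2 this

theorem isCyclic₁ (h : TIPair f₁ f₂) : IsCyclic X₁ := (Group.isCyclic_prod_iff.1 h.isCyclic_prod).1

theorem isCyclic₂ (h : TIPair f₁ f₂) : IsCyclic X₂ :=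
  (Group.isCyclic_prod_iff.1 h.isCyclic_prod).2.1

theorem coprime (h : TIPair f₁ f₂) : (Nat.card X₁).Coprime (Nat.card X₂) :=
  (Group.isCyclic_prod_iff.1 h.isCyclic_prod).2.2

theorem comm₁ (h : TIPair f₁ f₂) (a b : X₁) : a * b = b * a :=
  have := h.isCyclic₁
  IsCyclic.isMulCommutative.is_comm.comm a b

theorem comm₂ (h : TIPair f₁ f₂) (a b : X₂) : a * b = b * a := h.symm.comm₁ a b

theorem comm_prod (h : TIPair f₁ f₂) (a b : X₁ × X₂) : a * b = b * a :=
  Prod.ext (h.comm₁ _ _) (h.comm₂ _ _)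

theorem comm_sup (h : TIPair f₁ f₂) {a b : G} (ha : a ∈ f₁.range ⊔ f₂.range)
    (hb : b ∈ f₁.range ⊔ f₂.range) : a * b = b * a := by
  rw [← h.iota_range] at ha hb
  obtain ⟨p, rfl⟩ := ha
  obtain ⟨q, rfl⟩ := hb
  rw [← map_mul, ← map_mul, h.comm_prod]

theorem card_range₁ (h : TIPair f₁ f₂) : Nat.card f₁.range = Nat.card X₁ :=
  (Nat.card_congr (MonoidHom.ofInjective h.inj₁).toEquiv).symm

theorem card_range₂ (h : TIPair f₁ f₂) : Nat.card f₂.range = Nat.card X₂ := h.symm.card_range₁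

theorem card_sup (h : TIPair f₁ f₂) :
    Nat.card ↥(f₁.range ⊔ f₂.range) = Nat.card X₁ * Nat.card X₂ := by
  rw [← h.iota_range, ← Nat.card_prod]
  exact (Nat.card_congr (MonoidHom.ofInjective h.iota_injective).toEquiv).symm

theorem normalizer_eq (h : TIPair f₁ f₂) {X : Set G} (hX : X ⊆ cycV f₁ f₂) (hne : X.Nonempty) :
    Subgroup.normalizer X = f₁.range ⊔ f₂.range :=
  h.selfNorm.2.2.2.2.2 X (h.cycV_eq ▸ hX) hne

theorem centralizer_eq (h : TIPair f₁ f₂) {v : G} (hv : v ∈ cycV f₁ f₂) :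
    Subgroup.centralizer ({v} : Set G) = f₁.range ⊔ f₂.range := by
  rw [← h.normalizer_eq (X := {v}) (by simpa using hv) (by simp)]
  ext g
  rw [Subgroup.mem_centralizer_singleton_iff, Subgroup.mem_set_normalizer_iff]
  constructor
  · intro e x
    simp only [Set.mem_singleton_iff]
    constructor
    · rintro rfl; rw [e]; simp
    · intro e'
      have : g * x * g⁻¹ = g * v * g⁻¹ := by rw [e', e]; simp
      simpa using this
  · intro e
    have := (e v).1 rfl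
    rw [Set.mem_singleton_iff] at this
    conv_rhs => rw [← this]
    simp

variable [Finite G]

theorem finite₁ (h : TIPair f₁ f₂) : Finite X₁ := Finite.of_injective _ h.inj₁

theorem finite₂ (h : TIPair f₁ f₂) : Finite X₂ := Finite.of_injective _ h.inj₂

theorem conj_mem_range₁ (h : TIPair f₁ f₂) {g : G} {x : X₁}
    (hg : g * f₁ x * g⁻¹ ∈ f₁.range ⊔ f₂.range) : g * f₁ x * g⁻¹ ∈ f₁.range := by
  have := h.finite₁
  have := h.finite₂
  obtain ⟨a, b, e⟩ := h.mem_sup_iff.1 hg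
  rw [e, h.mul_mem_range₁_iff]
  have h1 : (f₁ a * f₂ b) ^ Nat.card X₁ = 1 := by
    rw [← e, conj_pow, ← map_pow, pow_card_eq_one', map_one]; simp
  rw [(h.commute a b).mul_pow, ← map_pow, ← map_pow, pow_card_eq_one', map_one, one_mul,
    ← map_one f₂] at h1
  have h2 := h.inj₂ h1
  have h3 : orderOf b ∣ Nat.gcd (Nat.card X₁) (Nat.card X₂) :=
    Nat.dvd_gcd (orderOf_dvd_of_pow_eq_one h2) (orderOf_dvd_natCard b)
  rw [h.coprime] at h3
  exact orderOf_eq_one_iff.1 (Nat.dvd_one.1 h3)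

/-- `V` is a TI-subset with normaliser `W`. -/
theorem mem_of_conj_mem (h : TIPair f₁ f₂) {v g : G} (hv : v ∈ cycV f₁ f₂)
    (hg : g * v * g⁻¹ ∈ f₁.range ⊔ f₂.range) : g ∈ f₁.range ⊔ f₂.range := by
  have h1 : ∀ u ∈ f₁.range ⊔ f₂.range, g⁻¹ * u * g⁻¹⁻¹ ∈ f₁.range ⊔ f₂.range := by
    intro u hu
    rw [← h.centralizer_eq hv, Subgroup.mem_centralizer_singleton_iff]
    have := h.comm_sup hu hg
    calc g⁻¹ * u * g⁻¹⁻¹ * v = g⁻¹ * (u * (g * v * g⁻¹)) * g := by group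
      _ = v * (g⁻¹ * u * g⁻¹⁻¹) := by rw [this]; group
  rw [← inv_mem_iff, ← h.normalizer_eq subset_rfl h.cycV_nonempty]
  refine Subgroup.mem_normalizer_fintype ?_
  rintro _ ⟨x, y, hx, hy, rfl⟩
  obtain ⟨x', hx'⟩ := h.conj_mem_range₁ (h1 _ (Subgroup.mem_sup_left ⟨x, rfl⟩))
  obtain ⟨y', hy'⟩ := h.symm.conj_mem_range₁
    (sup_comm f₁.range f₂.range ▸ h1 _ (Subgroup.mem_sup_right ⟨y, rfl⟩))
  refine ⟨x', y', ?_, ?_, by rw [hx', hy']; group⟩
  · rintro rfl
    apply hx; apply h.inj₁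
    have := congrArg (fun t => g * t * g⁻¹) hx'
    simpa [mul_assoc] using this.symm
  · rintro rfl
    apply hy; apply h.inj₂
    have := congrArg (fun t => g * t * g⁻¹) hy'
    simpa [mul_assoc] using this.symm

theorem conj_eq_of_conj_mem (h : TIPair f₁ f₂) {v g : G} (hv : v ∈ cycV f₁ f₂)
    (hg : g * v * g⁻¹ ∈ f₁.range ⊔ f₂.range) : g * v * g⁻¹ = v := by
  rw [h.comm_sup (h.mem_of_conj_mem hv hg) (h.mem_cycV_iff.1 hv).1]; simp

theorem mem_cycV_of_mem_cycVConj (h : TIPair f₁ f₂) {g : G} (hg : g ∈ cycVConj f₁ f₂)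
    (hW : g ∈ f₁.range ⊔ f₂.range) : g ∈ cycV f₁ f₂ := by
  obtain ⟨m, v, hv, rfl⟩ := hg
  rwa [h.conj_eq_of_conj_mem hv hW]

theorem isTISubset (h : TIPair f₁ f₂) : IsTISubset (cycV f₁ f₂) := by
  intro g hg x hx hx'
  rw [h.normalizer_eq subset_rfl h.cycV_nonempty] at hg
  exact absurd (h.mem_of_conj_mem hx (h.mem_cycV_iff.1 hx').1) hg

end TIPair

/-- Recognising the hypothesis from the TI property. -/
theorem selfNormalizingCyclic_of_ti {W₁ W₂ : Subgroup G} (h1 : W₁ ≠ ⊥) (h2 : W₂ ≠ ⊥)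
    (h3 : W₁ ⊓ W₂ = ⊥) (h4 : ∀ a ∈ W₁, ∀ b ∈ W₂, a * b = b * a) (h5 : IsCyclic ↥(W₁ ⊔ W₂))
    (h6 : ∀ v ∈ W₁ ⊔ W₂, v ∉ W₁ → v ∉ W₂ → ∀ g : G, g * v * g⁻¹ ∈ W₁ ⊔ W₂ →
      g * v * g⁻¹ ∉ W₁ → g * v * g⁻¹ ∉ W₂ → g ∈ W₁ ⊔ W₂) : IsSelfNormalizingCyclic W₁ W₂ := by
  refine ⟨h1, h2, h3, h4, h5, fun X hX hne => le_antisymm (fun g hg => ?_) (fun g hg => ?_)⟩
  · obtain ⟨v, hv⟩ := hne
    have hv' := hX hv
    have hv'' := hX ((Subgroup.mem_set_normalizer_iff.1 hg v).1 hv)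
    simp only [Set.mem_sdiff, SetLike.mem_coe, Set.mem_union, not_or] at hv' hv''
    exact h6 v hv'.1 hv'.2.1 hv'.2.2 g hv''.1 hv''.2.1 hv''.2.2
  · have hc : ∀ x ∈ X, g * x * g⁻¹ = x := fun x hx => by
      have := IsCyclic.isMulCommutative.is_comm.comm (⟨g, hg⟩ : ↥(W₁ ⊔ W₂)) ⟨x, (hX hx).1⟩
      have h' : g * x = x * g := congrArg Subtype.val this
      rw [h']; simp
    rw [Subgroup.mem_set_normalizer_iff]
    intro x
    constructor
    · intro hx; rwa [hc x hx]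
    · intro hx
      have := hc _ hx
      have h' : g * x * g⁻¹ = x := by
        have := congrArg (fun t => g⁻¹ * t * g) this
        simpa [mul_assoc] using this
      rwa [← h']

/-- The hypothesis passes to a subgroup containing `W`. -/
theorem TIPair.of_comp {L : Type*} [Group L] [Finite G] {φ : L →* G} (hφ : Function.Injective φ)
    {g₁ : X₁ →* L} {g₂ : X₂ →* L} (h : TIPair (φ.comp g₁) (φ.comp g₂)) : TIPair g₁ g₂ := by
  have i1 : Function.Injective g₁ := Function.Injective.of_comp (f := φ) h.inj₁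
  have i2 : Function.Injective g₂ := Function.Injective.of_comp (f := φ) h.inj₂
  have hc : ∀ x y, Commute (g₁ x) (g₂ y) := fun x y => hφ (by simpa using h.comm x y)
  have hr := MonoidHom.noncommCoprod_range g₁ g₂ hc
  have hm : ∀ {v : L}, v ∈ g₁.range ⊔ g₂.range ↔ ∃ x y, v = g₁ x * g₂ y := fun {v} => by
    rw [← hr]
    constructor
    · rintro ⟨p, rfl⟩; exact ⟨p.1, p.2, rfl⟩
    · rintro ⟨x, y, rfl⟩; exact ⟨(x, y), rfl⟩
  have hb : g₁.range ⊓ g₂.range = ⊥ := by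
    rw [eq_bot_iff]
    rintro _ ⟨⟨x, rfl⟩, y, e⟩
    have := h.mul_inj (x := x) (y := 1) (x' := 1) (y' := y) (by simp [e])
    rw [this.1, map_one]; exact one_mem _
  refine ⟨i1, i2, selfNormalizingCyclic_of_ti ?_ ?_ hb ?_ ?_ ?_⟩
  · have := h.nontrivial₁
    obtain ⟨x, hx⟩ := exists_ne (1 : X₁)
    intro e
    exact hx (i1 (by rw [map_one]; exact Subgroup.mem_bot.1 (e ▸ ⟨x, rfl⟩)))
  · have := h.nontrivial₂
    obtain ⟨x, hx⟩ := exists_ne (1 : X₂)
    intro e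
    exact hx (i2 (by rw [map_one]; exact Subgroup.mem_bot.1 (e ▸ ⟨x, rfl⟩)))
  · rintro _ ⟨x, rfl⟩ _ ⟨y, rfl⟩; exact hc x y
  · rw [← hr]
    have hi := (MonoidHom.noncommCoprod_injective g₁ g₂ hc).2 ⟨i1, i2, disjoint_iff.2 hb⟩
    exact (MonoidHom.ofInjective hi).isCyclic.1 h.isCyclic_prod
  · intro v hv hv1 hv2 g hg _ _
    obtain ⟨x, y, rfl⟩ := hm.1 hv
    obtain ⟨x', y', e⟩ := hm.1 hg
    have hx : x ≠ 1 := by rintro rfl; exact hv2 ⟨y, by simp⟩
    have hy : y ≠ 1 := by rintro rfl; exact hv1 ⟨x, by simp⟩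
    have := h.mem_of_conj_mem (g := φ g) (mem_cycV hx hy)
      (h.mem_sup_iff.2 ⟨x', y', by simpa using congrArg φ e⟩)
    obtain ⟨a, b, e'⟩ := h.mem_sup_iff.1 this
    exact hm.2 ⟨a, b, hφ (by simpa using e')⟩

theorem CycTI.odd_mul (h : CycTI f₁ f₂) : Odd (Nat.card X₁ * Nat.card X₂) :=
  h.tiPair.card_sup ▸ h.odd

theorem CycTI.odd₁ (h : CycTI f₁ f₂) : Odd (Nat.card X₁) := (Nat.odd_mul.1 h.odd_mul).1

theorem CycTI.odd₂ (h : CycTI f₁ f₂) : Odd (Nat.card X₂) := (Nat.odd_mul.1 h.odd_mul).2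

theorem TIPair.cycTI (h : TIPair f₁ f₂) (h1 : Odd (Nat.card X₁)) (h2 : Odd (Nat.card X₂)) :
    CycTI f₁ f₂ :=
  ⟨h.inj₁, h.inj₂, h.selfNorm, by rw [h.card_sup]; exact h1.mul h2⟩

theorem CycTI.of_comp {L : Type*} [Group L] [Finite G] {φ : L →* G} (hφ : Function.Injective φ)
    {g₁ : X₁ →* L} {g₂ : X₂ →* L} (h : CycTI (φ.comp g₁) (φ.comp g₂)) : CycTI g₁ g₂ :=
  (h.tiPair.of_comp hφ).cycTI h.odd₁ h.odd₂

theorem CycTI.three_le₁ (h : CycTI f₁ f₂) : 3 ≤ Nat.card X₁ := by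
  have h1 := h.odd₁
  have := h.tiPair.nontrivial₁
  have h0 : Nat.card X₁ ≠ 0 := by rintro e; rw [e] at h1; simp at h1
  have : Finite X₁ := Nat.finite_of_card_ne_zero h0
  have h2 := Finite.one_lt_card (α := X₁)
  obtain ⟨k, hk⟩ := h1
  omega

theorem CycTI.three_le₂ (h : CycTI f₁ f₂) : 3 ≤ Nat.card X₂ := h.symm.three_le₁

theorem CycTI.card_ne (h : CycTI f₁ f₂) : Nat.card X₁ ≠ Nat.card X₂ := by
  intro e
  have h1 := h.tiPair.coprime
  have h2 := h.three_le₂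
  rw [e, Nat.coprime_self] at h1
  omega

theorem CycTI.card_cases (h : CycTI f₁ f₂) :
    Nat.card X₁ + 2 ≤ Nat.card X₂ ∨ Nat.card X₂ + 2 ≤ Nat.card X₁ := by
  have h0 := h.card_ne
  obtain ⟨a, ha⟩ := h.odd₁
  obtain ⟨b, hb⟩ := h.odd₂
  omega

end TIPair

end CL.PF
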