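import Cfsg.Agent.Base
import Cfsg.Agent.PF.Defs
import Cfsg.Agent.Char.CliffordCorr

/-!
# Induction and restriction between subgroups of a common group

For subgroups `K ≤ L` of a finite group `X`: `relInd K L θ : L → ℂ` is the function induced from
`θ : K → ℂ`, `relRes h χ : K → ℂ` is the restriction of `χ : L → ℂ`, and `relFun K L θ` is `θ` seen
on the subgroup `K.subgroupOf L` of `L`.
-/

set_option autoImplicit false

namespace CL.PF

open Cfsg CL.Char
open scoped ComplexConjugate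

variable {X : Type*} [Group X]

/-- A function on `K` seen as a function on the subgroup `K.subgroupOf L` of `L`. -/
abbrev relFun (K L : Subgroup X) (θ : K → ℂ) : K.subgroupOf L → ℂ :=
  fun x => θ ⟨(x : L), Subgroup.mem_subgroupOf.mp x.2⟩

/-- Restriction from `L` to a subgroup `K ≤ L`. -/
abbrev relRes {K L : Subgroup X} (h : K ≤ L) (χ : L → ℂ) : K → ℂ :=
  fun n => χ ⟨(n : X), h n.2⟩

/-- A function on `K.subgroupOf L` seen as a function on `K`, for `K ≤ L`. -/
abbrev relUn {K L : Subgroup X} (h : K ≤ L) (φ : K.subgroupOf L → ℂ) : K → ℂ :=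
  fun n => φ ⟨⟨(n : X), h n.2⟩, Subgroup.mem_subgroupOf.mpr n.2⟩

/-- Induction from `K` to `L` (meant for `K ≤ L`). -/
noncomputable def relInd [Finite X] (K L : Subgroup X) (θ : K → ℂ) : L → ℂ :=
  indFun (K.subgroupOf L) (relFun K L θ)

section relFun

variable {K L : Subgroup X}

theorem relFun_relUn (h : K ≤ L) (φ : K.subgroupOf L → ℂ) : relFun K L (relUn h φ) = φ := rfl

theorem relUn_relFun (h : K ≤ L) (θ : K → ℂ) : relUn h (relFun K L θ) = θ := rfl

theorem relFun_injective (h : K ≤ L) : Function.Injective (relFun K L) := fun θ φ e => by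
  rw [← relUn_relFun h θ, e, relUn_relFun]

theorem relFun_inj (h : K ≤ L) {θ φ : K → ℂ} : relFun K L θ = relFun K L φ ↔ θ = φ :=
  (relFun_injective h).eq_iff

theorem relFun_relRes (h : K ≤ L) (χ : L → ℂ) :
    relFun K L (relRes h χ) = fun x : K.subgroupOf L => χ x := rfl

theorem relRes_relRes {M : Subgroup X} (h : K ≤ L) (h' : L ≤ M) (χ : M → ℂ) :
    relRes h (relRes h' χ) = relRes (h.trans h') χ := rfl

theorem relRes_res (h : K ≤ L) (χ : X → ℂ) :
    relRes h (fun x : L => χ x) = fun x : K => χ x := rfl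

theorem relRes_self (χ : L → ℂ) : relRes le_rfl χ = χ := rfl

theorem relRes_apply_one (h : K ≤ L) (χ : L → ℂ) : relRes h χ 1 = χ 1 := rfl

theorem irr_relUn (h : K ≤ L) {φ : K.subgroupOf L → ℂ} (hφ : IsIrrCharacter _ φ) :
    IsIrrCharacter K (relUn h φ) :=
  irr_comp_mulEquiv hφ (Subgroup.subgroupOfEquivOfLe h).symm

theorem char_relUn (h : K ≤ L) {φ : K.subgroupOf L → ℂ} (hφ : IsCharacter _ φ) :
    IsCharacter K (relUn h φ) :=
  char_comp hφ (Subgroup.subgroupOfEquivOfLe h).symm.toMonoidHom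

theorem gen_relUn (h : K ≤ L) {φ : K.subgroupOf L → ℂ} (hφ : IsGeneralizedCharacter _ φ) :
    IsGeneralizedCharacter K (relUn h φ) :=
  gen_comp hφ (Subgroup.subgroupOfEquivOfLe h).symm.toMonoidHom

theorem classFun_relUn (h : K ≤ L) {φ : K.subgroupOf L → ℂ} (hφ : IsClassFunction _ φ) :
    IsClassFunction K (relUn h φ) :=
  classFun_comp hφ (Subgroup.subgroupOfEquivOfLe h).symm.toMonoidHom

theorem irr_relFun_iff (h : K ≤ L) {θ : K → ℂ} :
    IsIrrCharacter _ (relFun K L θ) ↔ IsIrrCharacter K θ :=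
  ⟨fun h1 => irr_relUn h h1, irr_subgroupOf h⟩

theorem char_relFun_iff (h : K ≤ L) {θ : K → ℂ} :
    IsCharacter _ (relFun K L θ) ↔ IsCharacter K θ :=
  ⟨fun h1 => char_relUn h h1, char_subgroupOf h⟩

theorem gen_relFun_iff (h : K ≤ L) {θ : K → ℂ} :
    IsGeneralizedCharacter _ (relFun K L θ) ↔ IsGeneralizedCharacter K θ :=
  ⟨fun h1 => gen_relUn h h1, gen_subgroupOf h⟩

theorem classFun_relFun_iff (h : K ≤ L) {θ : K → ℂ} :
    IsClassFunction _ (relFun K L θ) ↔ IsClassFunction K θ :=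
  ⟨fun h1 => classFun_relUn h h1, classFun_subgroupOf h⟩

theorem classInner_relFun (h : K ≤ L) [Fintype K] [Fintype (K.subgroupOf L)] (φ θ : K → ℂ) :
    classInner (relFun K L φ) (relFun K L θ) = classInner φ θ :=
  classInner_subgroupOf h φ θ

theorem classInner_relUn (h : K ≤ L) [Fintype K] [Fintype (K.subgroupOf L)]
    (φ θ : K.subgroupOf L → ℂ) : classInner (relUn h φ) (relUn h θ) = classInner φ θ :=
  (classInner_subgroupOf h (relUn h φ) (relUn h θ)).symm

theorem char_relRes (h : K ≤ L) {χ : L → ℂ} (hχ : IsCharacter L χ) : IsCharacter K (relRes h χ) :=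
  char_res_le h hχ

theorem gen_relRes (h : K ≤ L) {χ : L → ℂ} (hχ : IsGeneralizedCharacter L χ) :
    IsGeneralizedCharacter K (relRes h χ) := gen_res_le h hχ

theorem classFun_relRes (h : K ≤ L) {χ : L → ℂ} (hχ : IsClassFunction L χ) :
    IsClassFunction K (relRes h χ) := classFun_res_le h hχ

theorem extendByZero_relFun (θ : K → ℂ) (l : L) :
    extendByZero (K.subgroupOf L) (relFun K L θ) l = extendByZero K θ l := by
  by_cases hl : (l : X) ∈ K
  · rw [extendByZero_of_mem _ _ (Subgroup.mem_subgroupOf.mpr hl), extendByZero_of_mem _ _ hl]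
  · rw [extendByZero_of_not_mem _ _ (fun h => hl (Subgroup.mem_subgroupOf.mp h)),
      extendByZero_of_not_mem _ _ hl]

end relFun

section relInd

variable [Finite X] {K L : Subgroup X}

theorem relInd_def [i : Fintype L] (θ : K → ℂ) :
    relInd K L θ = indFun (K.subgroupOf L) (relFun K L θ) := by
  rw [Subsingleton.elim i (fintypeSubgroup L)]; rfl

theorem relInd_relUn [Fintype L] (h : K ≤ L) (φ : K.subgroupOf L → ℂ) :
    relInd K L (relUn h φ) = indFun (K.subgroupOf L) φ := relInd_def _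

theorem relInd_apply (h : K ≤ L) [Fintype L] (θ : K → ℂ) (l : L) :
    relInd K L θ l = (Nat.card K : ℂ)⁻¹ * ∑ x : L, extendByZero K θ ((x : X)⁻¹ * l * x) := by
  rw [relInd_def, indFun_apply, Nat.card_congr (Subgroup.subgroupOfEquivOfLe h).toEquiv]
  simp only [extendByZero_relFun]
  rfl

theorem relInd_apply' (h : K ≤ L) [Fintype L] (θ : K → ℂ) (l : L) :
    relInd K L θ l = (Nat.card K : ℂ)⁻¹ * ∑ x : L, extendByZero K θ (x * l * (x : X)⁻¹) := by
  rw [relInd_def, indFun_apply', Nat.card_congr (Subgroup.subgroupOfEquivOfLe h).toEquiv]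
  simp only [extendByZero_relFun]
  rfl

theorem relInd_zero : relInd K L (0 : K → ℂ) = 0 := indFun_zero _

theorem relInd_add (θ φ : K → ℂ) : relInd K L (θ + φ) = relInd K L θ + relInd K L φ :=
  indFun_add _ (relFun K L θ) (relFun K L φ)

theorem relInd_smul (c : ℂ) (θ : K → ℂ) : relInd K L (c • θ) = c • relInd K L θ :=
  indFun_smul _ c (relFun K L θ)

/-- `relInd` as a linear map. -/
noncomputable def relIndLin (K L : Subgroup X) : (K → ℂ) →ₗ[ℂ] (L → ℂ) where
  toFun := relInd K L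
  map_add' := relInd_add
  map_smul' := relInd_smul

theorem relIndLin_apply (θ : K → ℂ) : relIndLin K L θ = relInd K L θ := rfl

theorem relInd_neg (θ : K → ℂ) : relInd K L (-θ) = -relInd K L θ := (relIndLin K L).map_neg θ

theorem relInd_sub (θ φ : K → ℂ) : relInd K L (θ - φ) = relInd K L θ - relInd K L φ :=
  (relIndLin K L).map_sub θ φ

theorem relInd_sum {ι : Type*} (s : Finset ι) (θ : ι → K → ℂ) :
    relInd K L (∑ i ∈ s, θ i) = ∑ i ∈ s, relInd K L (θ i) := map_sum (relIndLin K L) θ s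

theorem relInd_zsmul (n : ℤ) (θ : K → ℂ) : relInd K L (n • θ) = n • relInd K L θ :=
  map_zsmul (relIndLin K L) n θ

theorem relInd_nsmul (n : ℕ) (θ : K → ℂ) : relInd K L (n • θ) = n • relInd K L θ :=
  map_nsmul (relIndLin K L) n θ

theorem relInd_conj (θ : K → ℂ) :
    relInd K L (fun h => conj (θ h)) = fun g => conj (relInd K L θ g) :=
  indFun_conj _ (relFun K L θ)

theorem relInd_conjFun (θ : K → ℂ) : relInd K L (conjFun θ) = conjFun (relInd K L θ) :=
  relInd_conj θ

theorem relInd_isClassFunction (θ : K → ℂ) : IsClassFunction L (relInd K L θ) :=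
  indFun_isClassFunction _ _

theorem relInd_one (θ : K → ℂ) : relInd K L θ 1 = (K.relIndex L : ℂ) * θ 1 :=
  indFun_one _ _

theorem char_relInd (h : K ≤ L) {θ : K → ℂ} (hθ : IsCharacter K θ) :
    IsCharacter L (relInd K L θ) := char_indFun _ (char_subgroupOf h hθ)

theorem gen_relInd (h : K ≤ L) {θ : K → ℂ} (hθ : IsGeneralizedCharacter K θ) :
    IsGeneralizedCharacter L (relInd K L θ) := gen_indFun _ (gen_subgroupOf h hθ)

theorem deg_relInd (h : K ≤ L) {θ : K → ℂ} (hθ : IsCharacter K θ) :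
    deg (relInd K L θ) = K.relIndex L * deg θ := deg_indFun _ (char_subgroupOf h hθ)

theorem relInd_ne_zero {θ : K → ℂ} (hθ : θ 1 ≠ 0) : relInd K L θ ≠ 0 := indFun_ne_zero _ hθ

theorem irr_of_irr_relInd (h : K ≤ L) {θ : K → ℂ} (hθ : IsCharacter K θ)
    (hi : IsIrrCharacter L (relInd K L θ)) : IsIrrCharacter K θ :=
  (irr_relFun_iff h).mp (irr_of_irr_indFun _ (char_subgroupOf h hθ) hi)

/-- Frobenius reciprocity. -/
theorem classInner_relInd_left (h : K ≤ L) [Fintype K] [Fintype L] (θ : K → ℂ) {ψ : L → ℂ}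
    (hψ : IsClassFunction L ψ) : classInner (relInd K L θ) ψ = classInner θ (relRes h ψ) := by
  rw [relInd_def]; exact classInner_indFun_subgroupOf_left h θ hψ

/-- Frobenius reciprocity. -/
theorem classInner_relInd_right (h : K ≤ L) [Fintype K] [Fintype L] (θ : K → ℂ) {ψ : L → ℂ}
    (hψ : IsClassFunction L ψ) : classInner ψ (relInd K L θ) = classInner (relRes h ψ) θ := by
  rw [relInd_def]; exact classInner_indFun_subgroupOf_right h θ hψ

/-- Transitivity of induction, up to the whole group. -/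
theorem indFun_relInd [Fintype X] (h : K ≤ L) (θ : K → ℂ) :
    indFun L (relInd K L θ) = indFun K θ := indFun_indFun K L h θ

/-- Transitivity of induction. -/
theorem relInd_relInd {M : Subgroup X} (h : K ≤ L) (h' : L ≤ M) (θ : K → ℂ) :
    relInd L M (relInd K L θ) = relInd K M θ := by
  have e : relFun L M (relInd K L θ) = indFun ((K.subgroupOf M).subgroupOf (L.subgroupOf M))
      (relFun (K.subgroupOf M) (L.subgroupOf M) (relFun K M θ)) := by
    funext x
    exact indFun_comp_mulEquiv (Subgroup.subgroupOfEquivOfLe h')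
      ((K.subgroupOf M).subgroupOf (L.subgroupOf M)) (K.subgroupOf L) (fun _ => Iff.rfl) _
      (relFun K L θ) (fun _ => rfl) x
  rw [relInd_def (K := L), e]
  exact indFun_indFun (K.subgroupOf M) (L.subgroupOf M) (fun x hx => h hx) (relFun K M θ)

/-- Induction inside `M`, for subgroups of `X` seen as subgroups of `M`. -/
theorem relInd_subgroupOf {M : Subgroup X} (h' : L ≤ M) (θ : K → ℂ) :
    relInd (K.subgroupOf M) (L.subgroupOf M) (relFun K M θ) = relFun L M (relInd K L θ) := by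
  funext x
  exact (indFun_comp_mulEquiv (Subgroup.subgroupOfEquivOfLe h')
      ((K.subgroupOf M).subgroupOf (L.subgroupOf M)) (K.subgroupOf L) (fun _ => Iff.rfl)
      (relFun (K.subgroupOf M) (L.subgroupOf M) (relFun K M θ)) (relFun K L θ)
      (fun _ => rfl) x).symm

theorem relInd_self {θ : K → ℂ} (hθ : IsClassFunction K θ) : relInd K K θ = θ := by
  funext x
  exact indFun_apply_of_eq_top _ (Subgroup.subgroupOf_self K) (classFun_subgroupOf le_rfl hθ)
    ⟨x, Subgroup.mem_subgroupOf.mpr x.2⟩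

theorem relInd_of_eq (h : K = L) {θ : K → ℂ} (hθ : IsClassFunction K θ) :
    relInd K L θ = relRes h.ge θ := by
  subst h; exact relInd_self hθ

theorem relInd_top_apply [Fintype X] (θ : K → ℂ) (g : (⊤ : Subgroup X)) :
    relInd K ⊤ θ g = indFun K θ g := by
  rw [← indFun_relInd (le_top : K ≤ ⊤), indFun_top_apply (relInd_isClassFunction θ)]

theorem relInd_mul_relRes (h : K ≤ L) (θ : K → ℂ) {χ : L → ℂ} (hχ : IsClassFunction L χ) :
    relInd K L (θ * relRes h χ) = relInd K L θ * χ :=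
  indFun_mul_res _ (relFun K L θ) hχ

theorem relInd_relRes_mul (h : K ≤ L) (θ : K → ℂ) {χ : L → ℂ} (hχ : IsClassFunction L χ) :
    relInd K L (relRes h χ * θ) = χ * relInd K L θ :=
  indFun_res_mul _ (relFun K L θ) hχ

theorem relInd_eq_zero_of_not_conj (θ : K → ℂ) {l : L}
    (hl : ∀ x ∈ L, x * l * x⁻¹ ∉ K) : relInd K L θ l = 0 :=
  indFun_eq_zero_of_not_conj _ _ fun x hx => hl x x.2 hx

theorem relInd_eq_zero_of_le_normalizer (hn : L ≤ Subgroup.normalizer (K : Set X)) (θ : K → ℂ)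
    {l : L} (hl : (l : X) ∉ K) : relInd K L θ l = 0 :=
  relInd_eq_zero_of_not_conj θ fun x hx h =>
    hl ((Subgroup.mem_normalizer_iff.mp (hn hx) l).mpr h)

theorem relInd_eq_zero_of_normal [K.Normal] (θ : K → ℂ) {l : L} (hl : (l : X) ∉ K) :
    relInd K L θ l = 0 :=
  relInd_eq_zero_of_le_normalizer (by rw [Subgroup.normalizer_eq_top]; exact le_top) θ hl

theorem exists_irr_relOver (h : K ≤ L) [Fintype K] {θ : K → ℂ} (hθ : IsIrrCharacter K θ) :
    ∃ χ, IsIrrCharacter L χ ∧ classInner (relRes h χ) θ ≠ 0 := by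
  obtain ⟨χ, hχ, h1⟩ := exists_irr_over (K.subgroupOf L) (irr_subgroupOf h hθ)
  exact ⟨χ, hχ, by rwa [← classInner_relFun h]⟩

theorem exists_irr_relUnder (h : K ≤ L) [Fintype K] {χ : L → ℂ} (hχ : IsIrrCharacter L χ) :
    ∃ θ, IsIrrCharacter K θ ∧ classInner (relRes h χ) θ ≠ 0 :=
  char_exists_irr_constituent (char_relRes h (irr_isCharacter hχ)) fun h0 =>
    irr_apply_one_ne_zero hχ (congrFun h0 1)

theorem eq_relInd_of_inner_ne_zero (h : K ≤ L) [Fintype K] {θ : K → ℂ} {χ : L → ℂ}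
    (hχ : IsIrrCharacter L χ) (hi : IsIrrCharacter L (relInd K L θ))
    (h1 : classInner (relRes h χ) θ ≠ 0) : χ = relInd K L θ :=
  irr_eq_of_inner_ne_zero hχ hi (by rwa [classInner_relInd_right h _ (irr_isClassFunction hχ)])

/-- Mackey's formula when `X = K L`, in relative form: for `H ≤ M`, `K ≤ M` with `M = K H`. -/
theorem relRes_relInd_of_mul {H M : Subgroup X} (hH : H ≤ M) (hK : K ≤ M)
    (hKH : ∀ g ∈ M, ∃ k ∈ K, ∃ h ∈ H, g = k * h) {θ : H → ℂ} (hθ : IsClassFunction H θ) :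
    relRes hK (relInd H M θ) = relInd (H ⊓ K) K (relRes inf_le_left θ) := by
  funext k
  have h1 := indFun_res_of_mul_eq_top (H.subgroupOf M) (K.subgroupOf M) (by
    intro g
    obtain ⟨a, ha, b, hb, e⟩ := hKH g g.2
    exact ⟨⟨a, hK ha⟩, ha, ⟨b, hH hb⟩, hb, Subtype.ext e⟩) (classFun_subgroupOf hH hθ)
    ⟨⟨k, hK k.2⟩, k.2⟩
  refine h1.trans ?_
  exact (indFun_comp_mulEquiv (Subgroup.subgroupOfEquivOfLe hK)
    ((H.subgroupOf M).subgroupOf (K.subgroupOf M)) ((H ⊓ K).subgroupOf K)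
    (fun g => ⟨fun h => ⟨h, g.2⟩, fun h => h.1⟩)
    (relFun (H.subgroupOf M) (K.subgroupOf M) (relFun H M θ))
    (relFun (H ⊓ K) K (relRes inf_le_left θ)) (fun _ => rfl) ⟨⟨k, hK k.2⟩, k.2⟩).symm

/-- Mackey's formula when `X = K H`. -/
theorem res_indFun_of_mul [Fintype X] {H : Subgroup X}
    (hKH : ∀ g : X, ∃ k ∈ K, ∃ h ∈ H, g = k * h) {θ : H → ℂ} (hθ : IsClassFunction H θ) :
    (fun k : K => indFun H θ k) = relInd (H ⊓ K) K (relRes inf_le_left θ) := by
  funext k
  rw [indFun_res_of_mul_eq_top H K hKH hθ, relInd]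
  exact (congrFun (indFun_congr (Subgroup.inf_subgroupOf_right H K).symm (relFun H K θ)
    (relFun (H ⊓ K) K (relRes inf_le_left θ)) (fun _ => rfl)) k).symm

end relInd

end CL.PF
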