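import Cfsg.Agent.Base

/-!
# Internal semidirect products `K ⊔ N` (`N` normalising `K`, `K ⊓ N = ⊥`): the projection onto `N`,
and an integrality lemma for sums over orbits.
-/

set_option autoImplicit false

namespace CL.PF

open Subgroup

variable {G : Type*} [Group G]

section Sd

variable {K N : Subgroup G}

theorem sd_mul_bijective (hn : N ≤ normalizer (K : Set G)) (hKN : K ⊓ N = ⊥) :
    Function.Bijective (fun p : K × N =>
      (⟨p.1 * p.2, mul_mem (mem_sup_left p.1.2) (mem_sup_right p.2.2)⟩ : ↥(K ⊔ N))) := by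
  constructor
  · rintro ⟨k, n⟩ ⟨k', n'⟩ e
    have e1 : (k : G) * n = k' * n' := congrArg Subtype.val e
    have e2 : (k' : G)⁻¹ * k = n' * (n : G)⁻¹ := by
      rw [inv_mul_eq_iff_eq_mul, ← mul_assoc, ← e1]; group
    have e3 : (k' : G)⁻¹ * k ∈ K ⊓ N :=
      mem_inf.2 ⟨mul_mem (inv_mem k'.2) k.2, by rw [e2]; exact mul_mem n'.2 (inv_mem n.2)⟩
    rw [hKN, mem_bot] at e3
    have e4 : k = k' := Subtype.ext (inv_mul_eq_one.1 e3).symm
    subst e4
    rw [Subtype.ext (mul_left_cancel e1)]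
  · rintro ⟨m, hm⟩
    have : m ∈ ((K ⊔ N : Subgroup G) : Set G) := hm
    rw [coe_mul_of_right_le_normalizer_left _ _ hn] at this
    obtain ⟨k, hk, n, hn', rfl⟩ := this
    exact ⟨(⟨k, hk⟩, ⟨n, hn'⟩), rfl⟩

/-- The bijection `K × N ≃ K ⊔ N` given by multiplication. -/
noncomputable def sdEquiv (hn : N ≤ normalizer (K : Set G)) (hKN : K ⊓ N = ⊥) :
    K × N ≃ ↥(K ⊔ N) := Equiv.ofBijective _ (sd_mul_bijective hn hKN)

theorem coe_sdEquiv (hn : N ≤ normalizer (K : Set G)) (hKN : K ⊓ N = ⊥) (p : K × N) :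
    (sdEquiv hn hKN p : G) = p.1 * p.2 := rfl

theorem card_sup_of_sd (hn : N ≤ normalizer (K : Set G)) (hKN : K ⊓ N = ⊥) :
    Nat.card ↥(K ⊔ N) = Nat.card K * Nat.card N := by
  rw [← Nat.card_congr (sdEquiv hn hKN), Nat.card_prod]

/-- The projection of `K ⊔ N` onto `N` with kernel `K`. -/
noncomputable def sdProj (hn : N ≤ normalizer (K : Set G)) (hKN : K ⊓ N = ⊥) : ↥(K ⊔ N) →* N :=
  MonoidHom.mk' (fun m => ((sdEquiv hn hKN).symm m).2) (by
    intro a b
    obtain ⟨⟨k, n⟩, rfl⟩ := (sdEquiv hn hKN).surjective a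
    obtain ⟨⟨k', n'⟩, rfl⟩ := (sdEquiv hn hKN).surjective b
    have : sdEquiv hn hKN (k, n) * sdEquiv hn hKN (k', n') = sdEquiv hn hKN
        (k * ⟨n * k' * (n : G)⁻¹, (mem_normalizer_iff.1 (hn n.2) _).1 k'.2⟩, n * n') := by
      apply Subtype.ext
      simp only [coe_mul, coe_sdEquiv]
      group
    rw [this]
    simp)

theorem sdProj_sdEquiv (hn : N ≤ normalizer (K : Set G)) (hKN : K ⊓ N = ⊥) (p : K × N) :
    sdProj hn hKN (sdEquiv hn hKN p) = p.2 := by
  simp [sdProj]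

theorem sdProj_mul (hn : N ≤ normalizer (K : Set G)) (hKN : K ⊓ N = ⊥) {k n : G} (hk : k ∈ K)
    (hn' : n ∈ N) (h : k * n ∈ K ⊔ N) : sdProj hn hKN ⟨k * n, h⟩ = ⟨n, hn'⟩ :=
  sdProj_sdEquiv hn hKN (⟨k, hk⟩, ⟨n, hn'⟩)

theorem sum_sup_of_sd {M : Type*} [AddCommMonoid M] (hn : N ≤ normalizer (K : Set G))
    (hKN : K ⊓ N = ⊥) [Fintype K] [Fintype N] [Fintype ↥(K ⊔ N)] (F : ↥(K ⊔ N) → M) :
    ∑ m, F m = ∑ k : K, ∑ n : N, F (sdEquiv hn hKN (k, n)) := by
  rw [← (sdEquiv hn hKN).sum_comp, Fintype.sum_prod_type]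

end Sd

/-- For an invariant function `f` with values in an additive subgroup `Λ` (`ℤ` or the virtual
characters), `∑ x, (|Stab x| / |L|) • f x` lies in `Λ`. -/
theorem sum_stabilizer_smul_mem {L X V : Type*} [Group L] [Finite L] [Fintype X] [MulAction L X]
    [AddCommGroup V] [Module ℂ V] (Λ : AddSubgroup V) (f : X → V) (hf : ∀ (l : L) x, f (l • x) = f x)
    (hΛ : ∀ x, f x ∈ Λ) :
    ∑ x, ((Nat.card (MulAction.stabilizer L x) : ℂ) / Nat.card L) • f x ∈ Λ := by
  classical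
  have := Fintype.ofFinite (MulAction.orbitRel.Quotient L X)
  rw [← Finset.sum_fiberwise Finset.univ
    (fun x : X => (Quotient.mk'' x : MulAction.orbitRel.Quotient L X))]
  refine Λ.sum_mem fun ω _ => ?_
  obtain ⟨x₀, rfl⟩ := Quotient.exists_rep ω
  have hL : (Nat.card L : ℂ) ≠ 0 := by exact_mod_cast Nat.card_pos.ne'
  have hmem : ∀ x : X, (Quotient.mk'' x : MulAction.orbitRel.Quotient L X) = ⟦x₀⟧ ↔
      x ∈ MulAction.orbit L x₀ := fun x => Quotient.eq''
  have hcard : ((Finset.univ.filter fun x : X =>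
      (Quotient.mk'' x : MulAction.orbitRel.Quotient L X) = ⟦x₀⟧).card : ℂ) =
        (MulAction.stabilizer L x₀).index := by
    rw [MulAction.index_stabilizer, ← Set.ncard_coe_finset]
    congr 2
    ext x
    simp [hmem]
  have : ∀ x ∈ Finset.univ.filter fun x : X =>
      (Quotient.mk'' x : MulAction.orbitRel.Quotient L X) = ⟦x₀⟧,
      ((Nat.card (MulAction.stabilizer L x) : ℂ) / Nat.card L) • f x =
        ((Nat.card (MulAction.stabilizer L x₀) : ℂ) / Nat.card L) • f x₀ := by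
    intro x hx
    obtain ⟨l, rfl⟩ := (hmem x).1 (Finset.mem_filter.1 hx).2
    simp only [hf]
    rw [MulAction.stabilizer_smul_eq_stabilizer_map_conj,
      card_map_of_injective (MulAut.conj l).injective]
  rw [Finset.sum_congr rfl this, Finset.sum_const, ← Nat.cast_smul_eq_nsmul ℂ, smul_smul, hcard,
    ← mul_div_assoc, ← Nat.cast_mul, index_mul_card, div_self hL, one_smul]
  exact hΛ x₀

end CL.PF
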