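import Cfsg.Agent.Base

/-! Lifting coprime matrix representations from `ZMod p` to `ZMod (p ^ k)`, and traces of
idempotent matrices: the linear-algebra part of Wielandt's fixed point formula. -/

set_option autoImplicit false

namespace CL.PF

open Matrix

section Idem

variable {n : Type*} [Fintype n] [DecidableEq n]

omit [DecidableEq n] in
/-- An idempotent endomorphism of `n → F` is diagonal in a suitable basis indexed by `n`. -/
theorem exists_basis_of_idem {F : Type*} [Field F] (e : (n → F) →ₗ[F] (n → F))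
    (he : ∀ v, e (e v) = e v) :
    ∃ (b : Module.Basis n F (n → F)) (d : Finset n),
      d.card = Module.finrank F (LinearMap.range e) ∧
      (∀ j ∈ d, e (b j) = b j) ∧ ∀ j ∉ d, e (b j) = 0 := by
  classical
  have hc : IsCompl (LinearMap.range e) (LinearMap.ker e) := by
    have : IsIdempotentElem e := LinearMap.ext he
    exact LinearMap.IsIdempotentElem.isCompl this
  let bU := Module.finBasis F (LinearMap.range e)
  let bW := Module.finBasis F (LinearMap.ker e)
  let b0 := (bU.prod bW).map (Submodule.prodEquivOfIsCompl _ _ hc)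
  have hcard : Fintype.card (Fin (Module.finrank F (LinearMap.range e)) ⊕
      Fin (Module.finrank F (LinearMap.ker e))) = Fintype.card n := by
    rw [← Module.finrank_eq_card_basis b0]; simp
  let σ := Fintype.equivOfCardEq hcard
  refine ⟨b0.reindex σ, Finset.univ.map (Function.Embedding.inl.trans σ.toEmbedding), by simp,
    ?_, ?_⟩
  · intro j hj
    obtain ⟨i, -, rfl⟩ := Finset.mem_map.mp hj
    obtain ⟨v, hv⟩ := (bU i).2
    simp only [Function.Embedding.trans_apply, Function.Embedding.inl_apply, Equiv.coe_toEmbedding,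
      Module.Basis.coe_reindex, Function.comp_apply, Equiv.symm_apply_apply, b0,
      Module.Basis.map_apply, Submodule.coe_prodEquivOfIsCompl', Module.Basis.prod_apply_inl_fst,
      Module.Basis.prod_apply_inl_snd, ZeroMemClass.coe_zero, add_zero]
    rw [← hv, he]
  · intro j hj
    obtain ⟨i, rfl⟩ := σ.surjective j
    rcases i with i | i
    · exact absurd (Finset.mem_map.mpr ⟨i, Finset.mem_univ _, rfl⟩) hj
    · simp only [Module.Basis.coe_reindex, Function.comp_apply, Equiv.symm_apply_apply, b0,
        Module.Basis.map_apply, Submodule.coe_prodEquivOfIsCompl', Module.Basis.prod_apply_inr_fst,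
        Module.Basis.prod_apply_inr_snd, ZeroMemClass.coe_zero, zero_add]
      exact (bW i).2

/-- The trace of an idempotent matrix over a ring with a surjective local map `f` to a field is the
rank of its reduction. -/
theorem trace_idem_eq_rank {R F : Type*} [CommRing R] [Field F] (f : R →+* F)
    (hf : Function.Surjective f) (hloc : ∀ x, f x ≠ 0 → IsUnit x)
    (e : Matrix n n R) (he : e * e = e) :
    e.trace = (Module.finrank F (LinearMap.range (Matrix.toLin' (e.map f))) : R) := by
  classical
  have he' : e.map f * e.map f = e.map f := by rw [← Matrix.map_mul, he]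
  obtain ⟨b, d, hd, h1, h0⟩ := exists_basis_of_idem (Matrix.toLin' (e.map f)) (fun v => by
    simp only [Matrix.toLin'_apply, Matrix.mulVec_mulVec, he'])
  simp only [Matrix.toLin'_apply] at h1 h0
  choose s hs using hf
  -- the matrix of the basis and a lift
  let B : Matrix n n F := Matrix.of fun i j => b j i
  let Q : Matrix n n R := B.map s
  have hQ : Q.map f = B := by ext i j; simp [Q, hs]
  let D : Matrix n n R := Matrix.diagonal fun j => if j ∈ d then 1 else 0
  let P : Matrix n n R := e * Q * D + (1 - e) * Q * (1 - D)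
  have hDD : D * D = D := by
    simp only [D, Matrix.diagonal_mul_diagonal]
    congr 1; ext j; split_ifs <;> simp
  have heB : e.map f * B = B * D.map f := by
    ext i j
    have hD : D.map f = Matrix.diagonal fun j => if j ∈ d then 1 else 0 := by
      simp only [D]
      rw [Matrix.diagonal_map (map_zero f)]
      congr 1; ext j; split_ifs <;> simp
    rw [hD, Matrix.mul_diagonal]
    have : (e.map f * B) i j = (e.map f *ᵥ b j) i := rfl
    rw [this]
    split_ifs with hj
    · rw [h1 j hj]; simp [B]
    · rw [h0 j hj]; simp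
  have hDD' : D.map f * D.map f = D.map f := by rw [← Matrix.map_mul, hDD]
  have hP : f.mapMatrix P = B := by
    have h2 : f.mapMatrix Q = B := hQ
    have h3 : f.mapMatrix e * B = B * f.mapMatrix D := heB
    have h4 : f.mapMatrix D * f.mapMatrix D = f.mapMatrix D := hDD'
    simp only [P, map_add, map_mul, map_sub, map_one, h2]
    rw [h3, sub_mul, one_mul, h3, mul_assoc, h4, mul_sub, mul_one, sub_mul B, mul_assoc, h4]
    abel
  have hB : B.det ≠ 0 := by
    have : B = (Pi.basisFun F n).toMatrix b := by
      ext i j; simp [B, Module.Basis.toMatrix_apply]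
    rw [this]
    exact ((Pi.basisFun F n).isUnit_det b).ne_zero
  have hPu : IsUnit P.det := by
    apply hloc
    rw [RingHom.map_det, hP]; exact hB
  have heP : e * P = P * D := by
    have h5 : e * (1 - e) = 0 := by rw [mul_sub, mul_one, he, sub_self]
    have h6 : (1 - D) * D = 0 := by rw [sub_mul, one_mul, hDD, sub_self]
    simp only [P, mul_add, add_mul]
    rw [← mul_assoc, ← mul_assoc, he, ← mul_assoc, ← mul_assoc, h5, mul_assoc (e * Q), hDD,
      mul_assoc ((1 - e) * Q), h6]
    simp
  have h7 : e = P * D * P⁻¹ := by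
    rw [← heP, mul_assoc, Matrix.mul_nonsing_inv _ hPu, mul_one]
  rw [← hd]
  conv_lhs => rw [h7, Matrix.trace_mul_cycle, Matrix.nonsing_inv_mul _ hPu, one_mul]
  simp [D, Matrix.trace_diagonal]

end Idem

section Lift

theorem one_add_pow_eq_aux {A : Type*} [Ring A] (z : A) (m : ℕ) :
    ∃ w, (1 + z) ^ m = 1 + m • z + z * z * w := by
  induction m with
  | zero => exact ⟨0, by simp⟩
  | succ m ih =>
    obtain ⟨w, hw⟩ := ih
    refine ⟨w + m • 1 + w * z, ?_⟩
    rw [pow_succ, hw, succ_nsmul]
    simp only [nsmul_eq_mul, mul_one]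
    have : (m : A) * z * z = z * z * m := by
      rw [mul_assoc, (Nat.cast_commute m (z * z)).eq]
    noncomm_ring [this]

theorem one_add_pow_prime_pow {A : Type*} [Ring A] (p : ℕ) (y : A) (j : ℕ) :
    ∃ w, (1 + p • y) ^ (p ^ j) = 1 + p ^ (j + 1) • w := by
  induction j with
  | zero => exact ⟨y, by simp⟩
  | succ j ih =>
    obtain ⟨w, hw⟩ := ih
    obtain ⟨v, hv⟩ := one_add_pow_eq_aux (p ^ (j + 1) • w) p
    refine ⟨w + p ^ j • (w * w * v), ?_⟩
    rw [pow_succ p j, pow_mul, hw, hv]
    simp only [smul_mul_assoc, mul_smul_comm, smul_smul, smul_add, add_assoc]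
    congr 3
    · ring
    · ring

variable {n : Type*} [Fintype n] [DecidableEq n] {p : ℕ} [Fact p.Prime]

theorem zmod_castHom_isUnit (k : ℕ) (x : ZMod (p ^ (k + 1)))
    (hx : ZMod.castHom (dvd_pow_self p k.succ_ne_zero) (ZMod p) x ≠ 0) : IsUnit x := by
  have hp : p.Prime := Fact.out
  obtain ⟨a, rfl⟩ := ZMod.natCast_zmod_surjective x
  rw [map_natCast, Ne, ZMod.natCast_eq_zero_iff] at hx
  rw [ZMod.isUnit_iff_coprime]
  exact Nat.Coprime.pow_right _ ((Nat.Prime.coprime_iff_not_dvd hp).mpr hx).symm

theorem zmod_castHom_eq_zero (k : ℕ) (x : ZMod (p ^ (k + 1)))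
    (hx : ZMod.castHom (dvd_pow_self p k.succ_ne_zero) (ZMod p) x = 0) : ∃ y, x = p • y := by
  have hp : p.Prime := Fact.out
  obtain ⟨a, rfl⟩ := ZMod.natCast_zmod_surjective x
  rw [map_natCast, ZMod.natCast_eq_zero_iff] at hx
  obtain ⟨c, rfl⟩ := hx
  exact ⟨c, by simp⟩

/-- A matrix representation over `ZMod p` of a finite group of order prime to `p` lifts to
`ZMod (p ^ (k + 1))`. -/
theorem exists_lift_zmod_pow {G : Type*} [Group G] [Finite G] (hG : (Nat.card G).Coprime p)
    (ρ : G →* Matrix n n (ZMod p)) (k : ℕ) :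
    ∃ ρ' : G →* Matrix n n (ZMod (p ^ (k + 1))), ∀ g,
      (ρ' g).map (ZMod.castHom (dvd_pow_self p k.succ_ne_zero) (ZMod p)) = ρ g := by
  classical
  have hp : p.Prime := Fact.out
  set f := ZMod.castHom (dvd_pow_self p k.succ_ne_zero) (ZMod p) with hf
  let R := ZMod (p ^ (k + 1))
  let π : (Matrix n n R)ˣ →* Matrix n n (ZMod p) :=
    (f.mapMatrix : Matrix n n R →+* Matrix n n (ZMod p)).toMonoidHom.comp (Units.coeHom _)
  let P : Subgroup (G × (Matrix n n R)ˣ) :=
    MonoidHom.eqLocus (ρ.toHomUnits.comp (MonoidHom.fst _ _))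
      (π.toHomUnits.comp (MonoidHom.snd _ _))
  have hP : ∀ x : G × (Matrix n n R)ˣ, x ∈ P ↔ (x.2 : Matrix n n R).map f = ρ x.1 := by
    intro x
    change ρ.toHomUnits x.1 = π.toHomUnits x.2 ↔ _
    rw [Units.ext_iff, eq_comm]
    rfl
  let φ : P →* G := (MonoidHom.fst _ _).comp P.subtype
  have hφ : Function.Surjective φ := by
    intro g
    obtain ⟨s, hs⟩ : ∃ s : ZMod p → R, ∀ x, f (s x) = x := by
      choose s hs using ZMod.castHom_surjective (dvd_pow_self p k.succ_ne_zero)
      exact ⟨s, hs⟩
    have h1 : ((ρ g).map s).map f = ρ g := by ext i j; simp [hs]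
    have h2 : IsUnit ((ρ g).map s) := by
      rw [Matrix.isUnit_iff_isUnit_det]
      apply zmod_castHom_isUnit
      rw [RingHom.map_det]
      change (((ρ g).map s).map f).det ≠ 0
      rw [h1]
      exact ((Matrix.isUnit_iff_isUnit_det _).mp ((Group.isUnit g).map ρ)).ne_zero
    exact ⟨⟨(g, h2.unit), (hP _).mpr h1⟩, rfl⟩
  have hker : IsPGroup p φ.ker := by
    intro x
    refine ⟨k, ?_⟩
    have h1 : (x : P).1.1 = 1 := x.2
    have h2 := (hP _).mp (x : P).2
    rw [h1, map_one] at h2
    have h3 : ∀ i j, ∃ y, ((x : P).1.2 : Matrix n n R) i j - (1 : Matrix n n R) i j = p • y := by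
      intro i j
      apply zmod_castHom_eq_zero
      rw [map_sub]
      have := congrFun (congrFun h2 i) j
      rw [Matrix.map_apply] at this
      rw [← hf, this, Matrix.one_apply, Matrix.one_apply]
      split_ifs <;> simp
    choose y hy using h3
    have h4 : ((x : P).1.2 : Matrix n n R) = 1 + p • Matrix.of y := by
      ext i j
      rw [Matrix.add_apply, Matrix.smul_apply, Matrix.of_apply, ← hy]; abel
    obtain ⟨w, hw⟩ := one_add_pow_prime_pow p (Matrix.of y) k
    have h5 : (p ^ (k + 1)) • w = 0 := by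
      ext i j
      rw [Matrix.smul_apply, nsmul_eq_mul, ZMod.natCast_self, zero_mul, Matrix.zero_apply]
    apply Subtype.ext
    apply Subtype.ext
    apply Prod.ext
    · simp [h1]
    · apply Units.ext
      simp only [SubgroupClass.coe_pow, Prod.pow_snd, Units.val_pow_eq_pow_val, OneMemClass.coe_one,
        Prod.snd_one, Units.val_one]
      rw [h4, hw, h5, add_zero]
  have hfin : Finite R := by
    have : NeZero (p ^ (k + 1)) := ⟨pow_ne_zero _ hp.ne_zero⟩
    infer_instance
  have hidx : φ.ker.index = Nat.card G := by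
    rw [Subgroup.index_ker, MonoidHom.range_eq_top.mpr hφ, Subgroup.card_top]
  have hcop : (Nat.card φ.ker).Coprime φ.ker.index := by
    obtain ⟨m, hm⟩ := hker.exists_card_eq
    rw [hm, hidx]
    exact Nat.Coprime.pow_left _ hG.symm
  obtain ⟨K, hK⟩ := Subgroup.exists_right_complement'_of_coprime hcop
  let ψ : K →* G := φ.comp K.subtype
  have hψ : Function.Bijective ψ := by
    constructor
    · rw [injective_iff_map_eq_one]
      intro x hx
      have : (x : P) ∈ φ.ker ⊓ K := ⟨hx, x.2⟩
      rw [hK.disjoint.eq_bot] at this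
      exact Subtype.ext this
    · intro g
      obtain ⟨x, rfl⟩ := hφ g
      obtain ⟨⟨a, b⟩, rfl⟩ := hK.2 x
      refine ⟨b, ?_⟩
      have ha : φ a = 1 := a.2
      simp only [map_mul, ha, one_mul]
      rfl
  let e := MulEquiv.ofBijective ψ hψ
  refine ⟨(Units.coeHom _).comp ((MonoidHom.snd _ _).comp (P.subtype.comp
    (K.subtype.comp e.symm.toMonoidHom))), fun g => ?_⟩
  have h1 := (hP _).mp ((e.symm g : K) : P).2
  have h2 : (((e.symm g : K) : P) : G × (Matrix n n R)ˣ).1 = g := e.apply_symm_apply g
  rw [h2] at h1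
  exact h1

end Lift

end CL.PF
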