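import Cfsg.Agent.Base
import Cfsg.Agent.PF.WielandtLift
import Cfsg.Agent.Solv.Coprime

/-! Wielandt's fixed point formula for coprime action on a solvable group, and its special case for
Frobenius groups (Peterfalvi (9.1)). -/

set_option autoImplicit false

namespace CL.PF

open Matrix Subgroup
open scoped Pointwise

section Linear

variable {p : ℕ} [Fact p.Prime] {G : Type*} [Group G] [Finite G]

omit [Finite G] in
/-- The sum over a subgroup `B` of the traces of a lifted representation is `|B|` times the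
dimension of the space fixed by `B`. -/
theorem sum_trace_lift_eq {n : Type*} [Fintype n] [DecidableEq n] (hG : (Nat.card G).Coprime p)
    (ρ : G →* Matrix n n (ZMod p)) (k : ℕ) (ρ' : G →* Matrix n n (ZMod (p ^ (k + 1))))
    (hρ : ∀ g, (ρ' g).map (ZMod.castHom (dvd_pow_self p k.succ_ne_zero) (ZMod p)) = ρ g)
    (B : Subgroup G) [Fintype B] (W : Submodule (ZMod p) (n → ZMod p))
    (hW : ∀ v, v ∈ W ↔ ∀ a ∈ B, ρ a *ᵥ v = v) :
    ∑ a : B, (ρ' a).trace =
      ((Nat.card B * Module.finrank (ZMod p) W : ℕ) : ZMod (p ^ (k + 1))) := by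
  have hp : p.Prime := Fact.out
  set f := ZMod.castHom (dvd_pow_self p k.succ_ne_zero) (ZMod p) with hf
  have hB : (Nat.card B).Coprime p := Nat.Coprime.coprime_dvd_left (card_subgroup_dvd_card B) hG
  have hu : IsUnit ((Nat.card B : ℕ) : ZMod (p ^ (k + 1))) :=
    (ZMod.isUnit_iff_coprime _ _).mpr (Nat.Coprime.pow_right _ hB)
  obtain ⟨c, hc⟩ := hu.exists_left_inv
  set S := ∑ a : B, ρ' a with hS
  have hmul : ∀ b : B, ρ' b * S = S := by
    intro b
    rw [hS, Finset.mul_sum]
    exact Fintype.sum_equiv (Equiv.mulLeft b) _ _ fun a => by simp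
  have hSS : S * S = (Nat.card B) • S := by
    conv_lhs => rw [hS, Finset.sum_mul]
    rw [← hS, Finset.sum_congr rfl fun b _ => hmul b, Finset.sum_const, Finset.card_univ,
      Nat.card_eq_fintype_card]
  have he : (c • S) * (c • S) = c • S := by
    rw [smul_mul_smul_comm, hSS, ← Nat.cast_smul_eq_nsmul (ZMod (p ^ (k + 1))), smul_smul,
      mul_assoc, hc, mul_one]
  have ht := trace_idem_eq_rank f (ZMod.castHom_surjective _) (zmod_castHom_isUnit k) _ he
  have hfc : f c * (Nat.card B : ZMod p) = 1 := by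
    have := congrArg f hc
    rwa [map_mul, map_natCast, map_one] at this
  have hmap : (c • S).map f = f c • ∑ a : B, ρ a := by
    ext i j
    simp only [Matrix.map_apply, Matrix.smul_apply, smul_eq_mul, map_mul, hS, Matrix.sum_apply,
      map_sum]
    congr 1
    exact Finset.sum_congr rfl fun a _ => by rw [← hρ]; rfl
  have hrange : LinearMap.range (Matrix.toLin' ((c • S).map f)) = W := by
    ext v
    rw [hW, hmap]
    constructor
    · rintro ⟨w, rfl⟩ b hb
      rw [Matrix.toLin'_apply, Matrix.mulVec_mulVec, Matrix.mul_smul, Finset.mul_sum]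
      congr 2
      exact Fintype.sum_equiv (Equiv.mulLeft (⟨b, hb⟩ : B)) _ _ fun a => by simp
    · intro hv
      refine ⟨v, ?_⟩
      rw [Matrix.toLin'_apply, Matrix.smul_mulVec, Matrix.sum_mulVec,
        Finset.sum_congr rfl fun (a : B) _ => hv a a.2, Finset.sum_const, Finset.card_univ,
        ← Nat.card_eq_fintype_card, ← Nat.cast_smul_eq_nsmul (ZMod p), smul_smul, hfc, one_smul]
  rw [hrange, Matrix.trace_smul, hS, Matrix.trace_sum] at ht
  push_cast
  rw [← ht, smul_eq_mul, ← mul_assoc, mul_comm _ c, hc, one_mul]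

open Classical in
/-- Wielandt's formula for a matrix representation over `ZMod p`, in terms of dimensions. -/
theorem wielandt_matrix {n : Type*} [Fintype n] [DecidableEq n] (hG : (Nat.card G).Coprime p)
    (ρ : G →* Matrix n n (ZMod p)) {ι : Type*} [Fintype ι] (B : ι → Subgroup G) (m m' : ι → ℕ)
    (h : ∀ g : G, ∑ i with g ∈ B i, m i = ∑ i with g ∈ B i, m' i)
    (W : ι → Submodule (ZMod p) (n → ZMod p))
    (hW : ∀ i v, v ∈ W i ↔ ∀ a ∈ B i, ρ a *ᵥ v = v) :
    ∑ i, m i * Nat.card (B i) * Module.finrank (ZMod p) (W i) =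
      ∑ i, m' i * Nat.card (B i) * Module.finrank (ZMod p) (W i) := by
  have hp : p.Prime := Fact.out
  have := Fintype.ofFinite G
  have key : ∀ k : ℕ, (∑ i, m i * Nat.card (B i) * Module.finrank (ZMod p) (W i)) ≡
      (∑ i, m' i * Nat.card (B i) * Module.finrank (ZMod p) (W i)) [MOD p ^ (k + 1)] := by
    intro k
    obtain ⟨ρ', hρ⟩ := exists_lift_zmod_pow hG ρ k
    have h1 : ∀ r : ι → ℕ, ((∑ i, r i * Nat.card (B i) * Module.finrank (ZMod p) (W i) : ℕ) :
        ZMod (p ^ (k + 1))) = ∑ g : G, ((∑ i with g ∈ B i, r i : ℕ) : ZMod (p ^ (k + 1))) *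
          (ρ' g).trace := by
      intro r
      simp only [Nat.cast_sum, Finset.sum_filter, Finset.sum_mul]
      rw [Finset.sum_comm]
      refine Finset.sum_congr rfl fun i _ => ?_
      rw [mul_assoc, Nat.cast_mul, ← sum_trace_lift_eq hG ρ k ρ' hρ (B i) (W i) (hW i),
        Finset.mul_sum]
      rw [← Finset.sum_subtype (Finset.univ.filter (· ∈ B i)) (p := (· ∈ B i)) (by simp)
        (fun g => (r i : ZMod (p ^ (k + 1))) * (ρ' g).trace), Finset.sum_filter]
      refine Finset.sum_congr rfl fun g _ => ?_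
      split_ifs <;> simp
    rw [← ZMod.natCast_eq_natCast_iff, h1, h1]
    simp only [h]
  set a := ∑ i, m i * Nat.card (B i) * Module.finrank (ZMod p) (W i)
  set b := ∑ i, m' i * Nat.card (B i) * Module.finrank (ZMod p) (W i)
  have h2 : ∀ x : ℕ, x ≤ a + b → x < p ^ (a + b + 1) := fun x hx =>
    lt_of_le_of_lt hx ((Nat.lt_succ_self _).trans (Nat.lt_pow_self hp.one_lt))
  exact Nat.ModEq.eq_of_lt_of_lt (key (a + b)) (h2 a (by omega)) (h2 b (by omega))

open Classical in
/-- Wielandt's formula for a finite `ZMod p`-module. -/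
theorem wielandt_module (hG : (Nat.card G).Coprime p) {V : Type*} [AddCommGroup V] [Finite V]
    [Module (ZMod p) V] (ψ : G →* Module.End (ZMod p) V)
    {ι : Type*} [Fintype ι] (B : ι → Subgroup G) (m m' : ι → ℕ)
    (h : ∀ g : G, ∑ i with g ∈ B i, m i = ∑ i with g ∈ B i, m' i) :
    ∏ i, Nat.card {q : V // ∀ a ∈ B i, ψ a q = q} ^ (m i * Nat.card (B i)) =
      ∏ i, Nat.card {q : V // ∀ a ∈ B i, ψ a q = q} ^ (m' i * Nat.card (B i)) := by
  have hp : p.Prime := Fact.out
  let b := Module.finBasis (ZMod p) V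
  let ρ : G →* Matrix _ _ (ZMod p) := (LinearMap.toMatrixAlgEquiv b).toMonoidHom.comp ψ
  have hρ : ∀ g (x : V), ρ g *ᵥ b.repr x = b.repr (ψ g x) := fun g x =>
    LinearMap.toMatrix_mulVec_repr b b (ψ g) x
  let W : ι → Submodule (ZMod p) (Fin (Module.finrank (ZMod p) V) → ZMod p) :=
    fun i => ⨅ a ∈ B i, LinearMap.eqLocus (Matrix.toLin' (ρ a)) LinearMap.id
  have hW : ∀ i v, v ∈ W i ↔ ∀ a ∈ B i, ρ a *ᵥ v = v := by
    intro i v
    simp [W, Submodule.mem_iInf, LinearMap.mem_eqLocus]
  have hcard : ∀ i, Nat.card {q : V // ∀ a ∈ B i, ψ a q = q} =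
      p ^ Module.finrank (ZMod p) (W i) := by
    intro i
    have h1 := Module.natCard_eq_pow_finrank (K := ZMod p) (V := W i)
    rw [Nat.card_zmod] at h1
    rw [← h1]
    refine Nat.card_congr (b.equivFun.toEquiv.subtypeEquiv fun q => ?_)
    rw [hW]
    refine forall₂_congr fun a _ => ?_
    change _ ↔ ρ a *ᵥ b.repr q = b.repr q
    rw [hρ, DFunLike.coe_fn_eq, b.repr.injective.eq_iff]
  have := wielandt_matrix hG ρ B m m' h W hW
  simp only [hcard, ← pow_mul, Finset.prod_pow_eq_pow_sum]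
  congr 1
  simp only [mul_comm (Module.finrank _ _)]
  exact this

open Classical in
theorem wielandt_elem_aux (hG : (Nat.card G).Coprime p) {Q : Type*} [CommGroup Q] [Finite Q]
    [Module (ZMod p) (Additive Q)] (φ : G →* Monoid.End Q)
    {ι : Type*} [Fintype ι] (B : ι → Subgroup G) (m m' : ι → ℕ)
    (h : ∀ g : G, ∑ i with g ∈ B i, m i = ∑ i with g ∈ B i, m' i) :
    ∏ i, Nat.card {q : Q // ∀ a ∈ B i, φ a q = q} ^ (m i * Nat.card (B i)) =
      ∏ i, Nat.card {q : Q // ∀ a ∈ B i, φ a q = q} ^ (m' i * Nat.card (B i)) := by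
  have hψ : ∀ g : G, ∃ f : Module.End (ZMod p) (Additive Q),
      ∀ x : Q, f (Additive.ofMul x) = Additive.ofMul (φ g x) := fun g =>
    ⟨(MonoidHom.toAdditive (φ g : Q →* Q)).toZModLinearMap p, fun x => by
      rw [AddMonoidHom.coe_toZModLinearMap]; rfl⟩
  choose f hf using hψ
  let ψ : G →* Module.End (ZMod p) (Additive Q) :=
    { toFun := f
      map_one' := by
        refine LinearMap.ext fun x => ?_
        rw [← ofMul_toMul x, hf, map_one]; rfl
      map_mul' := fun g g' => by
        refine LinearMap.ext fun x => ?_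
        rw [← ofMul_toMul x, Module.End.mul_apply, hf, hf, hf, map_mul]; rfl }
  have key := wielandt_module hG ψ B m m' h
  have hc : ∀ i, Nat.card {q : Q // ∀ a ∈ B i, φ a q = q} =
      Nat.card {q : Additive Q // ∀ a ∈ B i, ψ a q = q} := fun i =>
    Nat.card_congr (Additive.ofMul.subtypeEquiv fun q => forall₂_congr fun a _ => by
      change _ ↔ f a (Additive.ofMul q) = _
      rw [hf, Additive.ofMul.injective.eq_iff])
  simp only [hc]
  exact key

open Classical in
/-- Wielandt's formula for an action on an elementary abelian `p`-group. -/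
theorem wielandt_elem (hG : (Nat.card G).Coprime p) {Q : Type*} [Group Q] [Finite Q]
    (hcomm : ∀ x y : Q, x * y = y * x) (hexp : ∀ x : Q, x ^ p = 1) (φ : G →* Monoid.End Q)
    {ι : Type*} [Fintype ι] (B : ι → Subgroup G) (m m' : ι → ℕ)
    (h : ∀ g : G, ∑ i with g ∈ B i, m i = ∑ i with g ∈ B i, m' i) :
    ∏ i, Nat.card {q : Q // ∀ a ∈ B i, φ a q = q} ^ (m i * Nat.card (B i)) =
      ∏ i, Nat.card {q : Q // ∀ a ∈ B i, φ a q = q} ^ (m' i * Nat.card (B i)) := by
  have hp : p.Prime := Fact.out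
  let i1 : CommGroup Q := { (inferInstance : Group Q) with mul_comm := hcomm }
  exact @wielandt_elem_aux p _ G _ _ hG Q i1 _ (AddCommGroup.zmodModule (fun x =>
    congrArg Additive.ofMul (hexp x.toMul))) φ ι _ B m m' h

end Linear

section Solvable

variable {X : Type*} [Group X] [Finite X]

/-- One step of the induction: a nontrivial solvable group `H` has a proper subgroup `N`,
normalised by everything that normalises `H`, with `H / N` elementary abelian. -/
theorem exists_char_elem_quotient (H : Type*) [Group H] [Finite H] (hs : Group.IsSolvable H)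
    [Nontrivial H] : ∃ (p : ℕ) (N : Subgroup H), p.Prime ∧ p ∣ Nat.card H ∧ N ≠ ⊤ ∧
      commutator H ≤ N ∧ (∀ x : H, x ^ p ∈ N) ∧ ∀ σ : H →* H, ∀ x ∈ N, σ x ∈ N := by
  have h1 : commutator H < ⊤ := Group.IsSolvable.commutator_lt_top_of_nontrivial H
  have h2 : Nat.card (Abelianization H) ≠ 1 := by
    intro h
    have : (commutator H).index = 1 := h
    exact h1.ne (Subgroup.index_eq_one.mp this)
  obtain ⟨p, hp, hpd⟩ := Nat.exists_prime_and_dvd h2
  have hd : p ∣ Nat.card H := hpd.trans (Subgroup.index_dvd_card (commutator H))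
  refine ⟨p, ((powMonoidHom p : Abelianization H →* Abelianization H).range).comap
    Abelianization.of, hp, hd, ?_, ?_, ?_, ?_⟩
  · intro htop
    have hsurj : Function.Surjective (powMonoidHom p : Abelianization H →* Abelianization H) := by
      intro z
      obtain ⟨x, rfl⟩ : ∃ x : H, Abelianization.of x = z := QuotientGroup.mk_surjective z
      have : x ∈ (⊤ : Subgroup H) := trivial
      rw [← htop] at this
      exact this
    have hinj := Finite.injective_iff_surjective.mpr hsurj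
    have := Fact.mk hp
    obtain ⟨z, hz⟩ := exists_prime_orderOf_dvd_card' p hpd
    have h3 : z = 1 := hinj (by simp [← hz])
    rw [h3, orderOf_one] at hz
    exact hp.one_lt.ne hz
  · intro x hx
    have : Abelianization.of x = 1 := by
      rw [← MonoidHom.mem_ker, Abelianization.ker_of]; exact hx
    rw [Subgroup.mem_comap, this]
    exact Subgroup.one_mem _
  · intro x
    exact ⟨Abelianization.of x, by simp⟩
  · rintro σ x ⟨z, hz⟩
    refine ⟨Abelianization.map σ z, ?_⟩
    rw [powMonoidHom_apply] at hz ⊢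
    rw [← map_pow, hz, Abelianization.map_of]

open Classical in
/-- **Wielandt's fixed point formula**. -/
theorem wielandt_fixpoint {A : Subgroup X} (H : Subgroup X) (hAH : A ≤ normalizer (H : Set X))
    (hcop : (Nat.card A).Coprime (Nat.card H)) (hs : Group.IsSolvable H)
    {ι : Type*} [Fintype ι] (B : ι → Subgroup X) (hB : ∀ i, B i ≤ A) (m m' : ι → ℕ)
    (h : ∀ g ∈ A, ∑ i with g ∈ B i, m i = ∑ i with g ∈ B i, m' i) :
    ∏ i, Nat.card ↥(H ⊓ centralizer (B i : Set X)) ^ (m i * Nat.card (B i)) =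
      ∏ i, Nat.card ↥(H ⊓ centralizer (B i : Set X)) ^ (m' i * Nat.card (B i)) := by
  induction H using WellFoundedLT.induction with
  | ind H ih =>
  rcases eq_or_ne H ⊥ with rfl | hH
  · simp
  have : Nontrivial H := (Subgroup.nontrivial_iff_ne_bot H).mpr hH
  obtain ⟨p, N', hp, hpd, hN'top, hcomm, hpow, hinv⟩ := exists_char_elem_quotient H hs
  have := Fact.mk hp
  have hN'n : N'.Normal := ⟨fun x hx g => hinv (MulAut.conj g).toMonoidHom x hx⟩
  set N := N'.map H.subtype with hN
  have hNH : N ≤ H := map_subtype_le N'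
  have hmemN : ∀ x : H, (x : X) ∈ N ↔ x ∈ N' := fun x =>
    ⟨fun ⟨y, hy, hxy⟩ => (Subtype.ext hxy : y = x) ▸ hy, fun hx => ⟨x, hx, rfl⟩⟩
  have hNlt : N < H := by
    refine lt_of_le_of_ne hNH fun heq => hN'top ?_
    rw [eq_top_iff]
    intro x _
    rw [← hmemN, heq]; exact x.2
  let ψ : A →* MulAut H := H.normalizerMonoidHom.comp (inclusion hAH)
  have hψ : ∀ (a : A) (x : H), ((ψ a x : H) : X) = a * x * (a : X)⁻¹ := fun _ _ => rfl
  have hAN : A ≤ normalizer (N : Set X) := by
    intro a ha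
    rw [mem_normalizer_iff]
    intro x
    constructor
    · rintro ⟨y, hy, rfl⟩
      exact ⟨ψ ⟨a, ha⟩ y, hinv (ψ ⟨a, ha⟩).toMonoidHom y hy, rfl⟩
    · rintro ⟨y, hy, hxy⟩
      refine ⟨ψ ⟨a, ha⟩⁻¹ y, hinv (ψ ⟨a, ha⟩⁻¹).toMonoidHom y hy, ?_⟩
      have h1 : (y : X) = a * x * a⁻¹ := hxy
      change ((ψ ⟨a, ha⟩⁻¹ y : H) : X) = x
      rw [hψ, h1]; simp [mul_assoc]
  have hcopN : (Nat.card A).Coprime (Nat.card N) := coprime_card_of_le le_rfl hNH hcop
  have hsN : Group.IsSolvable N := isSolvable_of_le hNH hs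
  have IH := ih N hNlt hAN hcopN hsN
  let φ : A →* Monoid.End (H ⧸ N') :=
    { toFun := fun a => QuotientGroup.map N' N' (ψ a).toMonoidHom
        (fun x hx => hinv (ψ a).toMonoidHom x hx)
      map_one' := by
        apply QuotientGroup.monoidHom_ext
        ext x
        simp only [map_one]
        rfl
      map_mul' := fun a b => by
        apply QuotientGroup.monoidHom_ext
        ext x
        simp only [map_mul]
        rfl }
  have hφ : ∀ (a : A) (x : H), φ a (x : H ⧸ N') = (ψ a x : H) := fun _ _ => rfl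
  have hQ := wielandt_elem (p := p) (G := A) (Nat.Coprime.coprime_dvd_right hpd hcop)
    (Q := H ⧸ N') (by
      intro x y
      obtain ⟨x, rfl⟩ := QuotientGroup.mk_surjective x
      obtain ⟨y, rfl⟩ := QuotientGroup.mk_surjective y
      rw [← QuotientGroup.mk_mul, ← QuotientGroup.mk_mul, QuotientGroup.eq]
      apply hcomm
      have := Subgroup.commutator_mem_commutator (mem_top y⁻¹) (mem_top x⁻¹)
      rw [_root_.commutator_def]
      simpa [commutatorElement_def, mul_assoc] using this) (by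
      intro x
      obtain ⟨x, rfl⟩ := QuotientGroup.mk_surjective x
      rw [← QuotientGroup.mk_pow, QuotientGroup.eq_one_iff]
      exact hpow x) φ (fun i => (B i).subgroupOf A) m m' (fun g => h g g.2)
  have hcard : ∀ i, Nat.card ↥(H ⊓ centralizer (B i : Set X)) =
      Nat.card ↥(N ⊓ centralizer (B i : Set X)) *
        Nat.card {q : H ⧸ N' // ∀ a ∈ (B i).subgroupOf A, φ a q = q} := by
    intro i
    let g : ↥(H ⊓ centralizer (B i : Set X)) →* H ⧸ N' :=
      (QuotientGroup.mk' N').comp (inclusion inf_le_left)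
    rw [← g.ker.card_mul_index, index_ker]
    congr 1
    · refine Nat.card_congr
        { toFun := fun x => ⟨x.1.1, (hmemN ⟨x.1.1, x.1.2.1⟩).mpr
            ((QuotientGroup.eq_one_iff _).mp x.2), x.1.2.2⟩
          invFun := fun x => ⟨⟨x.1, hNH x.2.1, x.2.2⟩,
            (QuotientGroup.eq_one_iff _).mpr ((hmemN ⟨x.1, hNH x.2.1⟩).mp x.2.1)⟩
          left_inv := fun _ => rfl
          right_inv := fun _ => rfl }
    · refine Nat.card_congr (Equiv.subtypeEquivRight fun q => ?_)
      constructor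
      · rintro ⟨x, rfl⟩ a ha
        change φ a ((inclusion inf_le_left x : H) : H ⧸ N') = ((inclusion inf_le_left x : H) : _)
        rw [hφ]
        congr 1
        apply Subtype.ext
        rw [hψ]
        have := x.2.2 a ha
        change (a : X) * x * (a : X)⁻¹ = x
        rw [this]; simp
      · intro hq
        obtain ⟨x, rfl⟩ := QuotientGroup.mk_surjective q
        obtain ⟨n, hn, hc⟩ := exists_centralizer_of_left_coset (A := B i) (N := N)
          ((hB i).trans hAN) (coprime_card_of_le (hB i) le_rfl hcopN) (Or.inr hsN) (k := x) (by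
            intro a ha
            have := hq ⟨a, hB i ha⟩ ha
            rw [hφ, eq_comm, QuotientGroup.eq, ← hmemN] at this
            exact this)
        refine ⟨⟨x * n, H.mul_mem x.2 (hNH hn), hc⟩, ?_⟩
        change ((x * ⟨n, hNH hn⟩ : H) : H ⧸ N') = x
        exact QuotientGroup.mk_mul_of_mem _ ((hmemN ⟨n, hNH hn⟩).mp hn)
  simp only [card_subgroupOf_of_le (hB _)] at hQ
  simp only [hcard, mul_pow, Finset.prod_mul_distrib]
  rw [IH, hQ]

/-- The elements of a Frobenius group `U E` outside the kernel lie in exactly one `U`-conjugate of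
the complement. -/
theorem frobenius_existsUnique_conj {U E : Subgroup X} (hUE : U ⊓ E = ⊥)
    (hUn : ∀ e ∈ E, ∀ u ∈ U, e * u * e⁻¹ ∈ U)
    (hfpf : ∀ e ∈ E, e ≠ 1 → ∀ u ∈ U, e * u = u * e → u = 1) {g : X} (hg : g ∈ U ⊔ E)
    (hgU : g ∉ U) : ∃! u : U, (u : X)⁻¹ * g * u ∈ E := by
  have hEU : E ≤ normalizer (U : Set X) := fun e he => mem_normalizer_fintype (hUn e he)
  obtain ⟨v, hv, e, he, rfl⟩ : ∃ v ∈ U, ∃ e ∈ E, v * e = g := by
    have : g ∈ ((U ⊔ E : Subgroup X) : Set X) := hg
    rw [coe_mul_of_right_le_normalizer_left U E hEU] at this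
    exact this
  have he1 : e ≠ 1 := by
    rintro rfl
    exact hgU (by simpa using hv)
  let c : U → U := fun u => ⟨u * (e * (u : X)⁻¹ * e⁻¹), U.mul_mem u.2 (hUn e he _ (U.inv_mem u.2))⟩
  have hc : Function.Injective c := by
    intro a b hab
    have h1 : (a : X) * (e * (a : X)⁻¹ * e⁻¹) = b * (e * (b : X)⁻¹ * e⁻¹) := congrArg Subtype.val hab
    have h2 := hfpf e he he1 ((b : X)⁻¹ * a) (U.mul_mem (U.inv_mem b.2) a.2) (by
      calc e * ((b : X)⁻¹ * a) = (b : X)⁻¹ * (b * (e * (b : X)⁻¹ * e⁻¹)) * e * a := by group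
        _ = (b : X)⁻¹ * (a * (e * (a : X)⁻¹ * e⁻¹)) * e * a := by rw [h1]
        _ = _ := by group)
    exact Subtype.ext (inv_mul_eq_one.mp h2).symm
  obtain ⟨u, hu⟩ := Finite.injective_iff_surjective.mp hc ⟨v, hv⟩
  have hu' : (u : X) * (e * (u : X)⁻¹ * e⁻¹) = v := congrArg Subtype.val hu
  have hue : (u : X)⁻¹ * (v * e) * u = e := by rw [← hu']; group
  refine ⟨u, by simp only [hue]; exact he, fun w hw => ?_⟩
  apply hc
  rw [hu]
  apply Subtype.ext
  have h3 : (w : X)⁻¹ * (v * e) * w * e⁻¹ ∈ U ⊓ E := by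
    refine ⟨?_, E.mul_mem hw (E.inv_mem he)⟩
    have := U.mul_mem (U.mul_mem (U.inv_mem w.2) hv) (hUn e he _ w.2)
    simpa [mul_assoc] using this
  rw [hUE, mem_bot] at h3
  change (w : X) * (e * (w : X)⁻¹ * e⁻¹) = v
  calc (w : X) * (e * (w : X)⁻¹ * e⁻¹)
      = w * ((w : X)⁻¹ * (v * e) * w * e⁻¹) * (e * (w : X)⁻¹ * e⁻¹) := by rw [h3, mul_one]
    _ = v := by group

omit [Finite X] in
theorem card_sup_of_inf_eq_bot {U E : Subgroup X} (hUE : U ⊓ E = ⊥)
    (hEU : E ≤ normalizer (U : Set X)) : Nat.card ↥(U ⊔ E) = Nat.card U * Nat.card E := by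
  rw [← Nat.card_prod]
  symm
  refine Nat.card_congr (Equiv.ofBijective (fun x : U × E =>
    (⟨x.1 * x.2, mul_mem (mem_sup_left x.1.2) (mem_sup_right x.2.2)⟩ : ↥(U ⊔ E))) ⟨?_, ?_⟩)
  · rintro ⟨a, b⟩ ⟨c, d⟩ h
    have h1 : (a : X) * b = c * d := congrArg Subtype.val h
    have h2 : (c : X)⁻¹ * a ∈ U ⊓ E := by
      refine ⟨U.mul_mem (U.inv_mem c.2) a.2, ?_⟩
      have : (c : X)⁻¹ * a = d * (b : X)⁻¹ := by
        calc (c : X)⁻¹ * a = (c : X)⁻¹ * (a * b) * (b : X)⁻¹ := by group
          _ = _ := by rw [h1]; group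
      rw [this]; exact E.mul_mem d.2 (E.inv_mem b.2)
    rw [hUE, mem_bot, inv_mul_eq_one] at h2
    have h3 : (b : X) = d := by rw [h2] at h1; exact mul_left_cancel h1
    exact Prod.ext (Subtype.ext h2.symm) (Subtype.ext h3)
  · rintro ⟨g, hg⟩
    have : g ∈ ((U ⊔ E : Subgroup X) : Set X) := hg
    rw [coe_mul_of_right_le_normalizer_left U E hEU] at this
    obtain ⟨v, hv, e, he, rfl⟩ := this
    exact ⟨(⟨v, hv⟩, ⟨e, he⟩), rfl⟩

/-- **Peterfalvi (9.1)**: the fixed point formula for a Frobenius group `U E` acting coprimely on a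
solvable group `H`. -/
theorem frobenius_wielandt {U E H : Subgroup X} (hUE : U ⊓ E = ⊥)
    (hUn : ∀ e ∈ E, ∀ u ∈ U, e * u * e⁻¹ ∈ U)
    (hfpf : ∀ e ∈ E, e ≠ 1 → ∀ u ∈ U, e * u = u * e → u = 1)
    (hHn : U ⊔ E ≤ normalizer (H : Set X)) (hsolv : Group.IsSolvable H)
    (hcop : (Nat.card ↥(U ⊔ E)).Coprime (Nat.card H)) :
    Nat.card ↥(H ⊓ centralizer ((U ⊔ E : Subgroup X) : Set X)) ^ Nat.card E * Nat.card H =
      Nat.card ↥(H ⊓ centralizer (E : Set X)) ^ Nat.card E *
        Nat.card ↥(H ⊓ centralizer (U : Set X)) := by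
  classical
  have := Fintype.ofFinite U
  have hEU : E ≤ normalizer (U : Set X) := fun e he => mem_normalizer_fintype (hUn e he)
  let B : Fin 3 ⊕ U → Subgroup X := Sum.elim ![U ⊔ E, ⊥, U] fun u => MulAut.conj (u : X) • E
  let m : Fin 3 ⊕ U → ℕ := Sum.elim ![1, Nat.card U, 0] fun _ => 0
  let m' : Fin 3 ⊕ U → ℕ := Sum.elim ![0, 0, 1] fun _ => 1
  have hB : ∀ i, B i ≤ U ⊔ E := by
    rintro (i | u)
    · fin_cases i <;> simp [B]
    · intro x hx
      have h1 : (u : X)⁻¹ * x * u ∈ E := mem_conj_smul_iff.mp hx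
      have h2 := mul_mem (mul_mem (mem_sup_left u.2 : (u : X) ∈ U ⊔ E) (mem_sup_right h1))
        (inv_mem (mem_sup_left u.2))
      simpa [mul_assoc] using h2
  have key := wielandt_fixpoint H hHn hcop hsolv B hB m m' (by
    intro g hg
    simp only [Finset.sum_filter, Fintype.sum_sum_type, Fin.sum_univ_three, B, m, m',
      Sum.elim_inl, Sum.elim_inr, Matrix.cons_val_zero, Matrix.cons_val_one, Matrix.cons_val_two,
      Matrix.tail_cons, Matrix.head_cons, hg, if_true, ite_self, Finset.sum_const_zero, add_zero,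
      zero_add, mem_bot, mem_conj_smul_iff, Finset.sum_boole, Nat.cast_id]
    by_cases hg1 : g = 1
    · subst hg1
      simp [one_mem, Nat.card_eq_fintype_card]
    by_cases hgU : g ∈ U
    · simp only [hg1, hgU, if_true, if_false, add_zero, left_eq_add, Finset.card_eq_zero,
        Finset.filter_eq_empty_iff]
      intro u _ hu
      have : (u : X)⁻¹ * g * u ∈ U ⊓ E := ⟨U.mul_mem (U.mul_mem (U.inv_mem u.2) hgU) u.2, hu⟩
      rw [hUE, mem_bot] at this
      apply hg1
      calc g = u * ((u : X)⁻¹ * g * u) * (u : X)⁻¹ := by group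
        _ = 1 := by rw [this]; simp
    · simp only [hg1, hgU, if_false, add_zero, zero_add]
      obtain ⟨u, hu, hu'⟩ := frobenius_existsUnique_conj hUE hUn hfpf hg hgU
      symm
      rw [Finset.card_eq_one]
      exact ⟨u, Finset.ext fun w => by
        simp only [Finset.mem_filter, Finset.mem_univ, true_and, Finset.mem_singleton]
        exact ⟨hu' w, fun h => h ▸ hu⟩⟩)
  have hconj : ∀ u : U, Nat.card ↥(H ⊓ centralizer ((MulAut.conj (u : X) • E : Subgroup X) : Set X))
      = Nat.card ↥(H ⊓ centralizer (E : Set X)) := by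
    intro u
    have hu : (u : X) ∈ normalizer (H : Set X) := hHn (mem_sup_left u.2)
    refine Nat.card_congr ((MulAut.conj (u : X)⁻¹).toEquiv.subtypeEquiv fun x => ?_)
    change _ ↔ (u : X)⁻¹ * x * (u : X)⁻¹⁻¹ ∈ _
    rw [mem_inf, mem_inf, ← mem_normalizer_iff.mp (inv_mem hu) x, mem_centralizer_iff,
      mem_centralizer_iff]
    refine and_congr_right fun _ => ⟨fun h e he => ?_, fun h e he => ?_⟩
    · have := h (u * e * (u : X)⁻¹) (mem_conj_smul_iff.mpr (by simpa [mul_assoc] using he))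
      calc e * ((u : X)⁻¹ * x * (u : X)⁻¹⁻¹) = (u : X)⁻¹ * (u * e * (u : X)⁻¹ * x) * u := by group
        _ = _ := by rw [this]; group
    · have := h _ (mem_conj_smul_iff.mp he)
      calc e * x = u * ((u : X)⁻¹ * e * u * ((u : X)⁻¹ * x * (u : X)⁻¹⁻¹)) * (u : X)⁻¹ := by group
        _ = _ := by rw [this]; group
  simp only [Fintype.prod_sum_type, Fin.prod_univ_three, B, m, m',
    Sum.elim_inl, Sum.elim_inr, Matrix.cons_val_zero, Matrix.cons_val_one, Matrix.cons_val_two,
    Matrix.tail_cons, Matrix.head_cons, zero_mul, pow_zero, one_mul, mul_one,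
    Finset.prod_const_one, hconj, card_conj_smul, Finset.prod_const, Finset.card_univ,
    card_bot, coe_bot, card_sup_of_inf_eq_bot hUE hEU] at key
  have h1 : H ⊓ centralizer ({1} : Set X) = H := by
    apply inf_eq_left.mpr
    intro x _ y hy
    rw [Set.mem_singleton_iff.mp hy]; simp
  rw [h1, ← Nat.card_eq_fintype_card] at key
  apply Nat.pow_left_injective (Nat.card_pos (α := U)).ne'
  simp only [mul_pow]
  rw [← pow_mul, mul_comm (Nat.card E), key, mul_comm]

end Solvable

end CL.PF
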