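import Cfsg.Agent.Base
import Cfsg.Agent.PF.CohON

/-!
# Coherence systems: Peterfalvi (5.2), (5.3.a), (5.4), (5.5) and the gluing lemmas
-/

set_option autoImplicit false

open Cfsg CL.Char
open scoped ComplexConjugate

namespace CL.PF

variable {L : Type*} [Group L] [Fintype L] {G : Type*} [Group G] [Fintype G]
variable {S S₁ S₂ : Set (L → ℂ)} {τ ν ν₁ ν₂ : (L → ℂ) → (G → ℂ)}
  {R : (L → ℂ) → Finset (G → ℂ)}

/-- `S₁` is a subset of `S` closed under complex conjugation (`cfConjC_subset`) -/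
structure ConjSub {X : Type*} (S₁ S : Set (X → ℂ)) : Prop where
  subset : S₁ ⊆ S
  conj_mem : ∀ χ ∈ S₁, conjFun χ ∈ S₁

section ConjSub

variable {X : Type*} {T T₁ T₂ T₃ : Set (X → ℂ)}

theorem ConjSub.trans (h : ConjSub T₁ T₂) (h' : T₂ ⊆ T₃) : ConjSub T₁ T₃ :=
  ⟨h.subset.trans h', h.conj_mem⟩

theorem ConjSub.union (h₁ : ConjSub T₁ T) (h₂ : ConjSub T₂ T) : ConjSub (T₁ ∪ T₂) T :=
  ⟨Set.union_subset h₁.subset h₂.subset,
   fun χ hχ => hχ.imp (h₁.conj_mem χ) (h₂.conj_mem χ)⟩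

theorem ConjSub.conj_mem_iff (h : ConjSub T₁ T) {χ : X → ℂ} : conjFun χ ∈ T₁ ↔ χ ∈ T₁ :=
  ⟨fun hχ => by simpa only [conjFun_conjFun] using h.conj_mem _ hχ, h.conj_mem χ⟩

theorem ConjSub.diff (h₁ : ConjSub T₁ T) (h₂ : ConjSub T₂ T₃) : ConjSub (T₁ \ T₂) T :=
  ⟨Set.sdiff_subset.trans h₁.subset,
   fun χ hχ => ⟨h₁.conj_mem χ hχ.1, fun h => hχ.2 (h₂.conj_mem_iff.mp h)⟩⟩

theorem conjSub_pair {χ : X → ℂ} (h : χ ∈ T) (h' : conjFun χ ∈ T) : ConjSub {χ, conjFun χ} T :=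
  ⟨by rintro _ (rfl | rfl); exacts [h, h'], by
    rintro _ (rfl | rfl)
    · exact Or.inr rfl
    · rw [conjFun_conjFun]; exact Or.inl rfl⟩

end ConjSub

section Basic

theorem subcoh_conjSub (hS : IsCoherenceSystem S τ R) : ConjSub S S := ⟨subset_rfl, hS.conj_mem⟩

theorem subcoh_pair (hS : IsCoherenceSystem S τ R) {χ : L → ℂ} (hχ : χ ∈ S) :
    ConjSub {χ, conjFun χ} S := conjSub_pair hχ (hS.conj_mem χ hχ)

theorem subcoh_gen (hS : IsCoherenceSystem S τ R) {χ : L → ℂ} (hχ : χ ∈ S) :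
    IsGeneralizedCharacter L χ := gen_of_char (hS.isCharacter χ hχ)

theorem subcoh_gen_zspan (hS : IsCoherenceSystem S τ R) {α : L → ℂ} (hα : α ∈ zspan S) :
    IsGeneralizedCharacter L α := gen_of_mem_zspan (fun _ => subcoh_gen hS) hα

theorem subcoh_ne_zero (hS : IsCoherenceSystem S τ R) {χ : L → ℂ} (hχ : χ ∈ S) : χ ≠ 0 :=
  fun h => hS.conj_ne χ hχ (by rw [h, conjFun_zero])

theorem subcoh_apply_one_ne_zero (hS : IsCoherenceSystem S τ R) {χ : L → ℂ} (hχ : χ ∈ S) :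
    χ 1 ≠ 0 := fun h => subcoh_ne_zero hS hχ (char_eq_zero_of_apply_one (hS.isCharacter χ hχ) h)

theorem subcoh_deg (hS : IsCoherenceSystem S τ R) {χ : L → ℂ} (hχ : χ ∈ S) :
    ∃ d : ℕ, 0 < d ∧ χ 1 = d := by
  obtain ⟨d, hd⟩ := char_apply_one (hS.isCharacter χ hχ)
  exact ⟨d, Nat.pos_of_ne_zero fun h => subcoh_apply_one_ne_zero hS hχ (by simp [hd, h]), hd⟩

theorem subcoh_rip_pos (hS : IsCoherenceSystem S τ R) {χ : L → ℂ} (hχ : χ ∈ S) : 0 < rip χ χ :=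
  rip_self_pos (subcoh_ne_zero hS hχ)

theorem subcoh_conj_apply_one (hS : IsCoherenceSystem S τ R) {χ : L → ℂ} (hχ : χ ∈ S) :
    conjFun χ 1 = χ 1 := gen_conjFun_apply_one (subcoh_gen hS hχ)

theorem subcoh_sub_conj_mem' (hS : IsCoherenceSystem S τ R) {χ : L → ℂ} (hχ : χ ∈ S)
    (h : χ ∈ zspan S₁) (h' : conjFun χ ∈ zspan S₁) : χ - conjFun χ ∈ zspanOn S₁ {1}ᶜ :=
  sub_mem_zspanOn_one h h' (subcoh_conj_apply_one hS hχ).symm

theorem subcoh_sub_conj_mem (hS : IsCoherenceSystem S τ R) {χ : L → ℂ} (hχ : χ ∈ S) :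
    χ - conjFun χ ∈ zspanOn S {1}ᶜ :=
  subcoh_sub_conj_mem' hS hχ (mem_zspan hχ) (mem_zspan (hS.conj_mem χ hχ))

theorem subcoh_inner_conj (hS : IsCoherenceSystem S τ R) {χ : L → ℂ} (hχ : χ ∈ S) :
    classInner χ (conjFun χ) = 0 :=
  hS.orthogonal χ hχ _ (hS.conj_mem χ hχ) (hS.conj_ne χ hχ).symm

theorem subcoh_conj_inner (hS : IsCoherenceSystem S τ R) {χ : L → ℂ} (hχ : χ ∈ S) :
    classInner (conjFun χ) χ = 0 := classInner_eq_zero_comm.mp (subcoh_inner_conj hS hχ)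

theorem subcoh_isON (hS : IsCoherenceSystem S τ R) {χ : L → ℂ} (hχ : χ ∈ S) : IsON (R χ) := by
  classical
  refine isON_iff.mpr fun α hα β hβ => ?_
  convert hS.orthonormal χ hχ α hα β hβ

theorem subcoh_isSignedIrr (hS : IsCoherenceSystem S τ R) {χ : L → ℂ} (hχ : χ ∈ S) {α : G → ℂ}
    (hα : α ∈ R χ) : IsSignedIrr G α :=
  isSignedIrr_of_norm_one (hS.virtual χ hχ α hα) ((subcoh_isON hS hχ).1 α hα)

theorem subcoh_orth_R (hS : IsCoherenceSystem S τ R) {χ φ : L → ℂ} (hχ : χ ∈ S) (hφ : φ ∈ S)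
    (h1 : φ ≠ χ) (h2 : φ ≠ conjFun χ) : ∀ α ∈ R φ, ∀ β ∈ R χ, classInner α β = 0 :=
  hS.disjoint χ hχ φ hφ (hS.orthogonal φ hφ χ hχ h1)
    (hS.orthogonal φ hφ _ (hS.conj_mem χ hχ) h2)

theorem subcoh_tau_gen (hS : IsCoherenceSystem S τ R) {α : L → ℂ} (hα : α ∈ zspanOn S {1}ᶜ) :
    IsGeneralizedCharacter G (τ α) := iso_gen hS.isometry hα

theorem subcoh_mono (hS : IsCoherenceSystem S τ R) (h : ConjSub S₁ S) (hne : S₁.Nonempty) :
    IsCoherenceSystem S₁ τ R where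
  nonempty := hne
  isCharacter χ hχ := hS.isCharacter χ (h.subset hχ)
  conj_mem := h.conj_mem
  conj_ne χ hχ := hS.conj_ne χ (h.subset hχ)
  isometry := iso_mono hS.isometry (zspanOn_mono h.subset)
  map_one α hα := hS.map_one α (zspanOn_mono h.subset hα)
  orthogonal χ hχ φ hφ := hS.orthogonal χ (h.subset hχ) φ (h.subset hφ)
  orthonormal χ hχ := hS.orthonormal χ (h.subset hχ)
  virtual χ hχ := hS.virtual χ (h.subset hχ)
  sum_eq χ hχ := hS.sum_eq χ (h.subset hχ)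
  disjoint χ hχ φ hφ := hS.disjoint χ (h.subset hχ) φ (h.subset hφ)

theorem subcoh_congr_tau (hS : IsCoherenceSystem S τ R) {τ' : (L → ℂ) → (G → ℂ)}
    (h : ∀ α ∈ zspanOn S {1}ᶜ, τ' α = τ α) : IsCoherenceSystem S τ' R where
  nonempty := hS.nonempty
  isCharacter := hS.isCharacter
  conj_mem := hS.conj_mem
  conj_ne := hS.conj_ne
  isometry := iso_congr hS.isometry h
  map_one α hα := by rw [h α hα]; exact hS.map_one α hα
  orthogonal := hS.orthogonal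
  orthonormal := hS.orthonormal
  virtual := hS.virtual
  sum_eq χ hχ := by rw [h _ (subcoh_sub_conj_mem hS hχ)]; exact hS.sum_eq χ hχ
  disjoint := hS.disjoint

theorem subcoh_exists_ne_zero (hS : IsCoherenceSystem S τ R) (h : ConjSub S₁ S)
    (hne : S₁.Nonempty) : ∃ α ∈ zspanOn S₁ {1}ᶜ, α ≠ 0 := by
  obtain ⟨χ, hχ⟩ := hne
  exact ⟨χ - conjFun χ, subcoh_sub_conj_mem' hS (h.subset hχ) (mem_zspan hχ)
    (mem_zspan (h.conj_mem χ hχ)), sub_ne_zero.mpr (hS.conj_ne χ (h.subset hχ)).symm⟩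

theorem subcoh_isCoherent (hS : IsCoherenceSystem S τ R) (h : ConjSub S₁ S) (hne : S₁.Nonempty)
    (hν : CoherentWith S₁ τ ν) : IsCoherent S₁ {1}ᶜ τ :=
  hν.isCoherent (subcoh_exists_ne_zero hS h hne)

/-- a nonempty conjugation-closed subset of a coherent set is coherent -/
theorem subcoh_coherent_mono (hS : IsCoherenceSystem S τ R) (h : ConjSub S₁ S)
    (hne : S₁.Nonempty) (h12 : S₁ ⊆ S₂) (hc : IsCoherent S₂ {1}ᶜ τ) : IsCoherent S₁ {1}ᶜ τ :=
  coherent_mono hc h12 (subcoh_exists_ne_zero hS h hne)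

omit [Group L] [Fintype L] in
theorem nonempty_of_exists_ne_zero {A : Set L} (h : ∃ α ∈ zspanOn S A, α ≠ 0) : S.Nonempty := by
  obtain ⟨α, hα, h0⟩ := h
  by_contra hn
  rw [Set.not_nonempty_iff_eq_empty] at hn
  refine h0 (funext fun x => zspan_apply_eq_zero (fun χ hχ => ?_) hα.1)
  rw [hn] at hχ; exact hχ.elim

theorem coherent_nonempty {A : Set L} (h : IsCoherent S A τ) : S.Nonempty :=
  nonempty_of_exists_ne_zero h.1

/-- a set of pairwise orthogonal nonzero functions is finite -/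
theorem finite_of_orthogonal (h0 : ∀ χ ∈ S, χ ≠ 0)
    (h : ∀ χ ∈ S, ∀ φ ∈ S, χ ≠ φ → classInner χ φ = 0) : S.Finite := by
  classical
  have : LinearIndependent ℂ (fun χ : S => (χ : L → ℂ)) := by
    rw [linearIndependent_iff']
    intro s c hc i hi
    have := congrArg (fun f => classInner f (i : L → ℂ)) hc
    simp only [classInner_sum_left, classInner_smul_left, classInner_zero_left] at this
    rw [Finset.sum_eq_single i (fun j _ hj => by
      rw [h j j.2 i i.2 (fun e => hj (Subtype.ext e)), mul_zero]) (fun hn => absurd hi hn),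
      mul_eq_zero, classInner_self_eq_zero] at this
    exact this.resolve_right (h0 i i.2)
  exact Set.finite_coe_iff.mp this.finite

theorem subcoh_finite (hS : IsCoherenceSystem S τ R) : S.Finite :=
  finite_of_orthogonal (fun _ => subcoh_ne_zero hS) hS.orthogonal

theorem subcoh_orth_zspan (hS : IsCoherenceSystem S τ R) (h1 : S₁ ⊆ S) {χ : L → ℂ} (hχ : χ ∈ S)
    (hχ1 : χ ∉ S₁) {α : L → ℂ} (hα : α ∈ zspan S₁) : classInner χ α = 0 :=
  classInner_zspan_right (fun φ hφ => hS.orthogonal χ hχ φ (h1 hφ) fun e => hχ1 (e ▸ hφ)) hα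

theorem subcoh_zspan_orth (hS : IsCoherenceSystem S τ R) (h1 : S₁ ⊆ S) {χ : L → ℂ} (hχ : χ ∈ S)
    (hχ1 : χ ∉ S₁) {α : L → ℂ} (hα : α ∈ zspan S₁) : classInner α χ = 0 :=
  classInner_eq_zero_comm.mp (subcoh_orth_zspan hS h1 hχ hχ1 hα)

theorem subcoh_inner_sub_conj (hS : IsCoherenceSystem S τ R) {χ : L → ℂ} (hχ : χ ∈ S) :
    classInner χ (χ - conjFun χ) = classInner χ χ := by
  rw [classInner_sub_right, subcoh_inner_conj hS hχ, sub_zero]

theorem subcoh_card_R (hS : IsCoherenceSystem S τ R) {χ : L → ℂ} (hχ : χ ∈ S) :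
    ((R χ).card : ℂ) = 2 * classInner χ χ := by
  rw [← (subcoh_isON hS hχ).inner_sum_self, ← hS.sum_eq χ hχ,
    iso_inner hS.isometry (subcoh_sub_conj_mem hS hχ) (subcoh_sub_conj_mem hS hχ)]
  simp only [classInner_sub_left, classInner_sub_right, subcoh_inner_conj hS hχ,
    subcoh_conj_inner hS hχ, classInner_conjFun]
  ring

theorem subcoh_inner_tau_eq_zero (hS : IsCoherenceSystem S τ R) {χ : L → ℂ} (hχ : χ ∈ S)
    {Y : G → ℂ} (hY : ∀ α ∈ R χ, classInner Y α = 0) : classInner Y (τ (χ - conjFun χ)) = 0 := by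
  rw [hS.sum_eq χ hχ, classInner_sum_right]
  exact Finset.sum_eq_zero hY

end Basic

/-! ### (5.4) and (5.5) -/

/-- Peterfalvi (5.4.a), in vector form (sum of squares version). -/
theorem subcoh_le_sum_sq (hS : IsCoherenceSystem S τ R) {χ : L → ℂ} (hχ : χ ∈ S) {X : G → ℂ}
    (hX : IsGeneralizedCharacter G X) (h : classInner X (τ (χ - conjFun χ)) = classInner χ χ) :
    rip χ χ ≤ ∑ α ∈ R χ, rip X α ^ 2 := by
  rw [← rip_congr h, hS.sum_eq χ hχ]
  exact rip_sum_le_sum_sq (hS.virtual χ hχ) hX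

/-- Peterfalvi (5.4.a), in vector form. -/
theorem subcoh_norm_le (hS : IsCoherenceSystem S τ R) {χ : L → ℂ} (hχ : χ ∈ S) {X : G → ℂ}
    (hX : IsGeneralizedCharacter G X) (h : classInner X (τ (χ - conjFun χ)) = classInner χ χ) :
    rip χ χ ≤ rip X X :=
  (subcoh_le_sum_sq hS hχ hX h).trans ((subcoh_isON hS hχ).bessel_rip (hS.virtual χ hχ) hX)

/-- Peterfalvi (5.4.b), in vector form. -/
theorem subcoh_exists_eq_sum (hS : IsCoherenceSystem S τ R) {χ : L → ℂ} (hχ : χ ∈ S) {X : G → ℂ}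
    (hX : IsGeneralizedCharacter G X) (h : classInner X (τ (χ - conjFun χ)) = classInner χ χ)
    (hle : rip X X ≤ rip χ χ) : ∃ E ⊆ R χ, X = ∑ α ∈ E, α := by
  refine (subcoh_isON hS hχ).exists_eq_sum_subset (hS.virtual χ hχ) hX ?_
  rwa [← hS.sum_eq χ hχ, rip_congr h]

/-- Peterfalvi (5.4), as in the Coq development (`subcoherent_norm`): `Z` plays the role of
`τ₁ (χ - ψ)`, of norm `‖χ‖² + n` where `n = ‖ψ‖²`. -/
theorem subcoh_norm (hS : IsCoherenceSystem S τ R) {χ : L → ℂ} (hχ : χ ∈ S) {X Y : G → ℂ} {n : ℝ}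
    (hX : IsGeneralizedCharacter G X)
    (h : classInner (X - Y) (τ (χ - conjFun χ)) = classInner χ χ)
    (hn : rip (X - Y) (X - Y) = rip χ χ + n)
    (hXY : classInner X Y = 0) (hY : ∀ α ∈ R χ, classInner Y α = 0) :
    rip χ χ ≤ rip X X ∧ (n ≤ rip Y Y →
      rip X X = rip χ χ ∧ rip Y Y = n ∧ ∃ E ⊆ R χ, X = ∑ α ∈ E, α) := by
  rw [classInner_sub_left, subcoh_inner_tau_eq_zero hS hχ hY, sub_zero] at h
  have h1 := subcoh_norm_le hS hχ hX h
  rw [rip_sub_self, rip_eq_zero_of hXY] at hn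
  exact ⟨h1, fun h2 => ⟨by linarith, by linarith, subcoh_exists_eq_sum hS hχ hX h (by linarith)⟩⟩

/-- Peterfalvi (5.5). -/
theorem coherent_eq_sum_subset (hS : IsCoherenceSystem S τ R) (hν : CoherentWith S₁ τ ν)
    {χ : L → ℂ} (hχ : χ ∈ S) (h : χ ∈ zspan S₁) (h' : conjFun χ ∈ zspan S₁) :
    ∃ E ⊆ R χ, ν χ = ∑ α ∈ E, α := by
  refine subcoh_exists_eq_sum hS hχ (hν.gen h) ?_ (rip_congr (hν.inner h h)).le
  rw [← hν.eq (subcoh_sub_conj_mem' hS hχ h h'), hν.inner h (zc_sub h h'),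
    subcoh_inner_sub_conj hS hχ]

theorem coherent_mem_zspan_R (hS : IsCoherenceSystem S τ R) (h1 : ConjSub S₁ S)
    (hν : CoherentWith S₁ τ ν) {χ : L → ℂ} (hχ : χ ∈ S₁) :
    ν χ ∈ zspan (R χ : Set (G → ℂ)) := by
  obtain ⟨E, hE, h⟩ := coherent_eq_sum_subset hS hν (h1.subset hχ) (mem_zspan hχ)
    (mem_zspan (h1.conj_mem χ hχ))
  rw [h]
  exact zc_sum _ fun α hα => mem_zspan (hE hα)

/-- the image of a coherent subset is orthogonal to `R χ` for `χ` outside the subset -/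
theorem coherent_orth_R (hS : IsCoherenceSystem S τ R) (h1 : ConjSub S₁ S)
    (hν : CoherentWith S₁ τ ν) {χ : L → ℂ} (hχ : χ ∈ S) (hχ1 : χ ∉ S₁) {α : L → ℂ}
    (hα : α ∈ zspan S₁) : ∀ β ∈ R χ, classInner (ν α) β = 0 := fun β hβ =>
  iso_inner_eq_zero_left hν.iso subset_zspan (fun _ hφ =>
    classInner_zspan_left (fun γ hγ => subcoh_orth_R hS hχ (h1.subset hφ)
      (fun e => hχ1 (e ▸ hφ)) (fun e => hχ1 (h1.conj_mem_iff.mp (e ▸ hφ))) γ hγ β hβ)
      (coherent_mem_zspan_R hS h1 hν hφ)) hα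

theorem coherent_orth_tau_sub_conj (hS : IsCoherenceSystem S τ R) (h1 : ConjSub S₁ S)
    (hν : CoherentWith S₁ τ ν) {χ : L → ℂ} (hχ : χ ∈ S) (hχ1 : χ ∉ S₁) {α : L → ℂ}
    (hα : α ∈ zspan S₁) : classInner (ν α) (τ (χ - conjFun χ)) = 0 :=
  subcoh_inner_tau_eq_zero hS hχ (coherent_orth_R hS h1 hν hχ hχ1 hα)

/-- the images of two disjoint coherent subsets are orthogonal -/
theorem coherent_ortho (hS : IsCoherenceSystem S τ R) (h1 : ConjSub S₁ S) (h2 : ConjSub S₂ S)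
    (hν₁ : CoherentWith S₁ τ ν₁) (hν₂ : CoherentWith S₂ τ ν₂) (hd : Disjoint S₁ S₂)
    {α β : L → ℂ} (hα : α ∈ zspan S₁) (hβ : β ∈ zspan S₂) : classInner (ν₁ α) (ν₂ β) = 0 :=
  iso_inner_eq_zero_right hν₂.iso subset_zspan (fun _ hφ =>
    classInner_zspan_right (coherent_orth_R hS h1 hν₁ (h2.subset hφ)
      (fun h => Set.disjoint_left.mp hd h hφ) hα) (coherent_mem_zspan_R hS h2 hν₂ hφ)) hβ

/-- gluing two disjoint coherent subsets of a coherence system -/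
theorem bridge_coherentWith (hS : IsCoherenceSystem S τ R) (h1 : ConjSub S₁ S) (h2 : ConjSub S₂ S)
    (hν₁ : CoherentWith S₁ τ ν₁) (hν₂ : CoherentWith S₂ τ ν₂) (hd : Disjoint S₁ S₂)
    {χ φ : L → ℂ} (hχ : χ ∈ zspan S₁) (hφ : φ ∈ zspan S₂) (hdeg : χ 1 = φ 1) (h0 : χ 1 ≠ 0)
    (hb : τ (χ - φ) = ν₁ χ - ν₂ φ) :
    ∃ ν : (L → ℂ) →ₗ[ℂ] (G → ℂ), CoherentWith (S₁ ∪ S₂) τ ν ∧
      (∀ α ∈ zspan S₁, ν α = ν₁ α) ∧ ∀ β ∈ zspan S₂, ν β = ν₂ β :=
  glue_coherentWith (iso_mono hS.isometry (zspanOn_mono (h1.union h2).subset))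
    (fun χ hχ => gen_apply_one (subcoh_gen hS (h1.subset hχ))) hν₁ hν₂
    (fun χ hχ φ hφ => by
      rw [coherent_ortho hS h1 h2 hν₁ hν₂ hd (mem_zspan hχ) (mem_zspan hφ),
        hS.orthogonal χ (h1.subset hχ) φ (h2.subset hφ)
          (fun e => Set.disjoint_left.mp hd hχ (e ▸ hφ))]) hχ hφ hdeg h0 hb

theorem bridge_coherent (hS : IsCoherenceSystem S τ R) (h1 : ConjSub S₁ S) (h2 : ConjSub S₂ S)
    (hν₁ : CoherentWith S₁ τ ν₁) (hν₂ : CoherentWith S₂ τ ν₂) (hd : Disjoint S₁ S₂)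
    {χ φ : L → ℂ} (hχ : χ ∈ S₁) (hφ : φ ∈ zspan S₂) (hdeg : χ 1 = φ 1)
    (hb : τ (χ - φ) = ν₁ χ - ν₂ φ) : IsCoherent (S₁ ∪ S₂) {1}ᶜ τ := by
  obtain ⟨ν, hν, -⟩ := bridge_coherentWith hS h1 h2 hν₁ hν₂ hd (mem_zspan hχ) hφ hdeg
    (subcoh_apply_one_ne_zero hS (h1.subset hχ)) hb
  exact subcoh_isCoherent hS (h1.union h2) ⟨χ, Or.inl hχ⟩ hν

/-- a coherent extension on a pair `{χ, χ̄}` with prescribed image of `χ` -/
theorem pair_coherentWith (hS : IsCoherenceSystem S τ R) {χ : L → ℂ} (hχ : χ ∈ S) {X : G → ℂ}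
    (hX : IsGeneralizedCharacter G X) (hn : classInner X X = classInner χ χ)
    (h : classInner X (τ (χ - conjFun χ)) = classInner χ χ) :
    ∃ ν : (L → ℂ) →ₗ[ℂ] (G → ℂ), CoherentWith {χ, conjFun χ} τ ν ∧ ν χ = X := by
  have hτ := iso_mono hS.isometry (zspanOn_mono (subcoh_pair hS hχ).subset)
  refine pivot_coherentWith hτ (mem_zspan (Or.inl rfl)) (subcoh_apply_one_ne_zero hS hχ) hX hn ?_
  rintro _ (rfl | rfl)
  · exact ⟨1, by simp, by simp [iso_zero hτ, classInner_zero_left]⟩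
  · refine ⟨1, by simp [subcoh_conj_apply_one hS hχ], ?_⟩
    have h' := congrArg conj h
    rw [conj_classInner, conj_classInner] at h'
    rw [one_smul, ← neg_sub, iso_neg hS.isometry (subcoh_sub_conj_mem hS hχ), classInner_neg_left,
      classInner_neg_left, h', classInner_sub_left, subcoh_conj_inner hS hχ, sub_zero]

/-- If `S₁ ⊆ {η, η̄}` the map `α ↦ -ν(ᾱ)` is another coherent extension (`dual_coherence`). -/
theorem CoherentWith.dual (hν : CoherentWith S₁ τ ν) {η : L → ℂ}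
    (hη : IsGeneralizedCharacter L η) (hη1 : η 1 ≠ 0) (hsub : S₁ ⊆ {η, conjFun η})
    (hc : ∀ χ ∈ S₁, conjFun χ ∈ S₁) : CoherentWith S₁ τ (fun α => -ν (conjFun α)) := by
  have hg : ∀ α ∈ zspan S₁, IsGeneralizedCharacter L α := fun α hα =>
    gen_of_mem_zspan (fun χ hχ => by
      rcases hsub hχ with rfl | rfl
      exacts [hη, gen_conjFun hη]) hα
  have hm : ∀ α ∈ zspan S₁, conjFun α ∈ zspan S₁ := fun α => conjFun_mem_zspan hc
  refine ⟨⟨fun α hα β hβ => ?_, fun α hα n => ?_, fun α hα β hβ => ?_,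
    fun α hα => gen_neg (hν.gen (hm α hα))⟩, fun α hα => ?_⟩
  · simp only [conjFun_add, iso_add hν.iso (hm α hα) (hm β hβ), neg_add]
  · simp only [conjFun_zsmul, iso_zsmul hν.iso n (hm α hα), smul_neg]
  · simp only [classInner_neg_left, classInner_neg_right, neg_neg, hν.inner (hm α hα) (hm β hβ),
      classInner_conjFun, gen_inner_comm (hg α hα) (hg β hβ)]
  · obtain ⟨m, n, h⟩ := mem_zspan_pair.mp (zspan_mono hsub hα.1)
    have h1 := apply_one_of_mem_zspanOn hα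
    rw [h] at h1
    rw [Pi.add_apply, Pi.smul_apply, Pi.smul_apply, gen_conjFun_apply_one hη, zsmul_eq_mul,
      zsmul_eq_mul, ← add_mul, mul_eq_zero, or_iff_left hη1, ← Int.cast_add, Int.cast_eq_zero] at h1
    have h2 : conjFun α = -α := by
      rw [h, conjFun_add, conjFun_zsmul, conjFun_zsmul, conjFun_conjFun,
        show n = -m by omega]
      simp only [neg_smul]; abel
    simp only [h2, iso_neg hν.iso hα.1, neg_neg, hν.eq hα]

/-! ### (5.3.a) -/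

/-- Peterfalvi (5.3.a) -/
theorem irr_subcoherent (hne : S.Nonempty) (hirr : ∀ χ ∈ S, IsIrrCharacter L χ)
    (hconj : ∀ χ ∈ S, conjFun χ ∈ S) (hreal : ∀ χ ∈ S, conjFun χ ≠ χ)
    (hτ : IsLinearIsometryOn (zspanOn S {1}ᶜ) τ) (hτ1 : ∀ α ∈ zspanOn S {1}ᶜ, τ α 1 = 0) :
    ∃ R : (L → ℂ) → Finset (G → ℂ), IsCoherenceSystem S τ R := by
  classical
  have hm : ∀ χ ∈ S, χ - conjFun χ ∈ zspanOn S {1}ᶜ := fun χ hχ =>
    sub_mem_zspanOn_one (mem_zspan hχ) (mem_zspan (hconj χ hχ))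
      (gen_conjFun_apply_one (gen_of_irr (hirr χ hχ))).symm
  have key : ∀ χ ∈ S, ∃ α β : G → ℂ, IsIrrCharacter G α ∧ IsIrrCharacter G β ∧ α ≠ β ∧
      τ (χ - conjFun χ) = α - β := fun χ hχ => by
    refine gen_norm_two_of_apply_one (iso_gen hτ (hm χ hχ)) ?_ (hτ1 _ (hm χ hχ))
    rw [iso_inner hτ (hm χ hχ) (hm χ hχ)]
    have h1 := hirr χ hχ
    have h2 := hirr _ (hconj χ hχ)
    simp only [classInner_sub_left, classInner_sub_right, irr_inner_self h1, irr_inner_self h2,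
      irr_inner_of_ne h1 h2 (hreal χ hχ).symm, irr_inner_of_ne h2 h1 (hreal χ hχ)]
    ring
  choose! a b ha hb hab hτab using key
  have hne' : ∀ χ ∈ S, a χ ≠ -b χ := fun χ hχ e => by
    obtain ⟨m, hm, hm'⟩ := irr_apply_one (ha χ hχ)
    obtain ⟨n, hn, hn'⟩ := irr_apply_one (hb χ hχ)
    rw [e, Pi.neg_apply, hn', neg_eq_iff_add_eq_zero, ← Nat.cast_add, Nat.cast_eq_zero] at hm'
    omega
  refine ⟨fun χ => {a χ, -b χ}, hne, fun χ hχ => irr_isCharacter (hirr χ hχ), hconj, hreal, hτ,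
    hτ1, fun χ hχ φ hφ => irr_inner_of_ne (hirr χ hχ) (hirr φ hφ), fun χ hχ => ?_,
    fun χ hχ α hα => ?_, fun χ hχ => ?_, fun χ hχ φ hφ h1 h2 => ?_⟩
  · have : IsON {a χ, -b χ} := by
      have h1 := ha χ hχ
      have h2 := hb χ hχ
      refine ⟨fun α hα => ?_, fun α hα β hβ hne => ?_⟩
      · rcases Finset.mem_insert.mp hα with rfl | hα
        · exact irr_inner_self h1
        · rw [Finset.mem_singleton.mp hα, classInner_neg_left, classInner_neg_right, neg_neg,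
            irr_inner_self h2]
      · simp only [Finset.mem_insert, Finset.mem_singleton] at hα hβ
        rcases hα with rfl | rfl <;> rcases hβ with rfl | rfl
        · exact absurd rfl hne
        · rw [classInner_neg_right, irr_inner_of_ne h1 h2 (hab χ hχ), neg_zero]
        · rw [classInner_neg_left, irr_inner_of_ne h2 h1 (hab χ hχ).symm, neg_zero]
        · exact absurd rfl hne
    intro α hα β hβ
    convert this.inner_ite hα hβ
  · simp only [Finset.mem_insert, Finset.mem_singleton] at hα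
    rcases hα with rfl | rfl
    exacts [gen_of_irr (ha χ hχ), gen_neg (gen_of_irr (hb χ hχ))]
  · rw [Finset.sum_pair (hne' χ hχ), hτab χ hχ, sub_eq_add_neg]
  · have h0 : classInner (τ (φ - conjFun φ)) (τ (χ - conjFun χ)) = 0 := by
      rw [iso_inner hτ (hm φ hφ) (hm χ hχ)]
      simp only [classInner_sub_left, classInner_sub_right, h1, h2, classInner_conjFun,
        classInner_conjFun_left φ χ, classInner_eq_zero_comm.mp h1, classInner_eq_zero_comm.mp h2]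
      ring
    rw [hτab φ hφ, hτab χ hχ] at h0
    obtain ⟨e1, e2, e3, e4⟩ := irr_ne_of_inner_sub_sub (ha φ hφ) (hb φ hφ) (ha χ hχ) (hb χ hχ)
      (hab φ hφ) (hab χ hχ) one_pos one_pos one_pos one_pos (by simpa only [one_smul] using h0)
    intro α hα β hβ
    simp only [Finset.mem_insert, Finset.mem_singleton] at hα hβ
    rcases hα with rfl | rfl <;> rcases hβ with rfl | rfl <;>
      try simp only [classInner_neg_left, classInner_neg_right, neg_neg, neg_eq_zero]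
    exacts [irr_inner_of_ne (ha φ hφ) (ha χ hχ) e1, irr_inner_of_ne (ha φ hφ) (hb χ hχ) e2,
      irr_inner_of_ne (hb φ hφ) (ha χ hχ) e3, irr_inner_of_ne (hb φ hφ) (hb χ hχ) e4]

end CL.PF
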