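import Cfsg.Agent.Base
import Cfsg.Agent.PF.CohSys

/-!
# Peterfalvi (5.6), (5.7): extension of coherence
-/

set_option autoImplicit false

open Cfsg CL.Char
open scoped ComplexConjugate

namespace CL.PF

variable {L : Type*} [Group L] [Fintype L] {G : Type*} [Group G] [Fintype G]
variable {S S₁ S₂ : Set (L → ℂ)} {τ ν ν₁ ν₂ : (L → ℂ) → (G → ℂ)}
  {R : (L → ℂ) → Finset (G → ℂ)}

/-- Peterfalvi (5.6.3), with the extension made explicit. -/
theorem extend_coherentWith' (hS : IsCoherenceSystem S τ R) (h1 : ConjSub S₁ S)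
    (hν : CoherentWith S₁ τ ν) {χ φ : L → ℂ} (hφ : φ ∈ zspan S₁) (hχ : χ ∈ S) (hχ1 : χ ∉ S₁)
    (hdeg : χ 1 = φ 1) {X : G → ℂ} (hX0 : classInner X (ν φ) = 0) (hX : τ (χ - φ) = X - ν φ) :
    ∃ ν' : (L → ℂ) →ₗ[ℂ] (G → ℂ), CoherentWith (S₁ ∪ {χ, conjFun χ}) τ ν' ∧
      (∀ α ∈ zspan S₁, ν' α = ν α) ∧ ν' χ = X := by
  have hφS : φ ∈ zspan S := zspan_mono h1.subset hφ
  have hm : χ - φ ∈ zspanOn S {1}ᶜ := sub_mem_zspanOn_one (mem_zspan hχ) hφS hdeg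
  have hχ1' : conjFun χ ∉ S₁ := fun h => hχ1 (h1.conj_mem_iff.mp h)
  have hXe : X = τ (χ - φ) + ν φ := by rw [hX]; abel
  have hXg : IsGeneralizedCharacter G X := hXe ▸ gen_add (subcoh_tau_gen hS hm) (hν.gen hφ)
  have o1 := subcoh_orth_zspan hS h1.subset hχ hχ1 hφ
  have o2 := subcoh_zspan_orth hS h1.subset hχ hχ1 hφ
  have o3 := subcoh_zspan_orth hS h1.subset (hS.conj_mem χ hχ) hχ1' hφ
  have hn : classInner X X = classInner χ χ := by
    have := iso_inner hS.isometry hm hm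
    rw [hX] at this
    simp only [classInner_sub_left, classInner_sub_right, hX0, classInner_eq_zero_comm.mp hX0,
      hν.inner hφ hφ, o1, o2] at this
    linear_combination this
  have hc : classInner X (τ (χ - conjFun χ)) = classInner χ χ := by
    rw [hXe, classInner_add_left, coherent_orth_tau_sub_conj hS h1 hν hχ hχ1 hφ, add_zero,
      iso_inner hS.isometry hm (subcoh_sub_conj_mem hS hχ), classInner_sub_left,
      subcoh_inner_sub_conj hS hχ, classInner_sub_right, o2, o3]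
    ring
  obtain ⟨ν₂, hν₂, hν₂χ⟩ := pair_coherentWith hS hχ hXg hn hc
  have hd : Disjoint S₁ {χ, conjFun χ} := Set.disjoint_right.mpr (by
    rintro _ (rfl | rfl); exacts [hχ1, hχ1'])
  have hχ2 : χ ∈ zspan {χ, conjFun χ} := mem_zspan (Or.inl rfl)
  obtain ⟨ν', h', e1, e2⟩ := bridge_coherentWith hS h1 (subcoh_pair hS hχ) hν hν₂ hd hφ hχ2
    hdeg.symm (hdeg ▸ subcoh_apply_one_ne_zero hS hχ) (by
      rw [← neg_sub, iso_neg hS.isometry hm, hX, hν₂χ, neg_sub])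
  exact ⟨ν', h', e1, (e2 χ hχ2).trans hν₂χ⟩

/-- Peterfalvi (5.6.3) (`extend_coherent_with`). -/
theorem extend_coherent_with (hS : IsCoherenceSystem S τ R) (h1 : ConjSub S₁ S)
    (hν : CoherentWith S₁ τ ν) {χ φ : L → ℂ} (hφ : φ ∈ zspan S₁) (hχ : χ ∈ S) (hχ1 : χ ∉ S₁)
    (hdeg : χ 1 = φ 1) {X : G → ℂ} (hX0 : classInner X (ν φ) = 0) (hX : τ (χ - φ) = X - ν φ) :
    IsCoherent (S₁ ∪ {χ, conjFun χ}) {1}ᶜ τ := by
  obtain ⟨ν', h', -⟩ := extend_coherentWith' hS h1 hν hφ hχ hχ1 hdeg hX0 hX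
  exact subcoh_isCoherent hS (h1.union (subcoh_pair hS hχ)) ⟨χ, Or.inr (Or.inl rfl)⟩ h'

/-- The computation (5.6.1): let `W = τ (χ - a χ₁) + a ν χ₁` where `χ` is orthogonal to the coherent
set `S₁`.  Then `⟨W, ν φ⟩` is proportional to `φ 1`. -/
theorem coherent_pivot_inner (hτ : IsLinearIsometryOn (zspanOn S {1}ᶜ) τ) (h1 : S₁ ⊆ S)
    (hg : ∀ φ ∈ S₁, IsGeneralizedCharacter L φ)
    (hν : CoherentWith S₁ τ ν) {χ ψ : L → ℂ} (hχ : χ ∈ zspan S) (hψ : ψ ∈ zspan S₁)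
    (horth : ∀ φ ∈ S₁, classInner χ φ = 0) (hdeg : χ 1 = ψ 1) {φ φ' : L → ℂ}
    (hφ : φ ∈ zspan S₁) (hφ' : φ' ∈ zspan S₁) :
    φ' 1 * classInner (τ (χ - ψ) + ν ψ) (ν φ) = φ 1 * classInner (τ (χ - ψ) + ν ψ) (ν φ') := by
  obtain ⟨m, hm⟩ := gen_apply_one (gen_of_mem_zspan hg hφ)
  obtain ⟨n, hn⟩ := gen_apply_one (gen_of_mem_zspan hg hφ')
  have m1 : n • φ - m • φ' ∈ zspanOn S₁ {1}ᶜ :=
    sub_mem_zspanOn_one (zc_zsmul n hφ) (zc_zsmul m hφ') (by simp [hm, hn, mul_comm])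
  have m2 : χ - ψ ∈ zspanOn S {1}ᶜ := sub_mem_zspanOn_one hχ (zspan_mono h1 hψ) hdeg
  have e1 : classInner (τ (χ - ψ) + ν ψ) (ν (n • φ - m • φ')) = 0 := by
    rw [classInner_add_left, hν.inner hψ m1.1, hν.eq m1, iso_inner hτ m2 (zspanOn_mono h1 m1),
      classInner_sub_left, classInner_zspan_right horth m1.1]
    ring
  rw [iso_sub hν.iso (zc_zsmul n hφ) (zc_zsmul m hφ'), iso_zsmul hν.iso n hφ,
    iso_zsmul hν.iso m hφ', classInner_sub_right, classInner_zsmul_right,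
    classInner_zsmul_right] at e1
  rw [hm, hn]
  linear_combination e1

/-- A Bessel-type inequality: if `⟨W, ν φ⟩ = t φ(1)` for `φ` in a finite orthogonal subset `T` of
`S₁`, then `t² ∑ φ(1)²/‖φ‖² ≤ ‖W‖²`. -/
theorem coherent_bessel (hν : IsLinearIsometryOn (zspan S₁) ν) (T : Finset (L → ℂ))
    (hT : ↑T ⊆ S₁) (h0 : ∀ φ ∈ T, φ ≠ 0) (horth : ∀ φ ∈ T, ∀ φ' ∈ T, φ ≠ φ' → classInner φ φ' = 0)
    {W : G → ℂ} {t : ℝ} (c : (L → ℂ) → ℝ) (hW : ∀ φ ∈ T, rip W (ν φ) = t * c φ) :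
    t ^ 2 * ∑ φ ∈ T, c φ ^ 2 / rip φ φ ≤ rip W W := by
  classical
  set U : G → ℂ := ∑ φ ∈ T, ((c φ / rip φ φ : ℝ) : ℂ) • ν φ with hU
  have hpos : ∀ φ ∈ T, rip φ φ ≠ 0 := fun φ hφ => (rip_self_pos (h0 φ hφ)).ne'
  have e1 : rip W U = t * ∑ φ ∈ T, c φ ^ 2 / rip φ φ := by
    rw [hU, rip_sum_right, Finset.mul_sum]
    refine Finset.sum_congr rfl fun φ hφ => ?_
    rw [rip_ofReal_smul_right, hW φ hφ]; ring
  have e2 : rip U U = ∑ φ ∈ T, c φ ^ 2 / rip φ φ := by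
    rw [hU, rip_sum_left]
    refine Finset.sum_congr rfl fun φ hφ => ?_
    rw [rip_ofReal_smul_left, rip_sum_right, Finset.sum_eq_single φ (fun φ' hφ' hne => by
      rw [rip_ofReal_smul_right, iso_rip hν (mem_zspan (hT hφ)) (mem_zspan (hT hφ')),
        rip_eq_zero_of (horth φ hφ φ' hφ' hne.symm), mul_zero]) (fun h => absurd hφ h),
      rip_ofReal_smul_right, iso_rip hν (mem_zspan (hT hφ)) (mem_zspan (hT hφ))]
    field_simp [hpos φ hφ]
  have := rip_self_nonneg (W - (t : ℂ) • U)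
  rw [rip_sub_self, rip_ofReal_smul_right, rip_ofReal_smul_left, rip_ofReal_smul_right, e1,
    e2] at this
  nlinarith

/-- Peterfalvi (5.6), with the extension made explicit. -/
theorem extend_coherentWith (hS : IsCoherenceSystem S τ R) (h1 : ConjSub S₁ S)
    (hν : CoherentWith S₁ τ ν) {χ χ₁ : L → ℂ} (hχ : χ ∈ S) (hχ1 : χ ∉ S₁) (hχ₁ : χ₁ ∈ S₁)
    {a : ℤ} (hdeg : χ 1 = a * χ₁ 1) (T : Finset (L → ℂ)) (hT : ↑T ⊆ S₁)
    (hlt : 2 * (χ 1).re * (χ₁ 1).re < ∑ φ ∈ T, (φ 1).re ^ 2 / rip φ φ) :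
    ∃ ν' : (L → ℂ) →ₗ[ℂ] (G → ℂ), CoherentWith (S₁ ∪ {χ, conjFun χ}) τ ν' ∧
      (∀ α ∈ zspan S₁, ν' α = ν α) := by
  have hψ : a • χ₁ ∈ zspan S₁ := zc_zsmul a (mem_zspan hχ₁)
  have hdeg' : χ 1 = (a • χ₁) 1 := by simp [hdeg]
  have hm : χ - a • χ₁ ∈ zspanOn S {1}ᶜ :=
    sub_mem_zspanOn_one (mem_zspan hχ) (zspan_mono h1.subset hψ) hdeg'
  set W := τ (χ - a • χ₁) + ν (a • χ₁) with hW
  have hWg : IsGeneralizedCharacter G W := gen_add (subcoh_tau_gen hS hm) (hν.gen hψ)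
  obtain ⟨l, hl⟩ := gen_inner_int hWg (hν.gen (mem_zspan hχ₁))
  obtain ⟨d, hd, hd1⟩ := subcoh_deg hS (h1.subset hχ₁)
  have hd' : (0 : ℝ) < d := by exact_mod_cast hd
  have horth : ∀ φ ∈ S₁, classInner χ φ = 0 := fun φ hφ =>
    subcoh_orth_zspan hS h1.subset hχ hχ1 (mem_zspan hφ)
  have hχ1' : conjFun χ ∉ S₁ := fun h => hχ1 (h1.conj_mem_iff.mp h)
  suffices h0 : l = 0 by
    obtain ⟨ν', h', e1, -⟩ := extend_coherentWith' hS h1 hν hψ hχ hχ1 hdeg' (X := W)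
      (by rw [iso_zsmul hν.iso a (mem_zspan hχ₁), classInner_zsmul_right, hl, h0]; simp)
      (by rw [hW]; abel)
    exact ⟨ν', h', e1⟩
  -- inner products with the images of `S₁`
  have hWφ : ∀ φ ∈ T, rip (W - proj (R χ) W) (ν φ) = l / d * (φ 1).re := fun φ hφ => by
    have := coherent_pivot_inner hS.isometry h1.subset (fun φ hφ => subcoh_gen hS (h1.subset hφ))
      hν (mem_zspan hχ) hψ horth hdeg' (mem_zspan (hT hφ)) (mem_zspan hχ₁)
    rw [← hW, hl, hd1] at this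
    have h2 := congrArg Complex.re this
    simp only [Complex.mul_re, Complex.natCast_re, Complex.natCast_im, Complex.intCast_re,
      Complex.intCast_im, zero_mul, mul_zero, sub_zero] at h2
    rw [rip_sub_left, rip_eq_zero_of (proj_inner_eq_zero (fun β hβ => classInner_eq_zero_comm.mp
      (coherent_orth_R hS h1 hν hχ hχ1 (mem_zspan (hT hφ)) β hβ)) W), sub_zero, rip_def]
    field_simp
    linarith
  have hB := coherent_bessel hν.iso T hT (fun φ hφ => subcoh_ne_zero hS (h1.subset (hT hφ)))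
    (fun φ hφ φ' hφ' => hS.orthogonal φ (h1.subset (hT hφ)) φ' (h1.subset (hT hφ'))) _ hWφ
  have hc : classInner W (τ (χ - conjFun χ)) = classInner χ χ := by
    rw [hW, classInner_add_left, coherent_orth_tau_sub_conj hS h1 hν hχ hχ1 hψ, add_zero,
      iso_inner hS.isometry hm (subcoh_sub_conj_mem hS hχ), classInner_sub_left,
      subcoh_inner_sub_conj hS hχ, classInner_sub_right, subcoh_zspan_orth hS h1.subset hχ hχ1 hψ,
      subcoh_zspan_orth hS h1.subset (hS.conj_mem χ hχ) hχ1' hψ]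
    ring
  have hA := subcoh_le_sum_sq hS hχ hWg hc
  rw [(subcoh_isON hS hχ).rip_sub_proj, Finset.sum_congr rfl fun α hα =>
    gen_norm_sq_eq_rip_sq hWg (hS.virtual χ hχ α hα)] at hB
  have hWW : rip W W = rip χ χ + 2 * a * l := by
    have e1 : τ (χ - a • χ₁) = W - ν (a • χ₁) := by rw [hW]; abel
    have e2 := iso_rip hS.isometry hm hm
    rw [e1, rip_sub_self, rip_sub_self, iso_rip hν.iso hψ hψ, iso_zsmul hν.iso a (mem_zspan hχ₁),
      rip_zsmul_right a W, rip_of_classInner_eq_int hl,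
      rip_eq_zero_of (subcoh_orth_zspan hS h1.subset hχ hχ1 hψ)] at e2
    linarith
  rw [hdeg, hd1] at hlt
  simp only [Complex.mul_re, Complex.natCast_re, Complex.natCast_im, Complex.intCast_re,
    Complex.intCast_im, mul_zero, sub_zero] at hlt
  obtain ⟨e, he, he1⟩ := subcoh_deg hS hχ
  have ha : (0 : ℝ) < a := by
    have h2 := congrArg Complex.re (he1.symm.trans (hdeg.trans (by rw [hd1])))
    simp only [Complex.mul_re, Complex.natCast_re, Complex.natCast_im, Complex.intCast_re,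
      Complex.intCast_im, mul_zero, sub_zero] at h2
    have he' : (0 : ℝ) < e := by exact_mod_cast he
    by_contra hn
    nlinarith
  set σ := ∑ φ ∈ T, (φ 1).re ^ 2 / rip φ φ
  have key : (l : ℝ) ^ 2 * σ ≤ 2 * a * l * d ^ 2 := by
    have : ((l : ℝ) / d) ^ 2 * σ ≤ 2 * a * l := by linarith
    rw [div_pow, div_mul_eq_mul_div, div_le_iff₀ (by positivity)] at this
    exact this
  by_contra hl0
  have hl1 : (l : ℝ) ≤ l ^ 2 := by exact_mod_cast Int.le_self_sq l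
  have hl2 : (0 : ℝ) < l ^ 2 := by positivity
  nlinarith [mul_pos ha (mul_pos hd' hd')]

/-- Peterfalvi, Theorem (5.6). -/
theorem extend_coherent (hS : IsCoherenceSystem S τ R) (h1 : ConjSub S₁ S)
    (hc : IsCoherent S₁ {1}ᶜ τ) {χ χ₁ : L → ℂ} (hχ : χ ∈ S) (hχ1 : χ ∉ S₁) (hχ₁ : χ₁ ∈ S₁)
    {a : ℤ} (hdeg : χ 1 = a * χ₁ 1) (T : Finset (L → ℂ)) (hT : ↑T ⊆ S₁)
    (hlt : 2 * (χ 1).re * (χ₁ 1).re < ∑ φ ∈ T, (φ 1).re ^ 2 / rip φ φ) :
    IsCoherent (S₁ ∪ {χ, conjFun χ}) {1}ᶜ τ := by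
  obtain ⟨ν, hν⟩ := coherent_exists hc
  obtain ⟨ν', h', -⟩ := extend_coherentWith hS h1 hν hχ hχ1 hχ₁ hdeg T hT hlt
  exact subcoh_isCoherent hS (h1.union (subcoh_pair hS hχ)) ⟨χ, Or.inr (Or.inl rfl)⟩ h'

/-- Iterating (5.6): if every member of `S₂ \ S₁` satisfies the numerical condition with respect to
`S₁`, then `S₁ ∪ S₂` is coherent. -/
theorem extend_coherent_union (hS : IsCoherenceSystem S τ R) (h1 : ConjSub S₁ S)
    (h2 : ConjSub S₂ S) (hc : IsCoherent S₁ {1}ᶜ τ)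
    (h : ∀ χ ∈ S₂, χ ∉ S₁ → ∃ χ₁ ∈ S₁, ∃ a : ℤ, χ 1 = a * χ₁ 1 ∧ ∃ T : Finset (L → ℂ), ↑T ⊆ S₁ ∧
      2 * (χ 1).re * (χ₁ 1).re < ∑ φ ∈ T, (φ 1).re ^ 2 / rip φ φ) :
    IsCoherent (S₁ ∪ S₂) {1}ᶜ τ := by
  have hfin : (S₂ \ S₁).Finite := (subcoh_finite hS).subset (Set.sdiff_subset.trans h2.subset)
  have key : ∀ n : ℕ, ∀ S₃ : Set (L → ℂ), ConjSub S₃ S → S₁ ⊆ S₃ → IsCoherent S₃ {1}ᶜ τ →
      (S₂ \ S₃).ncard = n → IsCoherent (S₃ ∪ S₂) {1}ᶜ τ := by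
    intro n
    induction n using Nat.strong_induction_on with
    | _ n ih =>
      intro S₃ h3 h13 hc3 hn
      by_cases he : S₂ ⊆ S₃
      · rwa [Set.union_eq_self_of_subset_right he]
      obtain ⟨χ, hχ2, hχ3⟩ := Set.not_subset.mp he
      obtain ⟨χ₁, hχ₁, a, ha, T, hT, hlt⟩ := h χ hχ2 (fun h => hχ3 (h13 h))
      have hc4 := extend_coherent hS h3 hc3 (h2.subset hχ2) hχ3 (h13 hχ₁) ha T (hT.trans h13) hlt
      have := ih _ ?_ _ (h3.union (subcoh_pair hS (h2.subset hχ2)))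
        (h13.trans Set.subset_union_left) hc4 rfl
      · refine subcoh_coherent_mono hS (h3.union h2) ⟨χ, Or.inr hχ2⟩ ?_ this
        exact Set.union_subset_union_left _ Set.subset_union_left
      · rw [← hn]
        refine Set.ncard_lt_ncard ⟨Set.sdiff_subset_sdiff_right Set.subset_union_left, fun hs => ?_⟩
          (hfin.subset (Set.sdiff_subset_sdiff_right h13))
        exact (hs ⟨hχ2, hχ3⟩).2 (Or.inr (Or.inl rfl))
  exact key _ S₁ h1 subset_rfl hc rfl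

/-! ### (5.7) -/

/-- For `η` of the same degree as `χ` and distinct from `χ, χ̄`, `τ (χ - η) = X - X₁` with
`X`, `X₁` sums of subsets of `R χ`, `R η`. -/
theorem subcoh_sub_eq (hS : IsCoherenceSystem S τ R) {χ η : L → ℂ} (hχ : χ ∈ S) (hη : η ∈ S)
    (h1 : η ≠ χ) (h2 : η ≠ conjFun χ) (hdeg : χ 1 = η 1) :
    ∃ E ⊆ R χ, ∃ F ⊆ R η, τ (χ - η) = ∑ α ∈ E, α - ∑ α ∈ F, α ∧
      classInner (∑ α ∈ E, α) (∑ α ∈ E, α) = classInner χ χ ∧
      classInner (∑ α ∈ F, α) (∑ α ∈ F, α) = classInner η η := by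
  have hm : χ - η ∈ zspanOn S {1}ᶜ := sub_mem_zspanOn_one (mem_zspan hχ) (mem_zspan hη) hdeg
  have hZ := subcoh_tau_gen hS hm
  have h3 : χ ≠ conjFun η := fun e => h2 (by rw [e, conjFun_conjFun])
  have o := subcoh_orth_R hS hχ hη h1 h2
  have oχη := hS.orthogonal χ hχ η hη h1.symm
  have oηχ := hS.orthogonal η hη χ hχ h1
  set Z := τ (χ - η) with hZdef
  have c1 : classInner Z (τ (χ - conjFun χ)) = classInner χ χ := by
    rw [iso_inner hS.isometry hm (subcoh_sub_conj_mem hS hχ), classInner_sub_left,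
      subcoh_inner_sub_conj hS hχ, classInner_sub_right, oηχ,
      hS.orthogonal η hη _ (hS.conj_mem χ hχ) h2]
    ring
  have c2 : classInner (-Z) (τ (η - conjFun η)) = classInner η η := by
    rw [classInner_neg_left, iso_inner hS.isometry hm (subcoh_sub_conj_mem hS hη),
      classInner_sub_left, subcoh_inner_sub_conj hS hη, classInner_sub_right, oχη,
      hS.orthogonal χ hχ _ (hS.conj_mem η hη) h3]
    ring
  set X := proj (R χ) Z with hX
  have hXg : IsGeneralizedCharacter G X := gen_proj (hS.virtual χ hχ) hZ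
  have hON := subcoh_isON hS hχ
  have c3 : classInner X (τ (χ - conjFun χ)) = classInner χ χ := by
    rw [← c1, ← sub_eq_zero, ← neg_eq_zero, neg_sub, ← classInner_sub_left]
    exact subcoh_inner_tau_eq_zero hS hχ fun α hα => hON.inner_sub_proj Z hα
  have c4 : classInner (X - Z) (τ (η - conjFun η)) = classInner η η := by
    rw [sub_eq_add_neg, classInner_add_left, c2, subcoh_inner_tau_eq_zero hS hη (fun α hα =>
      proj_inner_eq_zero (fun β hβ => classInner_eq_zero_comm.mp (o α hα β hβ)) Z), zero_add]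
  have n1 := subcoh_norm_le hS hχ hXg c3
  have n2 := subcoh_norm_le hS hη (gen_sub hXg hZ) c4
  have n3 : rip Z Z = rip χ χ + rip η η := by
    rw [iso_rip hS.isometry hm hm, rip_sub_self, rip_eq_zero_of oχη]; ring
  have n4 : rip (X - Z) (X - Z) = rip Z Z - rip X X := by
    rw [rip_sub_self, rip_comm X Z, hX, rip_congr (hON.inner_proj_proj Z)]; ring
  obtain ⟨E, hE, hXE⟩ := subcoh_exists_eq_sum hS hχ hXg c3 (by linarith)
  obtain ⟨F, hF, hXF⟩ := subcoh_exists_eq_sum hS hη (gen_sub hXg hZ) c4 (by linarith)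
  refine ⟨E, hE, F, hF, by rw [← hXE, ← hXF]; abel, ?_, ?_⟩
  · rw [← hXE, ← ofReal_rip_self, ← ofReal_rip_self]; congr 1; linarith
  · rw [← hXF, ← ofReal_rip_self, ← ofReal_rip_self]; congr 1; linarith

/-- Peterfalvi (5.7), giving the extension. -/
theorem uniform_degree_coherentWith (hS : IsCoherenceSystem S τ R)
    (hdeg : ∀ φ ∈ S, ∀ ψ ∈ S, φ 1 = ψ 1) :
    ∃ ν : (L → ℂ) →ₗ[ℂ] (G → ℂ), CoherentWith S τ ν := by
  classical
  obtain ⟨χ, hχ⟩ := hS.nonempty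
  have hON := subcoh_isON hS hχ
  have hsum : ∀ E ⊆ R χ, classInner (∑ α ∈ E, α) (τ (χ - conjFun χ)) =
      classInner (∑ α ∈ E, α) (∑ α ∈ E, α) := fun E hE => by
    rw [hS.sum_eq χ hχ, hON.inner_sum_sum hE subset_rfl, hON.inner_sum_sum hE hE,
      Finset.inter_eq_left.mpr hE, Finset.inter_self]
  have hEg : ∀ E ⊆ R χ, IsGeneralizedCharacter G (∑ α ∈ E, α) := fun E hE =>
    gen_sum _ fun α hα => hS.virtual χ hχ α (hE hα)
  by_cases hsub : S ⊆ {χ, conjFun χ}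
  · obtain ⟨n, hn⟩ := char_inner_nat (hS.isCharacter χ hχ) (hS.isCharacter χ hχ)
    have hc := subcoh_card_R hS hχ
    rw [hn] at hc
    have hc' : (R χ).card = 2 * n := by exact_mod_cast hc
    obtain ⟨E, hE, hEn⟩ := Finset.exists_subset_card_eq (s := R χ) (n := n) (by omega)
    have h1 : classInner (∑ α ∈ E, α) (∑ α ∈ E, α) = classInner χ χ := by
      rw [(hON.mono hE).inner_sum_self, hEn, hn]
    obtain ⟨ν, hν, -⟩ := pair_coherentWith hS hχ (hEg E hE) h1 ((hsum E hE).trans h1)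
    exact ⟨ν, hν.mono hsub⟩
  obtain ⟨χ₁, hχ₁, hχ₁'⟩ := Set.not_subset.mp hsub
  simp only [Set.mem_insert_iff, Set.mem_singleton_iff, not_or] at hχ₁'
  obtain ⟨E, hE, F, hF, hEF, hEn, -⟩ := subcoh_sub_eq hS hχ hχ₁ hχ₁'.1 hχ₁'.2 (hdeg _ hχ _ hχ₁)
  have hm : ∀ η ∈ S, ∀ η' ∈ S, η - η' ∈ zspanOn S {1}ᶜ := fun η hη η' hη' =>
    sub_mem_zspanOn_one (mem_zspan hη) (mem_zspan hη') (hdeg _ hη _ hη')
  have oR : ∀ η ∈ S, η ≠ χ → η ≠ conjFun χ → ∀ F' ⊆ R η, ∀ E' ⊆ R χ,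
      classInner (∑ α ∈ F', α) (∑ α ∈ E', α) = 0 := fun η hη h1 h2 F' hF' E' hE' => by
    rw [classInner_sum_left]
    refine Finset.sum_eq_zero fun α hα => ?_
    rw [classInner_sum_right]
    exact Finset.sum_eq_zero fun β hβ => subcoh_orth_R hS hχ hη h1 h2 α (hF' hα) β (hE' hβ)
  have k1 : classInner (τ (χ - χ₁)) (∑ α ∈ E, α) = classInner χ χ := by
    rw [hEF, classInner_sub_left, hEn, oR χ₁ hχ₁ hχ₁'.1 hχ₁'.2 F hF E hE, sub_zero]
  have key : ∀ η ∈ S, η ≠ χ → classInner (τ (χ - η)) (∑ α ∈ E, α) = classInner χ χ := by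
    intro η hη h1
    by_cases h2 : η = conjFun χ
    · rw [h2, ← conj_classInner, hsum E hE, hEn, conj_classInner]
    by_cases h3 : η = χ₁
    · rw [h3, k1]
    by_cases h4 : η = conjFun χ₁
    · have : χ - η = (χ - χ₁) + (χ₁ - conjFun χ₁) := by rw [h4]; abel
      rw [this, iso_add hS.isometry (hm _ hχ _ hχ₁) (subcoh_sub_conj_mem hS hχ₁),
        classInner_add_left, k1, hS.sum_eq χ₁ hχ₁, oR χ₁ hχ₁ hχ₁'.1 hχ₁'.2 _ subset_rfl E hE,
        add_zero]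
    obtain ⟨E', hE', F', hF', hEF', -, -⟩ := subcoh_sub_eq hS hχ hη h1 h2 (hdeg _ hχ _ hη)
    have e1 := iso_inner hS.isometry (hm _ hχ _ hη) (hm _ hχ _ hχ₁)
    have e2 : classInner (τ (χ - η)) (∑ α ∈ F, α) = 0 := by
      rw [hEF', classInner_sub_left,
        classInner_eq_zero_comm.mp (oR χ₁ hχ₁ hχ₁'.1 hχ₁'.2 F hF E' hE'), classInner_sum_left,
        Finset.sum_eq_zero fun α hα => ?_, sub_zero]
      rw [classInner_sum_right]
      exact Finset.sum_eq_zero fun β hβ => subcoh_orth_R hS hχ₁ hη h3 h4 α (hF' hα) β (hF hβ)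
    rw [hEF, classInner_sub_right, e2, sub_zero] at e1
    rw [e1]
    simp only [classInner_sub_left, classInner_sub_right, hS.orthogonal η hη χ hχ h1,
      hS.orthogonal χ hχ χ₁ hχ₁ (Ne.symm hχ₁'.1), hS.orthogonal η hη χ₁ hχ₁ h3]
    ring
  obtain ⟨ν, hν, -⟩ := pivot_coherentWith hS.isometry (mem_zspan hχ)
    (subcoh_apply_one_ne_zero hS hχ) (hEg E hE) hEn (fun η hη => ⟨1, by simp [hdeg _ hη _ hχ], by
      rw [one_smul]
      by_cases h1 : η = χ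
      · simp [h1, iso_zero hS.isometry, classInner_zero_left]
      · rw [← neg_sub, iso_neg hS.isometry (hm _ hχ _ hη), classInner_neg_left, classInner_neg_left,
          key η hη h1, classInner_sub_left, hS.orthogonal η hη χ hχ h1, sub_zero]⟩)
  exact ⟨ν, hν⟩

/-- Peterfalvi (5.7). -/
theorem uniform_degree_coherence (hS : IsCoherenceSystem S τ R)
    (hdeg : ∀ φ ∈ S, ∀ ψ ∈ S, φ 1 = ψ 1) : IsCoherent S {1}ᶜ τ := by
  obtain ⟨ν, hν⟩ := uniform_degree_coherentWith hS hdeg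
  exact subcoh_isCoherent hS (subcoh_conjSub hS) hS.nonempty hν

/-- (5.7) for a conjugation-closed subset -/
theorem uniform_degree_coherence_sub (hS : IsCoherenceSystem S τ R) (h1 : ConjSub S₁ S)
    (hne : S₁.Nonempty) (hdeg : ∀ φ ∈ S₁, ∀ ψ ∈ S₁, φ 1 = ψ 1) : IsCoherent S₁ {1}ᶜ τ :=
  uniform_degree_coherence (subcoh_mono hS h1 hne) hdeg

/-- two members of the same degree lie in a coherent conjugation-closed subset -/
theorem pair_degree_coherence (hS : IsCoherenceSystem S τ R) {φ₁ φ₂ : L → ℂ} (h₁ : φ₁ ∈ S)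
    (h₂ : φ₂ ∈ S) (hdeg : φ₁ 1 = φ₂ 1) :
    ∃ S₁, φ₁ ∈ S₁ ∧ φ₂ ∈ S₁ ∧ ConjSub S₁ S ∧ IsCoherent S₁ {1}ᶜ τ := by
  have hc := (subcoh_pair hS h₁).union (subcoh_pair hS h₂)
  refine ⟨_, Or.inl (Or.inl rfl), Or.inr (Or.inl rfl), hc,
    uniform_degree_coherence_sub hS hc ⟨φ₁, Or.inl (Or.inl rfl)⟩ ?_⟩
  have : ∀ φ ∈ ({φ₁, conjFun φ₁} ∪ {φ₂, conjFun φ₂} : Set (L → ℂ)), φ 1 = φ₁ 1 := by
    rintro _ ((rfl | rfl) | (rfl | rfl))
    exacts [rfl, subcoh_conj_apply_one hS h₁, hdeg.symm, (subcoh_conj_apply_one hS h₂).trans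
      hdeg.symm]
  exact fun φ hφ ψ hψ => (this φ hφ).trans (this ψ hψ).symm

end CL.PF
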