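import Cfsg.Agent.PF.SevenA
import Cfsg.Agent.Auto.ACL_Char_irrConjEquiv_33897c

/-!
# Peterfalvi (7.8), (7.9)
-/

set_option autoImplicit false

namespace CL.PF

open Cfsg CL.Char
open scoped ComplexConjugate

/-! ### virtual characters of a group of odd order -/

section Odd
variable {G : Type*} [Group G] [Fintype G]

theorem classInner_of_conjFun_eq {φ χ : G → ℂ} (hr : conjFun φ = φ)
    (hφ : IsGeneralizedCharacter G φ) (hχ : IsGeneralizedCharacter G χ) :
    classInner φ (conjFun χ) = classInner φ χ := by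
  rw [classInner_conjFun_right, hr, gen_inner_comm hχ hφ]

/-- `cfdot_real_vchar_even` -/
theorem gen_real_inner_parity (hodd : Odd (Nat.card G)) {φ ψ : G → ℂ}
    (hφ : IsGeneralizedCharacter G φ) (hψ : IsGeneralizedCharacter G ψ) (hrφ : conjFun φ = φ)
    (hrψ : conjFun ψ = ψ) : ∃ n : ℤ, classInner φ ψ =
      classInner φ (fun _ => 1) * classInner ψ (fun _ => 1) + 2 * n := by
  classical
  obtain ⟨a, ha, -⟩ := gen_exists_eq_sum hφ
  obtain ⟨b, hb, -⟩ := gen_exists_eq_sum hψ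
  have h1 : classInner φ ψ = ((∑ χ : IrrCharacter G, a χ * b χ : ℤ) : ℂ) := by
    rw [classInner_eq_sum (gen_isClassFunction hφ)]
    push_cast
    refine Finset.sum_congr rfl fun χ _ => ?_
    rw [ha, hb, map_intCast]
  have hσa : ∀ χ, a (irrConjEquiv G χ) = a χ := fun χ => by
    have := classInner_of_conjFun_eq hrφ hφ (gen_of_irr χ.2)
    rw [ha χ] at this
    exact_mod_cast (ha (irrConjEquiv G χ)).symm.trans this
  have hσb : ∀ χ, b (irrConjEquiv G χ) = b χ := fun χ => by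
    have := classInner_of_conjFun_eq hrψ hψ (gen_of_irr χ.2)
    rw [hb χ] at this
    exact_mod_cast (hb (irrConjEquiv G χ)).symm.trans this
  have hev : ((∑ χ ∈ Finset.univ.erase (irrOne G), a χ * b χ : ℤ) : ZMod 2) = 0 := by
    push_cast
    refine Finset.sum_involution (fun χ _ => irrConjEquiv G χ) (fun χ _ => ?_) (fun χ hχ _ => ?_)
      (fun χ hχ => ?_) (fun χ _ => ?_)
    · rw [hσa, hσb, CharTwo.add_self_eq_zero]
    · intro e
      exact irr_conj_ne_of_odd hodd χ.2 (fun e' => (Finset.mem_erase.1 hχ).1 (Subtype.ext e'))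
        (congrArg Subtype.val e)
    · refine Finset.mem_erase.2 ⟨fun e => (Finset.mem_erase.1 hχ).1 ?_, Finset.mem_univ _⟩
      apply (irrConjEquiv G).injective
      rw [e]; ext g; simp [irrConjEquiv_apply, irrOne_apply]
    · ext g; simp [irrConjEquiv_apply]
  obtain ⟨n, hn⟩ := (ZMod.intCast_zmod_eq_zero_iff_dvd _ 2).1 hev
  refine ⟨n, ?_⟩
  rw [h1, ← Finset.add_sum_erase _ _ (Finset.mem_univ (irrOne G)), hn]
  have e1 : classInner φ (fun _ => 1) = a (irrOne G) := ha (irrOne G)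
  have e2 : classInner ψ (fun _ => 1) = b (irrOne G) := hb (irrOne G)
  rw [e1, e2]; push_cast; ring

theorem gen_real_inner_even (hodd : Odd (Nat.card G)) {φ ψ : G → ℂ}
    (hφ : IsGeneralizedCharacter G φ) (hψ : IsGeneralizedCharacter G ψ) (hrφ : conjFun φ = φ)
    (hrψ : conjFun ψ = ψ) (h1 : classInner φ (fun _ => 1) = 0) :
    ∃ n : ℤ, classInner φ ψ = 2 * n := by
  obtain ⟨n, hn⟩ := gen_real_inner_parity hodd hφ hψ hrφ hrψ
  exact ⟨n, by rw [hn, h1, zero_mul, zero_add]⟩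

theorem signedIrr_inner_conjFun_of_odd (hodd : Odd (Nat.card G)) {α : G → ℂ}
    (h : IsSignedIrr G α) (h1 : classInner α (fun _ => 1) = 0) : classInner α (conjFun α) = 0 := by
  have key : ∀ χ : G → ℂ, IsIrrCharacter G χ → classInner χ (fun _ => 1) = 0 →
      classInner χ (conjFun χ) = 0 := fun χ hχ h0 =>
    irr_inner_conj_of_odd hodd hχ fun e => by
      rw [e, classInner_one_one] at h0; exact one_ne_zero h0
  rcases h with h | h
  · exact key α h h1
  · have := key (-α) h (by rw [classInner_neg_left, h1, neg_zero])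
    rwa [conjFun_neg, classInner_neg_left, classInner_neg_right, neg_neg] at this

/-- the form of (4.1) used in sections 7 and 14 -/
theorem signedIrr_ortho_of_sub_sub {α β γ δ : G → ℂ} (hα : IsSignedIrr G α) (hβ : IsSignedIrr G β)
    (hγ : IsSignedIrr G γ) (hδ : IsSignedIrr G δ) (hαβ : classInner α β = 0)
    (hγδ : classInner γ δ = 0) (h1 : α 1 = β 1) (h2 : γ 1 = δ 1)
    (h : classInner (α - β) (γ - δ) = 0) : classInner α γ = 0 := by
  have hβα : classInner β α = 0 := classInner_eq_zero_comm.1 hαβ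
  rw [classInner_sub_left, classInner_sub_right, classInner_sub_right] at h
  have hα1 := hα.apply_one_ne_zero
  rcases hα.eq_or_eq_neg_or_orth hγ with e | e | e
  · subst e
    rw [hα.inner_self, hγδ, hβα] at h
    have : β = -δ := hβ.eq_of_inner_eq_one hδ.neg (by
      rw [classInner_neg_right]; linear_combination -h)
    rw [this, Pi.neg_apply, ← h2] at h1
    exact (hα1 (by linear_combination h1 / 2)).elim
  · have e' : γ = -α := by rw [e, neg_neg]
    subst e'
    rw [classInner_neg_left, neg_eq_zero] at hγδ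
    rw [classInner_neg_right, classInner_neg_right, hα.inner_self, hγδ, hβα] at h
    have : β = δ := hβ.eq_of_inner_eq_one hδ (by linear_combination h)
    rw [this, ← h2, Pi.neg_apply] at h1
    exact (hα1 (by linear_combination h1 / 2)).elim
  · exact e

end Odd

/-! ### coherent extensions on `S` -/

namespace Hyp76
variable {G : Type*} [Group G] [Fintype G] {L : Subgroup G} [Fintype L] {H : Subgroup L}
  {A A₀ : Set G} {R : G → Subgroup G} {ν : (L → ℂ) → (G → ℂ)} {S : Set (L → ℂ)}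

theorem nu_signed (hS : S ⊆ seqIndD H H ⊥) (hc : CoherentWith S (dadeIsometry A₀ L R) ν)
    {χ : L → ℂ} (hχ : χ ∈ S) (hi : IsIrrCharacter L χ) : IsSignedIrr G (ν χ) := by
  have _ := hS
  exact isSignedIrr_of_norm_one (hc.gen (mem_zspan hχ))
    (by rw [hc.inner (mem_zspan hχ) (mem_zspan hχ), irr_inner_self hi])

/-- `ν χ - ν χ̄ = (χ - χ̄)^τ` -/
theorem nu_sub_conj (hS : S ⊆ seqIndD H H ⊥) (hc : CoherentWith S (dadeIsometry A₀ L R) ν)
    {χ : L → ℂ} (hχ : χ ∈ S) (hχ' : conjFun χ ∈ S) :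
    dadeIsometry A₀ L R (χ - conjFun χ) = ν χ - ν (conjFun χ) :=
  hc.sub (mem_zspan hχ) (mem_zspan hχ') (char_conjFun_apply_one (SeqSelf.char (hS hχ))).symm

theorem nu_conj_apply_one (h : Hyp76 L H A A₀ R) (hS : S ⊆ seqIndD H H ⊥)
    (hc : CoherentWith S (dadeIsometry A₀ L R) ν) {χ : L → ℂ} (hχ : χ ∈ S)
    (hχ' : conjFun χ ∈ S) : ν χ 1 = ν (conjFun χ) 1 := by
  have := congrFun (nu_sub_conj hS hc hχ hχ') 1
  rw [Dade.apply_one h.dade₀, Pi.sub_apply] at this
  exact sub_eq_zero.1 this.symm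

/-- the image of an irreducible member of a conjugation-closed coherent set is orthogonal to `1` -/
theorem nu_inner_one (h : Hyp76 L H A A₀ R) (hodd : Odd (Nat.card L)) (hS : S ⊆ seqIndD H H ⊥)
    (hc : CoherentWith S (dadeIsometry A₀ L R) ν) {χ : L → ℂ} (hχ : χ ∈ S)
    (hχ' : conjFun χ ∈ S) (hi : IsIrrCharacter L χ) : classInner (ν χ) (fun _ => 1) = 0 := by
  have := h.normal
  have hm : χ - conjFun χ ∈ zspanOn (seqIndD H H ⊥) {1}ᶜ :=
    sub_mem_zspanOn_one (mem_zspan (hS hχ)) (mem_zspan (hS hχ'))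
      (char_conjFun_apply_one (SeqSelf.char (hS hχ))).symm
  have h1 := Dade.classInner_one h.dade₀
    (classFun_of_mem_zspan (fun _ => SeqSelf.classFun) hm.1) (h.supp₀ (h.supp_zspanOn hm))
  rw [nu_sub_conj hS hc hχ hχ', classInner_sub_left, classInner_sub_left,
    SeqSelf.inner_one (hS hχ), SeqSelf.inner_one (hS hχ'), sub_self, sub_eq_zero] at h1
  have h2 : classInner (ν (conjFun χ)) (ν χ) = 0 := by
    rw [hc.inner (mem_zspan hχ') (mem_zspan hχ)]
    exact SeqSelf.inner_of_ne (hS hχ') (hS hχ) (SeqSelf.conj_ne hodd (hS hχ) hi)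
  rcases (nu_signed hS hc hχ hi).eq_or_eq_neg_or_orth (β := fun _ => 1) (Or.inl irr_one) with
    e | e | e
  · rw [e] at h1 h2
    rw [e, h1, h2]
  · rw [e] at h1 h2
    rw [classInner_neg_right, neg_eq_zero] at h2
    rw [e, h1, h2]
  · exact e

/-- (5.9.a) for complex conjugation, in a group of odd order -/
theorem nu_conjFun (h : Hyp76 L H A A₀ R) (hodd : Odd (Nat.card G)) (hS : S ⊆ seqIndD H H ⊥)
    (hc : CoherentWith S (dadeIsometry A₀ L R) ν) {χ : L → ℂ} (hχ : χ ∈ S)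
    (hχ' : conjFun χ ∈ S) (hi : IsIrrCharacter L χ) : ν (conjFun χ) = conjFun (ν χ) := by
  have := h.normal
  have hoddL : Odd (Nat.card L) := hodd.of_dvd_nat (Subgroup.card_subgroup_dvd_card L)
  have hα := nu_signed hS hc hχ hi
  have hβ := nu_signed hS hc hχ' (irr_conjFun hi)
  have h1 := nu_sub_conj hS hc hχ hχ'
  have h2 : conjFun (ν χ) - conjFun (ν (conjFun χ)) = ν (conjFun χ) - ν χ := by
    rw [← conjFun_sub, ← h1, ← dade_conjFun, conjFun_sub, conjFun_conjFun, ← neg_sub, dade_neg, h1,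
      neg_sub]
  have h3 : classInner (ν (conjFun χ)) (ν χ) = 0 := by
    rw [hc.inner (mem_zspan hχ') (mem_zspan hχ)]
    exact SeqSelf.inner_of_ne (hS hχ') (hS hχ) (SeqSelf.conj_ne hoddL (hS hχ) hi)
  have h4 := signedIrr_inner_conjFun_of_odd hodd hα (h.nu_inner_one hoddL hS hc hχ hχ' hi)
  have h5 := congrArg (fun f => classInner f (ν χ)) h2
  simp only [classInner_sub_left] at h5
  rw [h3, hα.inner_self, classInner_eq_zero_comm.1 h4] at h5
  have h6 : conjFun (ν (conjFun χ)) = ν χ :=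
    hβ.conjFun.eq_of_inner_eq_one hα (by linear_combination -h5)
  rw [← h6, conjFun_conjFun]

end Hyp76

/-! ### (7.8) -/

/-- The hypotheses of (7.8), for a subgroup `L` of odd order. -/
structure Hyp78 {G : Type*} [Group G] [Fintype G] (L : Subgroup G) [Fintype L] (H : Subgroup L)
    (A A₀ : Set G) (R : G → Subgroup G) (ν : (L → ℂ) → (G → ℂ)) (ζ : L → ℂ) : Prop
    extends Hyp76 L H A A₀ R where
  odd : Odd (Nat.card L)
  coh : CoherentWith (seqIndD H H ⊥) (dadeIsometry A₀ L R) ν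
  mem : ζ ∈ seqIndD H H ⊥
  irr : IsIrrCharacter L ζ
  deg : ζ 1 = H.index

/-- `β = (Ind 1 - ζ)^τ` -/
noncomputable def beta78 {G : Type*} [Group G] (L : Subgroup G) [Fintype L] (H : Subgroup L)
    (A₀ : Set G) (R : G → Subgroup G) (ζ : L → ℂ) : G → ℂ :=
  dadeIsometry A₀ L R (indFun H (fun _ => 1) - ζ)

namespace Hyp78
variable {G : Type*} [Group G] [Fintype G] {L : Subgroup G} [Fintype L] {H : Subgroup L}
  {A A₀ : Set G} {R : G → Subgroup G} {ν : (L → ℂ) → (G → ℂ)} {ζ : L → ℂ}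

theorem index_ne_zero (_h : Hyp78 L H A A₀ R ν ζ) : (H.index : ℂ) ≠ 0 := by
  exact_mod_cast Subgroup.index_ne_zero_of_finite

theorem classFun_sub (h : Hyp78 L H A A₀ R ν ζ) :
    IsClassFunction L (indFun H (fun _ => 1) - ζ) :=
  Char.classFun_sub (indFun_isClassFunction H _) (SeqSelf.classFun h.mem)

theorem supp_sub (h : Hyp78 L H A A₀ R ν ζ) (x : L) (hx : (x : G) ∉ A) :
    (indFun H (fun _ => 1) - ζ) x = 0 := h.supp_indOne_sub h.mem h.deg x hx

theorem nu_zeta_signed (h : Hyp78 L H A A₀ R ν ζ) : IsSignedIrr G (ν ζ) :=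
  Hyp76.nu_signed subset_rfl h.coh h.mem h.irr

theorem nu_zeta_norm (h : Hyp78 L H A A₀ R ν ζ) : classInner (ν ζ) (ν ζ) = 1 :=
  h.nu_zeta_signed.inner_self

theorem nu_gen (h : Hyp78 L H A A₀ R ν ζ) {φ : L → ℂ} (hφ : φ ∈ zspan (seqIndD H H ⊥)) :
    IsGeneralizedCharacter G (ν φ) := h.coh.gen hφ

theorem nu_classFun (h : Hyp78 L H A A₀ R ν ζ) {φ : L → ℂ} (hφ : φ ∈ zspan (seqIndD H H ⊥)) :
    IsClassFunction G (ν φ) := gen_isClassFunction (h.coh.gen hφ)

theorem exists_int_deg (_h : Hyp78 L H A A₀ R ν ζ) {φ : L → ℂ} (hφ : φ ∈ zspan (seqIndD H H ⊥)) :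
    ∃ d : ℤ, φ 1 = d * (H.index : ℂ) := by
  refine zspan_induction (P := fun φ => ∃ d : ℤ, φ 1 = d * (H.index : ℂ)) ?_ ⟨0, by simp⟩ ?_ ?_ hφ
  · intro χ hχ
    obtain ⟨d, -, hd⟩ := SeqSelf.exists_deg hχ
    exact ⟨d, by rw [hd]; simp⟩
  · rintro α β - - ⟨a, ha⟩ ⟨b, hb⟩
    exact ⟨a + b, by rw [Pi.add_apply, ha, hb]; push_cast; ring⟩
  · rintro n α - ⟨a, ha⟩
    exact ⟨n * a, by rw [Pi.smul_apply, ha]; simp [mul_assoc]⟩

/-- `(φ - (φ(1) / e) ζ)^τ = ν φ - (φ(1) / e) ν ζ` -/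
theorem tau_sub (h : Hyp78 L H A A₀ R ν ζ) {φ : L → ℂ} (hφ : φ ∈ zspan (seqIndD H H ⊥)) :
    dadeIsometry A₀ L R (φ - (φ 1 / H.index) • ζ) = ν φ - (φ 1 / H.index) • ν ζ := by
  obtain ⟨d, hd⟩ := h.exists_int_deg hφ
  have := h.coh.sub_zsmul hφ (mem_zspan h.mem) (a := d) (by rw [hd, h.deg])
  rw [hd, mul_div_cancel_right₀ _ h.index_ne_zero, Int.cast_smul_eq_zsmul, Int.cast_smul_eq_zsmul,
    this]

theorem sub_mem (h : Hyp78 L H A A₀ R ν ζ) {φ : L → ℂ} (hφ : φ ∈ zspan (seqIndD H H ⊥)) :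
    φ - (φ 1 / H.index) • ζ ∈ zspanOn (seqIndD H H ⊥) {1}ᶜ := by
  obtain ⟨d, hd⟩ := h.exists_int_deg hφ
  rw [hd, mul_div_cancel_right₀ _ h.index_ne_zero, Int.cast_smul_eq_zsmul]
  exact sub_zsmul_mem_zspanOn_one hφ (mem_zspan h.mem) (by rw [hd, h.deg])

/-- (7.8.a): `ν S` is orthogonal to `1` -/
theorem nu_inner_one (h : Hyp78 L H A A₀ R ν ζ) {φ : L → ℂ} (hφ : φ ∈ zspan (seqIndD H H ⊥)) :
    classInner (ν φ) (fun _ => 1) = 0 := by
  have h0 := h.toHyp76.nu_inner_one h.odd subset_rfl h.coh h.mem (SeqSelf.conj_mem h.mem) h.irr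
  have hm := h.sub_mem hφ
  have h1 := Dade.classInner_one h.dade₀
    (classFun_of_mem_zspan (fun _ => SeqSelf.classFun) hm.1) (h.supp₀ (h.supp_zspanOn hm))
  rwa [h.tau_sub hφ, classInner_sub_left, classInner_smul_left, h0, mul_zero, sub_zero,
    classInner_zspan_left (fun _ => SeqSelf.inner_one) hm.1] at h1

theorem one_inner_nu (h : Hyp78 L H A A₀ R ν ζ) {φ : L → ℂ} (hφ : φ ∈ zspan (seqIndD H H ⊥)) :
    classInner (fun _ => 1) (ν φ) = 0 := classInner_eq_zero_comm.1 (h.nu_inner_one hφ)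

/-- (7.8.a) -/
theorem beta_gen (h : Hyp78 L H A A₀ R ν ζ) : IsGeneralizedCharacter G (beta78 L H A₀ R ζ) :=
  Dade.gen h.dade₀ (gen_sub (gen_of_char (char_indFun_one H)) (SeqSelf.gen h.mem))
    (h.supp₀ h.supp_sub)

theorem beta_classFun (h : Hyp78 L H A A₀ R ν ζ) : IsClassFunction G (beta78 L H A₀ R ζ) :=
  gen_isClassFunction h.beta_gen

theorem beta_eq_zero (h : Hyp78 L H A A₀ R ν ζ) {g : G} (hg : g ∉ dadeSupp A R) :
    beta78 L H A₀ R ζ g = 0 := h.tau_eq_zero h.classFun_sub h.supp_sub hg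

/-- (7.8.a) -/
theorem beta_inner_one (h : Hyp78 L H A A₀ R ν ζ) :
    classInner (beta78 L H A₀ R ζ) (fun _ => 1) = 1 := by
  rw [beta78, Dade.classInner_one h.dade₀ h.classFun_sub (h.supp₀ h.supp_sub), classInner_sub_left,
    classInner_indOne_one, SeqSelf.inner_one h.mem, sub_zero]

theorem one_inner_beta (h : Hyp78 L H A A₀ R ν ζ) :
    classInner (fun _ => 1) (beta78 L H A₀ R ζ) = 1 := by
  rw [← conj_classInner, h.beta_inner_one, map_one]

theorem beta_norm (h : Hyp78 L H A A₀ R ν ζ) :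
    classInner (beta78 L H A₀ R ζ) (beta78 L H A₀ R ζ) = H.index + 1 := by
  have := h.normal
  rw [beta78, Dade.isometry h.dade₀ h.classFun_sub h.classFun_sub (h.supp₀ h.supp_sub),
    classInner_sub_left, classInner_sub_right, classInner_sub_right, classInner_indOne_self,
    SeqSelf.inner_indOne h.mem, classInner_eq_zero_comm.1 (SeqSelf.inner_indOne h.mem),
    irr_inner_self h.irr]
  ring

/-- `conj β - β = ν ζ - ν ζ̄` -/
theorem conjFun_beta (h : Hyp78 L H A A₀ R ν ζ) :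
    conjFun (beta78 L H A₀ R ζ) = beta78 L H A₀ R ζ + (ν ζ - ν (conjFun ζ)) := by
  rw [← Hyp76.nu_sub_conj subset_rfl h.coh h.mem (SeqSelf.conj_mem h.mem), beta78, ← dade_conjFun,
    ← dade_add, conjFun_sub, conjFun_indOne]
  congr 1; abel

/-- `β + ν ζ` is real-valued -/
theorem conjFun_beta_add (h : Hyp78 L H A A₀ R ν ζ) (hodd : Odd (Nat.card G)) :
    conjFun (beta78 L H A₀ R ζ + ν ζ) = beta78 L H A₀ R ζ + ν ζ := by
  rw [conjFun_add, h.conjFun_beta,
    ← h.nu_conjFun hodd subset_rfl h.coh h.mem (SeqSelf.conj_mem h.mem) h.irr]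
  abel

theorem exists_a (h : Hyp78 L H A A₀ R ν ζ) :
    ∃ a : ℤ, classInner (beta78 L H A₀ R ζ) (ν ζ) = a - 1 := by
  obtain ⟨n, hn⟩ := gen_inner_int h.beta_gen (h.nu_gen (mem_zspan h.mem))
  exact ⟨n + 1, by rw [hn]; push_cast; ring⟩

theorem beta_inner_nu (h : Hyp78 L H A A₀ R ν ζ) {a : ℤ}
    (ha : classInner (beta78 L H A₀ R ζ) (ν ζ) = a - 1) {φ : L → ℂ}
    (hφ : φ ∈ zspan (seqIndD H H ⊥)) :
    classInner (beta78 L H A₀ R ζ) (ν φ) = a * (φ 1 / H.index) - classInner ζ φ := by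
  have := h.normal
  have hm := h.sub_mem hφ
  have h1 := Dade.isometry h.dade₀ h.classFun_sub
    (classFun_of_mem_zspan (fun _ => SeqSelf.classFun) hm.1) (h.supp₀ (h.supp_zspanOn hm))
  obtain ⟨d, hd⟩ := h.exists_int_deg hφ
  rw [h.tau_sub hφ, classInner_sub_left, classInner_zspan_right
    (fun _ hχ => classInner_eq_zero_comm.1 (SeqSelf.inner_indOne hχ)) hm.1] at h1
  rw [hd, mul_div_cancel_right₀ _ h.index_ne_zero] at h1 ⊢
  rw [classInner_sub_right, classInner_sub_right, classInner_smul_right, classInner_smul_right,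
    map_intCast, irr_inner_self h.irr] at h1
  rw [beta78] at ha ⊢
  rw [ha] at h1
  linear_combination h1

/-- `Γ` of (7.8.a) -/
noncomputable def gamma (_h : Hyp78 L H A A₀ R ν ζ) (a : ℤ) : G → ℂ :=
  beta78 L H A₀ R ζ - (fun _ => 1) + ν ζ - ((a : ℂ) / H.index) • ν (sumSeq H)

theorem beta_eq (h : Hyp78 L H A A₀ R ν ζ) (a : ℤ) : beta78 L H A₀ R ζ =
    (fun _ => 1) - ν ζ + ((a : ℂ) / H.index) • ν (sumSeq H) + h.gamma a := by
  rw [gamma]; abel

theorem gamma_classFun (h : Hyp78 L H A A₀ R ν ζ) (a : ℤ) : IsClassFunction G (h.gamma a) :=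
  Char.classFun_sub (classFun_add (Char.classFun_sub h.beta_classFun (isClassFunction_const 1))
    (h.nu_classFun (mem_zspan h.mem))) (classFun_smul _ (h.nu_classFun (sumSeq_mem H)))

theorem gamma_zero (h : Hyp78 L H A A₀ R ν ζ) :
    h.gamma 0 = beta78 L H A₀ R ζ - (fun _ => 1) + ν ζ := by
  simp [gamma]

theorem gamma_zero_gen (h : Hyp78 L H A A₀ R ν ζ) : IsGeneralizedCharacter G (h.gamma 0) := by
  rw [h.gamma_zero]
  exact gen_add (gen_sub h.beta_gen gen_one) (h.nu_gen (mem_zspan h.mem))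

theorem conjFun_gamma_zero (h : Hyp78 L H A A₀ R ν ζ) (hodd : Odd (Nat.card G)) :
    conjFun (h.gamma 0) = h.gamma 0 := by
  rw [h.gamma_zero, sub_add_eq_add_sub, conjFun_sub, h.conjFun_beta_add hodd, conjFun_one]

theorem gamma_inner_one (h : Hyp78 L H A A₀ R ν ζ) (a : ℤ) :
    classInner (h.gamma a) (fun _ => 1) = 0 := by
  rw [gamma, classInner_sub_left, classInner_add_left, classInner_sub_left, classInner_smul_left,
    h.beta_inner_one, classInner_one_one, h.nu_inner_one (mem_zspan h.mem),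
    h.nu_inner_one (sumSeq_mem H)]
  ring

theorem gamma_inner_nu (h : Hyp78 L H A A₀ R ν ζ) {a : ℤ}
    (ha : classInner (beta78 L H A₀ R ζ) (ν ζ) = a - 1) {φ : L → ℂ}
    (hφ : φ ∈ zspan (seqIndD H H ⊥)) : classInner (h.gamma a) (ν φ) = 0 := by
  have := h.normal
  rw [gamma, classInner_sub_left, classInner_add_left, classInner_sub_left, classInner_smul_left,
    h.beta_inner_nu ha hφ, h.one_inner_nu hφ, h.coh.inner (mem_zspan h.mem) hφ,
    h.coh.inner (sumSeq_mem H) hφ, classInner_sumSeq_left hφ]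
  ring

/-- if `χ` is orthogonal to `1` and to `ν S`, then `(Γ, χ) = (β, χ)` -/
theorem gamma_inner_of_orth (h : Hyp78 L H A A₀ R ν ζ) (a : ℤ) {χ : G → ℂ}
    (h1 : classInner (fun _ => 1) χ = 0) (ho : ∀ φ ∈ seqIndD H H ⊥, classInner (ν φ) χ = 0) :
    classInner (h.gamma a) χ = classInner (beta78 L H A₀ R ζ) χ := by
  rw [gamma, classInner_sub_left, classInner_add_left, classInner_sub_left, classInner_smul_left,
    h1, ho _ h.mem, iso_inner_eq_zero_left h.coh.iso subset_zspan ho (sumSeq_mem H)]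
  ring

theorem gamma_norm (h : Hyp78 L H A A₀ R ν ζ) {a : ℤ}
    (ha : classInner (beta78 L H A₀ R ζ) (ν ζ) = a - 1) :
    rip (h.gamma a) (h.gamma a) =
      H.index - 1 + 2 * a - a ^ 2 * ((Nat.card H : ℝ) - 1) / H.index := by
  have := h.normal
  refine rip_of_classInner_eq ?_
  have e1 : classInner (h.gamma a) (h.gamma a) = classInner (h.gamma a) (beta78 L H A₀ R ζ) := by
    conv_lhs => arg 2; rw [gamma]
    rw [classInner_sub_right, classInner_add_right, classInner_sub_right, classInner_smul_right,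
      h.gamma_inner_one, h.gamma_inner_nu ha (mem_zspan h.mem), h.gamma_inner_nu ha (sumSeq_mem H)]
    ring
  have e2 : classInner (ν ζ) (beta78 L H A₀ R ζ) = a - 1 := by
    rw [gen_inner_comm (h.nu_gen (mem_zspan h.mem)) h.beta_gen, ha]
  have e3 : classInner (ν (sumSeq H)) (beta78 L H A₀ R ζ) =
      a * ((Nat.card H : ℂ) - 1) - H.index := by
    rw [gen_inner_comm (h.nu_gen (sumSeq_mem H)) h.beta_gen, h.beta_inner_nu ha (sumSeq_mem H),
      sumSeq_apply_one, classInner_sumSeq_right (mem_zspan h.mem), h.deg,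
      mul_div_cancel_left₀ _ h.index_ne_zero]
  rw [e1, gamma, classInner_sub_left, classInner_add_left, classInner_sub_left,
    classInner_smul_left, h.beta_norm, h.one_inner_beta, e2, e3]
  have := h.index_ne_zero
  push_cast
  field_simp
  ring

/-- the values of `χ^ρ` on `A` only depend on `(β, χ)` and on the projection of `χ` on `ν S` -/
theorem invDade_eq (h : Hyp78 L H A A₀ R ν ζ) {χ : G → ℂ} (hχ : IsClassFunction G χ) {ψ : L → ℂ}
    (hψ : IsClassFunction L ψ) (hψ1 : classInner (indFun H (fun _ => 1)) ψ = 0)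
    (hi : ∀ φ ∈ seqIndD H H ⊥, classInner (ν φ) χ = classInner φ ψ) {x : L} (hx : (x : G) ∈ A) :
    invDade A L R χ x = ψ x + (classInner χ (beta78 L H A₀ R ζ) + classInner ψ ζ) := by
  have := h.normal
  set c := classInner χ (beta78 L H A₀ R ζ) + classInner ψ ζ with hc
  have key := h.invDade_eq_of_inner (ζ₀ := indFun H (fun _ => 1)) (indFun_isClassFunction H _)
    (fun y hy => indFun_eq_zero_of_normal H _ hy)
    (by rw [indOne_apply_one]; exact h.index_ne_zero) hχ (φ₀ := ψ + c • fun _ => 1)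
    (classFun_add hψ (classFun_smul _ (isClassFunction_const 1))) (fun θ hθ => ?_) hx
  · rw [key]; simp
  by_cases h1 : θ = fun _ => 1
  · rw [h1, div_self (by rw [indOne_apply_one]; exact h.index_ne_zero), one_smul, sub_self,
      dade_zero, classInner_zero_left, classInner_zero_left]
  have hm : indFun H θ ∈ seqIndD H H ⊥ := mem_seqIndD_self.2 ⟨θ, hθ, h1, rfl⟩
  generalize indFun H θ = φ at hm
  rw [indOne_apply_one]
  have e : φ - (φ 1 / H.index) • indFun H (fun _ => 1) =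
      (φ - (φ 1 / H.index) • ζ) - (φ 1 / H.index) • (indFun H (fun _ => 1) - ζ) := by
    rw [smul_sub]; abel
  conv_lhs => rw [e, dade_sub, dade_smul, h.tau_sub (mem_zspan hm)]
  simp only [classInner_sub_left, classInner_smul_left, classInner_add_right,
    classInner_smul_right]
  rw [hi _ hm, hi _ h.mem, hψ1, SeqSelf.inner_one hm, classInner_indOne_one, hc, map_add,
    conj_classInner, conj_classInner, beta78]
  ring

/-- `(ν ψ)^ρ = ψ + a ψ(1) / e` on `A` -/
theorem invDade_nu (h : Hyp78 L H A A₀ R ν ζ) {a : ℤ}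
    (ha : classInner (beta78 L H A₀ R ζ) (ν ζ) = a - 1) {ψ : L → ℂ}
    (hψ : ψ ∈ zspan (seqIndD H H ⊥)) {x : L} (hx : (x : G) ∈ A) :
    invDade A L R (ν ψ) x = ψ x + a * (ψ 1 / H.index) := by
  have := h.normal
  have hg : IsGeneralizedCharacter L ψ := gen_of_mem_zspan (fun _ => SeqSelf.gen) hψ
  rw [h.invDade_eq (h.nu_classFun hψ) (gen_isClassFunction hg) (classInner_zspan_right
      (fun _ hχ => classInner_eq_zero_comm.1 (SeqSelf.inner_indOne hχ)) hψ)
      (fun φ hφ => h.coh.inner (mem_zspan hφ) hψ) hx,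
    gen_inner_comm (h.nu_gen hψ) h.beta_gen, h.beta_inner_nu ha hψ,
    gen_inner_comm hg (SeqSelf.gen h.mem)]
  ring

theorem invDade_nu_zeta (h : Hyp78 L H A A₀ R ν ζ) {a : ℤ}
    (ha : classInner (beta78 L H A₀ R ζ) (ν ζ) = a - 1) {x : L} (hx : (x : G) ∈ A) :
    invDade A L R (ν ζ) x = ζ x + a := by
  rw [h.invDade_nu ha (mem_zspan h.mem) hx, h.deg, div_self h.index_ne_zero, mul_one]

theorem norm_invDade_nu_zeta (h : Hyp78 L H A A₀ R ν ζ) {a : ℤ}
    (ha : classInner (beta78 L H A₀ R ζ) (ν ζ) = a - 1) :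
    rip (invDade A L R (ν ζ)) (invDade A L R (ν ζ)) = 1 - (H.index : ℝ) / Nat.card H +
      (a ^ 2 * ((Nat.card H : ℝ) - 1) - 2 * a * H.index) / (H.index * Nat.card H) := by
  have := h.normal
  have he := h.index_ne_zero
  have he' : (H.index : ℝ) ≠ 0 := by exact_mod_cast Subgroup.index_ne_zero_of_finite
  have hh : (Nat.card H : ℝ) ≠ 0 := by exact_mod_cast Nat.card_pos.ne'
  rw [h.norm_invDade_of_eq (φ₀ := ζ + ((a : ℂ) / H.index) • indFun H (fun _ => 1))
    (fun x hx => by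
      rw [Pi.add_apply, Pi.smul_apply, SeqSelf.eq_zero h.mem hx, indFun_eq_zero_of_normal H _ hx]
      simp)
    (fun x hx => by
      rw [h.invDade_nu_zeta ha hx, Pi.add_apply, Pi.smul_apply,
        indOne_apply_of_mem ((h.mem_iff x).1 hx).1, smul_eq_mul, div_mul_cancel₀ _ he])]
  have e1 : rip (ζ + ((a : ℂ) / H.index) • indFun H (fun _ => 1))
      (ζ + ((a : ℂ) / H.index) • indFun H (fun _ => 1)) = 1 + a ^ 2 / H.index := by
    refine rip_of_classInner_eq ?_
    simp only [classInner_add_left, classInner_add_right, classInner_smul_left,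
      classInner_smul_right]
    rw [irr_inner_self h.irr, SeqSelf.inner_indOne h.mem,
      classInner_eq_zero_comm.1 (SeqSelf.inner_indOne h.mem), classInner_indOne_self, map_div₀,
      map_intCast, map_natCast]
    push_cast
    field_simp
    ring
  have e2 : (ζ + ((a : ℂ) / H.index) • indFun H (fun _ => 1)) 1 = ((H.index + a : ℝ) : ℂ) := by
    rw [Pi.add_apply, Pi.smul_apply, h.deg, indOne_apply_one, smul_eq_mul, div_mul_cancel₀ _ he]
    push_cast; rfl
  rw [e1, e2, Complex.norm_real, Real.norm_eq_abs, sq_abs, ← H.index_mul_card]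
  push_cast
  field_simp
  ring

private theorem int_sq_sub_nonneg (a : ℤ) : (0 : ℝ) ≤ (a : ℝ) ^ 2 - a := by
  have : (0 : ℤ) ≤ a ^ 2 - a := by nlinarith [sq_nonneg (2 * a - 1), Int.le_self_sq a]
  exact_mod_cast this

/-- (7.8.b) -/
theorem norm_invDade_nu_zeta_ge (h : Hyp78 L H A A₀ R ν ζ) (hb : 2 * H.index + 1 ≤ Nat.card H) :
    1 - (H.index : ℝ) / Nat.card H ≤ rip (invDade A L R (ν ζ)) (invDade A L R (ν ζ)) := by
  obtain ⟨a, ha⟩ := h.exists_a
  rw [h.norm_invDade_nu_zeta ha, le_add_iff_nonneg_right]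
  have hb' : 2 * (H.index : ℝ) + 1 ≤ Nat.card H := by exact_mod_cast hb
  have he : (0 : ℝ) ≤ H.index := Nat.cast_nonneg _
  refine div_nonneg ?_ (by positivity)
  nlinarith [int_sq_sub_nonneg a, sq_nonneg (a : ℝ)]

/-- (7.8.b) -/
theorem gamma_norm_le (h : Hyp78 L H A A₀ R ν ζ) {a : ℤ}
    (ha : classInner (beta78 L H A₀ R ζ) (ν ζ) = a - 1) (hb : 2 * H.index + 1 ≤ Nat.card H) :
    rip (h.gamma a) (h.gamma a) ≤ H.index - 1 := by
  rw [h.gamma_norm ha]
  have hb' : 2 * (H.index : ℝ) + 1 ≤ Nat.card H := by exact_mod_cast hb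
  have he : (0 : ℝ) < H.index := by exact_mod_cast Nat.pos_of_ne_zero Subgroup.index_ne_zero_of_finite
  have : 2 * (a : ℝ) ≤ a ^ 2 * ((Nat.card H : ℝ) - 1) / H.index := by
    rw [le_div_iff₀ he]
    nlinarith [int_sq_sub_nonneg a, sq_nonneg (a : ℝ)]
  linarith

/-- the inequality `a² (h - 1) / e ≤ e - 1 + 2 a` -/
theorem a_bound (h : Hyp78 L H A A₀ R ν ζ) {a : ℤ}
    (ha : classInner (beta78 L H A₀ R ζ) (ν ζ) = a - 1) :
    (a : ℝ) ^ 2 * ((Nat.card H : ℝ) - 1) / H.index ≤ H.index - 1 + 2 * a := by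
  have := rip_self_nonneg (h.gamma a)
  rw [h.gamma_norm ha] at this
  linarith

/-- (7.8.c) -/
theorem invDade_of_orth (h : Hyp78 L H A A₀ R ν ζ) {χ : G → ℂ} (hχ : IsClassFunction G χ)
    (ho : ∀ φ ∈ seqIndD H H ⊥, classInner (ν φ) χ = 0) {x : L} (hx : (x : G) ∈ A) :
    invDade A L R χ x = classInner χ (beta78 L H A₀ R ζ) := by
  rw [h.invDade_eq hχ isClassFunction_zero (classInner_zero_right _)
    (fun φ hφ => by rw [ho φ hφ, classInner_zero_right]) hx, classInner_zero_left]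
  simp

/-- (7.8.c) -/
theorem norm_invDade_of_orth (h : Hyp78 L H A A₀ R ν ζ) {χ : G → ℂ} (hχ : IsClassFunction G χ)
    (ho : ∀ φ ∈ seqIndD H H ⊥, classInner (ν φ) χ = 0) :
    rip (invDade A L R χ) (invDade A L R χ) =
      (Nat.card A : ℝ) / Nat.card L * ‖classInner (beta78 L H A₀ R ζ) χ‖ ^ 2 := by
  have := h.normal
  have he := h.index_ne_zero
  have he' : (H.index : ℝ) ≠ 0 := by exact_mod_cast Subgroup.index_ne_zero_of_finite
  have hh : (Nat.card H : ℝ) ≠ 0 := by exact_mod_cast Nat.card_pos.ne'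
  set c := classInner χ (beta78 L H A₀ R ζ) with hc
  rw [h.norm_invDade_of_eq (φ₀ := (c / H.index) • indFun H (fun _ => 1))
    (fun x hx => by rw [Pi.smul_apply, indFun_eq_zero_of_normal H _ hx, smul_zero])
    (fun x hx => by
      rw [h.invDade_of_orth hχ ho hx, Pi.smul_apply,
        indOne_apply_of_mem ((h.mem_iff x).1 hx).1, smul_eq_mul, div_mul_cancel₀ _ he])]
  have e1 : rip ((c / H.index) • indFun H (fun _ => 1)) ((c / H.index) • indFun H (fun _ => 1)) =
      ‖c‖ ^ 2 / H.index := by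
    refine rip_of_classInner_eq ?_
    rw [classInner_smul_left, classInner_smul_right, classInner_indOne_self, map_div₀, map_natCast]
    push_cast
    rw [← Complex.mul_conj']
    field_simp
  rw [e1, Pi.smul_apply, indOne_apply_one, smul_eq_mul, div_mul_cancel₀ _ he, h.card_A_div,
    ← conj_classInner, ← hc, Complex.norm_conj, ← H.index_mul_card]
  push_cast
  field_simp

end Hyp78

end CL.PF
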