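import Cfsg.Agent.PF.T5
import Cfsg.Agent.PF.SevenB
import Cfsg.Agent.PF.CohExt
import Cfsg.Agent.Char.Ito
import Cfsg.Agent.Char.Linear
import Cfsg.Agent.Char.Inflate

/-!
# Peterfalvi (10.2), (10.3), (10.5), (10.6), (10.9) in abstract form

Everything is stated for a prime Dade hypothesis `PrimeDade L K K f₁ f₂ A A₀ R` (so `A = K^#`).
-/

set_option autoImplicit false

namespace CL.PF

open Cfsg CL.Char
open scoped ComplexConjugate

theorem dual_inv_one {X : Type*} [Group X] : (1 : X →* ℂˣ)⁻¹ = 1 := by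
  ext x; simp

theorem dual_inv_inv {X : Type*} [Group X] (j : X →* ℂˣ) : j⁻¹⁻¹ = j := by
  ext x; simp

theorem dual_inv_ne_one {X : Type*} [Group X] {j : X →* ℂˣ} (hj : j ≠ 1) : j⁻¹ ≠ 1 := by
  intro e
  rw [← dual_inv_inv j, e, dual_inv_one] at hj
  exact hj rfl

section Ref
variable {L X₁ X₂ : Type*} [Group L] [Fintype L] [Group X₁] [Group X₂] [Finite X₁] [Finite X₂]
  {K : Subgroup L} {f₁ : X₁ →* L} {f₂ : X₂ →* L}

omit [Fintype L] in
theorem mem_commutator_subtype {k : K} (hk : (k : L) ∈ ⁅K, K⁆) : k ∈ commutator K := by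
  rw [← Subgroup.map_subtype_commutator] at hk
  obtain ⟨y, hy, e⟩ := hk
  have : y = k := Subtype.ext e
  exact this ▸ hy

omit [Fintype L] in
theorem coe_mem_commutator {k : K} (hk : k ∈ commutator K) : (k : L) ∈ ⁅K, K⁆ := by
  rw [← Subgroup.map_subtype_commutator]
  exact ⟨k, hk, rfl⟩

omit [Fintype L] in
theorem der_le_self (K : Subgroup L) : ⁅K, K⁆ ≤ K := by
  rw [← Subgroup.map_subtype_commutator]
  exact Subgroup.map_subtype_le _

omit [Fintype L] in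
/-- a character of degree one of `K` has `K'` in its kernel -/
theorem inKer_der_of_apply_one {θ : K → ℂ} (hθ : IsCharacter K θ) (h1 : θ 1 = 1) :
    InKer ⁅K, K⁆ θ := by
  obtain ⟨lam, rfl⟩ := exists_linear_of_isCharacter hθ h1
  intro a ha
  have := commutator_le_ker_linear lam (mem_commutator_subtype ha)
  rw [MonoidHom.mem_ker] at this
  simp [this]

/-- an irreducible character of `K` with `K'` in its kernel has degree one -/
theorem apply_one_of_inKer_der {θ : K → ℂ} (hθ : IsIrrCharacter K θ) (h : InKer ⁅K, K⁆ θ) :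
    θ 1 = 1 := by
  refine (irr_apply_one_eq_one_iff hθ).2 fun k hk => ?_
  exact (char_mem_charKer_iff (irr_isCharacter hθ)).2 (h k (coe_mem_commutator hk))

/-- if `W₂ ≤ K'`, a nonprincipal linear character of `K` induces irreducibly -/
theorem PrimeTI.irr_indFun_of_apply_one (h : PrimeTI K f₁ f₂) (hW : f₂.range ≤ ⁅K, K⁆)
    {θ : K → ℂ} (hθ : IsIrrCharacter K θ) (h1 : θ 1 = 1) (hne : θ ≠ fun _ => 1) :
    IsIrrCharacter L (indFun K θ) := by
  rcases h.irr_cases hθ with ⟨j, rfl⟩ | ⟨hi, -⟩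
  · by_cases hj : j = 1
    · subst hj; exact absurd h.chiRes_one hne
    · exact absurd (inKer_der_of_apply_one (irr_isCharacter hθ) h1) (h.not_inKer_chiRes hW hj)
  · exact hi

/-- the members of `S(K')` are irreducible of degree `w₁` -/
theorem PrimeTI.irr_of_mem_seqIndD_der (h : PrimeTI K f₁ f₂) (hW : f₂.range ≤ ⁅K, K⁆)
    {φ : L → ℂ} (hφ : φ ∈ seqIndD K K ⁅K, K⁆) :
    IsIrrCharacter L φ ∧ φ 1 = Nat.card X₁ := by
  obtain ⟨θ, hθ, hn, hk, rfl⟩ := hφ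
  have h1 := apply_one_of_inKer_der hθ hk
  refine ⟨h.irr_indFun_of_apply_one hW hθ h1 fun e => hn ((irr_inKer_self_iff hθ).2 e), ?_⟩
  rw [indFun_one, h1, h.index_eq, mul_one]

theorem exists_mem_seqIndD_der (hK : ⁅K, K⁆ ≠ K) : ∃ φ, φ ∈ seqIndD K K ⁅K, K⁆ := by
  have : ∃ k : K, k ∉ commutator K := by
    by_contra hc
    push Not at hc
    refine hK (le_antisymm (der_le_self K) fun k hk => ?_)
    exact coe_mem_commutator (hc ⟨k, hk⟩)
  obtain ⟨k, hk⟩ := this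
  obtain ⟨lam, hlam⟩ := exists_linear_apply_ne_one hk
  refine ⟨_, _, isIrrCharacter_linear lam, fun hin => hlam ?_,
    inKer_der_of_apply_one (isCharacter_linear lam) (by simp), rfl⟩
  have := hin k k.2
  simp only [map_one, Units.val_one] at this
  exact Units.ext this

theorem seqIndD_mono_ker {H Y Y' : Subgroup L} (hY : Y ≤ Y') : seqIndD K H Y' ⊆ seqIndD K H Y := by
  rintro φ ⟨θ, hθ, hn, hk, rfl⟩
  exact ⟨θ, hθ, hn, fun a ha => hk a (hY ha), rfl⟩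

/-- (10.2) -/
theorem PrimeTI.exists_ref_irr (h : PrimeTI K f₁ f₂) (hW : f₂.range ≤ ⁅K, K⁆)
    (hK : ⁅K, K⁆ ≠ K) :
    ∃ ζ ∈ seqIndD K K ⊥, IsIrrCharacter L ζ ∧ ζ 1 = Nat.card X₁ := by
  obtain ⟨φ, hφ⟩ := exists_mem_seqIndD_der hK
  exact ⟨φ, seqIndD_mono_ker bot_le hφ, h.irr_of_mem_seqIndD_der hW hφ⟩

omit [Fintype L] [Finite X₁] [Finite X₂] in
theorem PrimeTI.mul_not_mem (h : PrimeTI K f₁ f₂) {x : X₁} (hx : x ≠ 1) (y : X₂) :
    f₁ x * f₂ y ∉ K := by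
  intro hm
  have h2 : f₂ y ∈ K := h.le₂ ⟨y, rfl⟩
  have h1 : f₁ x ∈ K := by simpa using K.mul_mem hm (K.inv_mem h2)
  have : f₁ x ∈ K ⊓ f₁.range := ⟨h1, x, rfl⟩
  rw [h.inf_eq, Subgroup.mem_bot] at this
  exact hx (h.inj₁ (by rw [this, map_one]))

/-- a function vanishing outside `K` is not a `μ_{ij}` -/
theorem PrimeTI.ne_mu_of_eq_zero (h : PrimeTI K f₁ f₂) {φ : L → ℂ} (hφ : ∀ x, x ∉ K → φ x = 0)
    (i : X₁ →* ℂˣ) (j : X₂ →* ℂˣ) : mu f₁ f₂ i j ≠ φ := by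
  intro e
  have := h.cycTI.tiPair.nontrivial₁
  obtain ⟨x, hx⟩ := exists_ne (1 : X₁)
  have h1 := h.mu_apply i j hx 1
  rw [e, hφ _ (h.mul_not_mem hx 1)] at h1
  have hd : (delta f₁ f₂ j : ℂ) ≠ 0 := by
    rcases delta_eq (f₁ := f₁) (f₂ := f₂) j with e | e <;> simp [e]
  exact mul_ne_zero hd (mul_ne_zero (Units.ne_zero _) (Units.ne_zero _)) h1.symm

theorem PrimeTI.mu_inner_of_irr (h : PrimeTI K f₁ f₂) {H Y : Subgroup L} {φ : L → ℂ}
    (hφ : φ ∈ seqIndD K H Y) (hi : IsIrrCharacter L φ) (i : X₁ →* ℂˣ) (j : X₂ →* ℂˣ) :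
    classInner (mu f₁ f₂ i j) φ = 0 := by
  have := h.normal
  refine irr_inner_of_ne (h.mu_irr i j) hi (h.ne_mu_of_eq_zero (fun x hx => ?_) i j)
  obtain ⟨θ, -, -, -, rfl⟩ := hφ
  exact indFun_eq_zero_of_normal K θ hx

theorem PrimeTI.muCol_inner_of_irr (h : PrimeTI K f₁ f₂) {H Y : Subgroup L} {φ : L → ℂ}
    (hφ : φ ∈ seqIndD K H Y) (hi : IsIrrCharacter L φ) (j : X₂ →* ℂˣ) :
    classInner (muCol f₁ f₂ j) φ = 0 := by
  unfold muCol
  rw [classInner_sum_left]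
  exact Finset.sum_eq_zero fun i _ => h.mu_inner_of_irr hφ hi i j

/-- the constants of (10.3) -/
structure Const10 (f₁ : X₁ →* L) (f₂ : X₂ →* L) (d : ℕ) (δ : ℤ) (n : ℕ) : Prop where
  deg : ∀ i j, j ≠ 1 → mu f₁ f₂ i j 1 = d
  sign : ∀ j, j ≠ 1 → delta f₁ f₂ j = δ
  one_lt : 1 < d
  eq : (d : ℤ) = δ + n * Nat.card X₁

/-- (10.3) -/
theorem PrimeTI.exists_const10 (h : PrimeTI K f₁ f₂) (hW : f₂.range ≤ ⁅K, K⁆)
    (hp : (Nat.card X₂).Prime) : ∃ d δ n, Const10 f₁ f₂ d δ n := by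
  obtain ⟨j₀, hj₀⟩ := h.cycTI.exists_dual_ne_one₂
  have key : ∀ j, j ≠ 1 → mu f₁ f₂ 1 j 1 = deg (mu f₁ f₂ 1 j₀) ∧
      delta f₁ f₂ j = delta f₁ f₂ j₀ := by
    intro j hj
    obtain ⟨σ, hσ, -⟩ := exists_aut_of_prime_card hp hj₀ hj 1 one_ne_zero
    refine ⟨?_, h.delta_aut σ hσ⟩
    rw [h.mu_aut σ (i := 1) (i' := 1) (by simp) hσ]
    simp only
    rw [← irr_cast_deg (h.mu_irr 1 j₀), map_natCast]
  have hd1 : 1 < deg (mu f₁ f₂ 1 j₀) := by
    have hpos := irr_deg_pos (h.mu_irr 1 j₀)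
    by_contra hc
    have h1 : deg (mu f₁ f₂ 1 j₀) = 1 := by omega
    have h2 : chiRes K f₁ f₂ j₀ 1 = 1 := by
      have := irr_cast_deg (h.mu_irr 1 j₀)
      rw [h1] at this
      simpa [chiRes] using this.symm
    exact h.not_inKer_chiRes hW hj₀
      (inKer_der_of_apply_one (irr_isCharacter (h.chiRes_irr j₀)) h2)
  obtain ⟨m, hm⟩ := h.mu_apply_one_modEq 1 j₀
  rw [← irr_cast_deg (h.mu_irr 1 j₀)] at hm
  have hm' : (deg (mu f₁ f₂ 1 j₀) : ℤ) = delta f₁ f₂ j₀ + m * Nat.card X₁ := by exact_mod_cast hm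
  have hm0 : 0 ≤ m := by
    by_contra hc
    have h3 : (0 : ℤ) ≤ Nat.card X₁ := Int.natCast_nonneg _
    have : m * Nat.card X₁ ≤ 0 := mul_nonpos_of_nonpos_of_nonneg (by omega) h3
    rcases delta_eq (f₁ := f₁) (f₂ := f₂) j₀ with e | e <;> omega
  refine ⟨deg (mu f₁ f₂ 1 j₀), delta f₁ f₂ j₀, m.toNat, fun i j hj => ?_, fun j hj => (key j hj).2,
    hd1, by rw [Int.toNat_of_nonneg hm0]; exact hm'⟩
  rw [h.mu_apply_one, (key j hj).1]

namespace Const10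
variable {d : ℕ} {δ : ℤ} {n : ℕ}

theorem delta_cases (c : Const10 f₁ f₂ d δ n) (h : PrimeTI K f₁ f₂) : δ = 1 ∨ δ = -1 := by
  obtain ⟨j, hj⟩ := h.cycTI.exists_dual_ne_one₂
  rw [← c.sign j hj]
  exact delta_eq j

theorem delta_sq (c : Const10 f₁ f₂ d δ n) (h : PrimeTI K f₁ f₂) : (δ : ℂ) * δ = 1 := by
  rcases c.delta_cases h with e | e <;> simp [e]

theorem d_dvd (c : Const10 f₁ f₂ d δ n) (h : PrimeTI K f₁ f₂) : d ∣ Nat.card L := by
  obtain ⟨j, hj⟩ := h.cycTI.exists_dual_ne_one₂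
  have := irr_deg_dvd_card (h.mu_irr 1 j)
  rwa [deg_eq_of_apply_one (c.deg 1 j hj)] at this

theorem d_odd (c : Const10 f₁ f₂ d δ n) (h : PrimeTI K f₁ f₂) (hodd : Odd (Nat.card L)) :
    Odd d := hodd.of_dvd_nat (c.d_dvd h)

theorem n_even (c : Const10 f₁ f₂ d δ n) (h : PrimeTI K f₁ f₂) (hodd : Odd (Nat.card L)) :
    Even n := by
  obtain ⟨a, ha⟩ := c.d_odd h hodd
  obtain ⟨b, hb⟩ := h.cycTI.odd₁
  have e := c.eq
  rcases Nat.even_or_odd n with hn | ⟨m, hm⟩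
  · exact hn
  · exfalso
    rw [ha, hb, hm] at e
    push_cast at e
    have : (2 * (m : ℤ) + 1) * (2 * b + 1) = 2 * (2 * m * b + m + b) + 1 := by ring
    rw [this] at e
    rcases c.delta_cases h with e' | e' <;> omega

theorem two_le_n (c : Const10 f₁ f₂ d δ n) (h : PrimeTI K f₁ f₂) (hodd : Odd (Nat.card L)) :
    2 ≤ n := by
  obtain ⟨m, hm⟩ := c.n_even h hodd
  have e := c.eq
  have := c.one_lt
  rcases Nat.eq_zero_or_pos m with h0 | h0
  · subst h0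
    simp only [hm, add_zero, Nat.cast_zero, zero_mul] at e
    rcases c.delta_cases h with e' | e' <;> omega
  · omega

omit [Fintype L] [Finite X₁] [Finite X₂] in
theorem eq_cast (c : Const10 f₁ f₂ d δ n) : (d : ℂ) = δ + n * Nat.card X₁ := by
  exact_mod_cast c.eq

theorem muCol_apply_one (c : Const10 f₁ f₂ d δ n) (h : PrimeTI K f₁ f₂) {j : X₂ →* ℂˣ}
    (hj : j ≠ 1) : muCol f₁ f₂ j 1 = (d : ℂ) * Nat.card X₁ := by
  rw [h.muCol_apply_one, c.deg 1 j hj, mul_comm]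

end Const10

/-- `α_{ij} = μ_{ij} - δ μ_{i0} - n ζ` of (10.5) -/
noncomputable def alpha10 (f₁ : X₁ →* L) (f₂ : X₂ →* L) (δ : ℤ) (n : ℕ) (ζ : L → ℂ)
    (i : X₁ →* ℂˣ) (j : X₂ →* ℂˣ) : L → ℂ :=
  mu f₁ f₂ i j - (δ : ℂ) • mu f₁ f₂ i 1 - (n : ℂ) • ζ

theorem PrimeTI.mu_col_one_apply_one (h : PrimeTI K f₁ f₂) (i : X₁ →* ℂˣ) :
    mu f₁ f₂ i 1 1 = 1 := by
  rw [h.mu_apply_one, h.mu_one]

/-- `∑_i α_{ij} = (μ_j - d ζ) - δ (μ_0 - ζ)` -/
theorem Const10.sum_alpha {d : ℕ} {δ : ℤ} {n : ℕ} (c : Const10 f₁ f₂ d δ n) (h : PrimeTI K f₁ f₂)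
    (ζ : L → ℂ) (j : X₂ →* ℂˣ) :
    ∑ i, alpha10 f₁ f₂ δ n ζ i j =
      (muCol f₁ f₂ j - (d : ℂ) • ζ) - (δ : ℂ) • (muCol f₁ f₂ 1 - ζ) := by
  unfold alpha10 muCol
  rw [Finset.sum_sub_distrib, Finset.sum_sub_distrib, ← Finset.smul_sum, Finset.sum_const,
    Finset.card_univ, h.cycTI.fintype_card_dual₁, c.eq_cast]
  funext x
  simp only [Pi.sub_apply, Pi.smul_apply, smul_eq_mul, nsmul_eq_mul, Pi.mul_apply,
    Pi.natCast_apply]
  ring

end Ref

section Dade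
variable {G X₁ X₂ : Type*} [Group G] [Fintype G] [Group X₁] [Group X₂] [Finite X₁] [Finite X₂]
  {L : Subgroup G} [Fintype L] {K : Subgroup L} {f₁ : X₁ →* L} {f₂ : X₂ →* L} {A A₀ : Set G}
  {R : G → Subgroup G}

omit [Fintype G] [Finite X₁] [Finite X₂] [Fintype L] in
theorem PrimeDade.subset_A₀ {H : Subgroup L} (h : PrimeDade L K H f₁ f₂ A A₀ R) : A ⊆ A₀ := by
  rw [h.A₀_eq]; exact Set.subset_union_left

omit [Fintype G] [Finite X₁] [Finite X₂] [Fintype L] in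
theorem PrimeDade.hyp76 (h : PrimeDade L K K f₁ f₂ A A₀ R) : Hyp76 L K A A₀ R where
  dade₀ := h.dade
  normal := h.primeTI.normal
  subset := h.subset_A₀
  mem_iff x := by
    constructor
    · intro hx
      obtain ⟨h1, k, hk, e⟩ := h.A_sub _ hx
      have : k = x := Subtype.ext e
      subst this
      exact ⟨hk, fun e => h1 (by simp [e])⟩
    · rintro ⟨hx, h1⟩
      exact h.cent_mem x hx h1 x hx h1 rfl

omit [Fintype G] in
/-- a class function vanishing at `1` and on `W₁^#` vanishes outside `A₀` -/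
theorem PrimeDade.supp_of_eq_zero (h : PrimeDade L K K f₁ f₂ A A₀ R) {α : L → ℂ}
    (hα : IsClassFunction L α) (h0 : ∀ x, α (f₁ x) = 0) (x : L) (hx : (x : G) ∉ A₀) :
    α x = 0 := by
  by_cases hK : x ∈ K
  · by_cases h1 : x = 1
    · rw [h1, ← map_one f₁, h0]
    · exact absurd (h.subset_A₀ ((h.hyp76.mem_iff x).2 ⟨hK, h1⟩)) hx
  · obtain ⟨m, a, b, ha, rfl⟩ := h.primeTI.exists_conj_of_not_mem hK
    by_cases hb : b = 1
    · rw [hα, hb, map_one, mul_one, h0]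
    · exfalso
      refine hx ?_
      rw [h.A₀_eq]
      exact Or.inr ⟨_, ⟨m, _, mem_cycV ha hb, rfl⟩, rfl⟩

/-- Hypothesis (10.4.a) in abstract form -/
structure Hyp104 {G X₁ X₂ : Type*} [Group G] [Group X₁] [Group X₂] (L : Subgroup G) [Fintype L]
    (K : Subgroup L) (f₁ : X₁ →* L) (f₂ : X₂ →* L) (A A₀ : Set G) (R : G → Subgroup G)
    (d : ℕ) (δ : ℤ) (n : ℕ) (ζ : L → ℂ) : Prop where
  pd : PrimeDade L K K f₁ f₂ A A₀ R
  odd : Odd (Nat.card L)
  const : Const10 f₁ f₂ d δ n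
  mem : ζ ∈ seqIndD K K ⊥
  irr : IsIrrCharacter L ζ
  deg : ζ 1 = Nat.card X₁

namespace Hyp104
variable {d : ℕ} {δ : ℤ} {n : ℕ} {ζ : L → ℂ}

local notation "τ" => dadeIsometry A₀ L R
local notation "η" => eta (L.subtype.comp f₁) (L.subtype.comp f₂)
local notation "α" => alpha10 f₁ f₂ δ n ζ

omit [Fintype G] [Finite X₁] [Finite X₂] in
theorem pti (h : Hyp104 L K f₁ f₂ A A₀ R d δ n ζ) : PrimeTI K f₁ f₂ := h.pd.primeTI

omit [Fintype G] [Finite X₁] [Finite X₂] in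
theorem cyc (h : Hyp104 L K f₁ f₂ A A₀ R d δ n ζ) :
    CycTI (L.subtype.comp f₁) (L.subtype.comp f₂) := h.pd.cycTI

omit [Fintype G] [Finite X₁] [Finite X₂] in
/-- the same hypothesis for the complex conjugate of `ζ` -/
theorem conjug (h : Hyp104 L K f₁ f₂ A A₀ R d δ n ζ) :
    Hyp104 L K f₁ f₂ A A₀ R d δ n (conjFun ζ) where
  pd := h.pd
  odd := h.odd
  const := h.const
  mem := SeqSelf.conj_mem h.mem
  irr := irr_conjFun h.irr
  deg := by rw [char_conjFun_apply_one (irr_isCharacter h.irr), h.deg]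

omit [Fintype G] in
theorem delta_cases (h : Hyp104 L K f₁ f₂ A A₀ R d δ n ζ) : δ = 1 ∨ δ = -1 :=
  h.const.delta_cases h.pti

omit [Fintype G] [Finite X₁] [Finite X₂] in
theorem zeta_inner_conj (h : Hyp104 L K f₁ f₂ A A₀ R d δ n ζ) : classInner ζ (conjFun ζ) = 0 :=
  irr_inner_of_ne h.irr h.conjug.irr (SeqSelf.conj_ne h.odd h.mem h.irr).symm

omit [Fintype G] [Finite X₁] [Finite X₂] in
theorem zeta_eq_zero (h : Hyp104 L K f₁ f₂ A A₀ R d δ n ζ) {x : L} (hx : x ∉ K) : ζ x = 0 := by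
  have := h.pti.normal
  exact SeqSelf.eq_zero h.mem hx

omit [Fintype G] in
theorem alpha_gen (h : Hyp104 L K f₁ f₂ A A₀ R d δ n ζ) (i : X₁ →* ℂˣ) (j : X₂ →* ℂˣ) :
    IsGeneralizedCharacter L (α i j) := by
  refine gen_sub (gen_sub (gen_of_irr (h.pti.mu_irr i j))
    (gen_intCast_smul δ (gen_of_irr (h.pti.mu_irr i 1)))) ?_
  have := gen_intCast_smul (n : ℤ) (gen_of_irr h.irr)
  rwa [Int.cast_natCast] at this

omit [Fintype G] in
theorem alpha_classFun (h : Hyp104 L K f₁ f₂ A A₀ R d δ n ζ) (i : X₁ →* ℂˣ) (j : X₂ →* ℂˣ) :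
    IsClassFunction L (α i j) := gen_isClassFunction (h.alpha_gen i j)

omit [Fintype G] in
theorem alpha_apply_one (h : Hyp104 L K f₁ f₂ A A₀ R d δ n ζ) (i : X₁ →* ℂˣ) {j : X₂ →* ℂˣ}
    (hj : j ≠ 1) : α i j 1 = 0 := by
  simp only [alpha10, Pi.sub_apply, Pi.smul_apply, smul_eq_mul, h.const.deg i j hj,
    h.pti.mu_col_one_apply_one, h.deg, h.const.eq_cast]
  ring

omit [Fintype G] in
theorem alpha_apply (h : Hyp104 L K f₁ f₂ A A₀ R d δ n ζ) (i : X₁ →* ℂˣ) {j : X₂ →* ℂˣ}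
    (hj : j ≠ 1) {x : X₁} (hx : x ≠ 1) (y : X₂) :
    α i j (f₁ x * f₂ y) = δ * ((i x : ℂ) * (j y : ℂ) - i x) := by
  simp only [alpha10, Pi.sub_apply, Pi.smul_apply, smul_eq_mul, h.pti.mu_apply _ _ hx,
    h.const.sign j hj, h.pti.delta_one, h.zeta_eq_zero (h.pti.mul_not_mem hx y),
    MonoidHom.one_apply, Units.val_one]
  push_cast
  ring

omit [Fintype G] in
/-- (10.5), first part -/
theorem alpha_supp (h : Hyp104 L K f₁ f₂ A A₀ R d δ n ζ) (i : X₁ →* ℂˣ) {j : X₂ →* ℂˣ}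
    (hj : j ≠ 1) (x : L) (hx : (x : G) ∉ A₀) : α i j x = 0 := by
  refine h.pd.supp_of_eq_zero (h.alpha_classFun i j) (fun a => ?_) x hx
  by_cases ha : a = 1
  · rw [ha, map_one, h.alpha_apply_one i hj]
  · have := h.alpha_apply i hj ha 1
    simpa using this

theorem tau_alpha_gen (h : Hyp104 L K f₁ f₂ A A₀ R d δ n ζ) (i : X₁ →* ℂˣ) {j : X₂ →* ℂˣ}
    (hj : j ≠ 1) : IsGeneralizedCharacter G (τ (α i j)) :=
  Dade.gen h.pd.dade (h.alpha_gen i j) (h.alpha_supp i hj)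

theorem tau_alpha_inner (h : Hyp104 L K f₁ f₂ A A₀ R d δ n ζ) (i : X₁ →* ℂˣ) {j : X₂ →* ℂˣ}
    (hj : j ≠ 1) {β : L → ℂ} (hβ : IsClassFunction L β) :
    classInner (τ (α i j)) (τ β) = classInner (α i j) β :=
  Dade.isometry' h.pd.dade (h.alpha_classFun i j) hβ (h.alpha_supp i hj)

omit [Fintype G] in
theorem alpha_inner_irr (h : Hyp104 L K f₁ f₂ A A₀ R d δ n ζ) (i : X₁ →* ℂˣ) (j : X₂ →* ℂˣ)
    {φ : L → ℂ} (hφ : φ ∈ seqIndD K K ⊥) (hi : IsIrrCharacter L φ) :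
    classInner (α i j) φ = -(n : ℂ) * classInner ζ φ := by
  simp only [alpha10, classInner_sub_left, classInner_smul_left, h.pti.mu_inner_of_irr hφ hi]
  ring

omit [Fintype G] in
theorem alpha_inner_zeta (h : Hyp104 L K f₁ f₂ A A₀ R d δ n ζ) (i : X₁ →* ℂˣ) (j : X₂ →* ℂˣ) :
    classInner (α i j) ζ = -(n : ℂ) := by
  rw [h.alpha_inner_irr i j h.mem h.irr, irr_inner_self h.irr, mul_one]

omit [Fintype G] in
theorem alpha_inner_irr_of_ne (h : Hyp104 L K f₁ f₂ A A₀ R d δ n ζ) (i : X₁ →* ℂˣ)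
    (j : X₂ →* ℂˣ) {φ : L → ℂ} (hφ : φ ∈ seqIndD K K ⊥) (hi : IsIrrCharacter L φ) (hne : φ ≠ ζ) :
    classInner (α i j) φ = 0 := by
  rw [h.alpha_inner_irr i j hφ hi, irr_inner_of_ne h.irr hi hne.symm, mul_zero]

omit [Fintype G] in
theorem zeta_inner_mu (h : Hyp104 L K f₁ f₂ A A₀ R d δ n ζ) (i : X₁ →* ℂˣ) (j : X₂ →* ℂˣ) :
    classInner ζ (mu f₁ f₂ i j) = 0 :=
  classInner_eq_zero_comm.1 (h.pti.mu_inner_of_irr h.mem h.irr i j)

omit [Fintype G] in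
theorem zeta_inner_muCol (h : Hyp104 L K f₁ f₂ A A₀ R d δ n ζ) (j : X₂ →* ℂˣ) :
    classInner ζ (muCol f₁ f₂ j) = 0 :=
  classInner_eq_zero_comm.1 (h.pti.muCol_inner_of_irr h.mem h.irr j)

omit [Fintype G] in
open Classical in
theorem alpha_inner_muCol (h : Hyp104 L K f₁ f₂ A A₀ R d δ n ζ) (i : X₁ →* ℂˣ)
    (j k : X₂ →* ℂˣ) : classInner (α i j) (muCol f₁ f₂ k) =
      (if j = k then 1 else 0) - δ * (if 1 = k then 1 else 0) := by
  simp only [alpha10, classInner_sub_left, classInner_smul_left, h.pti.mu_muCol_inner,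
    h.zeta_inner_muCol]
  ring

omit [Fintype G] in
open Classical in
theorem alpha_inner_mu (h : Hyp104 L K f₁ f₂ A A₀ R d δ n ζ) (i i' : X₁ →* ℂˣ)
    (j j' : X₂ →* ℂˣ) : classInner (α i j) (mu f₁ f₂ i' j') =
      (if i = i' ∧ j = j' then 1 else 0) - δ * (if i = i' ∧ 1 = j' then 1 else 0) := by
  simp only [alpha10, classInner_sub_left, classInner_smul_left, h.pti.mu_inner,
    h.zeta_inner_mu]
  ring

omit [Fintype G] in
theorem alpha_norm (h : Hyp104 L K f₁ f₂ A A₀ R d δ n ζ) (i : X₁ →* ℂˣ) {j : X₂ →* ℂˣ}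
    (hj : j ≠ 1) : classInner (α i j) (α i j) = 2 + (n : ℂ) ^ 2 := by
  have e : classInner (α i j) (α i j) = classInner (α i j) (mu f₁ f₂ i j) -
      δ * classInner (α i j) (mu f₁ f₂ i 1) - n * classInner (α i j) ζ := by
    conv_lhs => arg 2; unfold alpha10
    simp only [classInner_sub_right, classInner_smul_right, map_intCast, map_natCast]
  rw [e, h.alpha_inner_mu, h.alpha_inner_mu, h.alpha_inner_zeta]
  have hd := h.const.delta_sq h.pti
  simp only [hj, hj.symm, and_self, and_false, if_true, if_false]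
  linear_combination hd

theorem tau_alpha_norm (h : Hyp104 L K f₁ f₂ A A₀ R d δ n ζ) (i : X₁ →* ℂˣ) {j : X₂ →* ℂˣ}
    (hj : j ≠ 1) : classInner (τ (α i j)) (τ (α i j)) = 2 + (n : ℂ) ^ 2 := by
  rw [h.tau_alpha_inner i hj (h.alpha_classFun i j), h.alpha_norm i hj]

theorem tau_alpha_apply_V (h : Hyp104 L K f₁ f₂ A A₀ R d δ n ζ) (i : X₁ →* ℂˣ) {j : X₂ →* ℂˣ}
    (hj : j ≠ 1) {v : G} (hv : v ∈ cycV (L.subtype.comp f₁) (L.subtype.comp f₂)) :
    τ (α i j) v = ((δ : ℂ) • (η i j - η i 1)) v := by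
  obtain ⟨x, y, hx, hy, rfl⟩ := hv
  rw [h.pd.dade_apply_V (h.alpha_classFun i j) hx hy, h.alpha_apply i hj hx]
  simp only [Pi.smul_apply, Pi.sub_apply, smul_eq_mul, h.cyc.eta_apply _ _ hx hy,
    MonoidHom.one_apply, Units.val_one, mul_one]

/-- The last step of (10.5), also used in (10.10.3) and (11.8.2). -/
theorem eq_of_norm_two (h : Hyp104 L K f₁ f₂ A A₀ R d δ n ζ) (i : X₁ →* ℂˣ) {j : X₂ →* ℂˣ}
    (hj : j ≠ 1) {X Y : G → ℂ} (hXY : τ (α i j) = X + Y) (hY : IsGeneralizedCharacter G Y)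
    (hYo : OrthEta (L.subtype.comp f₁) (L.subtype.comp f₂) Y) (h2 : classInner X X = 2) :
    X = (δ : ℂ) • (η i j - η i 1) := by
  have hX : X = τ (α i j) - Y := by rw [hXY, add_sub_cancel_right]
  refine h.cyc.eq_signed_sub (hX ▸ gen_sub (h.tau_alpha_gen i hj) hY) h2 h.delta_cases i hj
    fun v hv => ?_
  rw [hX, Pi.sub_apply, h.tau_alpha_apply_V i hj hv,
    h.cyc.eq_zero_of_orthEta (gen_isClassFunction hY) hYo hv, sub_zero]

/-- `FTtype345_bridge_coherence` -/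
theorem bridge_coherence (h : Hyp104 L K f₁ f₂ A A₀ R d δ n ζ) {S₁ : Set (L → ℂ)}
    (hS : ConjSub S₁ (seqIndD K K ⊥)) (hirr : ∀ φ ∈ S₁, IsIrrCharacter L φ)
    {τ₁ : (L → ℂ) → (G → ℂ)} (hτ : CoherentWith S₁ τ τ₁) (i : X₁ →* ℂˣ) {j : X₂ →* ℂˣ}
    (hj : j ≠ 1) {X Y : G → ℂ} (hXY : τ (α i j) = X + Y) (hY : Y ∈ zspan (τ₁ '' S₁))
    (hX : ∀ φ ∈ S₁, classInner X (τ₁ φ) = 0) (hn : classInner Y Y = (n : ℂ) ^ 2) :
    X = (δ : ℂ) • (η i j - η i 1) := by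
  have hYg : IsGeneralizedCharacter G Y :=
    gen_of_mem_zspan (by rintro _ ⟨φ, hφ, rfl⟩; exact hτ.gen (mem_zspan hφ)) hY
  have hYo : OrthEta (L.subtype.comp f₁) (L.subtype.comp f₂) Y := fun a b =>
    classInner_zspan_left (by
      rintro _ ⟨φ, hφ, rfl⟩
      exact h.pd.coherent_orthEta h.odd hS.subset hS.conj_mem hτ hφ (hirr φ hφ) a b) hY
  have hXY0 : classInner X Y = 0 :=
    classInner_zspan_right (by rintro _ ⟨φ, hφ, rfl⟩; exact hX φ hφ) hY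
  refine h.eq_of_norm_two i hj hXY hYg hYo ?_
  have := h.tau_alpha_norm i hj
  rw [hXY, classInner_add_left, classInner_add_right, classInner_add_right, hXY0,
    classInner_eq_zero_comm.1 hXY0, hn] at this
  linear_combination this

/-! ### the coherent case -/

variable {S : Set (L → ℂ)} {τ₁ : (L → ℂ) → (G → ℂ)}

theorem arith_10_5 {d n w : ℕ} {δ a : ℤ} (hδ : δ = 1 ∨ δ = -1) (he : (d : ℤ) = δ + n * w)
    (hn : 2 ≤ n) (hw : 3 ≤ w) (hle : ((d : ℤ) * a) ^ 2 ≤ (2 + n ^ 2) * w) : a = 0 := by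
  by_contra ha
  have ha1 : 1 ≤ a ^ 2 := by
    have : 0 < a ^ 2 := by positivity
    omega
  have h1 : (d : ℤ) ^ 2 ≤ (2 + n ^ 2) * w := by
    have : (d : ℤ) ^ 2 * 1 ≤ d ^ 2 * a ^ 2 := mul_le_mul_of_nonneg_left ha1 (by positivity)
    nlinarith
  have hn' : (2 : ℤ) ≤ n := by exact_mod_cast hn
  have hw' : (3 : ℤ) ≤ w := by exact_mod_cast hw
  have h2 : ((n : ℤ) * w - 1) ^ 2 ≤ d ^ 2 := by
    have : (6 : ℤ) ≤ n * w := by nlinarith
    rcases hδ with e | e <;> rw [he, e] <;> nlinarith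
  have h3 : (n : ℤ) ^ 2 * w - 2 * n < 2 + n ^ 2 := by
    by_contra hc
    push Not at hc
    have : (2 + (n : ℤ) ^ 2) * w ≤ (n ^ 2 * w - 2 * n) * w :=
      mul_le_mul_of_nonneg_right hc (by omega)
    nlinarith
  nlinarith

/-- (10.5), second part.  Only the members `ζ`, `ζ̄`, `μ_{j⁻¹}` of the coherent set are used. -/
theorem tau_alpha (h : Hyp104 L K f₁ f₂ A A₀ R d δ n ζ) (hS : ConjSub S (seqIndD K K ⊥))
    (hτ : CoherentWith S τ τ₁) (hζ : ζ ∈ S) (i : X₁ →* ℂˣ) {j : X₂ →* ℂˣ} (hj : j ≠ 1)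
    (hμ : muCol f₁ f₂ j ∈ S) :
    τ (α i j) = (δ : ℂ) • (η i j - η i 1) - (n : ℂ) • τ₁ ζ := by
  classical
  have hζ' := hS.conj_mem ζ hζ
  have hk1 : j⁻¹ ≠ 1 := dual_inv_ne_one hj
  have hkj : j ≠ j⁻¹ := (h.cyc.inv_ne₂ hj).symm
  have hμ' : muCol f₁ f₂ j⁻¹ ∈ S := h.pti.muCol_conj j ▸ hS.conj_mem _ hμ
  have gα := h.tau_alpha_gen i hj
  have gζ := hτ.gen (mem_zspan hζ)
  obtain ⟨b, hb⟩ := gen_inner_int gα gζ
  -- `⟨α^τ, ζ̄^τ₁⟩ = b + n`
  have e1 : classInner (τ (α i j)) (τ₁ (conjFun ζ)) = b + n := by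
    have h1 := h.tau_alpha_inner i hj
      (classFun_sub (irr_isClassFunction h.irr) (irr_isClassFunction h.conjug.irr))
    rw [hτ.sub (mem_zspan hζ) (mem_zspan hζ') (by rw [h.deg, h.conjug.deg]),
      classInner_sub_right, classInner_sub_right, hb, h.alpha_inner_zeta,
      h.alpha_inner_irr_of_ne i j h.conjug.mem h.conjug.irr
        (SeqSelf.conj_ne h.odd h.mem h.irr)] at h1
    linear_combination -h1
  have e2 : classInner (τ (α i j)) (τ₁ (muCol f₁ f₂ j⁻¹)) = ((d * (b + n) : ℤ) : ℂ) := by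
    have h1 := h.tau_alpha_inner i hj
      (classFun_sub (char_isClassFunction (h.pti.muCol_char j⁻¹))
        (classFun_zsmul (d : ℤ) (irr_isClassFunction h.conjug.irr)))
    rw [hτ.sub_zsmul (mem_zspan hμ') (mem_zspan hζ')
        (by rw [h.const.muCol_apply_one h.pti hk1, h.conjug.deg, Int.cast_natCast]),
      classInner_sub_right, classInner_sub_right, classInner_zsmul_right, classInner_zsmul_right,
      e1, h.alpha_inner_muCol, h.alpha_inner_irr_of_ne i j h.conjug.mem h.conjug.irr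
        (SeqSelf.conj_ne h.odd h.mem h.irr), if_neg hkj, if_neg hk1.symm] at h1
    push_cast at h1 ⊢
    linear_combination h1
  have e3 : classInner (τ₁ (muCol f₁ f₂ j⁻¹)) (τ₁ (muCol f₁ f₂ j⁻¹)) = (Nat.card X₁ : ℕ) := by
    rw [hτ.inner (mem_zspan hμ') (mem_zspan hμ'), h.pti.muCol_inner, if_pos rfl]
  have e4 : classInner (τ (α i j)) (τ (α i j)) = ((2 + n ^ 2 : ℕ) : ℂ) := by
    rw [h.tau_alpha_norm i hj]; push_cast; ring
  have cs := rip_sq_le (τ (α i j)) (τ₁ (muCol f₁ f₂ j⁻¹))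
  rw [rip_of_classInner_eq_int e2, rip_of_classInner_eq_nat e3, rip_of_classInner_eq_nat e4] at cs
  have a0 : b + n = 0 := arith_10_5 h.delta_cases h.const.eq (h.const.two_le_n h.pti h.odd)
    h.cyc.three_le₁ (by exact_mod_cast cs)
  have hb' : (b : ℂ) = -n := by
    have : b = -n := by omega
    rw [this]; push_cast; ring
  have nζ : classInner (τ₁ ζ) (τ₁ ζ) = 1 := by
    rw [hτ.inner (mem_zspan hζ) (mem_zspan hζ), irr_inner_self h.irr]
  have oζ := h.pd.coherent_orthEta h.odd hS.subset hS.conj_mem hτ hζ h.irr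
  have := h.eq_of_norm_two i hj (X := τ (α i j) + (n : ℂ) • τ₁ ζ) (Y := -((n : ℂ) • τ₁ ζ))
    (by abel) (gen_neg (by simpa using gen_intCast_smul (n : ℤ) gζ))
    (fun a b => by rw [classInner_neg_left, classInner_smul_left, oζ a b]; simp) (by
      rw [classInner_add_left, classInner_add_right, classInner_add_right, classInner_smul_left,
        classInner_smul_right, classInner_smul_left, classInner_smul_right,
        gen_inner_comm gζ gα, hb, hb', nζ, h.tau_alpha_norm i hj, map_natCast]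
      ring)
  rw [← this]; abel

end Hyp104

omit [Finite X₂] in
theorem CycTI.eta_inner_etaCol {f₁ : X₁ →* G} {f₂ : X₂ →* G} (h : CycTI f₁ f₂) (i : X₁ →* ℂˣ)
    (j k : X₂ →* ℂˣ) [Decidable (j = k)] :
    classInner (eta f₁ f₂ i j) (etaCol f₁ f₂ k) = if j = k then 1 else 0 := by
  classical
  unfold etaCol
  rw [classInner_sum_right]
  simp only [h.eta_inner_mul]
  rw [← Finset.sum_mul, Finset.sum_ite_eq]
  simp

omit [Finite X₂] in
theorem CycTI.etaCol_inner_eta {f₁ : X₁ →* G} {f₂ : X₂ →* G} (h : CycTI f₁ f₂) (i : X₁ →* ℂˣ)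
    (j k : X₂ →* ℂˣ) [Decidable (k = j)] :
    classInner (etaCol f₁ f₂ k) (eta f₁ f₂ i j) = if k = j then 1 else 0 := by
  classical
  rw [← conj_classInner, h.eta_inner_etaCol]
  by_cases e : k = j
  · simp [e]
  · simp [e, Ne.symm e]

omit [Finite X₂] in
theorem CycTI.etaCol_inner_etaCol {f₁ : X₁ →* G} {f₂ : X₂ →* G} (h : CycTI f₁ f₂)
    (j k : X₂ →* ℂˣ) [Decidable (j = k)] :
    classInner (etaCol f₁ f₂ j) (etaCol f₁ f₂ k) = if j = k then (Nat.card X₁ : ℂ) else 0 := by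
  conv_lhs => arg 1; unfold etaCol
  rw [classInner_sum_left]
  simp only [h.eta_inner_etaCol]
  rw [Finset.sum_const, Finset.card_univ, h.fintype_card_dual₁]
  split_ifs <;> simp

omit [Finite X₂] in
theorem CycTI.etaCol_gen {f₁ : X₁ →* G} {f₂ : X₂ →* G} (h : CycTI f₁ f₂) (j : X₂ →* ℂˣ) :
    IsGeneralizedCharacter G (etaCol f₁ f₂ j) :=
  gen_sum _ fun i _ => h.eta_gen i j

omit [Finite X₂] in
theorem OrthEta.inner_etaCol {f₁ : X₁ →* G} {f₂ : X₂ →* G} {φ : G → ℂ} (h : OrthEta f₁ f₂ φ)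
    (j : X₂ →* ℂˣ) : classInner φ (etaCol f₁ f₂ j) = 0 := by
  unfold etaCol
  rw [classInner_sum_right]
  exact Finset.sum_eq_zero fun i _ => h i j

omit [Finite X₂] in
/-- off the elements whose order is not prime to `w₁`, `∑_i η_{i0}` takes odd integer values -/
theorem CycTI.etaCol_one_odd {f₁ : X₁ →* G} {f₂ : X₂ →* G} (h : CycTI f₁ f₂) {g : G}
    (hg : Nat.Coprime (orderOf g) (Nat.card X₁)) :
    ∃ m : ℤ, Odd m ∧ etaCol f₁ f₂ 1 g = m := by
  classical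
  have hint : ∀ i : X₁ →* ℂˣ, ∃ m : ℤ, eta f₁ f₂ i 1 g = m := fun i =>
    h.eta_int i 1 (by
      rw [orderOf_one, mul_one]
      exact hg.coprime_dvd_right (h.orderOf_dual_dvd₁ i))
  choose c hc using hint
  have hinv : ∀ i, c i⁻¹ = c i := by
    intro i
    have := congrFun (h.eta_conj i 1) g
    rw [conjFun_apply, dual_inv_one, hc, hc, map_intCast] at this
    exact_mod_cast this.symm
  have h1 : c 1 = 1 := by
    have := hc 1
    rw [h.eta_one] at this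
    have h2 : ((c 1 : ℤ) : ℂ) = 1 := this.symm
    exact_mod_cast h2
  refine ⟨∑ i, c i, ?_, ?_⟩
  · rw [← Finset.add_sum_erase _ _ (Finset.mem_univ 1), h1, add_comm]
    refine Even.add_one ?_
    rw [← ZMod.intCast_eq_zero_iff_even, Int.cast_sum]
    refine Finset.sum_involution (fun i _ => i⁻¹) (fun i _ => ?_) (fun i hi _ => ?_)
      (fun i hi => ?_) (fun i _ => dual_inv_inv i)
    · rw [hinv, ← two_mul]
      exact mul_eq_zero_of_left rfl _
    · exact h.inv_ne₁ (Finset.ne_of_mem_erase hi)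
    · exact Finset.mem_erase.2 ⟨dual_inv_ne_one (Finset.ne_of_mem_erase hi), Finset.mem_univ _⟩
  · unfold etaCol
    rw [Finset.sum_apply]
    push_cast
    exact Finset.sum_congr rfl fun i _ => hc i

namespace Hyp104
variable {d : ℕ} {δ : ℤ} {n : ℕ} {ζ : L → ℂ} {S : Set (L → ℂ)} {τ₁ : (L → ℂ) → (G → ℂ)}

local notation "τ" => dadeIsometry A₀ L R
local notation "η" => eta (L.subtype.comp f₁) (L.subtype.comp f₂)
local notation "ηc" => etaCol (L.subtype.comp f₁) (L.subtype.comp f₂)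
local notation "α" => alpha10 f₁ f₂ δ n ζ

/-- (10.6.a), first part -/
theorem tau_muCol (h : Hyp104 L K f₁ f₂ A A₀ R d δ n ζ) (hS : ConjSub S (seqIndD K K ⊥))
    (hτ : CoherentWith S τ τ₁) (hζ : ζ ∈ S) {j : X₂ →* ℂˣ} (hj : j ≠ 1)
    (hμ : muCol f₁ f₂ j ∈ S) : τ₁ (muCol f₁ f₂ j) = (δ : ℂ) • ηc j := by
  classical
  rcases h.pd.t5_8 h.odd hS.subset hS.conj_mem hτ ⟨ζ, hζ, h.irr⟩ hμ with e | ⟨e, -⟩
  · rw [e, h.const.sign j hj]
  exfalso
  have hζ' := hS.conj_mem ζ hζ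
  have h1 := h.tau_alpha_inner 1 hj
    (classFun_sub (char_isClassFunction (h.pti.muCol_char j))
      (classFun_zsmul (d : ℤ) (irr_isClassFunction h.conjug.irr)))
  have oζ := h.pd.coherent_orthEta h.odd hS.subset hS.conj_mem hτ hζ h.irr
  have oζ' := h.pd.coherent_orthEta h.odd hS.subset hS.conj_mem hτ hζ' h.conjug.irr
  have e1 : classInner (τ₁ ζ) (τ₁ (conjFun ζ)) = 0 := by
    rw [hτ.inner (mem_zspan hζ) (mem_zspan hζ'), h.zeta_inner_conj]
  have e2 : ∀ a b, classInner (η a b) (τ₁ (conjFun ζ)) = 0 := fun a b =>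
    classInner_eq_zero_comm.1 (oζ' a b)
  rw [hτ.sub_zsmul (mem_zspan hμ) (mem_zspan hζ')
      (by rw [h.const.muCol_apply_one h.pti hj, h.conjug.deg, Int.cast_natCast]),
    h.tau_alpha hS hτ hζ 1 hj hμ, e, classInner_sub_right (α 1 j), classInner_zsmul_right,
    h.alpha_inner_muCol, h.alpha_inner_irr_of_ne 1 j h.conjug.mem h.conjug.irr
      (SeqSelf.conj_ne h.odd h.mem h.irr), if_pos rfl, if_neg hj.symm] at h1
  simp only [classInner_sub_left, classInner_sub_right, classInner_smul_left,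
    classInner_smul_right, classInner_zsmul_right, classInner_neg_right, e1, e2,
    h.cyc.eta_inner_etaCol, oζ.inner_etaCol, if_neg (h.cyc.inv_ne₂ hj).symm,
    if_neg (dual_inv_ne_one hj).symm] at h1
  simp at h1

omit [Fintype G] in
/-- the computation common to (10.6.a) and (10.10.4) -/
theorem tau_muCol_sub (h : Hyp104 L K f₁ f₂ A A₀ R d δ n ζ) {Z : G → ℂ} {j : X₂ →* ℂˣ}
    (hα : ∀ i, τ (α i j) = (δ : ℂ) • (η i j - η i 1) - (n : ℂ) • Z) :
    τ (muCol f₁ f₂ j - (d : ℂ) • ζ) - (δ : ℂ) • τ (muCol f₁ f₂ 1 - ζ) =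
      (δ : ℂ) • (ηc j - ηc 1) - ((n : ℂ) * Nat.card X₁) • Z := by
  rw [← dade_smul, ← dade_sub, ← h.const.sum_alpha h.pti, dade_sum]
  simp only [hα]
  rw [Finset.sum_sub_distrib, ← Finset.smul_sum, Finset.sum_sub_distrib, Finset.sum_const,
    Finset.card_univ, h.cyc.fintype_card_dual₁, ← Nat.cast_smul_eq_nsmul ℂ, smul_smul, mul_comm]
  rfl

/-- (10.6.a), second part -/
theorem tau_muCol_one_sub (h : Hyp104 L K f₁ f₂ A A₀ R d δ n ζ) (hS : ConjSub S (seqIndD K K ⊥))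
    (hτ : CoherentWith S τ τ₁) (hζ : ζ ∈ S) {j : X₂ →* ℂˣ} (hj : j ≠ 1)
    (hμ : muCol f₁ f₂ j ∈ S) : τ (muCol f₁ f₂ 1 - ζ) = ηc 1 - τ₁ ζ := by
  have h1 := h.tau_muCol_sub fun i => h.tau_alpha hS hτ hζ i hj hμ
  have h2 := hτ.sub_zsmul (a := d) (mem_zspan hμ) (mem_zspan hζ)
    (by rw [h.const.muCol_apply_one h.pti hj, h.deg, Int.cast_natCast])
  rw [h.tau_muCol hS hτ hζ hj hμ, natCast_zsmul, natCast_zsmul, ← Nat.cast_smul_eq_nsmul ℂ,
    ← Nat.cast_smul_eq_nsmul ℂ] at h2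
  rw [h2] at h1
  have hd := h.const.delta_sq h.pti
  have he := h.const.eq_cast
  funext g
  have := congrFun h1 g
  simp only [Pi.sub_apply, Pi.smul_apply, smul_eq_mul] at this ⊢
  rw [he] at this
  linear_combination (-δ : ℂ) * this +
    (ηc 1 g - τ₁ ζ g - τ (muCol f₁ f₂ 1 - ζ) g) * hd

omit [Fintype G] in
theorem muCol_one_sub_supp (h : Hyp104 L K f₁ f₂ A A₀ R d δ n ζ) (x : L) (hx : (x : G) ∉ A) :
    (muCol f₁ f₂ 1 - ζ) x = 0 := by
  have := h.pti.normal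
  refine h.pd.hyp76.supp (fun y hy => ?_) ?_ x hx
  · rw [Pi.sub_apply, h.pti.muCol_eq_zero 1 hy, h.zeta_eq_zero hy, sub_zero]
  · rw [Pi.sub_apply, h.pti.muCol_apply_one, h.pti.mu_one, h.deg, mul_one, sub_self]

/-- (10.6.b) -/
theorem one_le_norm (h : Hyp104 L K f₁ f₂ A A₀ R d δ n ζ) (hS : ConjSub S (seqIndD K K ⊥))
    (hτ : CoherentWith S τ τ₁) (hζ : ζ ∈ S) {j : X₂ →* ℂˣ} (hj : j ≠ 1)
    (hμ : muCol f₁ f₂ j ∈ S) {g : G} (hg : g ∉ dadeSupp A R)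
    (hco : Nat.Coprime (orderOf g) (Nat.card X₁)) : 1 ≤ ‖τ₁ ζ g‖ := by
  have h0 := h.pd.hyp76.tau_eq_zero (classFun_sub (char_isClassFunction (h.pti.muCol_char 1))
    (irr_isClassFunction h.irr)) h.muCol_one_sub_supp hg
  obtain ⟨m, hm, e⟩ := h.cyc.etaCol_one_odd hco
  rw [h.tau_muCol_one_sub hS hτ hζ hj hμ, Pi.sub_apply, e, sub_eq_zero] at h0
  rw [← h0, Complex.norm_intCast]
  have : m ≠ 0 := by rintro rfl; simp at hm
  exact_mod_cast Int.one_le_abs this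

end Hyp104

/-- (10.9) -/
theorem PrimeDade.dade_bridge0 (h : PrimeDade L K K f₁ f₂ A A₀ R) {ζ : L → ℂ}
    (hζ : ζ ∈ seqIndD K K ⊥) (hi : IsIrrCharacter L ζ) (h1 : ζ 1 = Nat.card X₁)
    (hlt : Nat.card X₁ < Nat.card X₂) :
    ∃ χ : G → ℂ, dadeIsometry A₀ L R (muCol f₁ f₂ 1 - ζ) =
        etaCol (L.subtype.comp f₁) (L.subtype.comp f₂) 1 - χ ∧
      IsGeneralizedCharacter G χ ∧ classInner χ χ = 1 ∧
      OrthEta (L.subtype.comp f₁) (L.subtype.comp f₂) χ := by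
  classical
  have hp := h.primeTI
  have hc := h.cycTI
  have := hp.normal
  have gψ : IsGeneralizedCharacter L (muCol f₁ f₂ 1 - ζ) :=
    gen_sub (gen_of_char (hp.muCol_char 1)) (gen_of_irr hi)
  have cψ := gen_isClassFunction gψ
  have sψ : ∀ x : L, (x : G) ∉ A → (muCol f₁ f₂ 1 - ζ) x = 0 := by
    refine h.hyp76.supp (fun y hy => ?_) ?_
    · rw [Pi.sub_apply, hp.muCol_eq_zero 1 hy, SeqSelf.eq_zero hζ hy, sub_zero]
    · rw [Pi.sub_apply, hp.muCol_apply_one, hp.mu_one, h1, mul_one, sub_self]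
  have sψ₀ := h.hyp76.supp₀ sψ
  set β := dadeIsometry A₀ L R (muCol f₁ f₂ 1 - ζ) with hβ
  have gβ : IsGeneralizedCharacter G β := Dade.gen h.dade gψ sψ₀
  have o1 := hp.muCol_inner_of_irr hζ hi 1
  have nβ : classInner β β = ((Nat.card X₁ + 1 : ℕ) : ℂ) := by
    rw [hβ, Dade.isometry h.dade cψ cψ sψ₀, classInner_sub_left, classInner_sub_right,
      classInner_sub_right, o1, classInner_eq_zero_comm.1 o1, hp.muCol_inner, if_pos rfl,
      irr_inner_self hi]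
    push_cast; ring
  have a00 : classInner β (eta (L.subtype.comp f₁) (L.subtype.comp f₂) 1 1) = 1 := by
    rw [hc.eta_one, hβ, Dade.classInner_one h.dade cψ sψ₀, classInner_sub_left,
      SeqSelf.inner_one hζ, hp.muCol_one, classInner_indOne_one, sub_zero]
  have hNC := hc.cycNC_le gβ nβ
  have h3 := hc.three_le₁
  have hlt' : Nat.card X₁ + 1 < Nat.card X₂ := by
    obtain ⟨a, ha⟩ := hc.odd₁
    obtain ⟨b, hb⟩ := hc.odd₂
    omega
  rcases hc.t3_8 (gen_isClassFunction gβ) (fun v hv => h.dade_eq_zero_V cψ sψ hv)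
    (by rw [min_eq_left hlt.le]; omega) with ho | ⟨j₀, a, -, -, ha⟩ | ⟨i₀, a, -, hN, -⟩
  · rw [ho 1 1] at a00; exact absurd a00 zero_ne_one
  · have e := ha 1 1
    rw [a00] at e
    have hj₀ : 1 = j₀ := by
      by_contra hne
      rw [if_neg hne] at e
      exact one_ne_zero e
    subst hj₀
    rw [if_pos rfl] at e
    subst e
    have e1 : classInner β (etaCol (L.subtype.comp f₁) (L.subtype.comp f₂) 1) = Nat.card X₁ := by
      unfold etaCol
      rw [classInner_sum_right]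
      simp only [ha, if_true]
      rw [Finset.sum_const, Finset.card_univ, hc.fintype_card_dual₁, nsmul_eq_mul, mul_one]
    refine ⟨etaCol (L.subtype.comp f₁) (L.subtype.comp f₂) 1 - β, by abel,
      gen_sub (hc.etaCol_gen 1) gβ, ?_, fun i j => ?_⟩
    · rw [classInner_sub_left, classInner_sub_right, classInner_sub_right,
        gen_inner_comm (hc.etaCol_gen 1) gβ, e1, nβ, hc.etaCol_inner_etaCol, if_pos rfl]
      push_cast; ring
    · rw [classInner_sub_left, hc.etaCol_inner_eta, ha]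
      by_cases e : j = 1
      · simp [e]
      · simp [e, Ne.symm e]
  · omega

end Dade

end CL.PF
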