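import Cfsg.Agent.Base
import Cfsg.Agent.PF.CohExt
import Cfsg.Agent.Char.Galois

/-!
# Coherence for sets of irreducible characters (Feit's criterion, uniform signs, (5.9.a))
-/

set_option autoImplicit false

open Cfsg CL.Char
open scoped ComplexConjugate

namespace CL.PF

variable {L : Type*} [Group L] [Fintype L] {G : Type*} [Group G] [Fintype G]
variable {S S₁ S₂ : Set (L → ℂ)} {τ ν ν₁ ν₂ : (L → ℂ) → (G → ℂ)}

theorem iso_isSignedIrr {E : Set (L → ℂ)} (hν : IsLinearIsometryOn E ν) {χ : L → ℂ} (hχ : χ ∈ E)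
    (hirr : IsIrrCharacter L χ) : IsSignedIrr G (ν χ) :=
  isSignedIrr_of_norm_one (iso_gen hν hχ) (by rw [iso_inner hν hχ hχ, irr_inner_self hirr])

omit [Fintype L] in
/-- `ψ(1) χ - χ(1) ψ ∈ ℤ[S, L^#]` -/
theorem deg_comb_mem {χ ψ : L → ℂ} (hχ : χ ∈ zspan S) (hψ : ψ ∈ zspan S) {d e : ℕ} (hd : χ 1 = d)
    (he : ψ 1 = e) : e • χ - d • ψ ∈ zspanOn S {1}ᶜ :=
  sub_mem_zspanOn_one (zc_nsmul e hχ) (zc_nsmul d hψ) (by simp [hd, he, mul_comm])

/-- if `ν` kills degrees, `(ν χ)(1)` is proportional to `χ(1)` -/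
theorem iso_apply_one_proportional (hν : IsLinearIsometryOn (zspan S) ν)
    (h0 : ∀ α ∈ zspanOn S {1}ᶜ, ν α 1 = 0) {χ ψ : L → ℂ} (hχ : χ ∈ zspan S) (hψ : ψ ∈ zspan S)
    (hgχ : IsGeneralizedCharacter L χ) (hgψ : IsGeneralizedCharacter L ψ) :
    ψ 1 * ν χ 1 = χ 1 * ν ψ 1 := by
  obtain ⟨d, hd⟩ := gen_apply_one hgχ
  obtain ⟨e, he⟩ := gen_apply_one hgψ
  have := h0 (e • χ - d • ψ)
    (sub_mem_zspanOn_one (zc_zsmul e hχ) (zc_zsmul d hψ) (by simp [hd, he, mul_comm]))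
  rw [iso_sub hν (zc_zsmul e hχ) (zc_zsmul d hψ), iso_zsmul hν e hχ, iso_zsmul hν d hψ] at this
  rw [Pi.sub_apply, Pi.smul_apply, Pi.smul_apply, zsmul_eq_mul, zsmul_eq_mul] at this
  rw [hd, he]
  linear_combination this

/-- the signs of the images of irreducible characters are uniform -/
theorem iso_irr_of_irr (hν : IsLinearIsometryOn (zspan S) ν)
    (h0 : ∀ α ∈ zspanOn S {1}ᶜ, ν α 1 = 0) {χ ψ : L → ℂ} (hχ : χ ∈ zspan S) (hψ : ψ ∈ zspan S)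
    (hiχ : IsIrrCharacter L χ) (hcψ : IsCharacter L ψ) {ε : ℤ} (hε : ε = 1 ∨ ε = -1)
    (h : 0 < (ε * ν ψ 1).re) : IsIrrCharacter G (ε • ν χ) := by
  have hp := iso_apply_one_proportional hν h0 hχ hψ (gen_of_irr hiχ) (gen_of_char hcψ)
  obtain ⟨d, hd, hd'⟩ := irr_apply_one hiχ
  obtain ⟨e, he'⟩ := char_apply_one hcψ
  have hs := iso_isSignedIrr hν hχ hiχ
  refine irr_of_gen_norm_one (gen_zsmul ε hs.gen) ?_ ?_
  · rw [classInner_zsmul_left, classInner_zsmul_right, hs.inner_self]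
    rcases hε with rfl | rfl <;> simp
  · rw [hd', he'] at hp
    have h2 := congrArg (fun z : ℂ => (ε * z).re) hp
    simp only [Complex.mul_re, Complex.natCast_re, Complex.natCast_im, Complex.intCast_re,
      Complex.intCast_im, zero_mul, sub_zero, Complex.mul_im, add_zero] at h h2
    rw [Pi.smul_apply, zsmul_eq_mul]
    simp only [Complex.mul_re, Complex.intCast_re, Complex.intCast_im, zero_mul, sub_zero]
    have hd0 : (0 : ℝ) < d := by exact_mod_cast hd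
    have he0 : (0 : ℝ) ≤ e := by positivity
    by_contra hn
    nlinarith

theorem iso_exists_sign (hν : IsLinearIsometryOn (zspan S) ν)
    (h0 : ∀ α ∈ zspanOn S {1}ᶜ, ν α 1 = 0) :
    ∃ ε : ℤ, (ε = 1 ∨ ε = -1) ∧
      ∀ χ ∈ zspan S, IsIrrCharacter L χ → IsIrrCharacter G (ε • ν χ) := by
  by_cases hne : ∃ ψ ∈ zspan S, IsIrrCharacter L ψ
  · obtain ⟨ψ, hψ, hiψ⟩ := hne
    obtain ⟨ε, ξ, hε, hξ, h⟩ := (iso_isSignedIrr hν hψ hiψ).exists_sign
    refine ⟨ε, hε, fun χ hχ hiχ => iso_irr_of_irr hν h0 hχ hψ hiχ (irr_isCharacter hiψ) hε ?_⟩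
    obtain ⟨n, hn, hn'⟩ := irr_apply_one hξ
    rw [h]
    rcases hε with rfl | rfl <;> simpa [hn'] using hn
  · exact ⟨1, Or.inl rfl, fun χ hχ hi => absurd ⟨χ, hχ, hi⟩ hne⟩

/-- images of disjoint coherent sets of irreducible characters are orthogonal -/
theorem irr_coherent_ortho (hτ : IsLinearIsometryOn (zspanOn S {1}ᶜ) τ)
    (hτ1 : ∀ α ∈ zspanOn S {1}ᶜ, τ α 1 = 0) (h1 : S₁ ⊆ S) (h2 : S₂ ⊆ S)
    (hν₁ : CoherentWith S₁ τ ν₁) (hν₂ : CoherentWith S₂ τ ν₂) {χ χ' η η' : L → ℂ}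
    (hχ : χ ∈ S₁) (hχ' : χ' ∈ S₁) (hη : η ∈ S₂) (hη' : η' ∈ S₂) (iχ : IsIrrCharacter L χ)
    (iχ' : IsIrrCharacter L χ') (iη : IsIrrCharacter L η) (iη' : IsIrrCharacter L η')
    (n1 : χ ≠ χ') (n2 : η ≠ η') (n3 : χ ≠ η) (n4 : χ ≠ η') (n5 : χ' ≠ η) (n6 : χ' ≠ η') :
    classInner (ν₁ χ) (ν₂ η) = 0 := by
  obtain ⟨ε, hε, hε'⟩ := iso_exists_sign hν₁.iso fun α hα => by
    rw [hν₁.eq hα]; exact hτ1 α (zspanOn_mono h1 hα)
  obtain ⟨δ, hδ, hδ'⟩ := iso_exists_sign hν₂.iso fun α hα => by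
    rw [hν₂.eq hα]; exact hτ1 α (zspanOn_mono h2 hα)
  obtain ⟨a, ha, ha'⟩ := irr_apply_one iχ
  obtain ⟨b, hb, hb'⟩ := irr_apply_one iχ'
  obtain ⟨c, hc, hc'⟩ := irr_apply_one iη
  obtain ⟨d, hd, hd'⟩ := irr_apply_one iη'
  have m1 := deg_comb_mem (mem_zspan hχ) (mem_zspan hχ') ha' hb'
  have m2 := deg_comb_mem (mem_zspan hη) (mem_zspan hη') hc' hd'
  have e := iso_inner hτ (zspanOn_mono h1 m1) (zspanOn_mono h2 m2)
  rw [← hν₁.eq m1, ← hν₂.eq m2,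
    iso_sub hν₁.iso (zc_nsmul b (mem_zspan hχ)) (zc_nsmul a (mem_zspan hχ')),
    iso_sub hν₂.iso (zc_nsmul d (mem_zspan hη)) (zc_nsmul c (mem_zspan hη')),
    iso_nsmul hν₁.iso b (mem_zspan hχ), iso_nsmul hν₁.iso a (mem_zspan hχ'),
    iso_nsmul hν₂.iso d (mem_zspan hη), iso_nsmul hν₂.iso c (mem_zspan hη')] at e
  have hε0 : ε ≠ 0 := by rcases hε with rfl | rfl <;> simp
  have hδ0 : δ ≠ 0 := by rcases hδ with rfl | rfl <;> simp
  have k1 : ε • ν₁ χ ≠ ε • ν₁ χ' := fun h => n1 (iso_injOn hν₁.iso (mem_zspan hχ) (mem_zspan hχ')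
    (smul_right_injective _ hε0 h))
  have k2 : δ • ν₂ η ≠ δ • ν₂ η' := fun h => n2 (iso_injOn hν₂.iso (mem_zspan hη) (mem_zspan hη')
    (smul_right_injective _ hδ0 h))
  have i1 := hε' χ (mem_zspan hχ) iχ
  have i2 := hδ' η (mem_zspan hη) iη
  have k := (irr_ne_of_inner_sub_sub i1 (hε' χ' (mem_zspan hχ') iχ') i2
    (hδ' η' (mem_zspan hη') iη') k1 k2 hb ha hd hc (by
      rw [smul_comm b ε, smul_comm a ε, smul_comm d δ, smul_comm c δ, ← smul_sub, ← smul_sub,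
        classInner_zsmul_left, classInner_zsmul_right, e]
      simp only [classInner_sub_left, classInner_sub_right, classInner_nsmul_left,
        classInner_nsmul_right, irr_inner_of_ne iχ iη n3, irr_inner_of_ne iχ iη' n4,
        irr_inner_of_ne iχ' iη n5, irr_inner_of_ne iχ' iη' n6]
      ring)).1
  have := irr_inner_of_ne i1 i2 k
  rw [classInner_zsmul_left, classInner_zsmul_right] at this
  simpa [hε0, hδ0] using this

omit [Fintype L] in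
theorem coherent_exists_two (hc : ∃ α ∈ zspanOn S {1}ᶜ, α ≠ 0) {χ : L → ℂ} (h1 : χ 1 ≠ 0) :
    ∃ ψ ∈ S, ψ ≠ χ := by
  by_contra hn
  push Not at hn
  obtain ⟨α, hα, h0⟩ := hc
  obtain ⟨n, rfl⟩ := mem_zspan_singleton.mp (zspan_mono (T := {χ}) hn hα.1)
  have := apply_one_of_mem_zspanOn hα
  rw [Pi.smul_apply, zsmul_eq_mul, mul_eq_zero, or_iff_left h1, Int.cast_eq_zero] at this
  exact h0 (by rw [this, zero_smul])

omit [Fintype L] in
theorem exists_ne_zero_of_two_irr [Finite L] {χ ψ : L → ℂ} (hχ : χ ∈ S) (hψ : ψ ∈ S)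
    (iχ : IsIrrCharacter L χ) (iψ : IsIrrCharacter L ψ) (hne : χ ≠ ψ) :
    ∃ α ∈ zspanOn S {1}ᶜ, α ≠ 0 := by
  have := Fintype.ofFinite L
  obtain ⟨a, ha, ha'⟩ := irr_apply_one iχ
  obtain ⟨b, hb, hb'⟩ := irr_apply_one iψ
  refine ⟨_, deg_comb_mem (mem_zspan hχ) (mem_zspan hψ) ha' hb', fun h => ?_⟩
  have := congrArg (fun f => classInner f χ) h
  simp only [classInner_sub_left, classInner_nsmul_left, irr_inner_self iχ,
    irr_inner_of_ne iψ iχ hne.symm, classInner_zero_left] at this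
  simp at this
  omega

/-- Feit's coherence criterion, with the extension made explicit. -/
theorem feit_extend_coherentWith (hτ : IsLinearIsometryOn (zspanOn S {1}ᶜ) τ)
    (hτ1 : ∀ α ∈ zspanOn S {1}ᶜ, τ α 1 = 0) (h1 : S₁ ⊆ S) (hirr : ∀ φ ∈ S₁, IsIrrCharacter L φ)
    (hν : CoherentWith S₁ τ ν) {χ χ₁ : L → ℂ} (hχ : χ ∈ S) (iχ : IsIrrCharacter L χ)
    (hχ1 : χ ∉ S₁) (hχ₁ : χ₁ ∈ S₁) {a : ℤ} (hdeg : χ 1 = a * χ₁ 1) (T : Finset (L → ℂ))
    (hT : ↑T ⊆ S₁) (hlt : 2 * (χ 1).re * (χ₁ 1).re < ∑ φ ∈ T, (φ 1).re ^ 2) :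
    ∃ ν' : (L → ℂ) →ₗ[ℂ] (G → ℂ), CoherentWith (insert χ S₁) τ ν' ∧
      (∀ α ∈ zspan S₁, ν' α = ν α) := by
  classical
  have hψ : a • χ₁ ∈ zspan S₁ := zc_zsmul a (mem_zspan hχ₁)
  have hdeg' : χ 1 = (a • χ₁) 1 := by simp [hdeg]
  have hm : χ - a • χ₁ ∈ zspanOn S {1}ᶜ :=
    sub_mem_zspanOn_one (mem_zspan hχ) (zspan_mono h1 hψ) hdeg'
  set W := τ (χ - a • χ₁) + ν (a • χ₁) with hW
  have hWg : IsGeneralizedCharacter G W := gen_add (iso_gen hτ hm) (hν.gen hψ)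
  obtain ⟨l, hl⟩ := gen_inner_int hWg (hν.gen (mem_zspan hχ₁))
  obtain ⟨d, hd, hd1⟩ := irr_apply_one (hirr χ₁ hχ₁)
  have hd' : (0 : ℝ) < d := by exact_mod_cast hd
  have hdC : (d : ℂ) ≠ 0 := by exact_mod_cast hd.ne'
  have horth : ∀ φ ∈ S₁, classInner χ φ = 0 := fun φ hφ =>
    irr_inner_of_ne iχ (hirr φ hφ) fun e => hχ1 (e ▸ hφ)
  have hWφ : ∀ φ ∈ zspan S₁, classInner W (ν φ) = l / d * φ 1 := fun φ hφ => by
    have := coherent_pivot_inner hτ h1 (fun φ hφ => gen_of_irr (hirr φ hφ))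
      hν (mem_zspan hχ) hψ horth hdeg' hφ (mem_zspan hχ₁)
    rw [← hW, hl, hd1] at this
    field_simp
    linear_combination this
  have hWW : rip W W = 1 + 2 * a * l := by
    have e1 : τ (χ - a • χ₁) = W - ν (a • χ₁) := by rw [hW]; abel
    have e2 := iso_rip hτ hm hm
    rw [e1, rip_sub_self, rip_sub_self, iso_rip hν.iso hψ hψ, iso_zsmul hν.iso a (mem_zspan hχ₁),
      rip_zsmul_right a W, rip_of_classInner_eq_int hl,
      rip_eq_zero_of (classInner_zspan_right horth hψ), rip_eq_one_of (irr_inner_self iχ)] at e2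
    linarith
  suffices h0 : l = 0 by
    have hWn : classInner W W = classInner χ χ := by
      rw [← ofReal_rip_self, hWW, h0, irr_inner_self iχ]; simp
    obtain ⟨ν₂, hν₂, hν₂χ⟩ := pivot_coherentWith (S := {χ}) (τ := τ)
      (iso_mono hτ (zspanOn_mono (Set.singleton_subset_iff.mpr hχ))) (mem_zspan rfl)
      (irr_apply_one_ne_zero iχ) hWg hWn (by
        rintro _ rfl
        exact ⟨1, by simp, by simp [iso_zero hτ, classInner_zero_left]⟩)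
    obtain ⟨ν', h', -, e2⟩ := glue_coherentWith (S₁ := {χ}) (S₂ := S₁) (τ := τ)
      (iso_mono hτ (zspanOn_mono (Set.union_subset (Set.singleton_subset_iff.mpr hχ) h1)))
      (by rintro _ rfl; exact gen_apply_one (gen_of_irr iχ)) hν₂ hν (by
        rintro _ rfl φ hφ
        rw [hν₂χ, hWφ φ (mem_zspan hφ), h0, horth φ hφ]; simp)
      (mem_zspan rfl) hψ hdeg' (irr_apply_one_ne_zero iχ) (by rw [hν₂χ, hW]; abel)
    exact ⟨ν', h', e2⟩
  -- the image of `T` is orthonormal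
  have hinj : Set.InjOn ν T := (iso_injOn hν.iso).mono (hT.trans subset_zspan)
  have hON : IsON (T.image ν) := by
    refine ⟨fun α hα => ?_, fun α hα β hβ hne => ?_⟩
    · obtain ⟨φ, hφ, rfl⟩ := Finset.mem_image.mp hα
      rw [hν.inner (mem_zspan (hT hφ)) (mem_zspan (hT hφ)), irr_inner_self (hirr φ (hT hφ))]
    · obtain ⟨φ, hφ, rfl⟩ := Finset.mem_image.mp hα
      obtain ⟨φ', hφ', rfl⟩ := Finset.mem_image.mp hβ
      rw [hν.inner (mem_zspan (hT hφ)) (mem_zspan (hT hφ')),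
        irr_inner_of_ne (hirr φ (hT hφ)) (hirr φ' (hT hφ')) fun e => hne (by rw [e])]
  set σ := ∑ φ ∈ T, (φ 1).re ^ 2 with hσ
  have hsum : ∑ α ∈ T.image ν, ‖classInner W α‖ ^ 2 = (l / d) ^ 2 * σ := by
    rw [Finset.sum_image hinj, hσ, Finset.mul_sum]
    refine Finset.sum_congr rfl fun φ hφ => ?_
    obtain ⟨e, -, he⟩ := irr_apply_one (hirr φ (hT hφ))
    rw [hWφ φ (mem_zspan (hT hφ)), he]
    simp [mul_pow, div_pow]
  have hB := hON.bessel W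
  rw [hsum, hWW] at hB
  rw [hdeg, hd1] at hlt
  simp only [Complex.mul_re, Complex.natCast_re, Complex.natCast_im, Complex.intCast_re,
    Complex.intCast_im, mul_zero, sub_zero] at hlt
  obtain ⟨e, he, he1⟩ := irr_apply_one iχ
  have ha : 0 < a := by
    have h2 : (e : ℤ) = a * d := by
      have h3 : (e : ℂ) = a * d := he1.symm.trans (hdeg.trans (by rw [hd1]))
      exact_mod_cast h3
    by_contra hn
    nlinarith
  have ha' : (1 : ℝ) ≤ a := by exact_mod_cast ha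
  have key : (l : ℝ) ^ 2 * σ ≤ (1 + 2 * a * l) * d ^ 2 := by
    rw [div_pow, div_mul_eq_mul_div, div_le_iff₀ (by positivity)] at hB
    exact hB
  by_contra hl0
  have hl2 : (0 : ℝ) < l ^ 2 := by positivity
  have hd2 : (0 : ℝ) < d ^ 2 := by positivity
  have hl1 : l = 1 := by
    have h3 : (l : ℝ) ^ 2 * (2 * a) < 1 + 2 * a * l := by
      by_contra hn
      nlinarith
    have h4 : l ^ 2 * (2 * a) < 1 + 2 * a * l := by exact_mod_cast h3
    have h5 : l * (l - 1) ≤ 0 := by nlinarith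
    have h6 : 0 < l := by
      by_contra hn
      have : l ≤ -1 := by omega
      nlinarith
    nlinarith
  -- the case `l = 1`: `W` lies in the span of the image of `T`
  have hint : ∃ n : ℤ, ∑ α ∈ T.image ν, ‖classInner W α‖ ^ 2 = n := by
    refine Finset.sum_induction _ (fun x : ℝ => ∃ n : ℤ, x = n)
      (fun _ _ ⟨m, hm⟩ ⟨n, hn⟩ => ⟨m + n, by simp [hm, hn]⟩) ⟨0, by simp⟩ fun α hα => ?_
    obtain ⟨φ, hφ, rfl⟩ := Finset.mem_image.mp hα
    obtain ⟨n, hn⟩ := gen_inner_int hWg (hν.gen (mem_zspan (hT hφ)))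
    exact ⟨n ^ 2, by simp [hn]⟩
  obtain ⟨n, hn⟩ := hint
  have hn1 : 2 * a < n := by
    have : (2 * a : ℝ) < n := by
      rw [← hn, hsum, hl1, div_pow, div_mul_eq_mul_div, lt_div_iff₀ hd2]
      push_cast
      nlinarith
    exact_mod_cast this
  have hn2 : (1 + 2 * a : ℝ) ≤ n := by exact_mod_cast (by omega : 1 + 2 * a ≤ n)
  have hWp : W = proj (T.image ν) W := hON.eq_proj_of_le (by rw [hn, hWW, hl1]; simpa using hn2)
  have hν1 : ∀ α ∈ zspanOn S₁ {1}ᶜ, ν α 1 = 0 := fun α hα => by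
    rw [hν.eq hα]; exact hτ1 α (zspanOn_mono h1 hα)
  have hW1 : W 1 = a * ν χ₁ 1 := by
    rw [hW, Pi.add_apply, hτ1 _ hm, iso_zsmul hν.iso a (mem_zspan hχ₁)]; simp
  have hW2 : W 1 = (σ / d ^ 2 : ℝ) * ν χ₁ 1 := by
    conv_lhs => rw [hWp, proj, Finset.sum_image hinj]
    rw [Finset.sum_apply, hσ]
    push_cast
    rw [Finset.sum_div, Finset.sum_mul]
    refine Finset.sum_congr rfl fun φ hφ => ?_
    obtain ⟨e, -, he⟩ := irr_apply_one (hirr φ (hT hφ))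
    have := iso_apply_one_proportional hν.iso hν1 (mem_zspan (hT hφ)) (mem_zspan hχ₁)
      (gen_of_irr (hirr φ (hT hφ))) (gen_of_irr (hirr χ₁ hχ₁))
    rw [hd1, he] at this
    rw [Pi.smul_apply, hWφ φ (mem_zspan (hT hφ)), he, hl1, smul_eq_mul]
    simp only [Complex.natCast_re, Complex.ofReal_natCast]
    field_simp
    push_cast
    linear_combination (e : ℂ) * this
  have h0 := (iso_isSignedIrr hν.iso (mem_zspan hχ₁) (hirr χ₁ hχ₁)).apply_one_ne_zero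
  have h7 : (a : ℝ) = σ / d ^ 2 := by
    exact_mod_cast mul_right_cancel₀ h0 (hW1.symm.trans hW2)
  rw [eq_div_iff hd2.ne'] at h7
  nlinarith

/-- Feit's coherence criterion. -/
theorem feit_extend_coherent (hτ : IsLinearIsometryOn (zspanOn S {1}ᶜ) τ)
    (hτ1 : ∀ α ∈ zspanOn S {1}ᶜ, τ α 1 = 0) (h1 : S₁ ⊆ S) (hirr : ∀ φ ∈ S₁, IsIrrCharacter L φ)
    (hc : IsCoherent S₁ {1}ᶜ τ) {χ χ₁ : L → ℂ} (hχ : χ ∈ S) (iχ : IsIrrCharacter L χ)
    (hχ1 : χ ∉ S₁) (hχ₁ : χ₁ ∈ S₁) {a : ℤ} (hdeg : χ 1 = a * χ₁ 1) (T : Finset (L → ℂ))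
    (hT : ↑T ⊆ S₁) (hlt : 2 * (χ 1).re * (χ₁ 1).re < ∑ φ ∈ T, (φ 1).re ^ 2) :
    IsCoherent (insert χ S₁) {1}ᶜ τ := by
  obtain ⟨ν, hν⟩ := coherent_exists hc
  obtain ⟨ν', h', -⟩ := feit_extend_coherentWith hτ hτ1 h1 hirr hν hχ iχ hχ1 hχ₁ hdeg T hT hlt
  exact h'.isCoherent (exists_ne_zero_mono hc.1 (Set.subset_insert _ _))

/-- Iterating Feit's criterion. -/
theorem feit_extend_coherent_union (hτ : IsLinearIsometryOn (zspanOn S {1}ᶜ) τ)
    (hτ1 : ∀ α ∈ zspanOn S {1}ᶜ, τ α 1 = 0) (hirr : ∀ φ ∈ S, IsIrrCharacter L φ) (h1 : S₁ ⊆ S)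
    (h2 : S₂ ⊆ S) (hc : IsCoherent S₁ {1}ᶜ τ)
    (h : ∀ χ ∈ S₂, χ ∉ S₁ → ∃ χ₁ ∈ S₁, ∃ a : ℤ, χ 1 = a * χ₁ 1 ∧ ∃ T : Finset (L → ℂ), ↑T ⊆ S₁ ∧
      2 * (χ 1).re * (χ₁ 1).re < ∑ φ ∈ T, (φ 1).re ^ 2) :
    IsCoherent (S₁ ∪ S₂) {1}ᶜ τ := by
  have hfin : S₂.Finite := finite_setOf_irr.subset fun φ hφ => hirr φ (h2 hφ)
  induction S₂, hfin using Set.Finite.induction_on with
  | empty => rwa [Set.union_empty]
  | @insert χ S₃ _ _ ih =>
    have h3 : S₃ ⊆ S := (Set.subset_insert _ _).trans h2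
    have ih' := ih h3 fun φ hφ => h φ (Set.mem_insert_of_mem _ hφ)
    rw [Set.union_insert]
    by_cases hχ : χ ∈ S₁ ∪ S₃
    · rwa [Set.insert_eq_of_mem hχ]
    obtain ⟨χ₁, hχ₁, a, ha, T, hT, hlt⟩ := h χ (Set.mem_insert _ _) fun h => hχ (Or.inl h)
    have h13 := Set.union_subset h1 h3
    have hχS := h2 (Set.mem_insert _ _)
    exact feit_extend_coherent hτ hτ1 h13 (fun φ hφ => hirr φ (h13 hφ)) ih' hχS (hirr χ hχS) hχ
      (Or.inl hχ₁) ha T (hT.trans Set.subset_union_left) hlt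

/-- A set of irreducible characters of the same degree is coherent (Peterfalvi (1.4)). -/
theorem irr_uniform_coherentWith (hτ : IsLinearIsometryOn (zspanOn S {1}ᶜ) τ)
    (hτ1 : ∀ α ∈ zspanOn S {1}ᶜ, τ α 1 = 0) (hirr : ∀ φ ∈ S, IsIrrCharacter L φ)
    (hdeg : ∀ φ ∈ S, ∀ ψ ∈ S, φ 1 = ψ 1) (hne : S.Nonempty) :
    ∃ ν : (L → ℂ) →ₗ[ℂ] (G → ℂ), CoherentWith S τ ν := by
  obtain ⟨χ, hχ⟩ := hne
  have hm : ∀ η ∈ S, η - χ ∈ zspanOn S {1}ᶜ := fun η hη =>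
    sub_mem_zspanOn_one (mem_zspan hη) (mem_zspan hχ) (hdeg _ hη _ hχ)
  obtain ⟨ε, hε, μ, hμ, hinj, hτμ⟩ := exists_irr_family_of_isometry (G := G) (⟨χ, hχ⟩ : S)
    (fun η => τ (η - χ)) (by simp [iso_zero hτ]) (fun η => iso_gen hτ (hm η η.2))
    (fun η => hτ1 _ (hm η η.2)) (fun η hη => by
      have hne : (η : L → ℂ) ≠ χ := fun e => hη (Subtype.ext e)
      rw [iso_inner hτ (hm η η.2) (hm η η.2)]
      simp only [classInner_sub_left, classInner_sub_right, irr_inner_self (hirr _ η.2),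
        irr_inner_self (hirr _ hχ), irr_inner_of_ne (hirr _ η.2) (hirr _ hχ) hne,
        irr_inner_of_ne (hirr _ hχ) (hirr _ η.2) hne.symm]
      ring) (fun η η' hη hη' h => by
      have hne : (η : L → ℂ) ≠ χ := fun e => hη (Subtype.ext e)
      have hne' : (η' : L → ℂ) ≠ χ := fun e => hη' (Subtype.ext e)
      rw [iso_inner hτ (hm η η.2) (hm η' η'.2)]
      simp only [classInner_sub_left, classInner_sub_right,
        irr_inner_self (hirr _ hχ), irr_inner_of_ne (hirr _ η.2) (hirr _ hχ) hne,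
        irr_inner_of_ne (hirr _ hχ) (hirr _ η'.2) hne'.symm,
        irr_inner_of_ne (hirr _ η.2) (hirr _ η'.2) (fun e => h (Subtype.ext e))]
      ring)
  have hεε : ε * conj ε = 1 := by rcases hε with rfl | rfl <;> simp
  have i0 := hμ ⟨χ, hχ⟩
  obtain ⟨ν, hν, -⟩ := pivot_coherentWith hτ (mem_zspan hχ) (irr_apply_one_ne_zero (hirr χ hχ))
    (ζ₁ := ε • μ ⟨χ, hχ⟩) (by
      rcases hε with rfl | rfl
      · simpa using gen_of_irr i0
      · simpa using gen_neg (gen_of_irr i0)) (by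
      rw [classInner_smul_left, classInner_smul_right, irr_inner_self i0,
        irr_inner_self (hirr χ hχ), mul_one, hεε]) (fun η hη => ⟨1, by simp [hdeg _ hη _ hχ], by
      rw [one_smul]
      by_cases h1 : η = χ
      · simp [h1, iso_zero hτ, classInner_zero_left]
      · rw [hτμ ⟨η, hη⟩, classInner_smul_left, classInner_smul_right, ← mul_assoc, hεε,
          classInner_sub_left, classInner_sub_left, irr_inner_self i0, irr_inner_self (hirr χ hχ),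
          irr_inner_of_ne (hirr η hη) (hirr χ hχ) h1,
          irr_inner_of_ne (hμ _) i0 (fun e => h1 (congrArg Subtype.val (hinj e))), one_mul]⟩)
  exact ⟨ν, hν⟩

theorem irr_uniform_coherent (hτ : IsLinearIsometryOn (zspanOn S {1}ᶜ) τ)
    (hτ1 : ∀ α ∈ zspanOn S {1}ᶜ, τ α 1 = 0) (hirr : ∀ φ ∈ S, IsIrrCharacter L φ)
    (hdeg : ∀ φ ∈ S, ∀ ψ ∈ S, φ 1 = ψ 1) {χ ψ : L → ℂ} (hχ : χ ∈ S) (hψ : ψ ∈ S) (hne : χ ≠ ψ) :
    IsCoherent S {1}ᶜ τ := by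
  obtain ⟨ν, hν⟩ := irr_uniform_coherentWith hτ hτ1 hirr hdeg ⟨χ, hχ⟩
  exact hν.isCoherent (exists_ne_zero_of_two_irr hχ hψ (hirr χ hχ) (hirr ψ hψ) hne)

/-- Peterfalvi (5.9.a) for an abstract `τ` commuting with the field automorphism `σ`. -/
theorem coherent_map_of_irr {F : Type*} [FunLike F ℂ ℂ] [RingHomClass F ℂ ℂ] (σ : F)
    (hν : CoherentWith S τ ν) (hτ1 : ∀ α ∈ zspanOn S {1}ᶜ, τ α 1 = 0) {χ ψ : L → ℂ}
    (hχ : χ ∈ zspan S) (hψ : ψ ∈ zspan S) (hχ' : (fun x => σ (χ x)) ∈ zspan S)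
    (hψ' : (fun x => σ (ψ x)) ∈ zspan S) (iχ : IsIrrCharacter L χ) (iψ : IsIrrCharacter L ψ)
    (hne : χ ≠ ψ) (hτσ : ∀ α ∈ zspanOn S {1}ᶜ, τ (fun x => σ (α x)) = fun g => σ (τ α g)) :
    ν (fun x => σ (χ x)) = fun g => σ (ν χ g) := by
  obtain ⟨ε, hε, hε'⟩ := iso_exists_sign hν.iso fun α hα => by rw [hν.eq hα]; exact hτ1 α hα
  obtain ⟨a, ha, ha'⟩ := irr_apply_one iχ
  obtain ⟨b, hb, hb'⟩ := irr_apply_one iψ
  have m1 := deg_comb_mem hχ hψ ha' hb'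
  have m2 := deg_comb_mem hχ' hψ' (d := a) (e := b) (by simp [ha']) (by simp [hb'])
  have e := hτσ _ m1
  have e1 : (fun x => σ ((b • χ - a • ψ) x)) =
      b • (fun x => σ (χ x)) - a • (fun x => σ (ψ x)) := by funext x; simp
  rw [e1, ← hν.eq m1, ← hν.eq m2, iso_sub hν.iso (zc_nsmul b hχ) (zc_nsmul a hψ),
    iso_sub hν.iso (zc_nsmul b hχ') (zc_nsmul a hψ'), iso_nsmul hν.iso b hχ, iso_nsmul hν.iso a hψ,
    iso_nsmul hν.iso b hχ', iso_nsmul hν.iso a hψ'] at e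
  have hε0 : ε ≠ 0 := by rcases hε with rfl | rfl <;> simp
  have i1 := hε' _ hχ' (irr_map σ iχ)
  have i2 := hε' _ hψ' (irr_map σ iψ)
  have i3 := irr_map σ (hε' _ hχ iχ)
  have i4 := irr_map σ (hε' _ hψ iψ)
  have n1 : ε • ν (fun x => σ (χ x)) ≠ ε • ν (fun x => σ (ψ x)) := fun h =>
    hne (map_comp_injective σ (iso_injOn hν.iso hχ' hψ' (smul_right_injective _ hε0 h)))
  have e2 : b • (ε • ν (fun x => σ (χ x))) - a • (ε • ν (fun x => σ (ψ x))) =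
      b • (fun g => σ ((ε • ν χ) g)) - a • (fun g => σ ((ε • ν ψ) g)) := by
    rw [smul_comm b ε, smul_comm a ε, ← smul_sub, e]
    funext g; simp; ring
  have e3 := congrArg (fun f => classInner f (ε • ν (fun x => σ (χ x)))) e2
  simp only [classInner_sub_left, classInner_nsmul_left, irr_inner_self i1,
    irr_inner_of_ne i2 i1 n1.symm] at e3
  have e4 : (fun g => σ ((ε • ν χ) g)) = ε • ν (fun x => σ (χ x)) := by
    by_contra hn
    rw [irr_inner_of_ne i3 i1 hn] at e3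
    obtain ⟨n, hn⟩ := char_inner_nat (irr_isCharacter i4) (irr_isCharacter i1)
    rw [hn] at e3
    have : (b : ℤ) = -(a * n) := by
      have h : (b : ℂ) = -(a * n) := by linear_combination e3
      exact_mod_cast h
    have : (0 : ℤ) ≤ a * n := by positivity
    omega
  refine smul_right_injective _ hε0 ?_
  simp only [← e4]
  funext g; simp

/-- (5.9.a) for complex conjugation and a non-real irreducible character -/
theorem coherent_conjFun_of_irr (hν : CoherentWith S τ ν)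
    (hτ1 : ∀ α ∈ zspanOn S {1}ᶜ, τ α 1 = 0) {χ : L → ℂ} (hχ : χ ∈ zspan S)
    (hχ' : conjFun χ ∈ zspan S) (iχ : IsIrrCharacter L χ) (hne : conjFun χ ≠ χ)
    (hτσ : ∀ α ∈ zspanOn S {1}ᶜ, τ (conjFun α) = conjFun (τ α)) :
    ν (conjFun χ) = conjFun (ν χ) :=
  coherent_map_of_irr (starRingEnd ℂ) hν hτ1 hχ hχ' hχ'
    (by rw [← conjFun_eq, conjFun_conjFun]; exact hχ) iχ (irr_conjFun iχ) hne.symm hτσ

end CL.PF
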