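import Cfsg.Agent.Base
import Cfsg.Agent.PF.Rel
import Cfsg.Agent.Char.Inflate
import Cfsg.Agent.Char.Invariant
import Cfsg.Agent.Char.Gallagher
import Cfsg.Agent.Char.CliffordCorr
import Cfsg.Agent.Char.Ito
import Cfsg.Agent.Char.Perm
import Cfsg.Agent.Char.FS
import Cfsg.Agent.Char.Linear
import Cfsg.Agent.Char.ProjRep
import Cfsg.Agent.Auto.ACL_PF_relRes_e868e4

/-!
# Peterfalvi, section 1

(1.2), (1.5), (1.6), (1.7), (1.8), the extension of invariant characters of normal Hall subgroups,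
and characters of Frobenius groups.
-/

set_option autoImplicit false

namespace CL.PF

open Cfsg CL.Char ComplexConjugate

section
variable {G : Type*} [Group G]

/-! ### (1.2) -/

theorem bijective_comm_of_cent [Finite G] (H : Subgroup G) [hN : H.Normal] {g : G}
    (hg : ∀ h ∈ H, h * g = g * h → h = 1) :
    Function.Bijective (fun h : H => (⟨h * (g * (h : G)⁻¹ * g⁻¹),
      H.mul_mem h.2 (hN.conj_mem _ (H.inv_mem h.2) g)⟩ : H)) := by
  refine Finite.injective_iff_bijective.1 fun h k hk => ?_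
  have h1 : (h : G) * (g * (h : G)⁻¹ * g⁻¹) = k * (g * (k : G)⁻¹ * g⁻¹) := congrArg Subtype.val hk
  have h2 : ((k : G)⁻¹ * h) * g = g * ((k : G)⁻¹ * h) := by
    have : (h : G) * g * (h : G)⁻¹ = k * g * (k : G)⁻¹ := by
      have := congrArg (· * g) h1
      simpa [mul_assoc] using this
    calc ((k : G)⁻¹ * h) * g = (k : G)⁻¹ * ((h : G) * g * (h : G)⁻¹) * h := by group
      _ = (k : G)⁻¹ * (k * g * (k : G)⁻¹) * h := by rw [this]
      _ = g * ((k : G)⁻¹ * h) := by group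
  have h3 := hg _ (H.mul_mem (H.inv_mem k.2) h.2) h2
  exact Subtype.ext (inv_mul_eq_one.1 h3).symm

/-- if `C_H(g) = 1` then all elements of the coset `H g` are `H`-conjugate to `g` -/
theorem exists_conj_eq_mul_of_cent [Finite G] (H : Subgroup G) [hN : H.Normal] {g : G}
    (hg : ∀ h ∈ H, h * g = g * h → h = 1) {k : G} (hk : k ∈ H) :
    ∃ m ∈ H, m * g * m⁻¹ = k * g := by
  obtain ⟨m, hm⟩ := (bijective_comm_of_cent H hg).2 ⟨k, hk⟩
  refine ⟨m, m.2, ?_⟩
  have : (m : G) * (g * (m : G)⁻¹ * g⁻¹) = k := congrArg Subtype.val hm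
  rw [← this]
  group

/-- (1.2) -/
theorem irr_eq_zero_of_cent [Finite G] (H : Subgroup G) [hN : H.Normal] {χ : G → ℂ}
    (hχ : IsIrrCharacter G χ) (hker : ¬ ∀ x ∈ H, χ x = χ 1) {g : G}
    (hg : ∀ h ∈ H, h * g = g * h → h = 1) : χ g = 0 := by
  classical
  letI := Fintype.ofFinite G
  have h0 : classInner (fun h : H => χ h) (fun _ => 1) = 0 := by
    apply classInner_res_one_eq_zero H hχ
    push Not at hker
    exact hker
  have h1 := irr_sum_coset (N := H) hχ g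
  rw [h0] at h1
  have h3 : ∀ n : H, χ (n * g) = χ g := by
    intro n
    obtain ⟨m, -, hm⟩ := exists_conj_eq_mul_of_cent H hg n.2
    rw [← hm]
    exact irr_isClassFunction hχ g m
  rw [Finset.sum_congr rfl (fun n _ => h3 n)] at h1
  simp only [Finset.sum_const, Finset.card_univ, nsmul_eq_mul, mul_zero, zero_div, zero_mul] at h1
  rcases mul_eq_zero.1 h1 with h | h
  · exact absurd (Nat.cast_eq_zero.1 h) Fintype.card_ne_zero
  · exact h

/-- an element `g` with `C_H(g) = 1` fixes no non-principal irreducible character of `H` -/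
theorem irr_eq_one_of_mem_inertia_of_cent [Finite G] (H : Subgroup G) [hN : H.Normal] {g : G}
    (hg : ∀ h ∈ H, h * g = g * h → h = 1) {θ : H → ℂ} (hθ : IsIrrCharacter H θ)
    (hfix : g ∈ inertia H θ) : θ = fun _ => 1 := by
  refine irr_eq_one_of_aut_fixed (MulAut.conjNormal g) (fun h hc => ?_) hθ
    (fun h => (mem_inertia H).1 hfix h)
  obtain ⟨k, hk⟩ := isConj_iff.1 hc
  have h1 : (k : G) * h * (k : G)⁻¹ = g * h * g⁻¹ := by
    have := congrArg Subtype.val hk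
    simpa using this
  obtain ⟨m, hm, hmk⟩ := exists_conj_eq_mul_of_cent H hg (H.inv_mem k.2)
  have h2 : (m⁻¹ * h * m) * g = g * (m⁻¹ * h * m) := by
    have h3 : g = m⁻¹ * ((k : G)⁻¹ * g) * m := by rw [← hmk]; group
    have h4 : ((k : G)⁻¹ * g) * h = h * ((k : G)⁻¹ * g) := by
      calc ((k : G)⁻¹ * g) * h = (k : G)⁻¹ * (g * h * g⁻¹) * g := by group
        _ = (k : G)⁻¹ * ((k : G) * h * (k : G)⁻¹) * g := by rw [h1]
        _ = h * ((k : G)⁻¹ * g) := by group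
    calc (m⁻¹ * h * m) * g = (m⁻¹ * h * m) * (m⁻¹ * ((k : G)⁻¹ * g) * m) := by rw [← h3]
      _ = m⁻¹ * (h * ((k : G)⁻¹ * g)) * m := by group
      _ = m⁻¹ * (((k : G)⁻¹ * g) * h) * m := by rw [h4]
      _ = (m⁻¹ * ((k : G)⁻¹ * g) * m) * (m⁻¹ * h * m) := by group
      _ = g * (m⁻¹ * h * m) := by rw [← h3]
  have h5 := hg _ (H.mul_mem (H.mul_mem (H.inv_mem hm) h.2) hm) h2
  apply Subtype.ext
  calc (h : G) = m * (m⁻¹ * h * m) * m⁻¹ := by group
    _ = 1 := by rw [h5]; group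

theorem exists_irr_mem_inertia_of_comm [Finite G] (H : Subgroup G) [hN : H.Normal] {g h : G}
    (hh : h ∈ H) (h1 : h ≠ 1) (hc : g * h = h * g) :
    ∃ θ : H → ℂ, IsIrrCharacter H θ ∧ (θ ≠ fun _ => 1) ∧ g ∈ inertia H θ := by
  have h2 : MulAut.conjNormal g (⟨h, hh⟩ : H) = ⟨h, hh⟩ := by
    apply Subtype.ext
    simp [hc]
  obtain ⟨θ, hθ, hne, hfix⟩ := exists_irr_ne_one_aut_fixed (MulAut.conjNormal g)
    (g := (⟨h, hh⟩ : H)) (fun h0 => h1 (congrArg Subtype.val h0)) (by rw [h2])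
  exact ⟨θ, hθ, hne, (mem_inertia H).2 fun x => hfix x⟩

/-- the inertia group of a non-principal character of a Frobenius kernel -/
theorem inertia_le_of_cent_le [Finite G] (N : Subgroup G) [N.Normal] {T : Subgroup G}
    (hC : ∀ n ∈ N, n ≠ 1 → Subgroup.centralizer ({n} : Set G) ≤ T) {θ : N → ℂ}
    (hθ : IsIrrCharacter N θ) (hne : θ ≠ fun _ => 1) : inertia N θ ≤ T := by
  intro g hg
  by_contra hgT
  refine hne (irr_eq_one_of_mem_inertia_of_cent N (fun h hh hc => ?_) hθ hg)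
  by_contra h1
  exact hgT (hC h hh h1 (Subgroup.mem_centralizer_singleton_iff.2 hc.symm))

/-! ### kernels: (1.6.a) -/

theorem inKer_iff_le_charKer [Finite G] {K Y : Subgroup G} {θ : K → ℂ} (hθ : IsCharacter K θ) :
    InKer Y θ ↔ Y.subgroupOf K ≤ charKer θ :=
  ⟨fun h a ha => (char_mem_charKer_iff hθ).2 (h a ha),
    fun h a ha => (char_mem_charKer_iff hθ).1 (h ha)⟩

theorem InKer.mono {K Y Y' : Subgroup G} {θ : K → ℂ} (h : InKer Y θ) (hY : Y' ≤ Y) : InKer Y' θ :=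
  fun a ha => h a (hY ha)

theorem inKer_bot {K : Subgroup G} (θ : K → ℂ) : InKer ⊥ θ := by
  intro a ha
  rw [show a = 1 from Subtype.ext (Subgroup.mem_bot.1 ha)]

theorem inKer_const {K : Subgroup G} (Y : Subgroup G) (c : ℂ) : InKer Y (fun _ : K => c) :=
  fun _ _ => rfl

theorem inKer_inf_iff {K Y : Subgroup G} {θ : K → ℂ} : InKer (Y ⊓ K) θ ↔ InKer Y θ :=
  ⟨fun h a ha => h a ⟨ha, a.2⟩, fun h => h.mono inf_le_left⟩

theorem InKer.sup [Finite G] {K Y Y' : Subgroup G} {θ : K → ℂ} (hθ : IsCharacter K θ)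
    (hY : Y ≤ K) (hY' : Y' ≤ K) (h : InKer Y θ) (h' : InKer Y' θ) : InKer (Y ⊔ Y') θ := by
  rw [inKer_iff_le_charKer hθ] at h h' ⊢
  rw [Subgroup.subgroupOf_sup hY hY']
  exact sup_le h h'

theorem InKer.apply_mul [Finite G] {K Y : Subgroup G} {θ : K → ℂ} (hθ : IsCharacter K θ)
    (h : InKer Y θ) {a : K} (ha : (a : G) ∈ Y) (b : K) : θ (a * b) = θ b :=
  char_apply_mul_of_eq_one hθ (h a ha) b

theorem InKer.conjFun {K Y : Subgroup G} {θ : K → ℂ} (h : InKer Y θ) : InKer Y (conjFun θ) := by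
  intro a ha
  simp only [Cfsg.conjFun, h a ha]

theorem inKer_conjFun_iff {K Y : Subgroup G} {θ : K → ℂ} : InKer Y (conjFun θ) ↔ InKer Y θ := by
  refine ⟨fun h a ha => ?_, InKer.conjFun⟩
  have := h a ha
  simp only [Cfsg.conjFun] at this
  exact star_injective this

theorem InKer.conjChar {K Y : Subgroup G} [K.Normal] [hY : Y.Normal] {θ : K → ℂ} (h : InKer Y θ)
    (g : G) : InKer Y (conjChar K g θ) := by
  intro a ha
  rw [conjChar_apply_one, conjChar_apply]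
  exact h _ (hY.conj_mem _ ha g)

theorem inKer_conjChar_iff {K Y : Subgroup G} [K.Normal] [Y.Normal] {θ : K → ℂ} (g : G) :
    InKer Y (conjChar K g θ) ↔ InKer Y θ :=
  ⟨fun h => by simpa [conjChar_inv_conjChar] using h.conjChar g⁻¹, fun h => h.conjChar g⟩

theorem irr_eq_one_of_forall_eq [Finite G] {χ : G → ℂ} (hχ : IsIrrCharacter G χ)
    (h : ∀ x, χ x = χ 1) : χ = fun _ => 1 := by
  letI := Fintype.ofFinite G
  apply irr_eq_of_inner_ne_zero hχ irr_one
  have : χ = χ 1 • fun _ => (1 : ℂ) := by funext x; simp [h x]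
  rw [this, classInner_smul_left, classInner_one_one, mul_one]
  exact irr_apply_one_ne_zero hχ

theorem irr_inKer_top_iff [Finite G] {K : Subgroup G} {θ : K → ℂ} (hθ : IsIrrCharacter K θ) :
    InKer K θ ↔ θ = fun _ => 1 :=
  ⟨fun h => irr_eq_one_of_forall_eq hθ fun x => h x x.2, fun h => h ▸ inKer_const K 1⟩

/-- a constituent of a character has a larger kernel -/
theorem InKer.of_constituent [Finite G] {K Y : Subgroup G} [Fintype K] {ψ θ : K → ℂ}
    (hψ : IsCharacter K ψ) (hθ : IsIrrCharacter K θ) (h : classInner ψ θ ≠ 0) (hY : InKer Y ψ) :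
    InKer Y θ :=
  fun a ha => char_apply_eq_of_inner_ne_zero hψ hθ h (hY a ha)

theorem inKer_res {K Y : Subgroup G} {χ : G → ℂ} (h : ∀ y ∈ Y, χ y = χ 1) :
    InKer Y (fun k : K => χ k) :=
  fun a ha => h a ha

theorem inKer_res_iff {K Y : Subgroup G} (hYK : Y ≤ K) {χ : G → ℂ} :
    InKer Y (fun k : K => χ k) ↔ ∀ y ∈ Y, χ y = χ 1 :=
  ⟨fun h y hy => h ⟨y, hYK hy⟩ hy, inKer_res⟩

theorem InKer.relRes {K L Y : Subgroup G} (h : K ≤ L) {χ : L → ℂ} (hχ : InKer Y χ) :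
    InKer Y (relRes h χ) :=
  fun a ha => hχ ⟨a, h a.2⟩ ha

theorem inKer_relRes_iff {K L Y : Subgroup G} (h : K ≤ L) (hY : Y ≤ K) {χ : L → ℂ} :
    InKer Y (PF.relRes h χ) ↔ InKer Y χ :=
  ⟨fun h' a ha => h' ⟨a, hY ha⟩ ha, InKer.relRes h⟩

theorem inKer_relFun_iff {K L Y : Subgroup G} (h : K ≤ L) {θ : K → ℂ} :
    InKer (Y.subgroupOf L) (relFun K L θ) ↔ InKer Y θ :=
  ⟨fun h' a ha => h' ⟨⟨a, h a.2⟩, a.2⟩ ha, fun h' a ha => h' ⟨a, a.2⟩ ha⟩

theorem inKer_iff_subgroupOf {K Y : Subgroup G} {θ : K → ℂ} :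
    InKer Y θ ↔ ∀ y ∈ Y.subgroupOf K, θ y = θ 1 := Iff.rfl

variable [Fintype G]

theorem indFun_apply_of_mem_normal {A H : Subgroup G} [hA : A.Normal] (hAH : A ≤ H) (θ : H → ℂ)
    {a : G} (ha : a ∈ A) : indFun H θ a =
      (Nat.card H : ℂ)⁻¹ * ∑ x : G, θ ⟨x * a * x⁻¹, hAH (hA.conj_mem a ha x)⟩ := by
  rw [indFun_apply']
  congr 1
  exact Finset.sum_congr rfl fun x _ => extendByZero_of_mem H θ _

theorem InKer.indFun {A H : Subgroup G} [hA : A.Normal] (hAH : A ≤ H) {θ : H → ℂ}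
    (h : InKer A θ) {a : G} (ha : a ∈ A) : indFun H θ a = indFun H θ 1 := by
  rw [indFun_apply_of_mem_normal hAH θ ha, indFun_apply_of_mem_normal hAH θ A.one_mem]
  congr 1
  refine Finset.sum_congr rfl fun x _ => ?_
  rw [h ⟨_, hAH (hA.conj_mem a ha x)⟩ (hA.conj_mem a ha x),
    h ⟨_, hAH (hA.conj_mem 1 A.one_mem x)⟩ (hA.conj_mem 1 A.one_mem x)]

theorem apply_eq_of_indFun_eq {A H : Subgroup G} [hA : A.Normal] (hAH : A ≤ H) {θ : H → ℂ}
    (hθ : IsCharacter H θ) {a : G} (ha : a ∈ A) (h : indFun H θ a = indFun H θ 1) :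
    θ ⟨a, hAH ha⟩ = θ 1 := by
  rw [indFun_apply_of_mem_normal hAH θ ha, indFun_apply_of_mem_normal hAH θ A.one_mem] at h
  have h1 := mul_left_cancel₀ (inv_ne_zero (natCard_cast_ne_zero H)) h
  have h2 : ∀ x : G, (⟨x * 1 * x⁻¹, hAH (hA.conj_mem 1 A.one_mem x)⟩ : H) = 1 :=
    fun x => Subtype.ext (by simp)
  simp only [h2] at h1
  have h3 := congrArg Complex.re h1
  rw [Complex.re_sum, Complex.re_sum] at h3
  have h4 := (Finset.sum_eq_sum_iff_of_le (fun x _ => char_re_le hθ _)).1 h3 1 (Finset.mem_univ _)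
  have h5 : (⟨1 * a * 1⁻¹, hAH (hA.conj_mem a ha 1)⟩ : H) = ⟨a, hAH ha⟩ := Subtype.ext (by simp)
  rw [h5] at h4
  exact char_eq_of_re_eq hθ h4

/-- (1.6.a) -/
theorem inKer_iff_indFun {A H : Subgroup G} [A.Normal] (hAH : A ≤ H) {θ : H → ℂ}
    (hθ : IsCharacter H θ) : InKer A θ ↔ ∀ a ∈ A, indFun H θ a = indFun H θ 1 :=
  ⟨fun h _ ha => h.indFun hAH ha, fun h a ha => apply_eq_of_indFun_eq hAH hθ ha (h a ha)⟩

/-- the kernel of an irreducible character lying over `θ` -/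
theorem inKer_iff_of_over {A H : Subgroup G} [A.Normal] (hAH : A ≤ H) [Fintype H] {θ : H → ℂ}
    (hθ : IsIrrCharacter H θ) {χ : G → ℂ} (hχ : IsIrrCharacter G χ)
    (h : classInner (fun x : H => χ x) θ ≠ 0) : InKer A θ ↔ ∀ a ∈ A, χ a = χ 1 := by
  refine ⟨fun hk a ha => ?_, fun hk => ?_⟩
  · refine char_apply_eq_of_inner_ne_zero (char_indFun H (irr_isCharacter hθ)) hχ ?_
      (hk.indFun hAH ha)
    rw [classInner_indFun_left H θ (irr_isClassFunction hχ)]
    exact fun h0 => h (classInner_eq_zero_comm.1 h0)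
  · exact InKer.of_constituent (char_restrict (irr_isCharacter hχ) H) hθ h (inKer_res hk)

end

section
variable {X : Type*} [Group X] [Finite X] {K L A : Subgroup X}

theorem normal_subgroupOf_of_le_normalizer (hn : L ≤ Subgroup.normalizer (A : Set X)) :
    (A.subgroupOf L).Normal :=
  ⟨fun a ha l => by
    rw [Subgroup.mem_subgroupOf] at ha ⊢
    exact (Subgroup.mem_normalizer_iff.1 (hn l.2) a).1 ha⟩

/-- (1.6.a), relative form -/
theorem inKer_relInd_iff (hAK : A ≤ K) (hKL : K ≤ L) (hn : L ≤ Subgroup.normalizer (A : Set X))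
    {θ : K → ℂ} (hθ : IsCharacter K θ) : InKer A (relInd K L θ) ↔ InKer A θ := by
  haveI := normal_subgroupOf_of_le_normalizer hn
  have hle : A.subgroupOf L ≤ K.subgroupOf L := fun x hx => hAK hx
  rw [← inKer_relFun_iff hKL (θ := θ), inKer_iff_indFun hle ((char_relFun_iff hKL).2 hθ),
    relInd_def]
  rfl

theorem inKer_iff_of_relOver (hAK : A ≤ K) (hKL : K ≤ L) (hn : L ≤ Subgroup.normalizer (A : Set X))
    [Fintype K] {θ : K → ℂ} (hθ : IsIrrCharacter K θ) {χ : L → ℂ} (hχ : IsIrrCharacter L χ)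
    (h : classInner (relRes hKL χ) θ ≠ 0) : InKer A θ ↔ InKer A χ := by
  refine ⟨fun hk => ?_, fun hk => ?_⟩
  · refine InKer.of_constituent (char_relInd hKL (irr_isCharacter hθ)) hχ ?_
      ((inKer_relInd_iff hAK hKL hn (irr_isCharacter hθ)).2 hk)
    rw [classInner_relInd_left hKL θ (irr_isClassFunction hχ)]
    exact fun h0 => h (classInner_eq_zero_comm.1 h0)
  · exact InKer.of_constituent (char_relRes hKL (irr_isCharacter hχ)) hθ h (hk.relRes hKL)

end

section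
variable {G : Type*} [Group G] [Fintype G]

/-! ### (1.5) -/

/-- (1.5.d) -/
theorem apply_one_div_norm_smul_res_indFun (H : Subgroup G) [H.Normal] {θ : H → ℂ}
    (hθ : IsIrrCharacter H θ) :
    (indFun H θ 1 / classInner (indFun H θ) (indFun H θ)) • (fun h : H => indFun H θ h) =
      ((H.index : ℂ) * θ 1) • ∑ ψ ∈ conjOrbit H θ, ψ := by
  rw [res_indFun_eq_sum_conjOrbit, card_inertia_div H (irr_isClassFunction hθ),
    classInner_indFun_self H hθ, indFun_one, smul_smul, div_mul_cancel₀]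
  exact Nat.cast_ne_zero.2 Subgroup.index_ne_zero_of_finite

theorem conjFun_not_mem_conjOrbit (hodd : Odd (Nat.card G)) (H : Subgroup G) [H.Normal]
    {θ : H → ℂ} (hθ : IsIrrCharacter H θ) (hne : θ ≠ fun _ => 1) :
    conjFun θ ∉ conjOrbit H θ := by
  intro h
  obtain ⟨g, hg⟩ := (mem_conjOrbit H).1 h
  have h1 : g * g ∈ inertia H θ := by
    rw [mem_inertia_iff, conjChar_mul, ← hg]
    have : conjChar H g (conjFun θ) = conjFun (conjChar H g θ) := rfl
    rw [this, ← hg]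
    funext x
    simp [Cfsg.conjFun]
  have h2 : g ∈ inertia H θ := by
    obtain ⟨k, hk⟩ := hodd
    have : g = ((g * g) ^ k)⁻¹ := by
      have h3 : g ^ (2 * k + 1) = 1 := hk ▸ pow_card_eq_one'
      rw [eq_inv_iff_mul_eq_one, ← pow_two, ← pow_mul, ← pow_succ', h3]
    rw [this]
    exact (inertia H θ).inv_mem ((inertia H θ).pow_mem h1 k)
  rw [(mem_inertia_iff H).1 h2] at hg
  exact irr_conj_ne_of_odd (hodd.of_dvd_nat (Subgroup.card_subgroup_dvd_card H)) hθ hne hg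

/-- (1.5.e) -/
theorem classInner_indFun_conjFun_of_odd (hodd : Odd (Nat.card G)) (H : Subgroup G) [H.Normal]
    {θ : H → ℂ} (hθ : IsIrrCharacter H θ) (hne : θ ≠ fun _ => 1) :
    classInner (conjFun (indFun H θ)) (indFun H θ) = 0 := by
  have : conjFun (indFun H θ) = indFun H (conjFun θ) := (indFun_conj H θ).symm
  rw [this]
  exact classInner_indFun_eq_zero_of_not_conj H hθ (irr_conj hθ)
    (conjFun_not_mem_conjOrbit hodd H hθ hne)

/-! ### Frobenius groups -/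

theorem irr_indFun_of_cent_le (N : Subgroup G) [N.Normal]
    (hC : ∀ n ∈ N, n ≠ 1 → Subgroup.centralizer ({n} : Set G) ≤ N) {θ : N → ℂ}
    (hθ : IsIrrCharacter N θ) (hne : θ ≠ fun _ => 1) : IsIrrCharacter G (indFun N θ) :=
  irr_indFun_of_inertia_le N hθ (inertia_le_of_cent_le N hC hθ hne)

theorem exists_eq_indFun_of_cent_le (N : Subgroup G) [N.Normal]
    (hC : ∀ n ∈ N, n ≠ 1 → Subgroup.centralizer ({n} : Set G) ≤ N) {χ : G → ℂ}
    (hχ : IsIrrCharacter G χ) (hker : ¬ ∀ n ∈ N, χ n = χ 1) :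
    ∃ θ : N → ℂ, IsIrrCharacter N θ ∧ (θ ≠ fun _ => 1) ∧ χ = indFun N θ := by
  obtain ⟨θ, hθ, h⟩ := exists_irr_under N hχ
  have hne : θ ≠ fun _ => 1 := by
    rintro rfl
    exact hker fun n hn => apply_eq_of_inner_res_one_ne_zero N hχ h hn
  exact ⟨θ, hθ, hne, eq_indFun_of_inertia_le N hθ (inertia_le_of_cent_le N hC hθ hne) hχ h⟩

/-! ### extension of invariant characters of normal Hall subgroups -/

omit [Fintype G] in
theorem exists_extension_of_coprime [Finite G] {N : Subgroup G} [hN : N.Normal]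
    (hcop : Nat.Coprime (Nat.card N) N.index) {θ : N → ℂ} (hθ : IsIrrCharacter N θ)
    (hinv : InvChar N θ) : ∃ χ : G → ℂ, IsIrrCharacter G χ ∧ ∀ n : N, χ n = θ n := by
  obtain ⟨Γ, _, ⟨E⟩⟩ := exists_projRep N θ hθ hinv
  obtain ⟨μ, hμ⟩ := E.exists_good_index
  have hν : E.Good (E.d * Nat.card N : ℕ) (repDet E.R ^ Nat.card N) := by
    refine ⟨fun z => ?_, fun n => ?_⟩
    · rw [MonoidHom.pow_apply, E.repDet_s, ← pow_mul, zpow_natCast]
    · rw [MonoidHom.pow_apply, ← map_pow, ← map_pow, pow_card_eq_one', map_one, map_one]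
  have hd : E.d ∣ Nat.card N := by
    have := irr_deg_dvd_card hθ
    rwa [deg_eq_of_apply_one E.apply_one] at this
  obtain ⟨lam, hlam⟩ := E.exists_good_one_of_coprime hμ hν
    (Nat.Coprime.mul_right (hcop.symm.coprime_dvd_right hd) hcop.symm)
  obtain ⟨η, hη, hext, -⟩ := ProjRep.exists_extension_of_good hlam
  exact ⟨η, hη, hext⟩

omit [Fintype G] in
theorem exists_extension_of_isCyclic [Finite G] {N : Subgroup G} [hN : N.Normal]
    (hc : IsCyclic (G ⧸ N)) {θ : N → ℂ} (hθ : IsIrrCharacter N θ)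
    (hinv : InvChar N θ) : ∃ χ : G → ℂ, IsIrrCharacter G χ ∧ ∀ n : N, χ n = θ n := by
  obtain ⟨Γ, _, ⟨E⟩⟩ := exists_projRep N θ hθ hinv
  obtain ⟨lam, hlam⟩ := E.exists_good_one_of_isCyclic hc
  obtain ⟨η, hη, hext, -⟩ := ProjRep.exists_extension_of_good hlam
  exact ⟨η, hη, hext⟩

/-! ### (1.7) -/

/-- two irreducible characters over the same invariant character, with abelian quotient, differ
by a linear character -/
theorem exists_linear_mul_of_over {N : Subgroup G} [hN : N.Normal] [Fintype N]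
    (hab : commutator G ≤ N) {θ : N → ℂ} (hθ : IsIrrCharacter N θ) (hinv : InvChar N θ)
    {ψ χ : G → ℂ} (hψ : IsIrrCharacter G ψ) (hχ : IsIrrCharacter G χ)
    (h1 : classInner (fun n : N => ψ n) θ ≠ 0) (h2 : classInner (fun n : N => χ n) θ ≠ 0) :
    ∃ lam : G →* ℂˣ, N ≤ lam.ker ∧ ψ = (fun g => (lam g : ℂ)) * χ := by
  have hc : IsCharacter G (ψ * fun g => conj (χ g)) :=
    char_mul (irr_isCharacter hψ) (char_conj (irr_isCharacter hχ))
  have h3 : classInner (ψ * fun g => conj (χ g)) (indFun N fun _ => 1) ≠ 0 := by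
    rw [classInner_indFun_right N _ (char_isClassFunction hc)]
    have : classInner (fun n : N => (ψ * fun g => conj (χ g)) n) (fun _ => 1) =
        classInner (fun n : N => ψ n) (fun n : N => χ n) := by
      simp [classInner_def]
    rw [this, hinv.res_eq_smul hθ hψ h1, hinv.res_eq_smul hθ hχ h2, classInner_smul_left,
      classInner_smul_right, irr_inner_self hθ, mul_one]
    exact mul_ne_zero h1 ((map_ne_zero _).2 h2)
  obtain ⟨β, hβ, h4, h5⟩ := exists_irr_of_inner_ne_zero (char_isClassFunction hc) h3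
  have h6 := (inner_indFun_one_ne_zero_iff hβ).1 h5
  have h7 : β 1 = 1 := (irr_apply_one_eq_one_iff hβ).2 fun x hx =>
    (char_mem_charKer_iff (irr_isCharacter hβ)).2 (h6 x (hab hx))
  obtain ⟨lam, rfl⟩ := exists_linear_of_isIrrCharacter hβ h7
  refine ⟨lam, fun n hn => ?_, ?_⟩
  · rw [MonoidHom.mem_ker]
    apply Units.ext
    simpa using h6 n hn
  · apply irr_eq_of_inner_ne_zero hψ (irr_mul_of_apply_one (irr_isCharacter hβ) h7 hχ)
    rw [classInner_mul_left] at h4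
    convert h4 using 2
    funext g
    simp [mul_comm]

/-- (1.7.b) for an invariant character -/
theorem exists_indFun_eq_smul_sum_of_invariant {N : Subgroup G} [hN : N.Normal] [Fintype N]
    (hab : commutator G ≤ N) {θ : N → ℂ} (hθ : IsIrrCharacter N θ) (hinv : InvChar N θ) :
    ∃ (e : ℕ) (C : Finset (G → ℂ)), 0 < e ∧
      (∀ χ, χ ∈ C ↔ IsIrrCharacter G χ ∧ classInner (fun n : N => χ n) θ ≠ 0) ∧
      e ^ 2 * C.card = N.index ∧ indFun N θ = (e : ℂ) • ∑ χ ∈ C, χ ∧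
      ∀ χ ∈ C, classInner (fun n : N => χ n) θ = e ∧ χ 1 = e * θ 1 := by
  classical
  obtain ⟨ψ, hψ, h0⟩ := exists_irr_over N hθ
  obtain ⟨e, he, he1, he2⟩ := hinv.exists_res_eq_smul hθ hψ h0
  have hψ1 : ψ 1 = e * θ 1 := congrFun he2 1
  have key : ∀ χ, IsIrrCharacter G χ → classInner (fun n : N => χ n) θ ≠ 0 →
      classInner (fun n : N => χ n) θ = e ∧ χ 1 = e * θ 1 := by
    intro χ hχ h
    obtain ⟨lam, -, hl⟩ := exists_linear_mul_of_over hab hθ hinv hχ hψ h h0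
    have h1 : χ 1 = e * θ 1 := by rw [hl, ← hψ1]; simp
    refine ⟨?_, h1⟩
    have h2 : χ 1 = classInner (fun n : N => χ n) θ * θ 1 :=
      congrFun (hinv.res_eq_smul hθ hχ h) 1
    exact mul_right_cancel₀ (irr_apply_one_ne_zero hθ) (h2.symm.trans h1)
  let C₀ : Finset (IrrCharacter G) :=
    Finset.univ.filter fun χ => classInner (fun n : N => (χ : G → ℂ) n) θ ≠ 0
  let C : Finset (G → ℂ) := C₀.map ⟨Subtype.val, Subtype.val_injective⟩
  have hC : ∀ χ, χ ∈ C ↔ IsIrrCharacter G χ ∧ classInner (fun n : N => χ n) θ ≠ 0 := by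
    intro χ
    simp only [C, C₀, Finset.mem_map, Finset.mem_filter, Finset.mem_univ, true_and,
      Function.Embedding.coeFn_mk]
    exact ⟨fun ⟨a, ha, h⟩ => h ▸ ⟨a.2, ha⟩, fun ⟨h, h'⟩ => ⟨⟨χ, h⟩, h', rfl⟩⟩
  have hsum : indFun N θ = (e : ℂ) • ∑ χ ∈ C, χ := by
    rw [classFun_eq_sum (indFun_isClassFunction N θ), Finset.sum_map, Finset.smul_sum,
      Finset.sum_filter]
    refine Finset.sum_congr rfl fun χ _ => ?_
    rw [classInner_indFun_left N θ (irr_isClassFunction χ.2), ← conj_classInner]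
    split_ifs with h
    · rw [(key χ χ.2 h).1]; simp
    · rw [not_not.1 h]; simp
  refine ⟨e, C, he, hC, ?_, hsum, fun χ hχ => key χ ((hC χ).1 hχ).1 ((hC χ).1 hχ).2⟩
  have h1 := congrFun hsum 1
  rw [indFun_one, Pi.smul_apply, Finset.sum_apply,
    Finset.sum_congr rfl (fun χ hχ => (key χ ((hC χ).1 hχ).1 ((hC χ).1 hχ).2).2),
    Finset.sum_const, nsmul_eq_mul, smul_eq_mul] at h1
  have h2 : ((e ^ 2 * C.card : ℕ) : ℂ) = N.index := by
    apply mul_right_cancel₀ (irr_apply_one_ne_zero hθ)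
    rw [h1]; push_cast; ring
  exact_mod_cast h2

omit [Fintype G] in
theorem invChar_relFun_inertia (H : Subgroup G) [H.Normal] (θ : H → ℂ) {T : Subgroup G}
    (hT : T ≤ inertia H θ) : InvChar (H.subgroupOf T) (relFun H T θ) :=
  fun g n => (mem_inertia H).1 (hT g.2) ⟨(n : T), n.2⟩

omit [Fintype G] in
theorem commutator_le_subgroupOf_of_forall {H T : Subgroup G}
    (hab : ∀ x ∈ T, ∀ y ∈ T, x * y * x⁻¹ * y⁻¹ ∈ H) : commutator T ≤ H.subgroupOf T := by
  rw [commutator_def, Subgroup.commutator_le]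
  intro x _ y _
  exact hab x x.2 y y.2

/-- (1.7.b) -/
theorem exists_indFun_eq_smul_sum (H : Subgroup G) [H.Normal] [Fintype H] {θ : H → ℂ}
    (hθ : IsIrrCharacter H θ)
    (hab : ∀ x ∈ inertia H θ, ∀ y ∈ inertia H θ, x * y * x⁻¹ * y⁻¹ ∈ H) :
    ∃ (e : ℕ) (C : Finset (G → ℂ)), 0 < e ∧
      (∀ χ, χ ∈ C ↔ IsIrrCharacter G χ ∧ classInner (fun n : H => χ n) θ ≠ 0) ∧
      e ^ 2 * C.card = H.relIndex (inertia H θ) ∧ indFun H θ = (e : ℂ) • ∑ χ ∈ C, χ ∧
      ∀ χ ∈ C, classInner (fun n : H => χ n) θ = e ∧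
        χ 1 = ((inertia H θ).index : ℂ) * e * θ 1 := by
  classical
  set T := inertia H θ with hT
  have hHT : H ≤ T := le_inertia H (irr_isClassFunction hθ)
  obtain ⟨e, C, he, hC, hcard, hsum, hdeg⟩ := exists_indFun_eq_smul_sum_of_invariant
    (commutator_le_subgroupOf_of_forall hab) ((irr_relFun_iff hHT).2 hθ)
    (invChar_relFun_inertia H θ le_rfl)
  have hin : ∀ ψ : T → ℂ, classInner (fun n : H.subgroupOf T => ψ n) (relFun H T θ) =
      classInner (relRes hHT ψ) θ := fun ψ => by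
    rw [← relFun_relRes hHT, classInner_relFun hHT]
  simp only [hin] at hC hdeg
  have hbij := clifford_bijOn H hHT hθ (le_of_eq hT.symm)
  have hinj : Set.InjOn (indFun T) (C : Set (T → ℂ)) :=
    hbij.injOn.mono fun ψ hψ => (hC ψ).1 hψ
  refine ⟨e, C.image (indFun T), he, fun χ => ?_, ?_, ?_, fun χ hχ => ?_⟩
  · rw [Finset.mem_image]
    constructor
    · rintro ⟨ψ, hψ, rfl⟩
      exact hbij.mapsTo ((hC ψ).1 hψ)
    · intro h
      obtain ⟨ψ, hψ, rfl⟩ := hbij.surjOn h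
      exact ⟨ψ, (hC ψ).2 hψ, rfl⟩
  · rw [Finset.card_image_of_injOn hinj, hcard]; rfl
  · rw [Finset.sum_image hinj, ← indFun_sum, ← indFun_smul, ← hsum, indFun_indFun H T hHT]
  · obtain ⟨ψ, hψ, rfl⟩ := Finset.mem_image.1 hχ
    refine ⟨?_, ?_⟩
    · rw [classInner_res_indFun_of_inertia_le H hHT hθ (le_of_eq hT.symm) ((hC ψ).1 hψ).1
        ((hC ψ).1 hψ).2]
      exact (hdeg ψ hψ).1
    · rw [indFun_one, (hdeg ψ hψ).2, mul_assoc]; rfl

/-- (1.7.c), for a character that extends to its inertia group -/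
theorem exists_indFun_eq_sum_of_extension (H : Subgroup G) [H.Normal] [Fintype H] {θ : H → ℂ}
    (hθ : IsIrrCharacter H θ)
    (hab : ∀ x ∈ inertia H θ, ∀ y ∈ inertia H θ, x * y * x⁻¹ * y⁻¹ ∈ H)
    (hext : ∃ ψ : inertia H θ → ℂ, IsCharacter _ ψ ∧
      relRes (le_inertia H (irr_isClassFunction hθ)) ψ = θ) :
    ∃ C : Finset (G → ℂ),
      (∀ χ, χ ∈ C ↔ IsIrrCharacter G χ ∧ classInner (fun n : H => χ n) θ ≠ 0) ∧
      C.card = H.relIndex (inertia H θ) ∧ indFun H θ = ∑ χ ∈ C, χ ∧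
      ∀ χ ∈ C, classInner (fun n : H => χ n) θ = 1 ∧ χ 1 = ((inertia H θ).index : ℂ) * θ 1 := by
  obtain ⟨e, C, he, hC, hcard, hsum, hdeg⟩ := exists_indFun_eq_smul_sum H hθ hab
  obtain ⟨ψ, hψ, hres⟩ := hext
  have hHT : H ≤ inertia H θ := le_inertia H (irr_isClassFunction hθ)
  have hψi : IsIrrCharacter _ ψ := irr_of_comp_irr hψ (Subgroup.inclusion hHT)
    (by rw [← hres] at hθ; exact hθ)
  have h1 : classInner (relRes hHT ψ) θ = 1 := by rw [hres, irr_inner_self hθ]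
  have h1' : classInner (relRes hHT ψ) θ ≠ 0 := by rw [h1]; exact one_ne_zero
  have h2 := classInner_res_indFun_of_inertia_le H hHT hθ le_rfl hψi h1'
  have h3 : indFun (inertia H θ) ψ ∈ C :=
    (hC _).2 ⟨irr_indFun_of_inertia_le_of_over H hHT hθ le_rfl hψi h1', h2 ▸ h1'⟩
  have he1 : e = 1 := by
    have := (hdeg _ h3).1
    rw [h2, h1] at this
    exact_mod_cast this.symm
  subst he1
  refine ⟨C, hC, by simpa using hcard, by simpa using hsum, fun χ hχ => ?_⟩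
  simpa using hdeg χ hχ

theorem exists_extension_inertia_of_coprime (H : Subgroup G) [H.Normal] {θ : H → ℂ}
    (hθ : IsIrrCharacter H θ) {T : Subgroup G} (hHT : H ≤ T) (hT : T ≤ inertia H θ)
    (hcop : Nat.Coprime (Nat.card H) (H.relIndex T)) :
    ∃ ψ : T → ℂ, IsIrrCharacter T ψ ∧ relRes hHT ψ = θ := by
  obtain ⟨ψ, hψ, h⟩ := exists_extension_of_coprime (N := H.subgroupOf T)
    (by rwa [Nat.card_congr (Subgroup.subgroupOfEquivOfLe hHT).toEquiv])
    ((irr_relFun_iff hHT).2 hθ) (invChar_relFun_inertia H θ hT)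
  exact ⟨ψ, hψ, funext fun n => h ⟨⟨n, hHT n.2⟩, n.2⟩⟩

/-- (1.7.c) -/
theorem exists_indFun_eq_sum_of_coprime (H : Subgroup G) [H.Normal] [Fintype H] {θ : H → ℂ}
    (hθ : IsIrrCharacter H θ)
    (hab : ∀ x ∈ inertia H θ, ∀ y ∈ inertia H θ, x * y * x⁻¹ * y⁻¹ ∈ H)
    (hcop : Nat.Coprime (Nat.card H) (H.relIndex (inertia H θ))) :
    ∃ C : Finset (G → ℂ),
      (∀ χ, χ ∈ C ↔ IsIrrCharacter G χ ∧ classInner (fun n : H => χ n) θ ≠ 0) ∧
      C.card = H.relIndex (inertia H θ) ∧ indFun H θ = ∑ χ ∈ C, χ ∧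
      ∀ χ ∈ C, classInner (fun n : H => χ n) θ = 1 ∧ χ 1 = ((inertia H θ).index : ℂ) * θ 1 := by
  obtain ⟨ψ, hψ, h⟩ := exists_extension_inertia_of_coprime H hθ
    (le_inertia H (irr_isClassFunction hθ)) le_rfl hcop
  exact exists_indFun_eq_sum_of_extension H hθ hab ⟨ψ, irr_isCharacter hψ, h⟩

/-! ### (1.8) -/

omit [Fintype G] in
/-- (1.8) -/
theorem irr_deg_sq_le_of_central [Finite G] {ψ : G → ℂ} (hψ : IsIrrCharacter G ψ)
    {B C D : Subgroup G} (hcent : ∀ d ∈ D, ∀ c ∈ C, d * c * d⁻¹ * c⁻¹ ∈ B)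
    (hker : ∀ b ∈ B, ψ b = ψ 1) : deg ψ ^ 2 ≤ C.index ^ 2 * D.relIndex C := by
  letI := Fintype.ofFinite G
  obtain ⟨θ, hθ, h⟩ := exists_irr_under C hψ
  have hk : InKer B θ :=
    InKer.of_constituent (char_restrict (irr_isCharacter hψ) C) hθ h (inKer_res hker)
  have h1 : deg θ ^ 2 ≤ D.relIndex C := by
    refine irr_deg_sq_le_index hθ (D.subgroupOf C) fun d hd => ?_
    rw [irr_mem_charCenter_iff_commutator hθ]
    intro c
    exact (char_mem_charKer_iff (irr_isCharacter hθ)).2 (hk _ (hcent d hd c c.2))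
  have h2 : deg ψ ≤ C.index * deg θ := by
    rw [← deg_indFun C (irr_isCharacter hθ)]
    apply deg_le_of_inner_ne_zero (char_indFun C (irr_isCharacter hθ)) hψ
    rw [classInner_indFun_left C θ (irr_isClassFunction hψ)]
    exact fun h0 => h (classInner_eq_zero_comm.1 h0)
  calc deg ψ ^ 2 ≤ (C.index * deg θ) ^ 2 := Nat.pow_le_pow_left h2 2
    _ = C.index ^ 2 * deg θ ^ 2 := mul_pow _ _ _
    _ ≤ _ := Nat.mul_le_mul_left _ h1

end

end CL.PF
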