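import Cfsg.Agent.Base
import Cfsg.Agent.PF.CohSys
import Cfsg.Agent.PF.One
import Cfsg.Agent.Char.Galois

/-!
# Sets of characters induced from a normal subgroup

The API for `InKer`, `seqIndD K H Y` and `inducedIrrAbove K A` (`= seqIndD K K A`): members are
characters of degree `|L : K| θ(1)` vanishing off `K`, pairwise orthogonal, closed under complex
conjugation, non-real when `L` has odd order; the sum formula
`∑ φ(1) / ‖φ‖² • φ = ρ_{L/Y} - ρ_{L/HY}` and its consequence for the degrees, the degree bound (1.8)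
and the existence of members of degree `|L : K|`.
-/

set_option autoImplicit false

open Cfsg CL.Char
open scoped ComplexConjugate

namespace CL.PF

variable {L : Type*} [Group L]

/-! ### `InKer` -/

section InKer
variable {K A B H Y : Subgroup L} {θ : K → ℂ}

theorem InKer.map {F : Type*} [FunLike F ℂ ℂ] (σ : F) (h : InKer A θ) :
    InKer A (fun x => σ (θ x)) := fun a ha => by
  simp only [h a ha]

theorem ne_one_of_not_inKer (h : ¬ InKer H θ) : θ ≠ fun _ => 1 :=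
  fun h1 => h (h1 ▸ inKer_const H 1)

variable [Finite L]

theorem inKer_sup_iff (hθ : IsCharacter K θ) (hA : A ≤ K) (hB : B ≤ K) :
    InKer (A ⊔ B) θ ↔ InKer A θ ∧ InKer B θ :=
  ⟨fun h => ⟨h.mono le_sup_left, h.mono le_sup_right⟩, fun h => InKer.sup hθ hA hB h.1 h.2⟩

/-- an irreducible character whose kernel contains `[K, K]` is linear -/
theorem InKer.apply_one_eq_one (hθ : IsIrrCharacter K θ) (h : InKer ⁅K, K⁆ θ) : θ 1 = 1 := by
  rw [irr_apply_one_eq_one_iff hθ]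
  intro x hx
  refine (inKer_iff_le_charKer (irr_isCharacter hθ)).1 h (Subgroup.mem_subgroupOf.2 ?_)
  rw [← Subgroup.map_subtype_commutator]
  exact Subgroup.mem_map_of_mem _ hx

omit [Finite L] in
theorem inKer_commutator_of_apply_one (hθ : IsCharacter K θ) (h : θ 1 = 1) : InKer ⁅K, K⁆ θ := by
  intro a ha
  rw [← Subgroup.map_subtype_commutator] at ha
  obtain ⟨b, hb, hab⟩ := ha
  have : b = a := Subtype.ext hab
  subst this
  exact apply_eq_of_mem_charKer (char_commutator_le_charKer_of_apply_one hθ h hb)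

end InKer

variable [Fintype L]

/-! ### induction from a normal subgroup -/

section Normal
variable {K A H Y : Subgroup L} [hK : K.Normal] {θ : K → ℂ}

omit hK in
theorem indFun_conjFun (θ : K → ℂ) : indFun K (conjFun θ) = conjFun (indFun K θ) :=
  indFun_conj K θ

/-- In a group of odd order, a character induced from a non-principal irreducible character of a
normal subgroup is not real. -/
theorem conjFun_indFun_ne (hodd : Odd (Nat.card L)) (hθ : IsIrrCharacter K θ)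
    (h1 : θ ≠ fun _ => 1) : conjFun (indFun K θ) ≠ indFun K θ := by
  intro h
  have : Fintype K := Fintype.ofFinite K
  rw [← indFun_conjFun, indFun_eq_iff_mem_conjOrbit K hθ (irr_conjFun hθ)] at h
  exact conjFun_not_mem_conjOrbit hodd K hθ h1 h

theorem rip_indFun_self (hθ : IsIrrCharacter K θ) :
    rip (indFun K θ) (indFun K θ) = K.relIndex (inertia K θ) :=
  rip_of_classInner_eq_nat (classInner_indFun_self K hθ)

/-- The sum formula (1.5.d) for an invariant finite set of irreducible characters of `K`. -/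
theorem sum_indFun_image [DecidableEq (L → ℂ)] (s : Finset (K → ℂ))
    (hs : ∀ θ ∈ s, IsIrrCharacter K θ) (hinv : ∀ θ ∈ s, ∀ g : L, conjChar K g θ ∈ s) :
    ∑ φ ∈ s.image (indFun K), (φ 1 / classInner φ φ) • φ = indFun K (∑ θ ∈ s, θ 1 • θ) := by
  classical
  rw [indFun_sum, ← Finset.sum_fiberwise_of_maps_to (s := s) (t := s.image (indFun K))
    (g := indFun K) (fun θ hθ => Finset.mem_image_of_mem _ hθ)]
  refine Finset.sum_congr rfl fun φ hφ => ?_
  obtain ⟨θ, hθ, rfl⟩ := Finset.mem_image.1 hφ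
  have hf : s.filter (fun ψ => indFun K ψ = indFun K θ) = conjOrbit K θ := by
    ext ψ
    rw [Finset.mem_filter]
    constructor
    · rintro ⟨h1, h2⟩
      exact (indFun_eq_iff_mem_conjOrbit K (hs θ hθ) (hs ψ h1)).1 h2
    · intro h
      refine ⟨?_, indFun_eq_of_mem_conjOrbit K h⟩
      obtain ⟨g, rfl⟩ := (mem_conjOrbit K).1 h
      exact hinv θ hθ g
  rw [hf, Finset.sum_congr rfl (fun ψ hψ => by
    rw [indFun_smul, apply_one_of_mem_conjOrbit K hψ, indFun_eq_of_mem_conjOrbit K hψ]),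
    Finset.sum_const, card_conjOrbit, indFun_one, classInner_indFun_self K (hs θ hθ),
    ← Nat.cast_smul_eq_nsmul ℂ, smul_smul]
  congr 1
  have hle : K ≤ inertia K θ := le_inertia K (irr_isClassFunction (hs θ hθ))
  have h0 : (K.relIndex (inertia K θ) : ℂ) ≠ 0 :=
    Nat.cast_ne_zero.2 Subgroup.FiniteIndex.index_ne_zero
  rw [← Subgroup.relIndex_mul_index hle]
  push_cast
  field_simp

end Normal

/-! ### the regular character of a quotient -/

open Classical in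
/-- The regular character of `L / N`, as a function on `L`. -/
noncomputable def regMod (N : Subgroup L) : L → ℂ := fun x => if x ∈ N then (N.index : ℂ) else 0

section RegMod
variable {K N : Subgroup L}

omit [Fintype L] in
theorem regMod_of_mem {x : L} (hx : x ∈ N) : regMod N x = N.index := if_pos hx

omit [Fintype L] in
theorem regMod_of_not_mem {x : L} (hx : x ∉ N) : regMod N x = 0 := if_neg hx

omit [Fintype L] in
theorem regMod_one : regMod N 1 = N.index := regMod_of_mem N.one_mem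

omit [Fintype L] in
theorem regMod_bot [Finite L] : regMod (⊥ : Subgroup L) = regChar L := by
  funext x
  by_cases hx : x = 1
  · rw [hx, regMod_one, regChar_one, Subgroup.index_bot]
  · rw [regMod_of_not_mem (by simpa using hx), regChar_of_ne hx]

theorem indFun_one_eq_regMod [hN : N.Normal] : indFun N (fun _ => 1) = regMod N := by
  funext x
  by_cases hx : x ∈ N
  · rw [regMod_of_mem hx, ← mul_one (N.index : ℂ)]
    exact congrFun (res_indFun_of_invariant N (θ := fun _ => 1)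
      (top_le_iff.1 fun g _ => (mem_inertia_iff N).2 (conjChar_const N g 1))) ⟨x, hx⟩
  · rw [regMod_of_not_mem hx, indFun_eq_zero_of_normal N _ hx]

theorem char_regMod [N.Normal] : IsCharacter L (regMod N) := by
  rw [← indFun_one_eq_regMod]
  exact char_indFun_one N

theorem indFun_regMod [K.Normal] [hN : N.Normal] (hNK : N ≤ K) :
    indFun K (regMod (N.subgroupOf K)) = regMod N := by
  have : Fintype K := Fintype.ofFinite K
  rw [← indFun_one_eq_regMod, ← indFun_one_eq_regMod]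
  exact indFun_indFun N K hNK (fun _ => 1)

omit [Fintype L] in
theorem sum_irr_ker_eq_regMod [Finite L] [N.Normal] (s : Finset (L → ℂ))
    (hs : ∀ χ, χ ∈ s ↔ IsIrrCharacter L χ ∧ ∀ x ∈ N, χ x = χ 1) :
    ∑ χ ∈ s, χ 1 • χ = regMod N := by
  classical
  have key : ∀ F : (L → ℂ) → ℂ, ∑ χ ∈ s, F χ = ∑ χ ∈ Finset.univ.filter
      (fun χ : IrrCharacter L => ∀ x ∈ N, (χ : L → ℂ) x = (χ : L → ℂ) 1), F χ := by
    intro F
    symm
    refine Finset.sum_bij (fun χ _ => (χ : L → ℂ)) (fun χ hχ => ?_) (fun a _ b _ h => Subtype.ext h)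
      (fun χ hχ => ?_) (fun _ _ => rfl)
    · exact (hs _).2 ⟨χ.2, (Finset.mem_filter.1 hχ).2⟩
    · obtain ⟨h1, h2⟩ := (hs χ).1 hχ
      exact ⟨⟨χ, h1⟩, Finset.mem_filter.2 ⟨Finset.mem_univ _, h2⟩, rfl⟩
  funext x
  rw [Finset.sum_apply]
  simp only [Pi.smul_apply, smul_eq_mul]
  rw [key (fun χ => χ 1 * χ x)]
  by_cases hx : x ∈ N
  · rw [regMod_of_mem hx, ← sum_irr_ker_deg_sq N]
    push_cast
    refine Finset.sum_congr rfl fun χ hχ => ?_
    rw [(Finset.mem_filter.1 hχ).2 x hx, irr_cast_deg χ.2, pow_two]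
  · rw [regMod_of_not_mem hx, sum_irr_ker_apply_one_mul_of_not_mem N hx]

theorem classInner_regMod_irr [N.Normal] {χ : L → ℂ} (hχ : IsIrrCharacter L χ)
    (h : ∀ x ∈ N, χ x = χ 1) : classInner (regMod N) χ = χ 1 := by
  have : Fintype N := Fintype.ofFinite N
  rw [← indFun_one_eq_regMod, classInner_indFun_left N _ (irr_isClassFunction hχ)]
  have : (fun x : N => χ x) = χ 1 • fun _ => (1 : ℂ) := by
    funext x
    simp [h x x.2]
  rw [this, classInner_smul_right, classInner_one_one, irr_conj_apply_one hχ, mul_one]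

theorem classInner_regMod_irr_eq_zero [N.Normal] {χ : L → ℂ} (hχ : IsIrrCharacter L χ)
    (h : ∃ x ∈ N, χ x ≠ χ 1) : classInner (regMod N) χ = 0 := by
  have : Fintype N := Fintype.ofFinite N
  rw [← indFun_one_eq_regMod, classInner_indFun_left N _ (irr_isClassFunction hχ),
    classInner_eq_zero_comm]
  exact classInner_res_one_eq_zero N hχ h

end RegMod

/-! ### the sets `seqIndD K H Y` -/

section SeqInd
variable {K H Y H' Y' A B : Subgroup L} {φ ψ : L → ℂ}

theorem mem_seqIndD : φ ∈ seqIndD K H Y ↔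
    ∃ θ : K → ℂ, IsIrrCharacter K θ ∧ ¬ InKer H θ ∧ InKer Y θ ∧ φ = indFun K θ := Iff.rfl

theorem indFun_mem_seqIndD {θ : K → ℂ} (hθ : IsIrrCharacter K θ) (hH : ¬ InKer H θ)
    (hY : InKer Y θ) : indFun K θ ∈ seqIndD K H Y := ⟨θ, hθ, hH, hY, rfl⟩

theorem inducedIrrAbove_eq (K A : Subgroup L) : inducedIrrAbove K A = seqIndD K K A := by
  ext φ
  constructor
  · rintro ⟨θ, h1, h2, h3, h4⟩
    exact ⟨θ, h1, fun h => h2 ((irr_inKer_top_iff h1).1 h), h3, h4⟩
  · rintro ⟨θ, h1, h2, h3, h4⟩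
    exact ⟨θ, h1, ne_one_of_not_inKer h2, h3, h4⟩

theorem seqIndD_mono (hH : H ≤ H') (hY : Y' ≤ Y) : seqIndD K H Y ⊆ seqIndD K H' Y' := by
  rintro φ ⟨θ, h1, h2, h3, h4⟩
  exact ⟨θ, h1, fun h => h2 (h.mono hH), h3.mono hY, h4⟩

theorem seqIndD_subset_self (K H Y : Subgroup L) : seqIndD K H Y ⊆ seqIndD K K ⊥ := by
  rintro φ ⟨θ, h1, h2, -, h4⟩
  exact ⟨θ, h1, fun h => h2 fun a _ => h a a.2, inKer_bot θ, h4⟩

theorem seqIndD_subset_bot (K H Y : Subgroup L) : seqIndD K H Y ⊆ seqIndD K H ⊥ :=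
  seqIndD_mono le_rfl bot_le

theorem inducedIrrAbove_mono (h : B ≤ A) : inducedIrrAbove K A ⊆ inducedIrrAbove K B := by
  rw [inducedIrrAbove_eq, inducedIrrAbove_eq]
  exact seqIndD_mono le_rfl h

theorem seqIndD_subset_inducedIrrAbove (K H Y : Subgroup L) :
    seqIndD K H Y ⊆ inducedIrrAbove K ⊥ := by
  rw [inducedIrrAbove_eq]
  exact seqIndD_subset_self K H Y

theorem seqIndD_finite (K H Y : Subgroup L) : (seqIndD K H Y).Finite :=
  ((finite_setOf_irr (G := K)).image (indFun K)).subset fun _ ⟨θ, h1, _, _, h4⟩ => ⟨θ, h1, h4.symm⟩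

theorem inducedIrrAbove_finite (K A : Subgroup L) : (inducedIrrAbove K A).Finite := by
  rw [inducedIrrAbove_eq]
  exact seqIndD_finite K K A

theorem seqIndD_char (h : φ ∈ seqIndD K H Y) : IsCharacter L φ := by
  obtain ⟨θ, h1, -, -, rfl⟩ := h
  exact char_indFun K (irr_isCharacter h1)

theorem seqIndD_gen (h : φ ∈ seqIndD K H Y) : IsGeneralizedCharacter L φ :=
  gen_of_char (seqIndD_char h)

theorem seqIndD_classFun (h : φ ∈ seqIndD K H Y) : IsClassFunction L φ :=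
  gen_isClassFunction (seqIndD_gen h)

theorem seqIndD_deg (h : φ ∈ seqIndD K H Y) : ∃ d : ℕ, 0 < d ∧ φ 1 = (K.index : ℂ) * d := by
  obtain ⟨θ, h1, -, -, rfl⟩ := h
  exact ⟨deg θ, irr_deg_pos h1, by rw [indFun_one, irr_cast_deg h1]⟩

theorem seqIndD_apply_one_ne_zero (h : φ ∈ seqIndD K H Y) : φ 1 ≠ 0 := by
  obtain ⟨d, hd, h1⟩ := seqIndD_deg h
  rw [h1]
  exact mul_ne_zero (Nat.cast_ne_zero.2 Subgroup.FiniteIndex.index_ne_zero)
    (Nat.cast_ne_zero.2 hd.ne')

theorem seqIndD_ne_zero (h : φ ∈ seqIndD K H Y) : φ ≠ 0 := fun h0 =>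
  seqIndD_apply_one_ne_zero h (by rw [h0]; rfl)

theorem seqIndD_conjFun (h : φ ∈ seqIndD K H Y) : conjFun φ ∈ seqIndD K H Y := by
  have : Fintype K := Fintype.ofFinite K
  obtain ⟨θ, h1, h2, h3, rfl⟩ := h
  exact ⟨conjFun θ, irr_conjFun h1, fun h => h2 (inKer_conjFun_iff.1 h), h3.conjFun,
    (indFun_conjFun θ).symm⟩

theorem seqIndD_map {F : Type*} [FunLike F ℂ ℂ] [RingHomClass F ℂ ℂ] (σ : F)
    (h : φ ∈ seqIndD K H Y) : (fun x => σ (φ x)) ∈ seqIndD K H Y := by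
  obtain ⟨θ, h1, h2, h3, rfl⟩ := h
  refine ⟨fun x => σ (θ x), irr_map σ h1, fun h => h2 fun a ha => ?_, h3.map σ,
    (indFun_map σ K θ).symm⟩
  exact (RingHomClass.toRingHom σ).injective (h a ha)

theorem seqIndD_conjSub {S : Set (L → ℂ)} (h : seqIndD K H Y ⊆ S) : ConjSub (seqIndD K H Y) S :=
  ⟨h, fun _ => seqIndD_conjFun⟩

theorem inducedIrrAbove_conjSub {S : Set (L → ℂ)} (h : inducedIrrAbove K A ⊆ S) :
    ConjSub (inducedIrrAbove K A) S := by
  rw [inducedIrrAbove_eq] at h ⊢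
  exact seqIndD_conjSub h

theorem inducedIrrAbove_conjSub_bot (K A : Subgroup L) :
    ConjSub (inducedIrrAbove K A) (inducedIrrAbove K ⊥) :=
  inducedIrrAbove_conjSub (inducedIrrAbove_mono bot_le)

variable [hK : K.Normal]

theorem seqIndD_apply_eq_zero (h : φ ∈ seqIndD K H Y) {x : L} (hx : x ∉ K) : φ x = 0 := by
  obtain ⟨θ, -, -, -, rfl⟩ := h
  exact indFun_eq_zero_of_normal K θ hx

theorem seqIndD_zspan_apply_eq_zero {α : L → ℂ} (h : α ∈ zspan (seqIndD K H Y)) {x : L}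
    (hx : x ∉ K) : α x = 0 :=
  zspan_apply_eq_zero (fun _ hφ => seqIndD_apply_eq_zero hφ hx) h

theorem seqIndD_orth (h : φ ∈ seqIndD K H Y) (h' : ψ ∈ seqIndD K H' Y') (hne : φ ≠ ψ) :
    classInner φ ψ = 0 := by
  obtain ⟨θ, h1, -, -, rfl⟩ := h
  obtain ⟨θ', h1', -, -, rfl⟩ := h'
  exact classInner_indFun_eq_zero_of_ne K h1' h1 hne

omit hK in
theorem seqIndD_inner_one (h : φ ∈ seqIndD K H Y) : classInner φ (fun _ => 1) = 0 := by
  have : Fintype K := Fintype.ofFinite K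
  obtain ⟨θ, h1, h2, -, rfl⟩ := h
  rw [classInner_indFun_left K θ (isClassFunction_const 1)]
  exact irr_inner_one h1 (ne_one_of_not_inKer h2)

theorem seqIndD_conjFun_ne (hodd : Odd (Nat.card L)) (h : φ ∈ seqIndD K H Y) : conjFun φ ≠ φ := by
  obtain ⟨θ, h1, h2, -, rfl⟩ := h
  exact conjFun_indFun_ne hodd h1 (ne_one_of_not_inKer h2)

theorem seqIndD_inner_conjFun (hodd : Odd (Nat.card L)) (h : φ ∈ seqIndD K H Y) :
    classInner φ (conjFun φ) = 0 :=
  seqIndD_orth h (seqIndD_conjFun h) (seqIndD_conjFun_ne hodd h).symm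

/-- membership of an induced character in `seqIndD` can be read off the inducing character -/
theorem indFun_mem_seqIndD_iff [H.Normal] [Y.Normal] {θ : K → ℂ} (hθ : IsIrrCharacter K θ) :
    indFun K θ ∈ seqIndD K H Y ↔ ¬ InKer H θ ∧ InKer Y θ := by
  refine ⟨fun ⟨θ', h1, h2, h3, h4⟩ => ?_, fun h => indFun_mem_seqIndD hθ h.1 h.2⟩
  obtain ⟨g, rfl⟩ := (mem_conjOrbit K).1 ((indFun_eq_iff_mem_conjOrbit K h1 hθ).1 h4)
  exact ⟨fun h => h2 ((inKer_conjChar_iff g).1 h), h3.conjChar g⟩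

omit hK in
theorem seqIndD_apply_eq [Y.Normal] (hY : Y ≤ K) (h : φ ∈ seqIndD K H Y) {y : L} (hy : y ∈ Y) :
    φ y = φ 1 := by
  obtain ⟨θ, h1, -, h3, rfl⟩ := h
  exact (inKer_iff_indFun hY (irr_isCharacter h1)).1 h3 y hy

omit hK in
theorem seqIndD_exists_apply_ne [H.Normal] (hH : H ≤ K) (h : φ ∈ seqIndD K H Y) :
    ∃ x ∈ H, φ x ≠ φ 1 := by
  obtain ⟨θ, h1, h2, -, rfl⟩ := h
  by_contra hc
  push Not at hc
  exact h2 ((inKer_iff_indFun hH (irr_isCharacter h1)).2 hc)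

/-- `S(H, Y)` in terms of the values of its members -/
theorem mem_seqIndD_iff_apply [H.Normal] [Y.Normal] (hH : H ≤ K) (hY : Y ≤ K) :
    φ ∈ seqIndD K H Y ↔ φ ∈ seqIndD K K ⊥ ∧ (∃ x ∈ H, φ x ≠ φ 1) ∧ ∀ y ∈ Y, φ y = φ 1 := by
  refine ⟨fun h => ⟨seqIndD_subset_self K H Y h, seqIndD_exists_apply_ne hH h,
    fun y hy => seqIndD_apply_eq hY h hy⟩, ?_⟩
  rintro ⟨⟨θ, h1, -, -, rfl⟩, ⟨x, hx, h2⟩, h3⟩
  exact ⟨θ, h1, fun h => h2 ((inKer_iff_indFun hH (irr_isCharacter h1)).1 h x hx),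
    (inKer_iff_indFun hY (irr_isCharacter h1)).2 h3, rfl⟩

theorem seqIndD_diff [H.Normal] [Y.Normal] [A.Normal] (hAH : A ≤ H) (hA : A ≤ K) (hY : Y ≤ K) :
    seqIndD K H Y \ seqIndD K H (A ⊔ Y) = seqIndD K A Y := by
  ext φ
  constructor
  · rintro ⟨⟨θ, h1, h2, h3, rfl⟩, h4⟩
    refine ⟨θ, h1, fun h => h4 ⟨θ, h1, h2, ?_, rfl⟩, h3, rfl⟩
    exact (inKer_sup_iff (irr_isCharacter h1) hA hY).2 ⟨h, h3⟩
  · rintro ⟨θ, h1, h2, h3, rfl⟩
    refine ⟨⟨θ, h1, fun h => h2 (h.mono hAH), h3, rfl⟩, fun h => ?_⟩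
    exact h2 (((indFun_mem_seqIndD_iff h1).1 h).2.mono le_sup_left)

theorem inducedIrrAbove_diff [A.Normal] (hA : A ≤ K) :
    inducedIrrAbove K ⊥ \ inducedIrrAbove K A = seqIndD K A ⊥ := by
  rw [inducedIrrAbove_eq, inducedIrrAbove_eq, ← seqIndD_diff hA hA bot_le, sup_bot_eq]

/-- The sum formula: `∑ φ(1) / ‖φ‖² • φ = ρ_{L/Y} - ρ_{L/HY}`. -/
theorem sum_seqIndD [H.Normal] [Y.Normal] (hH : H ≤ K) (hY : Y ≤ K) (T : Finset (L → ℂ))
    (hT : ↑T = seqIndD K H Y) :
    ∑ φ ∈ T, (φ 1 / classInner φ φ) • φ = regMod Y - regMod (H ⊔ Y) := by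
  classical
  let I : Finset (K → ℂ) := (finite_setOf_irr (G := K)).toFinset
  have hI : ∀ θ, θ ∈ I ↔ IsIrrCharacter K θ := fun θ => by simp [I]
  let s : Finset (K → ℂ) := I.filter (fun θ => InKer Y θ)
  have hTs : T = (s.filter (fun θ => ¬ InKer H θ)).image (indFun K) := by
    apply Finset.coe_injective
    rw [hT]
    ext φ
    simp only [Finset.coe_image, Set.mem_image, Finset.mem_coe, Finset.mem_filter, s, hI]
    exact ⟨fun ⟨θ, h1, h2, h3, h4⟩ => ⟨θ, ⟨⟨h1, h3⟩, h2⟩, h4.symm⟩,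
      fun ⟨θ, ⟨⟨h1, h3⟩, h2⟩, h4⟩ => ⟨θ, h1, h2, h3, h4.symm⟩⟩
  rw [hTs, sum_indFun_image]
  · have e1 : ∑ θ ∈ s, θ 1 • θ = regMod (Y.subgroupOf K) :=
      sum_irr_ker_eq_regMod s fun θ => by
        simp only [s, Finset.mem_filter, hI]; rfl
    have e2 : ∑ θ ∈ s.filter (fun θ => InKer H θ), θ 1 • θ = regMod ((H ⊔ Y).subgroupOf K) :=
      sum_irr_ker_eq_regMod _ fun θ => by
        simp only [s, Finset.mem_filter, hI]
        constructor
        · rintro ⟨⟨h1, h2⟩, h3⟩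
          exact ⟨h1, (inKer_sup_iff (irr_isCharacter h1) hH hY).2 ⟨h3, h2⟩⟩
        · rintro ⟨h1, h2⟩
          have := (inKer_sup_iff (irr_isCharacter h1) hH hY).1 h2
          exact ⟨⟨h1, this.2⟩, this.1⟩
    rw [← indFun_regMod hY, ← indFun_regMod (sup_le hH hY), ← indFun_sub, ← e1, ← e2,
      ← Finset.sum_filter_add_sum_filter_not s (fun θ => InKer H θ), add_sub_cancel_left]
  · intro θ hθ
    exact (hI θ).1 (Finset.mem_filter.1 (Finset.mem_filter.1 hθ).1).1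
  · intro θ hθ g
    simp only [s, Finset.mem_filter, hI] at hθ ⊢
    exact ⟨⟨irr_conjChar K hθ.1.1 g, hθ.1.2.conjChar g⟩,
      fun h => hθ.2 ((inKer_conjChar_iff g).1 h)⟩

/-- `∑ φ(1)² / ‖φ‖² = |L : Y| - |L : HY|` -/
theorem sum_seqIndD_deg_sq [H.Normal] [Y.Normal] (hH : H ≤ K) (hY : Y ≤ K) (T : Finset (L → ℂ))
    (hT : ↑T = seqIndD K H Y) :
    ∑ φ ∈ T, (φ 1).re ^ 2 / rip φ φ = (Y.index : ℝ) - ((H ⊔ Y).index : ℝ) := by
  have h := congrFun (sum_seqIndD hH hY T hT) 1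
  rw [Finset.sum_apply, Pi.sub_apply, regMod_one, regMod_one] at h
  apply Complex.ofReal_injective
  push_cast
  rw [← h]
  refine Finset.sum_congr rfl fun φ hφ => ?_
  have hφ' : φ ∈ seqIndD K H Y := hT ▸ Finset.mem_coe.2 hφ
  obtain ⟨d, -, hd⟩ := seqIndD_deg hφ'
  have h1 : ((φ 1).re : ℂ) = φ 1 := by
    rw [hd, ← Nat.cast_mul, Complex.natCast_re, Complex.ofReal_natCast]
  rw [h1, ofReal_rip_self, Pi.smul_apply, smul_eq_mul]
  ring

/-- `∑ φ(1)² / ‖φ‖² = |L : K| (|K : Y| - |K : HY|)` -/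
theorem sum_seqIndD_deg_sq' [H.Normal] [Y.Normal] (hH : H ≤ K) (hY : Y ≤ K) (T : Finset (L → ℂ))
    (hT : ↑T = seqIndD K H Y) :
    ∑ φ ∈ T, (φ 1).re ^ 2 / rip φ φ =
      (K.index : ℝ) * ((Y.relIndex K : ℝ) - ((H ⊔ Y).relIndex K : ℝ)) := by
  rw [sum_seqIndD_deg_sq hH hY T hT, ← Subgroup.relIndex_mul_index hY,
    ← Subgroup.relIndex_mul_index (sup_le hH hY)]
  push_cast
  ring

theorem sum_inducedIrrAbove_deg_sq [A.Normal] (hA : A ≤ K) (T : Finset (L → ℂ))
    (hT : ↑T = inducedIrrAbove K A) :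
    ∑ φ ∈ T, (φ 1).re ^ 2 / rip φ φ = (K.index : ℝ) * ((A.relIndex K : ℝ) - 1) := by
  rw [sum_seqIndD_deg_sq' le_rfl hA T (hT.trans (inducedIrrAbove_eq K A)), sup_eq_left.2 hA,
    Subgroup.relIndex_self, Nat.cast_one]

omit hK in
theorem seqIndD_nonempty [Y.Normal] (hH : H ≤ K) (h : ¬ H ≤ Y) :
    (seqIndD K H Y).Nonempty := by
  obtain ⟨x, hxH, hxY⟩ := SetLike.not_le_iff_exists.1 h
  obtain ⟨θ, h1, h2, h3⟩ := exists_irr_ker_apply_ne (Y.subgroupOf K) (g := ⟨x, hH hxH⟩) hxY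
  exact ⟨_, θ, h1, fun hk => h3 (hk _ hxH), h2, rfl⟩

omit hK in
theorem inducedIrrAbove_nonempty [A.Normal] (h : ¬ K ≤ A) : (inducedIrrAbove K A).Nonempty := by
  rw [inducedIrrAbove_eq]
  exact seqIndD_nonempty le_rfl h

omit hK in
theorem not_le_of_mem_seqIndD (h : φ ∈ seqIndD K H Y) : ¬ H ≤ Y := fun hle => by
  obtain ⟨θ, -, h2, h3, -⟩ := h
  exact h2 (h3.mono hle)

omit hK in
/-- a member of degree `|L : K|` -/
theorem exists_mem_seqIndD_apply_one (hH : H ≤ K) (h : ¬ H ≤ ⁅K, K⁆ ⊔ Y) :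
    ∃ φ ∈ seqIndD K H Y, φ 1 = K.index := by
  obtain ⟨x, hxH, hxY⟩ := SetLike.not_le_iff_exists.1 h
  have hc : commutator K ≤ (⁅K, K⁆ ⊔ Y).subgroupOf K := fun y hy => by
    rw [Subgroup.mem_subgroupOf]
    refine Subgroup.mem_sup_left ?_
    rw [← Subgroup.map_subtype_commutator]
    exact Subgroup.mem_map_of_mem _ hy
  obtain ⟨lam, h1, h2⟩ := exists_linear_trivial_on_apply_ne_one hc (g := ⟨x, hH hxH⟩) hxY
  refine ⟨_, indFun_mem_seqIndD (isIrrCharacter_linear lam) (fun hk => h2 ?_) (fun a ha => ?_), ?_⟩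
  · have := hk ⟨x, hH hxH⟩ hxH
    simpa using this
  · have : lam a = 1 := h1 (Subgroup.mem_subgroupOf.2 (Subgroup.mem_sup_right ha))
    simp [this]
  · rw [indFun_one]
    simp

omit hK [Fintype L] in
theorem commutator_sup_lt [A.Normal] (hsolv : Group.IsSolvable K) (hA : A < K) :
    ⁅K, K⁆ ⊔ A < K := by
  let Q := K ⧸ A.subgroupOf K
  have hQ : Nontrivial Q := by
    rw [QuotientGroup.nontrivial_iff]
    intro h
    exact hA.not_ge (Subgroup.subgroupOf_eq_top.1 h)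
  have hlt : commutator Q < ⊤ := Group.IsSolvable.commutator_lt_top_of_nontrivial Q
  let N := ((commutator Q).comap (QuotientGroup.mk' (A.subgroupOf K))).map K.subtype
  have h1 : ⁅K, K⁆ ≤ N := by
    rw [← Subgroup.map_subtype_commutator]
    refine Subgroup.map_mono (Subgroup.map_le_iff_le_comap.1 ?_)
    rw [commutator_def, Subgroup.map_commutator]
    exact Subgroup.commutator_mono le_top le_top
  have h2 : A ≤ N := fun a ha => ⟨⟨a, hA.le ha⟩, by
    rw [SetLike.mem_coe, Subgroup.mem_comap, QuotientGroup.mk'_apply,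
      (QuotientGroup.eq_one_iff _).2 (Subgroup.mem_subgroupOf.2 ha)]
    exact one_mem _, rfl⟩
  refine lt_of_le_of_lt (sup_le h1 h2) (lt_of_le_of_ne (Subgroup.map_subtype_le _) fun h => ?_)
  refine hlt.not_ge fun q _ => ?_
  obtain ⟨k, rfl⟩ := QuotientGroup.mk'_surjective _ q
  have hk : (k : L) ∈ N := h.symm ▸ k.2
  obtain ⟨k', hk', he⟩ := hk
  have : k' = k := Subtype.ext he
  exact this ▸ hk'

omit hK in
theorem exists_mem_inducedIrrAbove_apply_one [A.Normal] (hsolv : Group.IsSolvable K) (hA : A < K) :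
    ∃ φ ∈ inducedIrrAbove K A, φ 1 = K.index := by
  rw [inducedIrrAbove_eq]
  exact exists_mem_seqIndD_apply_one le_rfl (commutator_sup_lt hsolv hA).not_ge

omit hK in
theorem seqIndD_apply_one_of_commutator_le (hY : ⁅K, K⁆ ≤ Y) (h : φ ∈ seqIndD K H Y) :
    φ 1 = K.index := by
  obtain ⟨θ, h1, -, h3, rfl⟩ := h
  rw [indFun_one, (h3.mono hY).apply_one_eq_one h1, mul_one]

omit hK in
/-- An irreducible character whose kernel does not contain `H` lies over a member of `S(H, Y)`. -/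
theorem exists_mem_seqIndD_inner_ne_zero [H.Normal] (hH : H ≤ K) {χ : L → ℂ}
    (hχ : IsIrrCharacter L χ) (h1 : ∃ x ∈ H, χ x ≠ χ 1) (h2 : ∀ y ∈ Y, χ y = χ 1) :
    ∃ φ ∈ seqIndD K H Y, classInner φ χ ≠ 0 := by
  have : Fintype K := Fintype.ofFinite K
  obtain ⟨θ, hθ, hne⟩ := exists_irr_under K hχ
  have hne' : classInner (indFun K θ) χ ≠ 0 := by
    rw [Ne, classInner_eq_zero_comm, classInner_indFun_right K θ (irr_isClassFunction hχ)]
    exact hne
  refine ⟨_, indFun_mem_seqIndD hθ (fun hk => ?_) (fun a ha => ?_), hne'⟩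
  · obtain ⟨x, hx, hx'⟩ := h1
    exact hx' (char_apply_eq_of_inner_ne_zero (char_indFun K (irr_isCharacter hθ)) hχ hne'
      ((inKer_iff_indFun hH (irr_isCharacter hθ)).1 hk x hx))
  · exact char_apply_eq_of_inner_ne_zero (char_restrict (irr_isCharacter hχ) K) hθ hne
      (x := a) (h2 a ha)

/-- If the members of `S(H, Y)` are irreducible, they are all the irreducible characters of `L`
whose kernel contains `Y` but not `H`. -/
theorem seqIndD_eq_of_irr [H.Normal] [Y.Normal] (hH : H ≤ K) (hY : Y ≤ K)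
    (hirr : ∀ φ ∈ seqIndD K H Y, IsIrrCharacter L φ) :
    seqIndD K H Y = {χ | IsIrrCharacter L χ ∧ (∃ x ∈ H, χ x ≠ χ 1) ∧ ∀ y ∈ Y, χ y = χ 1} := by
  ext χ
  refine ⟨fun h => ⟨hirr χ h, seqIndD_exists_apply_ne hH h, fun y hy => seqIndD_apply_eq hY h hy⟩,
    fun ⟨h1, h2, h3⟩ => ?_⟩
  obtain ⟨φ, hφ, hne⟩ := exists_mem_seqIndD_inner_ne_zero hH h1 h2 h3
  rwa [← irr_eq_of_inner_ne_zero (hirr φ hφ) h1 hne]

end SeqInd

/-! ### the degree bound (1.8) -/

/-- (1.8) for the members of `S(H, B)` -/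
theorem seqIndD_deg_sq_le {K H B C D : Subgroup L} (hCK : C ≤ K)
    (hcent : ∀ d ∈ D, ∀ c ∈ C, d * c * d⁻¹ * c⁻¹ ∈ B) {φ : L → ℂ} (h : φ ∈ seqIndD K H B) :
    (φ 1).re ^ 2 ≤ (C.index : ℝ) ^ 2 * D.relIndex C := by
  have : Fintype K := Fintype.ofFinite K
  obtain ⟨θ, h1, -, h3, rfl⟩ := h
  have h4 := irr_deg_sq_le_of_central h1 (B := B.subgroupOf K) (C := C.subgroupOf K)
    (D := D.subgroupOf K) (fun d hd c hc => hcent d hd c hc) h3
  rw [Subgroup.relIndex_subgroupOf hCK] at h4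
  rw [indFun_one, ← irr_cast_deg h1, ← Nat.cast_mul, Complex.natCast_re,
    ← Subgroup.relIndex_mul_index hCK]
  have h5 : (deg θ : ℝ) ^ 2 ≤ (C.relIndex K : ℝ) ^ 2 * D.relIndex C := by exact_mod_cast h4
  push_cast
  have h6 : (0 : ℝ) ≤ (K.index : ℝ) ^ 2 := by positivity
  calc ((K.index : ℝ) * deg θ) ^ 2 = (K.index : ℝ) ^ 2 * (deg θ : ℝ) ^ 2 := by ring
    _ ≤ (K.index : ℝ) ^ 2 * ((C.relIndex K : ℝ) ^ 2 * D.relIndex C) :=
      mul_le_mul_of_nonneg_left h5 h6
    _ = _ := by ring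

/-! ### Frobenius action on a section -/

section Frob
variable {K Z N : Subgroup L}

omit [Fintype L] in
/-- If the centraliser of every non-identity element of the normal subgroup `Z` lies in `K`, then
`|Z| ≡ 1` modulo `|L : K|`. -/
theorem card_modEq_one_of_cent_le [Finite L] [hZ : Z.Normal]
    (hC : ∀ z ∈ Z, z ≠ 1 → Subgroup.centralizer ({z} : Set L) ≤ K) :
    Nat.card Z ≡ 1 [MOD K.index] := by
  classical
  have : Fintype L := Fintype.ofFinite L
  let s : Finset L := Finset.univ.filter (fun z => z ∈ Z ∧ z ≠ 1)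
  have h1 : Nat.card Z = s.card + 1 := by
    have : (Finset.univ.filter (fun z => z ∈ Z)) = insert 1 s := by
      ext z
      by_cases hz : z = 1 <;> simp [s, hz]
    rw [← Finset.card_insert_of_notMem (a := (1 : L)) (by simp [s]), ← this,
      Nat.subtype_card (Finset.univ.filter (fun z => z ∈ Z)) (by simp)]
  have h2 : K.index ∣ s.card := by
    rw [Finset.card_eq_sum_card_image ConjClasses.mk]
    refine Finset.dvd_sum fun c hc => ?_
    obtain ⟨z, hz, rfl⟩ := Finset.mem_image.1 hc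
    have hz' := (Finset.mem_filter.1 hz).2
    have : (s.filter (fun y => ConjClasses.mk y = ConjClasses.mk z)).card =
        (Subgroup.centralizer ({z} : Set L)).index := by
      rw [← card_isConj_eq_index, Nat.subtype_card]
      intro y
      simp only [s, Finset.mem_filter, Finset.mem_univ, true_and, ConjClasses.mk_eq_mk_iff_isConj]
      refine ⟨fun h => h.2.symm, fun h => ⟨?_, h.symm⟩⟩
      obtain ⟨g, rfl⟩ := isConj_iff.1 h
      exact ⟨hZ.conj_mem z hz'.1 g, fun h1 => hz'.2 (by simpa using h1)⟩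
    rw [this]
    exact Subgroup.index_dvd_of_le (hC z hz'.1 hz'.2)
  rw [h1]
  exact (Nat.modEq_zero_iff_dvd.2 h2).add_right 1

/-- The elements of `Z` outside `N` are centralised modulo `N` only from inside `K`. -/
def FpfMod (K Z N : Subgroup L) : Prop :=
  ∀ z ∈ Z, z ∉ N → ∀ x : L, x * z * x⁻¹ * z⁻¹ ∈ N → x ∈ K

omit [Fintype L] in
theorem FpfMod.mono (h : FpfMod K Z N) {Z' : Subgroup L} (hZ : Z' ≤ Z) : FpfMod K Z' N :=
  fun z hz => h z (hZ hz)

omit [Fintype L] in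
theorem fpfMod_bot_iff :
    FpfMod K Z ⊥ ↔ ∀ z ∈ Z, z ≠ 1 → Subgroup.centralizer ({z} : Set L) ≤ K := by
  refine forall₂_congr fun z _ => imp_congr (by simp) (forall_congr' fun x => ?_)
  rw [Subgroup.mem_bot, Subgroup.mem_centralizer_singleton_iff, mul_inv_eq_one, mul_inv_eq_iff_eq_mul]

omit [Fintype L] in
theorem FpfMod.cent_le [N.Normal] (h : FpfMod K Z N) :
    ∀ z ∈ Z.map (QuotientGroup.mk' N), z ≠ 1 →
      Subgroup.centralizer ({z} : Set (L ⧸ N)) ≤ K.map (QuotientGroup.mk' N) := by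
  rintro _ ⟨z, hz, rfl⟩ h1 x hx
  obtain ⟨x, rfl⟩ := QuotientGroup.mk'_surjective N x
  refine Subgroup.mem_map_of_mem _ (h z hz (fun hN => h1 ((QuotientGroup.eq_one_iff z).2 hN)) x ?_)
  rw [← QuotientGroup.eq_one_iff]
  rw [Subgroup.mem_centralizer_singleton_iff] at hx
  have : (x : L ⧸ N) * z = z * x := hx
  simp [this]

omit [Fintype L] in
theorem FpfMod.relIndex_modEq_one [Finite L] [Z.Normal] [N.Normal] (h : FpfMod K Z N)
    (hNK : N ≤ K) : N.relIndex Z ≡ 1 [MOD K.index] := by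
  have : (Z.map (QuotientGroup.mk' N)).Normal := Subgroup.Normal.map inferInstance _
    (QuotientGroup.mk'_surjective N)
  have h1 := card_modEq_one_of_cent_le h.cent_le
  rwa [← Subgroup.relIndex_ker, QuotientGroup.ker_mk',
    Subgroup.index_map_eq _ (QuotientGroup.mk'_surjective N) (by rwa [QuotientGroup.ker_mk'])] at h1

omit [Fintype L] in
/-- the Frobenius condition passes to larger normal subgroups -/
theorem FpfMod.of_le [Finite L] [hN : N.Normal] (h : FpfMod K Z N)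
    {N' : Subgroup L} [hN' : N'.Normal] (hNN' : N ≤ N') (hN'Z : N' ≤ Z) : FpfMod K Z N' := by
  intro z hz hzN x hx
  by_contra hxK
  let f := QuotientGroup.mk' N
  have : (N'.map f).Normal := Subgroup.Normal.map inferInstance _ (QuotientGroup.mk'_surjective N)
  have hfix : ∀ n ∈ N'.map f, n * f x = f x * n → n = 1 := by
    rintro _ ⟨n, hn, rfl⟩ hc
    by_contra h1
    refine hxK (h n (hN'Z hn) (fun hN => h1 ((QuotientGroup.eq_one_iff n).2 hN)) x ?_)
    rw [← QuotientGroup.eq_one_iff]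
    have : (n : L ⧸ N) * x = x * n := hc
    simp [← this]
  have hk : z⁻¹ * (x * z * x⁻¹ * z⁻¹)⁻¹ * z⁻¹⁻¹ ∈ N' := hN'.conj_mem _ (inv_mem hx) _
  obtain ⟨_, ⟨m, hm, rfl⟩, he⟩ := exists_conj_eq_mul_of_cent (N'.map f) hfix
    (Subgroup.mem_map_of_mem f (inv_mem hk))
  -- `m x m⁻¹ = z⁻¹ x z` modulo `N`, so `x` centralises `z m` modulo `N`
  have hzm : z * m ∉ N := fun h1 => hzN (by simpa using N'.mul_mem (hNN' h1) (inv_mem hm))
  refine hxK (h (z * m) (Z.mul_mem hz (hN'Z hm)) hzm x ?_)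
  rw [← QuotientGroup.eq_one_iff]
  have he' : (m : L ⧸ N) * x * (m : L ⧸ N)⁻¹ = (z : L ⧸ N)⁻¹ * x * z := by
    have := he
    simp only [f, QuotientGroup.mk'_apply, QuotientGroup.mk_mul, QuotientGroup.mk_inv] at this
    rw [this]
    group
  have he2 : (x : L ⧸ N) * (z * m) = z * m * x := by
    calc (x : L ⧸ N) * (z * m) = z * ((z : L ⧸ N)⁻¹ * x * z) * m := by group
      _ = z * m * x := by rw [← he']; group
  simp only [QuotientGroup.mk_mul, QuotientGroup.mk_inv]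
  rw [he2]
  group

theorem irr_indFun_of_cent_le' [Z.Normal] (hZK : Z ≤ K)
    (hC : ∀ z ∈ Z, z ≠ 1 → Subgroup.centralizer ({z} : Set L) ≤ K) {θ : K → ℂ}
    (hθ : IsIrrCharacter K θ) (h : ¬ InKer Z θ) : IsIrrCharacter L (indFun K θ) := by
  have : Fintype Z := Fintype.ofFinite Z
  have hr : IsCharacter Z (relRes hZK θ) := char_relRes hZK (irr_isCharacter hθ)
  by_contra hni
  refine h ((inKer_relRes_iff hZK le_rfl).1 fun z _ => ?_)
  refine char_apply_eq_of_forall_constituent hr fun l hl hne => ?_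
  by_cases h1 : l = fun _ => 1
  · rw [h1]
  · exact absurd (irr_indFun_of_inertia_le_of_over Z hZK hl (inertia_le_of_cent_le Z hC hl h1) hθ
      hne) hni

theorem FpfMod.irr_indFun [Z.Normal] [N.Normal] (h : FpfMod K Z N) (hNK : N ≤ K) (hZK : Z ≤ K)
    {θ : K → ℂ} (hθ : IsIrrCharacter K θ) (hZ : ¬ InKer Z θ) (hN : InKer N θ) :
    IsIrrCharacter L (indFun K θ) := by
  have : Fintype (L ⧸ N) := Fintype.ofFinite _
  let f := QuotientGroup.mk' N
  have : (Z.map f).Normal := Subgroup.Normal.map inferInstance _ (QuotientGroup.mk'_surjective N)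
  obtain ⟨θ₁, hθ₁, he⟩ := irr_exists_comp_eq hθ (f.subgroupMap K) (f.subgroupMap_surjective K)
    (fun x hx => hN x ((QuotientGroup.eq_one_iff (x : L)).1 (congrArg Subtype.val hx)))
  have h1 : θ₁ 1 = θ 1 := by rw [← he 1, map_one]
  have hi := irr_indFun_of_cent_le' (Subgroup.map_mono hZK) h.cent_le hθ₁ (fun hk => hZ fun a ha => by
    rw [← he a, ← h1]
    exact hk _ (Subgroup.mem_map_of_mem f ha))
  have : indFun K θ = fun g : L => indFun (K.map f) θ₁ (g : L ⧸ N) :=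
    funext fun g => (indFun_quotient N K hNK θ θ₁ he g).symm
  rw [this]
  exact irr_inflate N hi

theorem FpfMod.seqIndD_irr [Z.Normal] [N.Normal] (h : FpfMod K Z N) (hNK : N ≤ K) (hZK : Z ≤ K)
    {φ : L → ℂ} (hφ : φ ∈ seqIndD K Z N) : IsIrrCharacter L φ := by
  obtain ⟨θ, h1, h2, h3, rfl⟩ := hφ
  exact h.irr_indFun hNK hZK h1 h2 h3

theorem seqIndD_irr_of_cent_le [Z.Normal] (hZK : Z ≤ K)
    (hC : ∀ z ∈ Z, z ≠ 1 → Subgroup.centralizer ({z} : Set L) ≤ K) {φ : L → ℂ}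
    (hφ : φ ∈ seqIndD K Z N) : IsIrrCharacter L φ := by
  obtain ⟨θ, h1, h2, -, rfl⟩ := hφ
  exact irr_indFun_of_cent_le' hZK hC h1 h2

end Frob

end CL.PF
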