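import Cfsg.Agent.PF.SevenB
import Cfsg.Agent.Char.Linear

/-!
# Frobenius kernels; Peterfalvi (7.9), (7.10), (7.11)
-/

set_option autoImplicit false

namespace CL.PF

open Cfsg CL.Char
open scoped ComplexConjugate

/-! ### Frobenius groups given by their kernel -/

namespace FrobKer
variable {L : Type*} [Group L] {K : Subgroup L}

theorem of_le {G : Type*} [Group G] {H M : Subgroup G} (hlt : H < M) (h1 : H ≠ ⊥)
    (hn : ∀ x ∈ M, ∀ h ∈ H, x * h * x⁻¹ ∈ H)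
    (hc : ∀ h ∈ H, h ≠ 1 → M ⊓ Subgroup.centralizer ({h} : Set G) ≤ H) :
    FrobKer (H.subgroupOf M) where
  normal := ⟨fun h hh x => hn x x.2 h hh⟩
  ne_bot := fun e => h1 (by
    rw [Subgroup.subgroupOf_eq_bot, disjoint_iff, inf_eq_left.2 hlt.le] at e; exact e)
  ne_top := fun e => hlt.not_ge (Subgroup.subgroupOf_eq_top.1 e)
  cent_le := fun k hk hk1 c hc' => hc k hk (fun e => hk1 (Subtype.ext e)) 
    (Subgroup.mem_inf.2 ⟨c.2, Subgroup.mem_centralizer_singleton_iff.2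
      (congrArg Subtype.val (Subgroup.mem_centralizer_singleton_iff.1 hc'))⟩)

theorem mem_of_commute (h : FrobKer K) {k c : L} (hk : k ∈ K) (hk1 : k ≠ 1) (hc : c * k = k * c) :
    c ∈ K := h.cent_le k hk hk1 (Subgroup.mem_centralizer_singleton_iff.2 hc)

theorem one_lt_card [Finite L] (h : FrobKer K) : 1 < Nat.card K :=
  (Subgroup.one_lt_card_iff_ne_bot K).2 h.ne_bot

theorem one_lt_index [Finite L] (h : FrobKer K) : 1 < K.index :=
  Subgroup.one_lt_index_of_ne_top h.ne_top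

theorem inertia_le [Finite L] [K.Normal] (h : FrobKer K) {θ : K → ℂ} (hθ : IsIrrCharacter K θ)
    (h1 : θ ≠ fun _ => 1) : inertia K θ ≤ K := by
  intro g hg
  by_contra hgK
  refine h1 (irr_eq_one_of_aut_fixed (MulAut.conjNormal g) (fun k hk => ?_) hθ fun k => hg k)
  by_contra hk1
  obtain ⟨x, hx⟩ := isConj_iff.1 hk
  have hx' : (x : L) * k * (x : L)⁻¹ = g * k * g⁻¹ := congrArg Subtype.val hx
  have : (x : L)⁻¹ * g ∈ K := h.mem_of_commute k.2 (fun e => hk1 (Subtype.ext e)) (by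
    calc (x : L)⁻¹ * g * k = (x : L)⁻¹ * (g * k * g⁻¹) * g := by group
      _ = k * ((x : L)⁻¹ * g) := by rw [← hx']; group)
  exact hgK ((K.mul_mem_cancel_left (K.inv_mem x.2)).1 this)

variable [Fintype L]

theorem irr_indFun (h : FrobKer K) {θ : K → ℂ} (hθ : IsIrrCharacter K θ)
    (h1 : θ ≠ fun _ => 1) : IsIrrCharacter L (indFun K θ) := by
  have := h.normal
  exact irr_indFun_of_inertia_le K hθ (h.inertia_le hθ h1)

theorem irr_of_mem (h : FrobKer K) {φ : L → ℂ} (hφ : φ ∈ seqIndD K K ⊥) : IsIrrCharacter L φ := by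
  obtain ⟨θ, hθ, h1, rfl⟩ := mem_seqIndD_self.1 hφ
  exact h.irr_indFun hθ h1

omit [Fintype L] in
theorem index_dvd [Finite L] (h : FrobKer K) : K.index ∣ Nat.card K - 1 := by
  have := h.normal
  let _ := Fintype.ofFinite L
  have hfin : (seqIndD K K ⊥).Finite := finite_setOf_irr.subset fun φ hφ => h.irr_of_mem hφ
  have h1 := congrFun (sumSeq_eq_sum_finset (S := hfin.toFinset) (fun φ => hfin.mem_toFinset)) 1
  choose! d hd using fun φ (hφ : φ ∈ seqIndD K K ⊥) => SeqSelf.exists_deg hφ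
  rw [sumSeq_apply_one, Finset.sum_apply] at h1
  have h2 : ∑ φ ∈ hfin.toFinset, ((φ 1 / classInner φ φ) • φ) 1 =
      (K.index : ℂ) * ((K.index * ∑ φ ∈ hfin.toFinset, d φ ^ 2 : ℕ) : ℂ) := by
    push_cast
    rw [Finset.mul_sum, Finset.mul_sum]
    refine Finset.sum_congr rfl fun φ hφ => ?_
    have hφ' := hfin.mem_toFinset.1 hφ
    rw [irr_inner_self (h.irr_of_mem hφ'), Pi.smul_apply, (hd φ hφ').2]
    simp; ring
  rw [h2] at h1
  have h3 := mul_left_cancel₀ (by exact_mod_cast Subgroup.index_ne_zero_of_finite) h1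
  refine ⟨∑ φ ∈ hfin.toFinset, d φ ^ 2, ?_⟩
  have : (Nat.card K : ℂ) = ((K.index * ∑ φ ∈ hfin.toFinset, d φ ^ 2 + 1 : ℕ) : ℂ) := by
    rw [Nat.cast_add, ← h3]; simp
  have := Nat.cast_injective this
  omega

omit [Fintype L] in
theorem coprime [Finite L] (h : FrobKer K) : Nat.Coprime (Nat.card K) K.index := by
  refine Nat.Coprime.coprime_dvd_right h.index_dvd ?_
  have := h.one_lt_card
  obtain ⟨n, hn⟩ : ∃ n, Nat.card K = n + 1 := ⟨Nat.card K - 1, by omega⟩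
  rw [hn]; simp

omit [Fintype L] in
/-- `odd_Frobenius_index_ler` -/
theorem two_mul_index_lt [Finite L] (h : FrobKer K) (hodd : Odd (Nat.card L)) :
    2 * K.index + 1 ≤ Nat.card K := by
  have h1 : Odd (Nat.card K) := hodd.of_dvd_nat (Subgroup.card_subgroup_dvd_card K)
  have h2 : Odd K.index := hodd.of_dvd_nat (Subgroup.index_dvd_card K)
  have h3 := h.one_lt_card
  have h4 : 2 * K.index ∣ Nat.card K - 1 :=
    Nat.Coprime.mul_dvd_of_dvd_of_dvd (Nat.coprime_two_left.2 h2)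
      (even_iff_two_dvd.1 (Nat.Odd.sub_odd h1 odd_one)) h.index_dvd
  have := Nat.le_of_dvd (by omega) h4
  omega

omit [Fintype L] in
theorem exists_compl [Finite L] (h : FrobKer K) : ∃ E : Subgroup L, K.IsComplement' E ∧ E ≠ ⊥ ∧
    ∀ x ∈ E, x ≠ 1 → ∀ k ∈ K, x * k = k * x → k = 1 := by
  have := h.normal
  obtain ⟨E, hE⟩ := Subgroup.exists_right_complement'_of_coprime h.coprime
  refine ⟨E, hE, fun e => h.ne_top ?_, fun x hx hx1 k hk hc => ?_⟩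
  · rw [e] at hE; exact Subgroup.isComplement'_bot_right.1 hE
  · by_contra hk1
    exact hx1 (Subgroup.disjoint_def.1 hE.disjoint (h.mem_of_commute hk hk1 hc) hx)

end FrobKer

/-- a member of `S` of degree `|L : H|` -/
theorem exists_seqInd_lin {L : Type*} [Group L] [Fintype L] {H : Subgroup L}
    (h : commutator H ≠ ⊤) : ∃ ζ ∈ seqIndD H H ⊥, ζ 1 = H.index ∧ IsIndLin H ζ := by
  obtain ⟨g, hg⟩ : ∃ g, g ∉ commutator H := by
    by_contra hc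
    push Not at hc
    exact h (eq_top_iff.2 fun g _ => hc g)
  obtain ⟨l, hl⟩ := exists_linear_apply_ne_one hg
  refine ⟨indFun H fun x => (l x : ℂ), mem_seqIndD_self.2 ⟨_, isIrrCharacter_linear l, fun e => hl ?_,
    rfl⟩, by simp [indFun_one], l, rfl⟩
  exact Units.ext (congrFun e g)

theorem exists_seqInd_lin_of_solvable {L : Type*} [Group L] [Fintype L] {H : Subgroup L}
    (hs : Group.IsSolvable H) (h : H ≠ ⊥) :
    ∃ ζ ∈ seqIndD H H ⊥, ζ 1 = H.index ∧ IsIndLin H ζ := by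
  have := (Subgroup.nontrivial_iff_ne_bot H).2 h
  exact exists_seqInd_lin (Group.IsSolvable.commutator_lt_top_of_nontrivial H).ne

/-! ### two Dade hypotheses with disjoint supports -/

section Two
variable {G : Type*} [Group G] [Fintype G]

theorem classInner_eq_zero_of_disjoint {D₁ D₂ : Set G} (hd : Disjoint D₁ D₂) {α β : G → ℂ}
    (hα : ∀ g, g ∉ D₁ → α g = 0) (hβ : ∀ g, g ∉ D₂ → β g = 0) : classInner α β = 0 := by
  rw [classInner_def, Finset.sum_eq_zero, mul_zero]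
  intro g _
  by_cases h : g ∈ D₁
  · rw [hβ g (Set.disjoint_left.1 hd h), map_zero, mul_zero]
  · rw [hα g h, zero_mul]

variable {L₁ L₂ : Subgroup G} [Fintype L₁] [Fintype L₂] {H₁ : Subgroup L₁} {H₂ : Subgroup L₂}
  {A₁ A₂ B₁ B₂ : Set G} {R₁ R₂ : G → Subgroup G} {ν₁ : (L₁ → ℂ) → (G → ℂ)}
  {ν₂ : (L₂ → ℂ) → (G → ℂ)} {ζ₁ : L₁ → ℂ} {ζ₂ : L₂ → ℂ}

omit [Fintype L₁] [Fintype L₂] in
/-- `disjoint_Dade_ortho` -/
theorem disjoint_dade_ortho (hD₁ : DadeHypothesis B₁ L₁ R₁) (hD₂ : DadeHypothesis B₂ L₂ R₂)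
    (hd : Disjoint (dadeSupp A₁ R₁) (dadeSupp A₂ R₂)) {α : L₁ → ℂ} {β : L₂ → ℂ}
    (hα : IsClassFunction L₁ α) (hβ : IsClassFunction L₂ β)
    (hαA : ∀ x : L₁, (x : G) ∉ A₁ → α x = 0) (hβA : ∀ x : L₂, (x : G) ∉ A₂ → β x = 0) :
    classInner (dadeIsometry B₁ L₁ R₁ α) (dadeIsometry B₂ L₂ R₂ β) = 0 :=
  classInner_eq_zero_of_disjoint hd (fun _ hg => Dade.apply_eq_zero_of_not_mem_sub hD₁ hα hαA hg)
    (fun _ hg => Dade.apply_eq_zero_of_not_mem_sub hD₂ hβ hβA hg)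

/-- `disjoint_coherent_ortho` -/
theorem disjoint_coherent_ortho (h₁ : Hyp76 L₁ H₁ A₁ B₁ R₁) (h₂ : Hyp76 L₂ H₂ A₂ B₂ R₂)
    (hodd₁ : Odd (Nat.card L₁)) (hodd₂ : Odd (Nat.card L₂))
    (hd : Disjoint (dadeSupp A₁ R₁) (dadeSupp A₂ R₂)) {S₁ : Set (L₁ → ℂ)} {S₂ : Set (L₂ → ℂ)}
    (hS₁ : S₁ ⊆ seqIndD H₁ H₁ ⊥) (hS₂ : S₂ ⊆ seqIndD H₂ H₂ ⊥)
    (hc₁ : CoherentWith S₁ (dadeIsometry B₁ L₁ R₁) ν₁)
    (hc₂ : CoherentWith S₂ (dadeIsometry B₂ L₂ R₂) ν₂) {χ₁ : L₁ → ℂ} {χ₂ : L₂ → ℂ}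
    (hχ₁ : χ₁ ∈ S₁) (hχ₁' : conjFun χ₁ ∈ S₁) (hi₁ : IsIrrCharacter L₁ χ₁)
    (hχ₂ : χ₂ ∈ S₂) (hχ₂' : conjFun χ₂ ∈ S₂) (hi₂ : IsIrrCharacter L₂ χ₂) :
    classInner (ν₁ χ₁) (ν₂ χ₂) = 0 := by
  have := h₁.normal
  have := h₂.normal
  have hm₁ : χ₁ - conjFun χ₁ ∈ zspanOn (seqIndD H₁ H₁ ⊥) {1}ᶜ :=
    sub_mem_zspanOn_one (mem_zspan (hS₁ hχ₁)) (mem_zspan (hS₁ hχ₁'))
      (char_conjFun_apply_one (SeqSelf.char (hS₁ hχ₁))).symm
  have hm₂ : χ₂ - conjFun χ₂ ∈ zspanOn (seqIndD H₂ H₂ ⊥) {1}ᶜ :=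
    sub_mem_zspanOn_one (mem_zspan (hS₂ hχ₂)) (mem_zspan (hS₂ hχ₂'))
      (char_conjFun_apply_one (SeqSelf.char (hS₂ hχ₂))).symm
  refine signedIrr_ortho_of_sub_sub (Hyp76.nu_signed hS₁ hc₁ hχ₁ hi₁)
    (Hyp76.nu_signed hS₁ hc₁ hχ₁' (irr_conjFun hi₁)) (Hyp76.nu_signed hS₂ hc₂ hχ₂ hi₂)
    (Hyp76.nu_signed hS₂ hc₂ hχ₂' (irr_conjFun hi₂)) ?_ ?_ (h₁.nu_conj_apply_one hS₁ hc₁ hχ₁ hχ₁')
    (h₂.nu_conj_apply_one hS₂ hc₂ hχ₂ hχ₂') ?_
  · rw [hc₁.inner (mem_zspan hχ₁) (mem_zspan hχ₁')]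
    exact SeqSelf.inner_of_ne (hS₁ hχ₁) (hS₁ hχ₁') (SeqSelf.conj_ne hodd₁ (hS₁ hχ₁) hi₁).symm
  · rw [hc₂.inner (mem_zspan hχ₂) (mem_zspan hχ₂')]
    exact SeqSelf.inner_of_ne (hS₂ hχ₂) (hS₂ hχ₂') (SeqSelf.conj_ne hodd₂ (hS₂ hχ₂) hi₂).symm
  · rw [← Hyp76.nu_sub_conj hS₁ hc₁ hχ₁ hχ₁', ← Hyp76.nu_sub_conj hS₂ hc₂ hχ₂ hχ₂']
    exact disjoint_dade_ortho h₁.dade₀ h₂.dade₀ hd
      (classFun_of_mem_zspan (fun _ => SeqSelf.classFun) hm₁.1)
      (classFun_of_mem_zspan (fun _ => SeqSelf.classFun) hm₂.1) (h₁.supp_zspanOn hm₁)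
      (h₂.supp_zspanOn hm₂)

theorem Hyp78.nu_ortho (h₁ : Hyp78 L₁ H₁ A₁ B₁ R₁ ν₁ ζ₁) (h₂ : Hyp78 L₂ H₂ A₂ B₂ R₂ ν₂ ζ₂)
    (hd : Disjoint (dadeSupp A₁ R₁) (dadeSupp A₂ R₂)) {χ₁ : L₁ → ℂ} {χ₂ : L₂ → ℂ}
    (hχ₁ : χ₁ ∈ seqIndD H₁ H₁ ⊥) (hi₁ : IsIrrCharacter L₁ χ₁)
    (hχ₂ : χ₂ ∈ seqIndD H₂ H₂ ⊥) (hi₂ : IsIrrCharacter L₂ χ₂) :
    classInner (ν₁ χ₁) (ν₂ χ₂) = 0 :=
  disjoint_coherent_ortho h₁.toHyp76 h₂.toHyp76 h₁.odd h₂.odd hd subset_rfl subset_rfl h₁.coh h₂.coh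
    hχ₁ (SeqSelf.conj_mem hχ₁) hi₁ hχ₂ (SeqSelf.conj_mem hχ₂) hi₂

theorem Hyp78.beta_ortho (h₁ : Hyp78 L₁ H₁ A₁ B₁ R₁ ν₁ ζ₁) (h₂ : Hyp78 L₂ H₂ A₂ B₂ R₂ ν₂ ζ₂)
    (hd : Disjoint (dadeSupp A₁ R₁) (dadeSupp A₂ R₂)) :
    classInner (beta78 L₁ H₁ B₁ R₁ ζ₁) (beta78 L₂ H₂ B₂ R₂ ζ₂) = 0 :=
  classInner_eq_zero_of_disjoint hd (fun _ => h₁.beta_eq_zero) (fun _ => h₂.beta_eq_zero)

/-- a function `ψ` vanishing on the Dade support of `A₂` has
`(ψ, ν₂ φ) = (φ(1) / e₂) (ψ, ν₂ ζ₂)` -/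
theorem Hyp78.inner_nu_of_vanish (h₂ : Hyp78 L₂ H₂ A₂ B₂ R₂ ν₂ ζ₂) {ψ : G → ℂ}
    (hψ : ∀ g ∈ dadeSupp A₂ R₂, ψ g = 0) {φ : L₂ → ℂ} (hφ : φ ∈ zspan (seqIndD H₂ H₂ ⊥)) :
    classInner ψ (ν₂ φ) = φ 1 / H₂.index * classInner ψ (ν₂ ζ₂) := by
  have hm := h₂.sub_mem hφ
  have h0 : classInner ψ (dadeIsometry B₂ L₂ R₂ (φ - (φ 1 / H₂.index) • ζ₂)) = 0 :=
    classInner_eq_zero_of_disjoint (D₁ := (dadeSupp A₂ R₂)ᶜ) disjoint_compl_left
      (fun g hg => hψ g (not_not.1 hg)) (fun g hg => h₂.tau_eq_zero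
        (classFun_of_mem_zspan (fun _ => SeqSelf.classFun) hm.1) (h₂.supp_zspanOn hm) hg)
  obtain ⟨d, hd⟩ := h₂.exists_int_deg hφ
  rw [h₂.tau_sub hφ, classInner_sub_right, classInner_smul_right, sub_eq_zero] at h0
  rw [h0, hd, mul_div_cancel_right₀ _ h₂.index_ne_zero, map_intCast]

theorem Hyp78.beta_inner_nu_of_disjoint (h₁ : Hyp78 L₁ H₁ A₁ B₁ R₁ ν₁ ζ₁)
    (h₂ : Hyp78 L₂ H₂ A₂ B₂ R₂ ν₂ ζ₂) (hd : Disjoint (dadeSupp A₁ R₁) (dadeSupp A₂ R₂))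
    {φ : L₂ → ℂ} (hφ : φ ∈ zspan (seqIndD H₂ H₂ ⊥)) :
    classInner (beta78 L₁ H₁ B₁ R₁ ζ₁) (ν₂ φ) =
      φ 1 / H₂.index * classInner (beta78 L₁ H₁ B₁ R₁ ζ₁) (ν₂ ζ₂) :=
  h₂.inner_nu_of_vanish (fun _ hg => h₁.beta_eq_zero fun hg' => Set.disjoint_left.1 hd hg' hg) hφ

/-- (7.9), with parity -/
theorem Hyp78.t7_9_odd (h₁ : Hyp78 L₁ H₁ A₁ B₁ R₁ ν₁ ζ₁) (h₂ : Hyp78 L₂ H₂ A₂ B₂ R₂ ν₂ ζ₂)
    (hodd : Odd (Nat.card G)) (hd : Disjoint (dadeSupp A₁ R₁) (dadeSupp A₂ R₂)) :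
    ∃ n : ℤ, classInner (beta78 L₁ H₁ B₁ R₁ ζ₁) (ν₂ ζ₂) +
      classInner (beta78 L₂ H₂ B₂ R₂ ζ₂) (ν₁ ζ₁) = 2 * n + 1 := by
  obtain ⟨n, hn⟩ := gen_real_inner_even hodd h₁.gamma_zero_gen h₂.gamma_zero_gen
    (h₁.conjFun_gamma_zero hodd) (h₂.conjFun_gamma_zero hodd) (h₁.gamma_inner_one 0)
  refine ⟨n, ?_⟩
  rw [h₁.gamma_zero, h₂.gamma_zero] at hn
  simp only [classInner_add_left, classInner_sub_left, classInner_add_right,
    classInner_sub_right] at hn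
  rw [h₁.beta_ortho h₂ hd, h₁.beta_inner_one, h₂.one_inner_beta, classInner_one_one,
    h₂.one_inner_nu (mem_zspan h₂.mem), h₁.nu_inner_one (mem_zspan h₁.mem),
    h₁.nu_ortho h₂ hd h₁.mem h₁.irr h₂.mem h₂.irr,
    gen_inner_comm (h₁.nu_gen (mem_zspan h₁.mem)) h₂.beta_gen] at hn
  linear_combination hn

/-- (7.9) -/
theorem Hyp78.t7_9 (h₁ : Hyp78 L₁ H₁ A₁ B₁ R₁ ν₁ ζ₁) (h₂ : Hyp78 L₂ H₂ A₂ B₂ R₂ ν₂ ζ₂)
    (hodd : Odd (Nat.card G)) (hd : Disjoint (dadeSupp A₁ R₁) (dadeSupp A₂ R₂)) :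
    classInner (beta78 L₁ H₁ B₁ R₁ ζ₁) (ν₂ ζ₂) ≠ 0 ∨
      classInner (beta78 L₂ H₂ B₂ R₂ ζ₂) (ν₁ ζ₁) ≠ 0 := by
  by_contra hc
  push Not at hc
  obtain ⟨n, hn⟩ := h₁.t7_9_odd h₂ hodd hd
  rw [hc.1, hc.2, add_zero] at hn
  have : (0 : ℤ) = 2 * n + 1 := by exact_mod_cast hn
  omega

end Two

/-- Bessel's inequality for an orthogonal family -/
theorem bessel_orthogonal {G : Type*} [Group G] [Fintype G] {ι : Type*} (s : Finset ι)
    (X : ι → G → ℂ) (horth : ∀ i ∈ s, ∀ j ∈ s, i ≠ j → classInner (X i) (X j) = 0) (Z : G → ℂ) :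
    ∑ i ∈ s, rip Z (X i) ^ 2 / rip (X i) (X i) ≤ rip Z Z := by
  classical
  set c : ι → ℝ := fun i => rip Z (X i) / rip (X i) (X i) with hc
  have h0 := rip_self_nonneg (Z - ∑ i ∈ s, (c i : ℂ) • X i)
  have e1 : rip Z (∑ i ∈ s, (c i : ℂ) • X i) = ∑ i ∈ s, rip Z (X i) ^ 2 / rip (X i) (X i) := by
    rw [rip_sum_right]
    refine Finset.sum_congr rfl fun i _ => ?_
    rw [rip_ofReal_smul_right, hc]; ring
  have e2 : rip (∑ i ∈ s, (c i : ℂ) • X i) (∑ i ∈ s, (c i : ℂ) • X i) =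
      ∑ i ∈ s, rip Z (X i) ^ 2 / rip (X i) (X i) := by
    rw [rip_sum_left]
    refine Finset.sum_congr rfl fun i hi => ?_
    rw [rip_sum_right, Finset.sum_eq_single i]
    · rw [rip_ofReal_smul_right, rip_ofReal_smul_left, hc]
      by_cases h : rip (X i) (X i) = 0
      · simp [h]
      · field_simp
    · intro j hj hji
      rw [rip_ofReal_smul_right, rip_ofReal_smul_left, rip_eq_zero_of (horth i hi j hj hji.symm)]
      simp
    · exact fun h => (h hi).elim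
  rw [rip_sub_self, e1, e2] at h0
  linarith

/-! ### (7.10), (7.11) -/

section Family
variable {G : Type*} [Group G] [Fintype G] {ι : Type*} [Fintype ι] {L : ι → Subgroup G}
  [∀ i, Fintype (L i)] {H : ∀ i, Subgroup (L i)} {A B : ι → Set G} {R : ι → G → Subgroup G}
  {ν : ∀ i, (L i → ℂ) → (G → ℂ)} {ζ : ∀ i, L i → ℂ}

open Classical in
/-- the bound `∑_{i ∈ 𝓑} (h_i - 1) / e_i ≤ e - 1` of the proof of (7.10) -/
theorem sum_kernel_div_index_le (hodd : Odd (Nat.card G))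
    (h : ∀ i, Hyp78 (L i) (H i) (A i) (B i) (R i) (ν i) (ζ i)) (hF : ∀ i, FrobKer (H i))
    (hd : ∀ i j, i ≠ j → Disjoint (dadeSupp (A i) (R i)) (dadeSupp (A j) (R j))) (k : ι) :
    ∑ i ∈ (Finset.univ.erase k).filter
        (fun i => classInner (beta78 (L i) (H i) (B i) (R i) (ζ i)) (ν k (ζ k)) = 0),
      ((Nat.card (H i) : ℝ) - 1) / (H i).index ≤ (H k).index - 1 := by
  obtain ⟨a, ha⟩ := (h k).exists_a
  have hne : ∀ i j, i ≠ j → ∀ φ ∈ zspan (seqIndD (H i) (H i) ⊥),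
      ∀ ψ ∈ zspan (seqIndD (H j) (H j) ⊥), classInner (ν i φ) (ν j ψ) = 0 := by
    intro i j hij φ hφ ψ hψ
    refine iso_inner_eq_zero_left (h i).coh.iso subset_zspan (fun φ hφ => ?_) hφ
    refine iso_inner_eq_zero_right (h j).coh.iso subset_zspan (fun ψ hψ => ?_) hψ
    exact (h i).nu_ortho (h j) (hd i j hij) hφ ((hF i).irr_of_mem hφ) hψ ((hF j).irr_of_mem hψ)
  refine le_trans ?_ ((h k).gamma_norm_le ha ((hF k).two_mul_index_lt (h k).odd))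
  refine le_trans (Finset.sum_le_sum fun i hi => ?_) (bessel_orthogonal _
    (fun i => ν i (sumSeq (H i))) (fun i _ j _ hij => hne i j hij _ (sumSeq_mem _) _ (sumSeq_mem _))
    ((h k).gamma a))
  obtain ⟨hi1, hi2⟩ := Finset.mem_filter.1 hi
  have hik : i ≠ k := (Finset.mem_erase.1 hi1).1
  have := (h i).normal
  obtain ⟨x, hx⟩ := gen_inner_int (h k).beta_gen ((h i).nu_gen (mem_zspan (h i).mem))
  have hx0 : x ≠ 0 := by
    rintro rfl
    rcases (h k).t7_9 (h i) hodd (hd k i hik.symm) with h1 | h1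
    · exact h1 (by rw [hx]; simp)
    · exact h1 hi2
  have e1 : rip ((h k).gamma a) (ν i (sumSeq (H i))) = ((Nat.card (H i) : ℝ) - 1) * x := by
    refine rip_of_classInner_eq ?_
    rw [(h k).gamma_inner_of_orth a ((h i).one_inner_nu (sumSeq_mem _))
      (fun φ hφ => hne k i hik.symm _ (mem_zspan hφ) _ (sumSeq_mem _)),
      (h k).beta_inner_nu_of_disjoint (h i) (hd k i hik.symm) (sumSeq_mem _), hx, sumSeq_apply_one,
      mul_div_cancel_left₀ _ (h i).index_ne_zero]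
    push_cast; rfl
  have e2 : rip (ν i (sumSeq (H i))) (ν i (sumSeq (H i))) =
      (H i).index * ((Nat.card (H i) : ℝ) - 1) := by
    refine rip_of_classInner_eq ?_
    rw [(h i).coh.inner (sumSeq_mem _) (sumSeq_mem _), classInner_sumSeq_self]
    push_cast; rfl
  have hh : (1 : ℝ) < Nat.card (H i) := by exact_mod_cast (hF i).one_lt_card
  have he : (1 : ℝ) < (H i).index := by exact_mod_cast (hF i).one_lt_index
  have hx1 : (1 : ℝ) ≤ (x : ℝ) ^ 2 := by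
    have : (1 : ℤ) ≤ x ^ 2 := by
      have := sq_pos_of_ne_zero hx0
      omega
    exact_mod_cast this
  have hh' : (0 : ℝ) < (Nat.card (H i) : ℝ) - 1 := by linarith
  rw [e1, e2, div_le_div_iff₀ (by linarith) (by positivity)]
  have : (0 : ℝ) ≤ (H i).index * ((Nat.card (H i) : ℝ) - 1) ^ 2 := by positivity
  nlinarith

open Classical in
/-- (7.10), for an index `k` with `|H_k|` minimal -/
theorem t7_10 (hodd : Odd (Nat.card G))
    (h : ∀ i, Hyp78 (L i) (H i) (A i) (B i) (R i) (ν i) (ζ i)) (hF : ∀ i, FrobKer (H i))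
    (hd : ∀ i j, i ≠ j → Disjoint (dadeSupp (A i) (R i)) (dadeSupp (A j) (R j))) (k : ι)
    (hk : ∀ i, i ≠ k → Nat.card (H k) + 2 ≤ Nat.card (H i)) :
    (((H k).index : ℝ) - 1) * (((Nat.card (H k) : ℝ) - 2 * (H k).index - 1) /
        ((H k).index * Nat.card (H k)) + 2 / (Nat.card (H k) * (Nat.card (H k) + 2))) ≤
      ((Nat.card {g : G // ∀ i, g ∉ dadeSupp (A i) (R i)} : ℝ) - 1) / Nat.card G := by
  set χ := ν k (ζ k) with hχ
  have hχs : IsSignedIrr G χ := (h k).nu_zeta_signed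
  have hχc : IsClassFunction G χ := gen_isClassFunction hχs.gen
  have h75 := dade_cover_inequality (fun i => (h i).dade) hd hχc hχs.inner_self
  have hG : (0 : ℝ) < Nat.card G := by exact_mod_cast Nat.card_pos
  have hh : ∀ i, (1 : ℝ) < Nat.card (H i) := fun i => by exact_mod_cast (hF i).one_lt_card
  have he : ∀ i, (1 : ℝ) < (H i).index := fun i => by exact_mod_cast (hF i).one_lt_index
  -- the contribution of `G₀`
  have h0 : 1 - (Nat.card {g : G // ∀ i, g ∉ dadeSupp (A i) (R i)} : ℝ) ≤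
      ∑ g : G, if ∀ i, g ∉ dadeSupp (A i) (R i) then ‖χ g‖ ^ 2 - 1 else 0 := by
    have h1 : (1 : ℝ) ≤ ‖χ 1‖ ^ 2 := by
      obtain ⟨n, hn⟩ := gen_apply_one hχs.gen
      have hn0 : n ≠ 0 := fun e => hχs.apply_one_ne_zero (by rw [hn, e]; simp)
      rw [hn, Complex.norm_intCast, sq_abs]
      have : (1 : ℤ) ≤ n ^ 2 := by
        have := sq_pos_of_ne_zero hn0
        omega
      exact_mod_cast this
    have h2 : ∀ g : G, (if ∀ i, g ∉ dadeSupp (A i) (R i) then ‖χ g‖ ^ 2 - 1 else 0) =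
        (if ∀ i, g ∉ dadeSupp (A i) (R i) then ‖χ g‖ ^ 2 else 0) -
          if ∀ i, g ∉ dadeSupp (A i) (R i) then 1 else 0 := by
      intro g; split_ifs <;> simp
    rw [Finset.sum_congr rfl fun g _ => h2 g, Finset.sum_sub_distrib, Finset.sum_boole,
      Nat.card_eq_fintype_card, Fintype.card_subtype]
    gcongr
    refine le_trans ?_ (Finset.single_le_sum (f := fun g =>
      if ∀ i, g ∉ dadeSupp (A i) (R i) then ‖χ g‖ ^ 2 else 0)
      (fun g _ => by split_ifs <;> positivity) (Finset.mem_univ 1))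
    rw [if_pos fun i => Dade.one_not_mem_supp (h i).dade]
    exact h1
  -- the contribution of `k`
  have h1 := (h k).norm_invDade_nu_zeta_ge ((hF k).two_mul_index_lt (h k).odd)
  -- the other indices
  have h2 : -((((H k).index : ℝ) - 1) / (Nat.card (H k) + 2)) ≤ ∑ i ∈ Finset.univ.erase k,
      (rip (invDade (A i) (L i) (R i) χ) (invDade (A i) (L i) (R i) χ) -
        (Nat.card (A i) : ℝ) / Nat.card (L i)) := by
    have hb := sum_kernel_div_index_le hodd h hF hd k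
    rw [← Finset.sum_filter_add_sum_filter_not _
      (fun i => classInner (beta78 (L i) (H i) (B i) (R i) (ζ i)) (ν k (ζ k)) = 0)]
    refine le_add_of_le_of_nonneg ?_ (Finset.sum_nonneg fun i hi => ?_)
    · have hk2 : (0 : ℝ) < Nat.card (H k) + 2 := by positivity
      rw [neg_le, ← Finset.sum_neg_distrib]
      refine le_trans ?_ (div_le_div_of_nonneg_right hb hk2.le)
      rw [Finset.sum_div]
      refine Finset.sum_le_sum fun i hi => ?_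
      have hik : i ≠ k := (Finset.mem_erase.1 (Finset.mem_filter.1 hi).1).1
      have hki : (Nat.card (H k) : ℝ) + 2 ≤ Nat.card (H i) := by exact_mod_cast hk i hik
      have := rip_self_nonneg (invDade (A i) (L i) (R i) χ)
      rw [(h i).card_A_div, div_div]
      have hi1 := hh i
      have hi2 := he i
      have : ((Nat.card (H i) : ℝ) - 1) / ((H i).index * Nat.card (H i)) ≤
          ((Nat.card (H i) : ℝ) - 1) / ((H i).index * (Nat.card (H k) + 2)) := by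
        gcongr
      linarith
    · obtain ⟨hi1, hi2⟩ := Finset.mem_filter.1 hi
      have hik : i ≠ k := (Finset.mem_erase.1 hi1).1
      rw [(h i).norm_invDade_of_orth hχc (fun φ hφ => (h i).nu_ortho (h k) (hd i k hik) hφ
        ((hF i).irr_of_mem hφ) (h k).mem (h k).irr)]
      obtain ⟨x, hx⟩ := gen_inner_int (h i).beta_gen hχs.gen
      have hx0 : x ≠ 0 := fun e => hi2 (by rw [← hχ, hx, e]; simp)
      have hx1 : (1 : ℝ) ≤ (x : ℝ) ^ 2 := by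
        have : (1 : ℤ) ≤ x ^ 2 := by
          have := sq_pos_of_ne_zero hx0
          omega
        exact_mod_cast this
      rw [hx, Complex.norm_intCast, sq_abs]
      have : (0 : ℝ) ≤ (Nat.card (A i) : ℝ) / Nat.card (L i) := by positivity
      nlinarith
  rw [← Finset.add_sum_erase _ _ (Finset.mem_univ k), (h k).card_A_div] at h75
  have h3 : (Nat.card G : ℝ)⁻¹ * (1 - (Nat.card {g : G // ∀ i, g ∉ dadeSupp (A i) (R i)} : ℝ)) ≤
      (Nat.card G : ℝ)⁻¹ *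
        ∑ g : G, if ∀ i, g ∉ dadeSupp (A i) (R i) then ‖χ g‖ ^ 2 - 1 else 0 := by gcongr
  have hk1 := hh k
  have hk2 := he k
  have e : (((H k).index : ℝ) - 1) * (((Nat.card (H k) : ℝ) - 2 * (H k).index - 1) /
        ((H k).index * Nat.card (H k)) + 2 / (Nat.card (H k) * (Nat.card (H k) + 2))) =
      1 - ((H k).index : ℝ) / Nat.card (H k) -
        ((Nat.card (H k) : ℝ) - 1) / ((H k).index * Nat.card (H k)) -
        (((H k).index : ℝ) - 1) / (Nat.card (H k) + 2) := by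
    field_simp; ring
  rw [e, div_eq_inv_mul _ (Nat.card G : ℝ)]
  linarith

/-- (7.11), abstract form -/
theorem t7_11_aux [Nonempty ι] (hodd : Odd (Nat.card G))
    (h : ∀ i, Hyp78 (L i) (H i) (A i) (B i) (R i) (ν i) (ζ i)) (hF : ∀ i, FrobKer (H i))
    (hd : ∀ i j, i ≠ j → Disjoint (dadeSupp (A i) (R i)) (dadeSupp (A j) (R j)))
    (hne : ∀ i j, i ≠ j → Nat.card (H i) ≠ Nat.card (H j))
    (hcover : ∀ g : G, g ≠ 1 → ∃ i, g ∈ dadeSupp (A i) (R i)) : False := by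
  obtain ⟨k, -, hk⟩ := Finset.exists_min_image Finset.univ (fun i => Nat.card (H i))
    Finset.univ_nonempty
  have hoddH : ∀ i, Odd (Nat.card (H i)) := fun i =>
    (h i).odd.of_dvd_nat (Subgroup.card_subgroup_dvd_card _)
  have key := t7_10 hodd h hF hd k fun i hik => by
    have h1 := hk i (Finset.mem_univ i)
    have h2 := hne i k hik
    obtain ⟨a, ha⟩ := hoddH i
    obtain ⟨b, hb⟩ := hoddH k
    omega
  have hc : Nat.card {g : G // ∀ i, g ∉ dadeSupp (A i) (R i)} = 1 := by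
    rw [Nat.card_eq_one_iff_exists]
    refine ⟨⟨1, fun i => Dade.one_not_mem_supp (h i).dade⟩, fun g => Subtype.ext ?_⟩
    by_contra hg
    obtain ⟨i, hi⟩ := hcover g hg
    exact g.2 i hi
  rw [hc] at key
  have hk1 : (1 : ℝ) < Nat.card (H k) := by exact_mod_cast (hF k).one_lt_card
  have hk2 : (1 : ℝ) < (H k).index := by exact_mod_cast (hF k).one_lt_index
  have hk3 : 2 * ((H k).index : ℝ) + 1 ≤ Nat.card (H k) := by
    exact_mod_cast (hF k).two_mul_index_lt (h k).odd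
  have h1 : (0 : ℝ) ≤ ((Nat.card (H k) : ℝ) - 2 * (H k).index - 1) /
      ((H k).index * Nat.card (H k)) := div_nonneg (by linarith) (by positivity)
  have h2 : (0 : ℝ) < 2 / (Nat.card (H k) * (Nat.card (H k) + 2)) := by positivity
  have h3 := mul_pos (sub_pos.2 hk2) (add_pos_of_nonneg_of_pos h1 h2)
  simp only [Nat.cast_one, sub_self, zero_div] at key
  linarith

end Family

end CL.PF
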