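import Cfsg.Agent.PF.A10_Core
import Cfsg.Agent.PF.SevenC
import Cfsg.Agent.PF.SeqInd
import Cfsg.Agent.PF.CohIrr

/-!
# Peterfalvi (10.7), (10.8) in abstract form
-/

set_option autoImplicit false
set_option linter.unusedSectionVars false

namespace CL.PF

open Cfsg CL.Char

section Group
variable {L X₁ X₂ : Type*} [Group L] [Fintype L] [Group X₁] [Group X₂] [Finite X₁] [Finite X₂]
  {K : Subgroup L} {f₁ : X₁ →* L} {f₂ : X₂ →* L}

/-- `L / N` is a Frobenius group with kernel `K / N` when `W₂ ≤ N ≤ K` -/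
theorem PrimeTI.fpfMod (h : PrimeTI K f₁ f₂) {N : Subgroup L} [hN : N.Normal]
    (hW : f₂.range ≤ N) (hNK : N ≤ K) : FpfMod K K N := by
  intro z hz hzN x hx
  by_contra hxK
  obtain ⟨m, a, b, ha, rfl⟩ := h.exists_conj_of_not_mem hxK
  have hK := h.normal
  set w := f₁ a with hw
  set k := m⁻¹ * z * m with hk
  have hkK : k ∈ K := by simpa using hK.conj_mem z hz m⁻¹
  have hb : f₂ b ∈ N := hW ⟨b, rfl⟩
  have h1 : (w * f₂ b) * k * (w * f₂ b)⁻¹ * k⁻¹ ∈ N := by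
    have := hN.conj_mem _ hx m⁻¹
    convert this using 1
    simp only [hk]; group
  have h2 : k * w * k⁻¹ * w⁻¹ ∈ N := by
    rw [← QuotientGroup.eq_one_iff] at h1 hb ⊢
    simp only [QuotientGroup.mk_mul, QuotientGroup.mk_inv, hb, mul_one] at h1 ⊢
    rw [← inv_inj]
    simp only [mul_inv_rev, inv_inv, inv_one]
    rw [← h1]; group
  have hco : Nat.Coprime (orderOf w) (Nat.card N) := by
    refine Nat.Coprime.coprime_dvd_left ?_
      (h.coprime_card.symm.coprime_dvd_right (Subgroup.card_dvd_of_le hNK))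
    rw [hw, orderOf_injective f₁ h.inj₁]
    exact orderOf_dvd_natCard a
  obtain ⟨u, hu, c, hc, hcw, e⟩ := exists_conj_mem_cent_coset N w
    (by rw [Subgroup.normalizer_eq_top]; trivial) hco _ h2
  have e' : (u * k) * (w * 1) * (u * k)⁻¹ = w * c := by
    rw [← hcw, ← e]; group
  have e2 := (conj_parts (Commute.one_right w) (show Commute w c from hcw.symm) hco dvd_rfl dvd_rfl
    (by simp) (N.orderOf_dvd_natCard hc) e').1
  have hw1 : w ≠ 1 := fun e => ha (h.inj₁ (by rw [← hw, e, map_one]))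
  have : u * k ∈ K ⊓ Subgroup.centralizer ({w} : Set L) := by
    refine ⟨K.mul_mem (hNK hu) hkK, Subgroup.mem_centralizer_singleton_iff.2 ?_⟩
    calc u * k * w = (u * k) * w * (u * k)⁻¹ * (u * k) := by group
      _ = w * (u * k) := by rw [e2]
  rw [h.cent w ⟨a, rfl⟩ hw1] at this
  have hkN : k ∈ N := by simpa using N.mul_mem (N.inv_mem hu) (hW this)
  apply hzN
  have := hN.conj_mem k hkN m
  simpa [hk, mul_assoc] using this

theorem PrimeTI.two_mul_lt_relIndex (h : PrimeTI K f₁ f₂) (hodd : Odd (Nat.card L))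
    {N : Subgroup L} [hN : N.Normal] (hW : f₂.range ≤ N) (hNK : N < K) :
    2 * Nat.card X₁ + 1 ≤ N.relIndex K := by
  have := h.normal
  have h1 := (h.fpfMod hW hNK.le).relIndex_modEq_one hNK.le
  rw [h.index_eq] at h1
  have h2 : Odd (N.relIndex K) :=
    hodd.of_dvd_nat ((Subgroup.relIndex_dvd_card N K).trans (Subgroup.card_subgroup_dvd_card K))
  have h3 : N.relIndex K ≠ 1 := fun e => hNK.not_ge (Subgroup.relIndex_eq_one.1 e)
  have h4 := h.cycTI.odd₁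
  obtain ⟨t, ht⟩ := (Nat.modEq_iff_dvd' h2.pos).1 h1.symm
  obtain ⟨a, ha⟩ := h2
  obtain ⟨b, hb⟩ := h4
  have ht0 : t ≠ 0 := by rintro rfl; omega
  have ht1 : t ≠ 1 := by rintro rfl; omega
  have : Nat.card X₁ * 2 ≤ Nat.card X₁ * t := Nat.mul_le_mul_left _ (by omega)
  omega

/-- `|K| ≥ (2 w₁ + 1) w₂` -/
theorem PrimeTI.card_ge (h : PrimeTI K f₁ f₂) (hodd : Odd (Nat.card L))
    (hW : f₂.range ≤ ⁅K, K⁆) (hK : ⁅K, K⁆ ≠ K) :
    (2 * Nat.card X₁ + 1) * Nat.card X₂ ≤ Nat.card K := by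
  have := h.normal
  have h1 := h.two_mul_lt_relIndex hodd hW (lt_of_le_of_ne (der_le_self K) hK)
  have h2 : Nat.card X₂ ≤ Nat.card ↥⁅K, K⁆ := by
    rw [← Nat.card_congr (MonoidHom.ofInjective h.inj₂).toEquiv.symm]
    exact Subgroup.card_le_of_le hW
  have h3 : Nat.card ↥⁅K, K⁆ * ⁅K, K⁆.relIndex K = Nat.card K := by
    rw [← Subgroup.card_mul_index (⁅K, K⁆.subgroupOf K),
      Nat.card_congr (Subgroup.subgroupOfEquivOfLe (der_le_self K)).toEquiv]
    rfl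
  rw [← h3, mul_comm]
  exact Nat.mul_le_mul h2 h1

end Group

/-- an element of prime order `p` is conjugate into any subgroup of index prime to `p` -/
theorem exists_conj_mem_of_not_dvd_index {G : Type*} [Group G] [Finite G] {H : Subgroup G} {a : G}
    (hp : (orderOf a).Prime) (hi : ¬ orderOf a ∣ H.index) : ∃ g : G, g * a * g⁻¹ ∈ H := by
  have := Fact.mk hp
  have hP : IsPGroup (orderOf a) (Subgroup.zpowers a) :=
    IsPGroup.of_card (n := 1) (by rw [Nat.card_zpowers, pow_one])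
  obtain ⟨q, hq⟩ := hP.nonempty_fixed_point_of_prime_not_dvd_card (G ⧸ H) hi
  obtain ⟨g, rfl⟩ := QuotientGroup.mk_surjective q
  have : ((a * g : G) : G ⧸ H) = g := hq ⟨a, Subgroup.mem_zpowers a⟩
  rw [QuotientGroup.eq] at this
  refine ⟨g⁻¹, ?_⟩
  have := H.inv_mem this
  simpa [mul_assoc] using this

section Cover
variable {G X₁ X₂ : Type*} [Group G] [Finite G] [Group X₁] [Group X₂] [Finite X₁] [Finite X₂]

/-- the covering argument in the proof of (10.8) -/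
theorem cover_10_8 {S : Subgroup G} {K : Subgroup S} {g₂ : X₂ →* S} {g₁ : X₁ →* S}
    (hp : PrimeTI K g₂ g₁) {H : Subgroup G} (hW : ∀ x, (g₁ x : G) ∈ H)
    (hall : Nat.Coprime (Nat.card H) H.index)
    (hc : ∀ a ∈ H, a ≠ 1 → Subgroup.centralizer ({a} : Set G) ≤ S)
    (hF : ∀ a ∈ H, a ≠ 1 → ∀ x : S, x ∈ K → (x : G) * a = a * x → (x : G) ∈ H) {x : G}
    (hx : ¬ Nat.Coprime (orderOf x) (Nat.card X₁)) :
    x ∈ conjSupport ((H : Set G) \ {1}) ∪
      cycVConj (S.subtype.comp g₁) (S.subtype.comp g₂) := by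
  classical
  have := Fintype.ofFinite S
  obtain ⟨p, hpp, hpx, hpw⟩ := Nat.Prime.not_coprime_iff_dvd.1 hx
  have hx0 : orderOf x ≠ 0 := (orderOf_pos x).ne'
  set a := x ^ (orderOf x / p) with ha
  have hoa : orderOf a = p := orderOf_pow_orderOf_div hx0 hpx
  have hpH : p ∣ Nat.card H := by
    refine hpw.trans ?_
    refine Subgroup.card_dvd_of_injective ((S.subtype.comp g₁).codRestrict H hW) ?_
    intro u v e
    have e' : (g₁ u : G) = g₁ v := congrArg (fun t : H => (t : G)) e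
    exact hp.inj₂ (Subtype.ext e')
  obtain ⟨g, hg⟩ := exists_conj_mem_of_not_dvd_index (H := H) (a := a) (hoa ▸ hpp) (by
    rw [hoa]
    intro hd
    exact hpp.one_lt.ne' (Nat.eq_one_of_dvd_coprimes hall hpH hd))
  have ha1 : g * a * g⁻¹ ≠ 1 := by
    intro e
    have : a = 1 := by simpa [mul_inv_eq_one] using e
    rw [this, orderOf_one] at hoa
    exact hpp.one_lt.ne hoa
  have hcomm : (g * x * g⁻¹) * (g * a * g⁻¹) = (g * a * g⁻¹) * (g * x * g⁻¹) := by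
    have : x * a = a * x := (Commute.self_pow x _).eq
    calc (g * x * g⁻¹) * (g * a * g⁻¹) = g * (x * a) * g⁻¹ := by group
      _ = _ := by rw [this]; group
  have hxS : g * x * g⁻¹ ∈ S :=
    hc _ hg ha1 (Subgroup.mem_centralizer_singleton_iff.2 hcomm)
  have hox : orderOf (g * x * g⁻¹) = orderOf x := by
    rw [← MulAut.conj_apply, MulEquiv.orderOf_eq]
  by_cases hK : (⟨_, hxS⟩ : S) ∈ K
  · refine Or.inl (mem_conjSupport.2 ⟨g, hF _ hg ha1 _ hK hcomm, fun e => ?_⟩)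
    rw [Set.mem_singleton_iff.1 e, orderOf_one] at hox
    rw [← hox] at hpx
    exact hpp.one_lt.ne' (Nat.dvd_one.1 hpx)
  · obtain ⟨m, y, z, hy, e⟩ := hp.exists_conj_of_not_mem hK
    have e' := congrArg Subtype.val e
    simp only [Subgroup.coe_mul, Subgroup.coe_inv] at e'
    by_cases hz : z = 1
    · exfalso
      rw [hz, map_one, Subgroup.coe_one, mul_one] at e'
      have : orderOf x = orderOf y := by
        rw [← hox, e', ← MulAut.conj_apply, MulEquiv.orderOf_eq, Subgroup.orderOf_coe,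
          orderOf_injective g₂ hp.inj₁]
      rw [this] at hpx
      exact hpp.one_lt.ne' (Nat.eq_one_of_dvd_coprimes hp.cycTI.coprime
        (hpx.trans (orderOf_dvd_natCard y)) hpw)
    · refine Or.inr (mem_cycVConj_of_conj (m := g) ⟨m, _, mem_cycV hz hy, ?_⟩)
      rw [e']
      simp only [MonoidHom.comp_apply, Subgroup.subtype_apply]
      rw [← Subgroup.coe_mul, hp.cycTI.comm, Subgroup.coe_mul]

end Cover

theorem arith_10_8 {k w₁ w₂ h u : ℕ} {D : ℝ} (hw₁ : 3 ≤ w₁) (hw₂ : 0 < w₂) (hu : 7 ≤ u)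
    (hh : 0 < h) (hk : (2 * w₁ + 1) * w₂ ≤ k)
    (h1 : 1 - (w₁ : ℝ) / k - ((k : ℝ) - 1) / (w₁ * k) ≤ D)
    (h2 : D ≤ ((h : ℝ) - 1) / (h * u * w₂) + ((w₁ : ℝ) - 1) * (w₂ - 1) / (w₁ * w₂)) : False := by
  have hw₁' : (3 : ℝ) ≤ w₁ := by exact_mod_cast hw₁
  have hw₂' : (0 : ℝ) < w₂ := by exact_mod_cast hw₂
  have hu' : (7 : ℝ) ≤ u := by exact_mod_cast hu
  have hh' : (0 : ℝ) < h := by exact_mod_cast hh
  have hk' : (2 * (w₁ : ℝ) + 1) * w₂ ≤ k := by exact_mod_cast hk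
  have hk0 : (0 : ℝ) < k := lt_of_lt_of_le (by positivity) hk'
  have e1 : (w₁ : ℝ) / k ≤ 1 / 2 / w₂ := by
    rw [div_div, div_le_div_iff₀ hk0 (by positivity)]
    nlinarith
  have e2 : ((k : ℝ) - 1) / (w₁ * k) ≤ 1 / w₁ := by
    rw [div_le_div_iff₀ (by positivity) (by positivity)]
    nlinarith
  have e3 : ((h : ℝ) - 1) / (h * u * w₂) ≤ 1 / 7 / w₂ := by
    rw [div_div, div_le_div_iff₀ (by positivity) (by positivity)]
    have : (h : ℝ) * 7 * w₂ ≤ h * u * w₂ := by gcongr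
    nlinarith
  have e4 : ((w₁ : ℝ) - 1) * (w₂ - 1) / (w₁ * w₂) = 1 - 1 / w₁ - 1 / w₂ + 1 / w₁ / w₂ := by
    field_simp
    ring
  have e5 : 1 / (w₁ : ℝ) / w₂ ≤ 1 / 3 / w₂ := by gcongr
  have e6 : (0 : ℝ) < 1 / w₂ := by positivity
  have e7 : ∀ c : ℝ, c / w₂ = c * (1 / w₂) := fun c => by ring
  rw [e7] at e1 e3 e5
  rw [e4, e7 (1 / w₁)] at h2
  rw [e7 (1 / 3)] at e5
  linarith

section Dade
variable {G X₁ X₂ : Type*} [Group G] [Fintype G] [Group X₁] [Group X₂] [Finite X₁] [Finite X₂]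
  {L : Subgroup G} [Fintype L] {K : Subgroup L} {f₁ : X₁ →* L} {f₂ : X₂ →* L} {A A₀ : Set G}
  {R : G → Subgroup G} {d : ℕ} {δ : ℤ} {n : ℕ} {ζ : L → ℂ} {τ₁ : (L → ℂ) → (G → ℂ)}

/-- the character-theoretic content of (10.7) -/
theorem Hyp104.false_of_partner (h : Hyp104 L K f₁ f₂ A A₀ R d δ n ζ)
    (hτ : CoherentWith (seqIndD K K ⊥) (dadeIsometry A₀ L R) τ₁)
    {S : Subgroup G} [Fintype S] {K' H' : Subgroup S} {g₂ : X₂ →* S} {g₁ : X₁ →* S}
    {B B₀ : Set G} {R' : G → Subgroup G} (h' : PrimeDade S K' H' g₂ g₁ B B₀ R')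
    (hodd : Odd (Nat.card S)) (e₁ : S.subtype.comp g₁ = L.subtype.comp f₁)
    (e₂ : S.subtype.comp g₂ = L.subtype.comp f₂)
    (hd : Disjoint (dadeSupp A R) (dadeSupp B R')) {lam : S → ℂ} (hl : lam ∈ seqIndD K' H' ⊥)
    (hli : IsIrrCharacter S lam) {r : X₁ →* ℂˣ} (hr : muCol g₂ g₁ r ∈ seqIndD K' H' ⊥)
    (hdeg : muCol g₂ g₁ r 1 = lam 1) : False := by
  classical
  obtain ⟨B', hB', -⟩ := h'.t5_3b hodd
  obtain ⟨T, hrT, hlT, hT, hcoh⟩ := pair_degree_coherence hB' hr hl hdeg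
  obtain ⟨τ₂, hτ₂⟩ := coherent_exists hcoh
  have hS : ConjSub (seqIndD K K ⊥) (seqIndD K K ⊥) := seqIndD_conjSub subset_rfl
  have oST : ∀ φ ∈ zspanOn (seqIndD K K ⊥) {1}ᶜ, ∀ ψ ∈ zspanOn T {1}ᶜ,
      classInner (dadeIsometry A₀ L R φ) (dadeIsometry B₀ S R' ψ) = 0 := by
    intro φ hφ ψ hψ
    have h1 := h.pd.zspanOn_subset hφ
    have h2 := h'.zspanOn_subset (zspanOn_mono hT.subset hψ)
    exact disjoint_dade_ortho h.pd.dade h'.dade hd (gen_isClassFunction h1.1)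
      (gen_isClassFunction h2.1) h1.2 h2.2
  have hl' := hT.conj_mem _ hlT
  have o1 : classInner (τ₁ ζ) (τ₂ lam) = 0 := by
    have d1 : ζ 1 = conjFun ζ 1 := by rw [h.deg, h.conjug.deg]
    have d2 : lam 1 = conjFun lam 1 := (char_conjFun_apply_one (irr_isCharacter hli)).symm
    have t1 := hτ.sub (mem_zspan h.mem) (mem_zspan h.conjug.mem) d1
    have t2 := hτ₂.sub (mem_zspan hlT) (mem_zspan hl') d2
    refine signedIrr_ortho_of_sub_sub (β := τ₁ (conjFun ζ)) (δ := τ₂ (conjFun lam))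
      (iso_isSignedIrr hτ.iso (mem_zspan h.mem) h.irr)
      (iso_isSignedIrr hτ.iso (mem_zspan h.conjug.mem) h.conjug.irr)
      (iso_isSignedIrr hτ₂.iso (mem_zspan hlT) hli)
      (iso_isSignedIrr hτ₂.iso (mem_zspan hl') (irr_conjFun hli)) ?_ ?_ ?_ ?_ ?_
    · rw [hτ.inner (mem_zspan h.mem) (mem_zspan h.conjug.mem), h.zeta_inner_conj]
    · rw [hτ₂.inner (mem_zspan hlT) (mem_zspan hl'), subcoh_inner_conj hB' hl]
    · have := Dade.apply_one h.pd.dade (ζ - conjFun ζ)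
      rwa [t1, Pi.sub_apply, sub_eq_zero] at this
    · have := Dade.apply_one h'.dade (lam - conjFun lam)
      rwa [t2, Pi.sub_apply, sub_eq_zero] at this
    · rw [← t1, ← t2]
      exact oST _ (sub_mem_zspanOn_one (mem_zspan h.mem) (mem_zspan h.conjug.mem) d1) _
        (sub_mem_zspanOn_one (mem_zspan hlT) (mem_zspan hl') d2)
  obtain ⟨j, hj⟩ := h.cyc.exists_dual_ne_one₂
  have hμ : muCol f₁ f₂ j ∈ seqIndD K K ⊥ := h.pti.muCol_mem h.pti.le₂ hj
  have d3 : muCol f₁ f₂ j 1 = (d : ℤ) * ζ 1 := by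
    rw [h.const.muCol_apply_one h.pti hj, h.deg, Int.cast_natCast]
  have key := oST _ (sub_zsmul_mem_zspanOn_one (mem_zspan hμ) (mem_zspan h.mem) d3) _
    (sub_mem_zspanOn_one (mem_zspan hrT) (mem_zspan hlT) hdeg)
  have oζ := h.pd.coherent_orthEta h.odd hS.subset hS.conj_mem hτ h.mem h.irr
  have ol := h'.coherent_orthEta hodd hT.subset hT.conj_mem hτ₂ hlT hli
  rw [e₁, e₂, h.cyc.orthEta_swap] at ol
  have hν : ∃ (ε : ℂ) (r' : X₁ →* ℂˣ), ε ≠ 0 ∧
      τ₂ (muCol g₂ g₁ r) = ε • etaRow (L.subtype.comp f₁) (L.subtype.comp f₂) r' := by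
    have hδ : (delta g₂ g₁ r : ℂ) ≠ 0 := by
      rcases delta_eq (f₁ := g₂) (f₂ := g₁) r with e | e <;> simp [e]
    rcases h'.t5_8 hodd hT.subset hT.conj_mem hτ₂ ⟨lam, hlT, hli⟩ hrT with e | ⟨e, -⟩
    · exact ⟨_, r, hδ, by rw [e, e₁, e₂, h.cyc.etaCol_swap]⟩
    · exact ⟨-(delta g₂ g₁ r : ℂ), r⁻¹, neg_ne_zero.2 hδ, by
        rw [e, e₁, e₂, h.cyc.etaCol_swap, neg_smul]⟩
  obtain ⟨ε, r', hε, hν⟩ := hν
  have i1 : classInner (etaCol (L.subtype.comp f₁) (L.subtype.comp f₂) j)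
      (etaRow (L.subtype.comp f₁) (L.subtype.comp f₂) r') = 1 := by
    unfold etaRow
    rw [classInner_sum_right]
    simp only [h.cyc.etaCol_inner_eta]
    rw [Finset.sum_ite_eq]
    simp
  have i2 : classInner (τ₁ ζ) (etaRow (L.subtype.comp f₁) (L.subtype.comp f₂) r') = 0 := by
    unfold etaRow
    rw [classInner_sum_right]
    exact Finset.sum_eq_zero fun b _ => oζ r' b
  have i3 := classInner_eq_zero_comm.1 (ol.inner_etaCol j)
  rw [hτ.sub_zsmul (mem_zspan hμ) (mem_zspan h.mem) d3,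
    hτ₂.sub (mem_zspan hrT) (mem_zspan hlT) hdeg, h.tau_muCol hS hτ h.mem hj hμ, hν] at key
  simp only [classInner_sub_left, classInner_sub_right, classInner_smul_left,
    classInner_smul_right, classInner_zsmul_left, i1, i2, i3, o1, mul_zero, mul_one,
    sub_zero, mul_eq_zero, map_eq_zero] at key
  rcases key with e | e
  · exact hε e
  · rcases h.delta_cases with e' | e' <;> simp [e'] at e

/-- the estimate in the proof of (10.8) -/
theorem Hyp104.estimate (h : Hyp104 L K f₁ f₂ A A₀ R d δ n ζ)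
    (hτ : CoherentWith (seqIndD K K ⊥) (dadeIsometry A₀ L R) τ₁)
    (hb : 2 * Nat.card X₁ + 1 ≤ Nat.card K) {D : Set G}
    (hD : ∀ g, ¬ Nat.Coprime (orderOf g) (Nat.card X₁) → g ∈ D) :
    1 - (Nat.card X₁ : ℝ) / Nat.card K - ((Nat.card K : ℝ) - 1) / (Nat.card X₁ * Nat.card K) ≤
      (D.ncard : ℝ) / Nat.card G := by
  classical
  have h78 : Hyp78 L K A A₀ R τ₁ ζ :=
    { h.pd.hyp76 with
      odd := h.odd
      coh := hτ
      mem := h.mem
      irr := h.irr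
      deg := by rw [h.deg, h.pti.index_eq] }
  have h1 := h78.norm_invDade_nu_zeta_ge (by rwa [h.pti.index_eq])
  have h2 := dade_cover_inequality₁ h.pd.hyp76.dade (h78.nu_classFun (mem_zspan h.mem))
    h78.nu_zeta_norm
  rw [h.pd.hyp76.card_A_div, h.pti.index_eq] at h2
  rw [h.pti.index_eq] at h1
  obtain ⟨j, hj⟩ := h.cyc.exists_dual_ne_one₂
  have hμ : muCol f₁ f₂ j ∈ seqIndD K K ⊥ := h.pti.muCol_mem h.pti.le₂ hj
  have h3 : -(D.ncard : ℝ) ≤ ∑ g : G, if g ∉ dadeSupp A R then ‖τ₁ ζ g‖ ^ 2 - 1 else 0 := by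
    have : (D.ncard : ℝ) = ∑ g : G, if g ∈ D then 1 else 0 := by
      rw [Finset.sum_boole, Set.ncard_eq_toFinset_card' D]
      congr 2
      ext g; simp
    rw [this, ← Finset.sum_neg_distrib]
    refine Finset.sum_le_sum fun g _ => ?_
    have h0 : 0 ≤ ‖τ₁ ζ g‖ ^ 2 := by positivity
    by_cases hg : g ∈ D
    · rw [if_pos hg]
      split_ifs <;> linarith
    · rw [if_neg hg, neg_zero]
      split_ifs with hg'
      · exact le_rfl
      · have := h.one_le_norm (seqIndD_conjSub subset_rfl) hτ h.mem hj hμ hg'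
          (by_contra fun hc => hg (hD g hc))
        nlinarith
  have hG : (0 : ℝ) < Nat.card G := by exact_mod_cast Nat.card_pos
  have h4 := mul_le_mul_of_nonneg_left h3 (inv_pos.2 hG).le
  rw [div_eq_inv_mul (D.ncard : ℝ)]
  linarith

/-- the final contradiction of (10.8) -/
theorem Hyp104.false_of_frobenius (h : Hyp104 L K f₁ f₂ A A₀ R d δ n ζ)
    (hτ : CoherentWith (seqIndD K K ⊥) (dadeIsometry A₀ L R) τ₁)
    (hW₂ : f₂.range ≤ ⁅K, K⁆) (hK : ⁅K, K⁆ ≠ K)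
    {S : Subgroup G} {K' : Subgroup S} {g₂ : X₂ →* S} {g₁ : X₁ →* S} (hp : PrimeTI K' g₂ g₁)
    (e₁ : S.subtype.comp g₁ = L.subtype.comp f₁) (e₂ : S.subtype.comp g₂ = L.subtype.comp f₂)
    {H : Subgroup G} (hW : ∀ x, (g₁ x : G) ∈ H) (hall : Nat.Coprime (Nat.card H) H.index)
    (hN : ∀ x ∈ S, ∀ a ∈ (H : Set G) \ {1}, x * a * x⁻¹ ∈ (H : Set G) \ {1})
    (hTI : ∀ g : G, ∀ a ∈ (H : Set G) \ {1}, g * a * g⁻¹ ∈ (H : Set G) \ {1} → g ∈ S)
    (hF : ∀ a ∈ H, a ≠ 1 → ∀ x : S, x ∈ K' → (x : G) * a = a * x → (x : G) ∈ H)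
    {u : ℕ} (hu : 7 ≤ u) (hS : Nat.card S = Nat.card H * u * Nat.card X₂) : False := by
  have hk := h.pti.card_ge h.odd hW₂ hK
  have hw₂ : 0 < Nat.card X₂ := Nat.card_pos
  have h1 := h.estimate hτ (le_trans (Nat.le_mul_of_pos_right _ hw₂) hk)
    (D := conjSupport ((H : Set G) \ {1}) ∪ cycVConj (L.subtype.comp f₁) (L.subtype.comp f₂))
    fun g hg => by
      rw [← e₁, ← e₂]
      refine cover_10_8 hp hW hall (fun a ha h1 c hc => hTI c a ⟨ha, h1⟩ ?_) hF hg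
      rw [Subgroup.mem_centralizer_singleton_iff.1 hc, mul_inv_cancel_right]
      exact ⟨ha, h1⟩
  refine arith_10_8 h.cyc.three_le₁ hw₂ hu (Nat.card_pos (α := H)) hk h1 ?_
  have hG : (0 : ℝ) < Nat.card G := by exact_mod_cast Nat.card_pos
  have c1 := ncard_conjSupport_TI hN hTI
  rw [ncard_sharp] at c1
  have c2 := h.cyc.ncard_cycVConj
  have c3 := Set.ncard_union_le (conjSupport ((H : Set G) \ {1}))
    (cycVConj (L.subtype.comp f₁) (L.subtype.comp f₂))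
  have hH1 : 1 ≤ Nat.card H := Nat.card_pos
  have hw₁ : 1 ≤ Nat.card X₁ := Nat.card_pos
  have c4 : ((conjSupport ((H : Set G) \ {1})).ncard : ℝ) / Nat.card G =
      ((Nat.card H : ℝ) - 1) / (Nat.card H * u * Nat.card X₂) := by
    have hi : (0 : ℝ) < S.index := by
      exact_mod_cast Nat.pos_of_ne_zero Subgroup.index_ne_zero_of_finite
    rw [c1, ← S.card_mul_index, hS]
    push_cast [hH1]
    have : (0 : ℝ) < u := by exact_mod_cast (by omega : 0 < u)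
    have : (0 : ℝ) < Nat.card H := by exact_mod_cast hH1
    have : (0 : ℝ) < Nat.card X₂ := by exact_mod_cast hw₂
    field_simp
  have c5 : ((cycVConj (L.subtype.comp f₁) (L.subtype.comp f₂)).ncard : ℝ) / Nat.card G =
      ((Nat.card X₁ : ℝ) - 1) * (Nat.card X₂ - 1) / (Nat.card X₁ * Nat.card X₂) := by
    have : (0 : ℝ) < Nat.card X₁ := by exact_mod_cast hw₁
    have : (0 : ℝ) < Nat.card X₂ := by exact_mod_cast hw₂
    rw [div_eq_div_iff hG.ne' (by positivity)]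
    have := congrArg (Nat.cast : ℕ → ℝ) c2
    push_cast [hw₁, Nat.succ_le_of_lt hw₂] at this
    linarith
  rw [← c4, ← c5, ← add_div]
  gcongr
  exact_mod_cast c3

end Dade

end CL.PF
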