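import Cfsg.Agent.PF.A10_Non

/-!
# Peterfalvi (10.10.1) to (10.10.4) in abstract form
-/

set_option autoImplicit false
set_option linter.unusedSectionVars false

namespace CL.PF

open Cfsg CL.Char

section Group

/-- the derived subgroup of a nonabelian group of order `p³` has order `p` -/
theorem card_commutator_of_card_eq_cube {P : Type*} [Group P] [Finite P] {p : ℕ} (hp : p.Prime)
    (hP : Nat.card P = p ^ 3) (hna : commutator P ≠ ⊥) : Nat.card (commutator P) = p := by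
  have := Fact.mk hp
  have hG : IsPGroup p P := IsPGroup.of_card hP
  have hnt : Nontrivial P := by
    rw [← Finite.one_lt_card_iff_nontrivial, hP]
    exact Nat.one_lt_pow (by norm_num) hp.one_lt
  have hZ : Nontrivial (Subgroup.center P) := hG.center_nontrivial
  have hmul := (Subgroup.center P).card_mul_index
  have hd : (Subgroup.center P).index ∣ p ^ 2 := by
    obtain ⟨k, hk⟩ := (hG.to_subgroup (Subgroup.center P)).nontrivial_iff_card.1 hZ
    rw [hk.2, hP] at hmul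
    obtain ⟨m, rfl⟩ : ∃ m, k = m + 1 := ⟨k - 1, by omega⟩
    refine Nat.dvd_of_mul_dvd_mul_left hp.pos ?_
    rw [← pow_succ', ← hmul, pow_succ']
    exact mul_dvd_mul (dvd_mul_right _ _) dvd_rfl
  obtain ⟨k, hk2, hk⟩ := (Nat.dvd_prime_pow hp).1 hd
  have hk' : k = 2 := by
    by_contra hne
    have hc : IsCyclic (P ⧸ Subgroup.center P) := by
      have hk1 : k = 0 ∨ k = 1 := by omega
      rcases hk1 with rfl | rfl
      · have : Subsingleton (P ⧸ Subgroup.center P) := by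
          rw [← Finite.card_le_one_iff_subsingleton, ← Subgroup.index_eq_card, hk, pow_zero]
        exact isCyclic_of_subsingleton
      · exact isCyclic_of_prime_card (p := p) (by rw [← Subgroup.index_eq_card, hk, pow_one])
    refine hna (commutator_eq_bot_of_comm fun a b => ?_)
    exact commutative_of_cyclic_center_quotient (QuotientGroup.mk' (Subgroup.center P))
      (by rw [QuotientGroup.ker_mk']) a b
  subst hk'
  have hZc : Nat.card (Subgroup.center P) = p := by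
    rw [hk, hP, pow_succ' p 2] at hmul
    exact Nat.eq_of_mul_eq_mul_right (pow_pos hp.pos 2) hmul
  have hle : commutator P ≤ Subgroup.center P := by
    have hc := IsPGroup.commutative_of_card_eq_prime_sq (p := p) (G := P ⧸ Subgroup.center P)
      (by rw [← Subgroup.index_eq_card, hk])
    rw [commutator_def, Subgroup.commutator_le]
    intro a _ b _
    rw [← QuotientGroup.eq_one_iff, commutatorElement_def]
    simp only [QuotientGroup.mk_mul, QuotientGroup.mk_inv]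
    rw [hc (a : P ⧸ Subgroup.center P) b]
    group
  have hdv := Subgroup.card_dvd_of_le hle
  rw [hZc] at hdv
  rcases (Nat.dvd_prime hp).1 hdv with e | e
  · exact absurd (Subgroup.card_eq_one.1 e) hna
  · exact e

theorem arith_10_10_1 {p w : ℕ} (hp : Odd p) (hw : Odd w) (h3 : 3 ≤ w) (hd : w ∣ p + 1)
    (hle : p ^ 2 ≤ 4 * w ^ 2 + 1) : p + 1 = 2 * w := by
  obtain ⟨k, hk⟩ := hd
  obtain ⟨a, ha⟩ := hp
  have hke : Even k := by
    rcases Nat.even_or_odd k with h | h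
    · exact h
    · obtain ⟨b, hb⟩ := hw.mul h
      omega
  obtain ⟨m, rfl⟩ := hke
  have hm : m = 1 := by
    rcases Nat.lt_trichotomy m 1 with h | h | h
    · have : m = 0 := by omega
      subst this; omega
    · exact h
    · exfalso
      have h4 : w * 4 ≤ w * (m + m) := Nat.mul_le_mul_left _ (by omega)
      have h5 : 3 * w ≤ p := by omega
      have := Nat.pow_le_pow_left h5 2
      nlinarith
  subst hm
  omega

variable {L X₁ X₂ : Type*} [Group L] [Fintype L] [Group X₁] [Group X₂] [Finite X₁] [Finite X₂]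
  {K : Subgroup L} {f₁ : X₁ →* L} {f₂ : X₂ →* L}

theorem card_der_eq (K : Subgroup L) : Nat.card ↥⁅K, K⁆ = Nat.card (commutator K) := by
  rw [← Subgroup.map_subtype_commutator, Subgroup.card_map_of_injective K.subtype_injective]

theorem card_der_mul_relIndex (K : Subgroup L) :
    Nat.card ↥⁅K, K⁆ * ⁅K, K⁆.relIndex K = Nat.card K := by
  rw [← Subgroup.card_mul_index (⁅K, K⁆.subgroupOf K),
    Nat.card_congr (Subgroup.subgroupOfEquivOfLe (der_le_self K)).toEquiv]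
  rfl

/-- `|S(K')| w₁ = |K : K'| - 1` -/
theorem PrimeTI.card_seqIndD_der (h : PrimeTI K f₁ f₂) (hW : f₂.range ≤ ⁅K, K⁆)
    (T : Finset (L → ℂ)) (hT : ↑T = seqIndD K K ⁅K, K⁆) :
    T.card * Nat.card X₁ + 1 = ⁅K, K⁆.relIndex K := by
  have := h.normal
  have h1 := sum_inducedIrrAbove_deg_sq (der_le_self K) T (by rw [hT, inducedIrrAbove_eq])
  rw [Finset.sum_congr rfl (g := fun _ => (Nat.card X₁ : ℝ) ^ 2) fun φ hφ => by
    obtain ⟨hi, hd⟩ := h.irr_of_mem_seqIndD_der hW (hT ▸ Finset.mem_coe.2 hφ)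
    rw [rip_eq_one_of (irr_inner_self hi), hd, Complex.natCast_re, div_one],
    Finset.sum_const, h.index_eq, nsmul_eq_mul] at h1
  have hw : (0 : ℝ) < Nat.card X₁ := by exact_mod_cast Nat.card_pos
  have : (T.card : ℝ) * Nat.card X₁ + 1 = ⁅K, K⁆.relIndex K := by
    have := mul_left_cancel₀ hw.ne' (show (Nat.card X₁ : ℝ) * (T.card * Nat.card X₁) =
      Nat.card X₁ * ((⁅K, K⁆.relIndex K : ℝ) - 1) by rw [← h1]; ring)
    linarith
  exact_mod_cast this

/-- (10.10.2): the members of `S` whose kernel does not contain `K'` are the `μ_j` -/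
theorem Const10.of_card_eq_cube {d : ℕ} {δ : ℤ} {n : ℕ} (c : Const10 f₁ f₂ d δ n)
    (h : PrimeTI K f₁ f₂) (hW : f₂.range ≤ ⁅K, K⁆) {p : ℕ} (hp : p.Prime)
    (hK : Nat.card K = p ^ 3) (hi : ⁅K, K⁆.relIndex K = p ^ 2) (hw : Nat.card X₂ = p) :
    d = p ∧ ∀ φ ∈ seqIndD K ⁅K, K⁆ ⊥, ∃ j, j ≠ 1 ∧ φ = muCol f₁ f₂ j := by
  classical
  have := h.normal
  obtain ⟨j₀, hj₀⟩ := h.cycTI.exists_dual_ne_one₂
  have hpd : p ≤ d := by
    have h1 := irr_deg_dvd_card (h.chiRes_irr j₀)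
    rw [deg_eq_of_apply_one (show chiRes K f₁ f₂ j₀ 1 = d from c.deg 1 j₀ hj₀), hK] at h1
    obtain ⟨k, -, rfl⟩ := (Nat.dvd_prime_pow hp).1 h1
    have := c.one_lt
    rcases k with _ | k
    · simp at this
    · rw [pow_succ']
      exact Nat.le_mul_of_pos_right _ (pow_pos hp.pos k)
  set T := (seqIndD_finite K ⁅K, K⁆ ⊥).toFinset with hT
  have h1 := sum_seqIndD_deg_sq' (der_le_self K) bot_le T (by simp [hT])
  rw [sup_bot_eq, hi, Subgroup.relIndex_bot_left, hK, h.index_eq] at h1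
  set T₀ := (Finset.univ.erase (1 : X₂ →* ℂˣ)).image (muCol f₁ f₂) with hT₀
  have hsub : T₀ ⊆ T := by
    intro φ hφ
    obtain ⟨j, hj, rfl⟩ := Finset.mem_image.1 hφ
    simpa [hT] using h.muCol_mem hW (Finset.ne_of_mem_erase hj)
  have hw₁ : (0 : ℝ) < Nat.card X₁ := by exact_mod_cast Nat.card_pos
  have h2 : ∑ φ ∈ T₀, (φ 1).re ^ 2 / rip φ φ = ((p : ℝ) - 1) * (Nat.card X₁ * d ^ 2) := by
    rw [hT₀, Finset.sum_image fun a _ b _ e => h.muCol_inj e,
      Finset.sum_congr rfl (g := fun _ => (Nat.card X₁ : ℝ) * d ^ 2) fun j hj => by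
        have e1 : classInner (muCol f₁ f₂ j) (muCol f₁ f₂ j) = (Nat.card X₁ : ℕ) := by
          rw [h.muCol_inner, if_pos rfl]
        rw [rip_of_classInner_eq_nat e1, c.muCol_apply_one h (Finset.ne_of_mem_erase hj),
          ← Nat.cast_mul, Complex.natCast_re]
        push_cast
        field_simp,
      Finset.sum_const, Finset.card_erase_of_mem (Finset.mem_univ _), Finset.card_univ,
      h.cycTI.fintype_card_dual₂, hw, nsmul_eq_mul, Nat.cast_sub hp.one_le, Nat.cast_one]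
  have hpos : ∀ φ ∈ T, 0 < (φ 1).re ^ 2 / rip φ φ := by
    intro φ hφ
    have hφ' : φ ∈ seqIndD K ⁅K, K⁆ ⊥ := by simpa [hT] using hφ
    obtain ⟨e, he, e1⟩ := seqIndD_deg hφ'
    refine div_pos ?_ (rip_self_pos (seqIndD_ne_zero hφ'))
    rw [e1, h.index_eq, ← Nat.cast_mul, Complex.natCast_re]
    push_cast
    positivity
  have h3 := Finset.sum_sdiff (f := fun φ : L → ℂ => (φ 1).re ^ 2 / rip φ φ) hsub
  rw [h1, h2] at h3
  have h4 : 0 ≤ ∑ φ ∈ T \ T₀, (φ 1).re ^ 2 / rip φ φ :=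
    Finset.sum_nonneg fun φ hφ => (hpos φ (Finset.mem_sdiff.1 hφ).1).le
  have hp1 : (1 : ℝ) < p := by exact_mod_cast hp.one_lt
  have hpd' : (p : ℝ) ≤ d := by exact_mod_cast hpd
  have h5 : (p : ℝ) ^ 2 ≤ d ^ 2 := by gcongr
  have h6 : 0 < ((p : ℝ) - 1) * Nat.card X₁ := mul_pos (by linarith) hw₁
  push_cast at h3
  have h7 : ∑ φ ∈ T \ T₀, (φ 1).re ^ 2 / rip φ φ +
      ((p : ℝ) - 1) * Nat.card X₁ * (d ^ 2 - p ^ 2) = 0 := by linear_combination h3
  have h8 : 0 ≤ ((p : ℝ) - 1) * Nat.card X₁ * (d ^ 2 - p ^ 2) := mul_nonneg h6.le (by linarith)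
  constructor
  · have h9 : ((p : ℝ) - 1) * Nat.card X₁ * (d ^ 2 - p ^ 2) = 0 := by linarith
    have h10 : (d : ℝ) ^ 2 = p ^ 2 := by
      have := (mul_eq_zero.1 h9).resolve_left h6.ne'
      linarith
    have : d ^ 2 = p ^ 2 := by exact_mod_cast h10
    exact Nat.pow_left_injective two_ne_zero this
  · intro φ hφ
    by_contra hc
    have hφ' : φ ∈ T \ T₀ := by
      refine Finset.mem_sdiff.2 ⟨by simpa [hT] using hφ, fun h0 => hc ?_⟩
      obtain ⟨j, hj, rfl⟩ := Finset.mem_image.1 h0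
      exact ⟨j, Finset.ne_of_mem_erase hj, rfl⟩
    have := Finset.single_le_sum (f := fun φ : L → ℂ => (φ 1).re ^ 2 / rip φ φ)
      (fun ψ hψ => (hpos ψ (Finset.mem_sdiff.1 hψ).1).le) hφ'
    have := hpos φ (Finset.mem_sdiff.1 hφ').1
    linarith

end Group

section Dade
variable {G X₁ X₂ : Type*} [Group G] [Fintype G] [Group X₁] [Group X₂] [Finite X₁] [Finite X₂]
  {L : Subgroup G} [Fintype L] {K : Subgroup L} {f₁ : X₁ →* L} {f₂ : X₂ →* L} {A A₀ : Set G}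
  {R : G → Subgroup G} {d : ℕ} {δ : ℤ} {n : ℕ} {ζ : L → ℂ} {τ₁ : (L → ℂ) → (G → ℂ)}

local notation "τ" => dadeIsometry A₀ L R
local notation "η" => eta (L.subtype.comp f₁) (L.subtype.comp f₂)
local notation "ηc" => etaCol (L.subtype.comp f₁) (L.subtype.comp f₂)
local notation "α" => alpha10 f₁ f₂ δ n ζ

theorem Hyp104.tau_alpha_of_inner (h : Hyp104 L K f₁ f₂ A A₀ R d δ n ζ) (i : X₁ →* ℂˣ)
    {j : X₂ →* ℂˣ} (hj : j ≠ 1) {Z : G → ℂ} (hZ : IsGeneralizedCharacter G Z)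
    (hn : classInner Z Z = 1) (ho : OrthEta (L.subtype.comp f₁) (L.subtype.comp f₂) Z)
    (hb : classInner (τ (α i j)) Z = -(n : ℂ)) :
    τ (α i j) = (δ : ℂ) • (η i j - η i 1) - (n : ℂ) • Z := by
  have gα := h.tau_alpha_gen i hj
  have := h.eq_of_norm_two i hj (X := τ (α i j) + (n : ℂ) • Z) (Y := -((n : ℂ) • Z))
    (by abel) (gen_neg (by simpa using gen_intCast_smul (n : ℤ) hZ))
    (fun a b => by rw [classInner_neg_left, classInner_smul_left, ho a b]; simp) (by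
      rw [classInner_add_left, classInner_add_right, classInner_add_right, classInner_smul_left,
        classInner_smul_right, classInner_smul_left, classInner_smul_right,
        gen_inner_comm hZ gα, hb, hn, h.tau_alpha_norm i hj, map_natCast]
      ring)
  rw [← this]; abel

/-- for `φ` in a coherent set of irreducible characters of degree `w₁` containing `ζ` -/
theorem Hyp104.tau_alpha_inner_of_ne (h : Hyp104 L K f₁ f₂ A A₀ R d δ n ζ) {S : Set (L → ℂ)}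
    (hS : S ⊆ seqIndD K K ⊥) (hτ : CoherentWith S τ τ₁) (hζ : ζ ∈ S) (i : X₁ →* ℂˣ)
    {j : X₂ →* ℂˣ} (hj : j ≠ 1) {φ : L → ℂ} (hφ : φ ∈ S) (hi : IsIrrCharacter L φ)
    (h1 : φ 1 = Nat.card X₁) (hne : φ ≠ ζ) :
    classInner (τ (α i j)) (τ₁ φ) = classInner (τ (α i j)) (τ₁ ζ) + n := by
  have e := h.tau_alpha_inner i hj
    (classFun_sub (irr_isClassFunction h.irr) (irr_isClassFunction hi))
  rw [hτ.sub (mem_zspan hζ) (mem_zspan hφ) (by rw [h.deg, h1]), classInner_sub_right,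
    classInner_sub_right, h.alpha_inner_zeta, h.alpha_inner_irr_of_ne i j (hS hφ) hi hne] at e
  linear_combination -e

/-- (10.10.3) -/
theorem Hyp104.tau_alpha_of_card (h : Hyp104 L K f₁ f₂ A A₀ R d δ n ζ) (hn : n = 2)
    {T : Finset (L → ℂ)} (hT : ConjSub ↑T (seqIndD K K ⊥))
    (hi : ∀ φ ∈ T, IsIrrCharacter L φ ∧ φ 1 = Nat.card X₁) (hc : 7 ≤ T.card)
    (hτ : CoherentWith ↑T τ τ₁) (hζ : ζ ∈ T) (i : X₁ →* ℂˣ) {j : X₂ →* ℂˣ} (hj : j ≠ 1) :
    τ (α i j) = (δ : ℂ) • (η i j - η i 1) - (n : ℂ) • τ₁ ζ := by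
  classical
  have gζ := hτ.gen (mem_zspan (Finset.mem_coe.2 hζ))
  obtain ⟨b, hb⟩ := gen_inner_int (h.tau_alpha_gen i hj) gζ
  have bes := bessel_orthonormal_le T τ₁
    (fun φ hφ => by rw [hτ.inner (mem_zspan hφ) (mem_zspan hφ), irr_inner_self (hi φ hφ).1])
    (fun φ hφ ψ hψ hne => by
      rw [hτ.inner (mem_zspan hφ) (mem_zspan hψ), irr_inner_of_ne (hi φ hφ).1 (hi ψ hψ).1 hne])
    (τ (α i j))
  rw [← Finset.add_sum_erase _ _ hζ, h.tau_alpha_norm i hj, hb,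
    Finset.sum_congr rfl (g := fun _ => ((b + n : ℤ) : ℝ) ^ 2) fun φ hφ => by
      have hφ' := Finset.mem_of_mem_erase hφ
      rw [h.tau_alpha_inner_of_ne hT.subset hτ hζ i hj hφ' (hi φ hφ').1 (hi φ hφ').2
        (Finset.ne_of_mem_erase hφ), hb, ← Int.cast_natCast, ← Int.cast_add,
        Complex.norm_intCast, sq_abs],
    Finset.sum_const, Finset.card_erase_of_mem hζ, Complex.norm_intCast, sq_abs, hn,
    nsmul_eq_mul] at bes
  have e6 : ((2 : ℂ) + ((2 : ℕ) : ℂ) ^ 2).re = 6 := by norm_num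
  rw [e6] at bes
  have bes' : b ^ 2 + ((T.card - 1 : ℕ) : ℤ) * (b + 2) ^ 2 ≤ 6 := by exact_mod_cast bes
  have h6 : (6 : ℤ) ≤ ((T.card - 1 : ℕ) : ℤ) := by omega
  have hb2 : b = -2 := by
    have h7 : b ^ 2 + 6 * (b + 2) ^ 2 ≤ 6 :=
      le_trans (by gcongr) bes'
    by_contra hne
    rcases lt_or_gt_of_ne hne with hlt | hlt
    · nlinarith
    · nlinarith
  refine h.tau_alpha_of_inner i hj gζ
    (by rw [hτ.inner (mem_zspan hζ) (mem_zspan hζ), irr_inner_self h.irr])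
    (h.pd.coherent_orthEta h.odd hT.subset hT.conj_mem hτ hζ h.irr) ?_
  rw [hb, hb2, hn]
  norm_num

/-- the computation in (10.10.4) -/
theorem Hyp104.tau_muCol_sub_of_lt (h : Hyp104 L K f₁ f₂ A A₀ R d δ n ζ)
    (hlt : Nat.card X₁ < Nat.card X₂) {Z : G → ℂ} (hZ : IsSignedIrr G Z)
    (ho : OrthEta (L.subtype.comp f₁) (L.subtype.comp f₂) Z) {j : X₂ →* ℂˣ} (hj : j ≠ 1)
    (hα : ∀ i, τ (α i j) = (δ : ℂ) • (η i j - η i 1) - (n : ℂ) • Z) :
    τ (muCol f₁ f₂ j - (d : ℂ) • ζ) = (δ : ℂ) • ηc j - (d : ℂ) • Z := by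
  classical
  obtain ⟨χ, e, gχ, nχ, oχ⟩ := h.pd.dade_bridge0 h.mem h.irr h.deg hlt
  have h1 := h.tau_alpha_inner 1 hj
    (classFun_sub (char_isClassFunction (h.pti.muCol_char 1)) (irr_isClassFunction h.irr))
  have e2 : ∀ a b, classInner (η a b) χ = 0 := fun a b => classInner_eq_zero_comm.1 (oχ a b)
  rw [e, hα 1, classInner_sub_right (α 1 j), h.alpha_inner_muCol, h.alpha_inner_zeta, if_neg hj,
    if_pos rfl] at h1
  simp only [classInner_sub_left, classInner_sub_right, classInner_smul_left, e2,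
    h.cyc.eta_inner_etaCol, ho.inner_etaCol, if_neg hj, if_true] at h1
  have hn : (n : ℂ) ≠ 0 := by
    have := h.const.two_le_n h.pti h.odd
    exact_mod_cast (by omega : n ≠ 0)
  have h2 : classInner Z χ = 1 := mul_left_cancel₀ hn (by linear_combination h1)
  have h3 : Z = χ := hZ.eq_of_inner_eq_one (isSignedIrr_of_norm_one gχ nχ) h2
  have h4 := h.tau_muCol_sub hα
  rw [e, ← h3] at h4
  rw [sub_eq_iff_eq_add.1 h4, h.const.eq_cast]
  funext g
  simp only [Pi.sub_apply, Pi.add_apply, Pi.smul_apply, smul_eq_mul]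
  ring

/-- (10.10.1) to (10.10.4) -/
theorem PrimeDade.coherent_of_card_eq_cube (h : PrimeDade L K K f₁ f₂ A A₀ R)
    (hodd : Odd (Nat.card L)) (hW : f₂.range ≤ ⁅K, K⁆) {p : ℕ} (hp : p.Prime)
    (hK : Nat.card K = p ^ 3) (hd : Nat.card X₁ ∣ p + 1)
    (hle : ⁅K, K⁆.relIndex K ≤ 4 * Nat.card X₁ ^ 2 + 1) :
    IsCoherent (seqIndD K K ⊥) {1}ᶜ τ := by
  classical
  have hP := h.primeTI
  have := hP.normal
  have hK' : Nat.card ↥⁅K, K⁆ = p := by
    rw [card_der_eq]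
    refine card_commutator_of_card_eq_cube hp hK fun e => hP.ne_bot₂ ?_
    rw [← Subgroup.map_subtype_commutator, e, Subgroup.map_bot] at hW
    exact le_bot_iff.1 hW
  have hi : ⁅K, K⁆.relIndex K = p ^ 2 := by
    have := card_der_mul_relIndex K
    rw [hK', hK, pow_succ' p 2] at this
    exact Nat.eq_of_mul_eq_mul_left hp.pos this
  have hw₂ : Nat.card X₂ = p := by
    have h1 := Subgroup.card_dvd_of_le hW
    rw [hK', ← Nat.card_congr (MonoidHom.ofInjective hP.inj₂).toEquiv] at h1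
    have := hP.cycTI.three_le₂
    rcases (Nat.dvd_prime hp).1 h1 with e | e
    · omega
    · exact e
  have h3 := hP.cycTI.three_le₁
  have hpw : p + 1 = 2 * Nat.card X₁ :=
    arith_10_10_1 (hw₂ ▸ hP.cycTI.odd₂) hP.cycTI.odd₁ h3 hd (hi ▸ hle)
  obtain ⟨d, δ, n, c⟩ := hP.exists_const10 hW (hw₂ ▸ hp)
  obtain ⟨hdp, hmu⟩ := c.of_card_eq_cube hP hW hp hK hi hw₂
  have hn : n = 2 := by
    have h1 := c.two_le_n hP hodd
    have h2 := c.eq
    have h4 : (p : ℤ) + 1 = 2 * Nat.card X₁ := by exact_mod_cast hpw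
    by_contra hne
    have h5 : (3 : ℤ) * Nat.card X₁ ≤ n * Nat.card X₁ :=
      mul_le_mul_of_nonneg_right (by omega) (Int.natCast_nonneg _)
    rcases c.delta_cases hP with e | e <;> omega
  set T := (seqIndD_finite K K ⁅K, K⁆).toFinset with hT
  have hT' : (T : Set (L → ℂ)) = seqIndD K K ⁅K, K⁆ := by simp [hT]
  have hTc : 7 ≤ T.card := by
    have h1 := hP.card_seqIndD_der hW T hT'
    rw [hi] at h1
    by_contra hc
    have h2 : T.card * Nat.card X₁ ≤ 6 * Nat.card X₁ := Nat.mul_le_mul_right _ (by omega)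
    obtain ⟨t, ht⟩ : ∃ t, Nat.card X₁ = t + 3 := ⟨Nat.card X₁ - 3, by omega⟩
    have : p = 2 * t + 5 := by omega
    rw [ht] at h2 h1
    subst this
    nlinarith
  have hTi : ∀ φ ∈ T, IsIrrCharacter L φ ∧ φ 1 = Nat.card X₁ := fun φ hφ =>
    hP.irr_of_mem_seqIndD_der hW (hT' ▸ Finset.mem_coe.2 hφ)
  have hTs : ConjSub ↑T (seqIndD K K ⊥) := hT' ▸ seqIndD_conjSub (seqIndD_subset_bot _ _ _)
  obtain ⟨ζ, hζ⟩ : T.Nonempty := Finset.card_pos.1 (by omega)
  obtain ⟨B, hB, -⟩ := h.t5_3b hodd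
  obtain ⟨τ₁, hτ₁⟩ := coherent_exists (uniform_degree_coherence_sub hB hTs ⟨ζ, hζ⟩
    fun φ hφ ψ hψ => by rw [(hTi φ hφ).2, (hTi ψ hψ).2])
  have H : Hyp104 L K f₁ f₂ A A₀ R d δ n ζ :=
    ⟨h, hodd, c, hTs.subset hζ, (hTi ζ hζ).1, (hTi ζ hζ).2⟩
  obtain ⟨k, hk⟩ := hP.cycTI.exists_dual_ne_one₂
  obtain ⟨τ₂, hτ₂, hτ₂'⟩ := h.t4_9 hk
  have key := H.tau_muCol_sub_of_lt (by omega) (iso_isSignedIrr hτ₁.iso (mem_zspan hζ) H.irr)
    (h.coherent_orthEta hodd hTs.subset hTs.conj_mem hτ₁ hζ H.irr) hk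
    fun i => H.tau_alpha_of_card hn hTs hTi hTc hτ₁ hζ i hk
  have hS₂ : ConjSub {φ | ∃ j, j ≠ 1 ∧ muCol f₁ f₂ j 1 = muCol f₁ f₂ k 1 ∧ φ = muCol f₁ f₂ j}
      (seqIndD K K ⊥) := by
    constructor
    · rintro _ ⟨j, hj, -, rfl⟩
      exact hP.muCol_mem hP.le₂ hj
    · rintro _ ⟨j, hj, -, rfl⟩
      exact ⟨j⁻¹, dual_inv_ne_one hj, by
        rw [c.muCol_apply_one hP hk, c.muCol_apply_one hP (dual_inv_ne_one hj)],
        hP.muCol_conj j⟩
  have := bridge_coherent hB hS₂ hTs hτ₂ hτ₁ (by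
      rw [Set.disjoint_left]
      rintro _ ⟨j, -, -, rfl⟩ hφ
      exact hP.muCol_not_irr j (hTi _ hφ).1)
    (χ := muCol f₁ f₂ k) (φ := (d : ℂ) • ζ) ⟨k, hk, rfl, rfl⟩
    (zc_natCast_smul d (mem_zspan hζ))
    (by rw [c.muCol_apply_one hP hk, Pi.smul_apply, H.deg, smul_eq_mul])
    (by rw [key, hτ₂' k hk rfl, c.sign k hk, iso_natCast_smul hτ₁.iso d (mem_zspan hζ)])
  refine coherent_mono this (fun φ hφ => ?_) (subcoh_exists_ne_zero hB (subcoh_conjSub hB)
    hB.nonempty)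
  obtain ⟨θ, hθ, hn1, -, rfl⟩ := hφ
  by_cases hin : InKer ⁅K, K⁆ θ
  · exact Or.inr (hT' ▸ ⟨θ, hθ, hn1, hin, rfl⟩)
  · obtain ⟨j, hj, e⟩ := hmu _ ⟨θ, hθ, hin, inKer_bot θ, rfl⟩
    exact Or.inl ⟨j, hj, by rw [c.muCol_apply_one hP hk, c.muCol_apply_one hP hj], e⟩

end Dade

end CL.PF
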