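import Cfsg.Agent.PF.DadeBasic

/-!
# Peterfalvi (2.5)-(2.7), (7.1)-(7.3): the Dade map, its adjoint, the isometry property
-/

set_option autoImplicit false

namespace CL.PF

open Subgroup Cfsg
open scoped ComplexConjugate

variable {G : Type*} [Group G] {A : Set G} {L : Subgroup G} {H : G → Subgroup G}

/-! ### Formal properties of the Dade map (no hypothesis needed) -/

theorem dade_apply_of_not_mem (α : L → ℂ) {g : G} (hg : g ∉ dadeSupp A H) :
    dadeIsometry A L H α g = 0 := by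
  unfold dadeIsometry
  rw [dif_neg]
  rintro ⟨a, ha, x, u, hu, e⟩
  exact hg ⟨a, ha, u, hu, x, e⟩

theorem dade_comp (σ : ℂ → ℂ) (h0 : σ 0 = 0) (α : L → ℂ) :
    dadeIsometry A L H (fun x => σ (α x)) = fun g => σ (dadeIsometry A L H α g) := by
  funext g
  unfold dadeIsometry
  split_ifs
  · rfl
  · exact h0.symm

theorem dade_add (α β : L → ℂ) :
    dadeIsometry A L H (α + β) = dadeIsometry A L H α + dadeIsometry A L H β := by
  funext g
  simp only [dadeIsometry, Pi.add_apply]
  split_ifs <;> simp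

theorem dade_smul (c : ℂ) (α : L → ℂ) :
    dadeIsometry A L H (c • α) = c • dadeIsometry A L H α := by
  funext g
  simp only [dadeIsometry, Pi.smul_apply]
  split_ifs <;> simp

theorem dade_mul (α β : L → ℂ) :
    dadeIsometry A L H (α * β) = dadeIsometry A L H α * dadeIsometry A L H β := by
  funext g
  simp only [dadeIsometry, Pi.mul_apply]
  split_ifs <;> simp

variable (A L H) in
/-- The Dade map as a linear map. -/
noncomputable def dadeLin : (L → ℂ) →ₗ[ℂ] (G → ℂ) where
  toFun := dadeIsometry A L H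
  map_add' := dade_add
  map_smul' := dade_smul

theorem dadeLin_apply (α : L → ℂ) : dadeLin A L H α = dadeIsometry A L H α := rfl

theorem coe_dadeLin : ⇑(dadeLin A L H) = dadeIsometry A L H := rfl

theorem dade_zero : dadeIsometry A L H 0 = 0 := (dadeLin A L H).map_zero

theorem dade_neg (α : L → ℂ) : dadeIsometry A L H (-α) = -dadeIsometry A L H α :=
  (dadeLin A L H).map_neg α

theorem dade_sub (α β : L → ℂ) :
    dadeIsometry A L H (α - β) = dadeIsometry A L H α - dadeIsometry A L H β :=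
  (dadeLin A L H).map_sub α β

theorem dade_zsmul (n : ℤ) (α : L → ℂ) :
    dadeIsometry A L H (n • α) = n • dadeIsometry A L H α :=
  map_zsmul (dadeLin A L H) n α

theorem dade_nsmul (n : ℕ) (α : L → ℂ) :
    dadeIsometry A L H (n • α) = n • dadeIsometry A L H α :=
  map_nsmul (dadeLin A L H) n α

theorem dade_sum {ι : Type*} (s : Finset ι) (α : ι → L → ℂ) :
    dadeIsometry A L H (∑ i ∈ s, α i) = ∑ i ∈ s, dadeIsometry A L H (α i) :=
  map_sum (dadeLin A L H) α s

theorem dade_conjFun (α : L → ℂ) :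
    dadeIsometry A L H (conjFun α) = conjFun (dadeIsometry A L H α) :=
  dade_comp (starRingEnd ℂ) (map_zero _) α

theorem dade_ringHom (σ : ℂ →+* ℂ) (α : L → ℂ) :
    dadeIsometry A L H (fun x => σ (α x)) = fun g => σ (dadeIsometry A L H α g) :=
  dade_comp σ (map_zero _) α

/-- The Dade map only depends on the values on `A`. -/
theorem dade_congr {α β : L → ℂ} (h : ∀ a : L, (a : G) ∈ A → α a = β a) :
    dadeIsometry A L H α = dadeIsometry A L H β := by
  funext g
  unfold dadeIsometry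
  split_ifs with hg
  · exact h _ (Classical.choose_spec hg).1
  · rfl

/-- Every value of the Dade image is `0` or a value of `α` on `A`. -/
theorem dade_apply_eq_zero_or (α : L → ℂ) (g : G) :
    dadeIsometry A L H α g = 0 ∨ ∃ a : L, (a : G) ∈ A ∧ dadeIsometry A L H α g = α a := by
  unfold dadeIsometry
  split_ifs with hg
  · exact Or.inr ⟨_, (Classical.choose_spec hg).1, rfl⟩
  · exact Or.inl rfl

/-- The average of `χ` over the coset `a H(a)`. -/
noncomputable def dadeAvg (H : G → Subgroup G) (χ : G → ℂ) (a : G) : ℂ :=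
  (Nat.card (H a) : ℂ)⁻¹ * ∑ᶠ u ∈ (H a : Set G), χ (a * u)

open Classical in
theorem invDade_apply (χ : G → ℂ) (a : L) :
    invDade A L H χ a = if (a : G) ∈ A then dadeAvg H χ a else 0 := rfl

theorem invDade_of_mem (χ : G → ℂ) {a : L} (ha : (a : G) ∈ A) :
    invDade A L H χ a = dadeAvg H χ a := if_pos ha

theorem invDade_of_not_mem (χ : G → ℂ) {a : L} (ha : (a : G) ∉ A) : invDade A L H χ a = 0 :=
  if_neg ha

open Classical in
theorem dadeAvg_eq_sum_ite [Fintype G] (χ : G → ℂ) (a : G) :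
    dadeAvg H χ a = (Nat.card (H a) : ℂ)⁻¹ * ∑ u : G, if u ∈ H a then χ (a * u) else 0 := by
  unfold dadeAvg
  rw [finsum_mem_def, finsum_eq_sum_of_fintype]
  congr 2

theorem dadeAvg_eq_sum [Finite G] (χ : G → ℂ) (a : G) [Fintype (H a)] :
    dadeAvg H χ a = (Nat.card (H a) : ℂ)⁻¹ * ∑ u : H a, χ (a * u) := by
  unfold dadeAvg
  rw [← finsum_set_coe_eq_finsum_mem]
  congr 1
  exact finsum_eq_sum_of_fintype (fun u : H a => χ (a * u))

theorem dadeAvg_of_const [Finite G] {χ : G → ℂ} {a : G} {c : ℂ} (h : ∀ u ∈ H a, χ (a * u) = c) :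
    dadeAvg H χ a = c := by
  have := Fintype.ofFinite (H a)
  rw [dadeAvg_eq_sum, Finset.sum_congr rfl (fun (u : H a) _ => h u u.2), Finset.sum_const,
    Finset.card_univ, nsmul_eq_mul, ← Nat.card_eq_fintype_card, inv_mul_cancel_left₀]
  exact_mod_cast Nat.card_pos.ne'

theorem dadeAvg_add [Finite G] (χ ψ : G → ℂ) (a : G) :
    dadeAvg H (χ + ψ) a = dadeAvg H χ a + dadeAvg H ψ a := by
  have := Fintype.ofFinite (H a)
  simp only [dadeAvg_eq_sum, Pi.add_apply, Finset.sum_add_distrib, mul_add]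

theorem dadeAvg_smul [Finite G] (c : ℂ) (χ : G → ℂ) (a : G) :
    dadeAvg H (c • χ) a = c * dadeAvg H χ a := by
  have := Fintype.ofFinite (H a)
  simp only [dadeAvg_eq_sum, Pi.smul_apply, smul_eq_mul, ← Finset.mul_sum]
  ring

theorem dadeAvg_conj [Finite G] (χ : G → ℂ) (a : G) :
    dadeAvg H (fun g => conj (χ g)) a = conj (dadeAvg H χ a) := by
  have := Fintype.ofFinite (H a)
  simp only [dadeAvg_eq_sum, map_mul, map_sum, map_inv₀, map_natCast]

theorem dadeAvg_congr {χ ψ : G → ℂ} {a : G} (h : ∀ u ∈ H a, χ (a * u) = ψ (a * u)) :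
    dadeAvg H χ a = dadeAvg H ψ a := by
  unfold dadeAvg
  congr 1
  exact finsum_mem_congr rfl h

theorem invDade_add [Finite G] (χ ψ : G → ℂ) :
    invDade A L H (χ + ψ) = invDade A L H χ + invDade A L H ψ := by
  funext a
  simp only [invDade_apply, Pi.add_apply, dadeAvg_add]
  split_ifs <;> simp

theorem invDade_smul [Finite G] (c : ℂ) (χ : G → ℂ) :
    invDade A L H (c • χ) = c • invDade A L H χ := by
  funext a
  simp only [invDade_apply, Pi.smul_apply, dadeAvg_smul]
  split_ifs <;> simp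

variable (A L H) in
/-- `invDade` as a linear map. -/
noncomputable def invDadeLin [Finite G] : (G → ℂ) →ₗ[ℂ] (L → ℂ) where
  toFun := invDade A L H
  map_add' := invDade_add
  map_smul' := invDade_smul

theorem invDadeLin_apply [Finite G] (χ : G → ℂ) : invDadeLin A L H χ = invDade A L H χ := rfl

theorem invDade_zero [Finite G] : invDade A L H 0 = 0 := (invDadeLin A L H).map_zero

theorem invDade_neg [Finite G] (χ : G → ℂ) : invDade A L H (-χ) = -invDade A L H χ :=
  (invDadeLin A L H).map_neg χ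

theorem invDade_sub [Finite G] (χ ψ : G → ℂ) :
    invDade A L H (χ - ψ) = invDade A L H χ - invDade A L H ψ := (invDadeLin A L H).map_sub χ ψ

theorem invDade_sum [Finite G] {ι : Type*} (s : Finset ι) (χ : ι → G → ℂ) :
    invDade A L H (∑ i ∈ s, χ i) = ∑ i ∈ s, invDade A L H (χ i) :=
  map_sum (invDadeLin A L H) χ s

theorem invDade_conjFun [Finite G] (χ : G → ℂ) :
    invDade A L H (conjFun χ) = conjFun (invDade A L H χ) := by
  funext a
  simp only [invDade_apply, conjFun]
  split_ifs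
  · exact dadeAvg_conj χ a
  · simp

namespace Dade

variable [Finite G]

omit [Finite G] in
/-- Validity of Peterfalvi's definition (2.5). -/
theorem apply_eq (hD : DadeHypothesis A L H) {α : L → ℂ} (hα : IsClassFunction L α) {a : L}
    (ha : (a : G) ∈ A) {u x g : G} (hu : u ∈ H a) (e : x * g * x⁻¹ = a * u) :
    dadeIsometry A L H α g = α a := by
  unfold dadeIsometry
  have hex : ∃ a : ↥L, (a : G) ∈ A ∧ ∃ x : G, ∃ u ∈ H (a : G), x * g * x⁻¹ = (a : G) * u :=
    ⟨a, ha, x, u, hu, e⟩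
  rw [dif_pos hex]
  obtain ⟨hb, y, v, hv, e'⟩ := Classical.choose_spec hex
  set b := Classical.choose hex
  obtain ⟨l, hl, e''⟩ := exists_conj_L hD (g := y * x⁻¹) ha hb hu hv
    (by rw [← e, ← e']; group)
  rw [← hα a ⟨l, hl⟩]
  congr 1
  exact Subtype.ext e''.symm

omit [Finite G] in
theorem apply_mul (hD : DadeHypothesis A L H) {α : L → ℂ} (hα : IsClassFunction L α) {a : L}
    (ha : (a : G) ∈ A) {u : G} (hu : u ∈ H a) : dadeIsometry A L H α (a * u) = α a :=
  apply_eq hD hα ha hu (x := 1) (by simp)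

omit [Finite G] in
theorem apply_of_mem (hD : DadeHypothesis A L H) {α : L → ℂ} (hα : IsClassFunction L α) {a : L}
    (ha : (a : G) ∈ A) : dadeIsometry A L H α a = α a :=
  apply_eq hD hα ha (H a).one_mem (x := 1) (by simp)

omit [Finite G] in
theorem apply_one (hD : DadeHypothesis A L H) (α : L → ℂ) : dadeIsometry A L H α 1 = 0 :=
  dade_apply_of_not_mem α (one_not_mem_supp hD)

omit [Finite G] in
theorem isClassFunction (hD : DadeHypothesis A L H) {α : L → ℂ} (hα : IsClassFunction L α) :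
    IsClassFunction G (dadeIsometry A L H α) := by
  intro g y
  by_cases hg : g ∈ dadeSupp A H
  · obtain ⟨a, ha, u, hu, x, e⟩ := hg
    rw [apply_eq hD hα (a := ⟨a, mem_L hD ha⟩) ha hu e,
      apply_eq hD hα (a := ⟨a, mem_L hD ha⟩) ha hu (x := x * y⁻¹) (by rw [← e]; group)]
  · rw [dade_apply_of_not_mem α hg, dade_apply_of_not_mem α (mt conj_mem_dadeSupp_iff.1 hg)]

omit [Finite G] in
/-- The Dade map is injective on class functions supported in `A`. -/
theorem injective (hD : DadeHypothesis A L H) {α β : L → ℂ} (hα : IsClassFunction L α)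
    (hβ : IsClassFunction L β) (hαA : ∀ x : L, (x : G) ∉ A → α x = 0)
    (hβA : ∀ x : L, (x : G) ∉ A → β x = 0)
    (h : dadeIsometry A L H α = dadeIsometry A L H β) : α = β := by
  funext x
  by_cases hx : (x : G) ∈ A
  · rw [← apply_of_mem hD hα hx, h, apply_of_mem hD hβ hx]
  · rw [hαA x hx, hβA x hx]

omit [Finite G] in
/-- Peterfalvi (2.11), second part. -/
theorem restrict_eq (hD : DadeHypothesis A L H) {A₁ : Set G} (h₁ : A₁ ⊆ A)
    (hn : ∀ x ∈ L, ∀ a ∈ A₁, x * a * x⁻¹ ∈ A₁) {α : L → ℂ} (hα : IsClassFunction L α)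
    (hαA : ∀ x : L, (x : G) ∉ A₁ → α x = 0) :
    dadeIsometry A₁ L H α = dadeIsometry A L H α := by
  funext g
  by_cases hg : g ∈ dadeSupp A₁ H
  · obtain ⟨a, ha, u, hu, x, e⟩ := hg
    rw [apply_eq (restrict hD h₁ hn) hα (a := ⟨a, mem_L hD (h₁ ha)⟩) ha hu e,
      apply_eq hD hα (a := ⟨a, mem_L hD (h₁ ha)⟩) (h₁ ha) hu e]
  · rw [dade_apply_of_not_mem α hg]
    by_cases hg' : g ∈ dadeSupp A H
    · obtain ⟨a, ha, u, hu, x, e⟩ := hg'
      rw [apply_eq hD hα (a := ⟨a, mem_L hD ha⟩) ha hu e, hαA]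
      intro ha₁
      exact hg ⟨a, ha₁, u, hu, x, e⟩
    · rw [dade_apply_of_not_mem α hg']

omit [Finite G] in
/-- The Dade image of a class function supported in `A₁ ⊆ A` is supported in the Dade support
of `A₁`. -/
theorem apply_eq_zero_of_not_mem_sub (hD : DadeHypothesis A L H) {A₁ : Set G} {α : L → ℂ}
    (hα : IsClassFunction L α) (hαA : ∀ x : L, (x : G) ∉ A₁ → α x = 0) {g : G}
    (hg : g ∉ dadeSupp A₁ H) : dadeIsometry A L H α g = 0 := by
  by_cases hg' : g ∈ dadeSupp A H
  · obtain ⟨a, ha, u, hu, x, e⟩ := hg'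
    rw [apply_eq hD hα (a := ⟨a, mem_L hD ha⟩) ha hu e, hαA]
    intro ha₁
    exact hg ⟨a, ha₁, u, hu, x, e⟩
  · exact dade_apply_of_not_mem α hg'

/-- The Dade map does not depend on the choice of `H`. -/
theorem dade_eq_of_H {H' : G → Subgroup G} (hD : DadeHypothesis A L H)
    (hD' : DadeHypothesis A L H') {α : L → ℂ} (hα : IsClassFunction L α) :
    dadeIsometry A L H α = dadeIsometry A L H' α := by
  have hH : ∀ a ∈ A, H a = H' a := fun a ha => H_unique hD hD' ha ha
  funext g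
  by_cases hg : g ∈ dadeSupp A H
  · obtain ⟨a, ha, u, hu, x, e⟩ := hg
    rw [apply_eq hD hα (a := ⟨a, mem_L hD ha⟩) ha hu e,
      apply_eq hD' hα (a := ⟨a, mem_L hD ha⟩) ha (hH a ha ▸ hu) e]
  · rw [dade_apply_of_not_mem α hg, dade_apply_of_not_mem α (dadeSupp_congr hH ▸ hg)]

theorem dadeAvg_conj_arg (hD : DadeHypothesis A L H) {χ : G → ℂ} (hχ : IsClassFunction G χ)
    {a x : G} (ha : a ∈ A) (hxa : x * a * x⁻¹ ∈ A) :
    dadeAvg H χ (x * a * x⁻¹) = dadeAvg H χ a := by
  unfold dadeAvg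
  rw [card_H_conj hD ha hxa, H_conj' hD ha hxa, coe_map,
    finsum_mem_image (g := (MulAut.conj x).toMonoidHom) (MulAut.conj x).injective.injOn]
  congr 1
  refine finsum_mem_congr rfl fun u _ => ?_
  rw [← hχ (a * u) x]
  congr 1
  simp [mul_assoc]

theorem invDade_isClassFunction (hD : DadeHypothesis A L H) {χ : G → ℂ}
    (hχ : IsClassFunction G χ) : IsClassFunction L (invDade A L H χ) := by
  intro a x
  by_cases ha : (a : G) ∈ A
  · have : ((x * a * x⁻¹ : L) : G) ∈ A := hD.conj_mem x x.2 a ha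
    rw [invDade_of_mem χ ha, invDade_of_mem χ this]
    exact dadeAvg_conj_arg hD hχ ha this
  · rw [invDade_of_not_mem χ ha, invDade_of_not_mem χ]
    exact mt (conj_mem_iff hD x.2).1 ha

/-- Peterfalvi (7.2)(a). -/
theorem invDade_dade (hD : DadeHypothesis A L H) {α : L → ℂ} (hα : IsClassFunction L α)
    (hαA : ∀ x : L, (x : G) ∉ A → α x = 0) : invDade A L H (dadeIsometry A L H α) = α := by
  funext a
  by_cases ha : (a : G) ∈ A
  · rw [invDade_of_mem _ ha]
    exact dadeAvg_of_const fun u hu => apply_mul hD hα ha hu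
  · rw [invDade_of_not_mem _ ha, hαA a ha]

omit [Finite G] in
theorem card_conj_mem (hD : DadeHypothesis A L H) {a : G} (ha : a ∈ A) :
    Nat.card {z : G // z * a * z⁻¹ ∈ A} = Nat.card L * Nat.card (H a) := by
  rw [← Nat.card_prod]
  symm
  refine Nat.card_eq_of_bijective (fun p : L × H a =>
    (⟨p.1 * p.2, by
      have : (p.1 : G) * p.2 * a * ((p.1 : G) * p.2)⁻¹ = p.1 * a * (p.1 : G)⁻¹ := by
        rw [mul_assoc (p.1 : G), ← (commute hD ha p.2.2).eq]; group
      rw [this]; exact hD.conj_mem _ p.1.2 a ha⟩ : {z : G // z * a * z⁻¹ ∈ A})) ⟨?_, ?_⟩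
  · rintro ⟨l, h⟩ ⟨l', h'⟩ e
    have e1 : (l : G) * h = l' * h' := congrArg Subtype.val e
    have e2 : (h : G) * (h' : G)⁻¹ = (l : G)⁻¹ * l' := by
      rw [mul_inv_eq_iff_eq_mul, mul_assoc, ← e1]; group
    have e3 : (h : G) * (h' : G)⁻¹ = 1 := eq_one_of_mem_L hD ha (mul_mem h.2 (inv_mem h'.2))
      (by rw [e2]; exact mul_mem (inv_mem l.2) l'.2)
    have e4 : h = h' := Subtype.ext (mul_inv_eq_one.1 e3)
    subst e4
    rw [Subtype.ext (mul_right_cancel e1)]
  · rintro ⟨z, hz⟩
    obtain ⟨l, hl, h, hh, rfl⟩ := exists_mul_of_conj_mem hD ha hz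
    exact ⟨(⟨l, hl⟩, ⟨h, hh⟩), rfl⟩

end Dade

open Classical in
/-- The weight used to count the elements of the Dade support. -/
theorem Dade.weight [Fintype G] (hD : DadeHypothesis A L H) (g : G) :
    ∑ x : G, ∑ a : G, (if a ∈ A ∧ a⁻¹ * (x * g * x⁻¹) ∈ H a then (Nat.card (H a) : ℂ)⁻¹ else 0) =
      if g ∈ dadeSupp A H then (Nat.card L : ℂ) else 0 := by
  split_ifs with hg
  · obtain ⟨a₀, ha₀, u₀, hu₀, y, e⟩ := hg
    have key : ∀ x a : G, (a ∈ A ∧ a⁻¹ * (x * g * x⁻¹) ∈ H a) ↔
        (a = (x * y⁻¹) * a₀ * (x * y⁻¹)⁻¹ ∧ (x * y⁻¹) * a₀ * (x * y⁻¹)⁻¹ ∈ A) := by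
      intro x a
      have e1 : x * g * x⁻¹ = (x * y⁻¹) * (a₀ * u₀) * (x * y⁻¹)⁻¹ := by rw [← e]; group
      constructor
      · rintro ⟨ha, hu⟩
        have := (Dade.conj_eq hD (g := x * y⁻¹) ha₀ ha hu₀ hu (by rw [← e1]; group)).1
        exact ⟨this.symm, this ▸ ha⟩
      · rintro ⟨rfl, ha⟩
        refine ⟨ha, ?_⟩
        have := Dade.conj_mem_H_conj hD ha₀ ha hu₀
        convert this using 1
        rw [e1]; group
    have h2 : ∀ x : G, ∑ a : G, (if a ∈ A ∧ a⁻¹ * (x * g * x⁻¹) ∈ H a then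
        (Nat.card (H a) : ℂ)⁻¹ else 0) =
        if (x * y⁻¹) * a₀ * (x * y⁻¹)⁻¹ ∈ A then (Nat.card (H a₀) : ℂ)⁻¹ else 0 := by
      intro x
      simp_rw [key]
      split_ifs with hx
      · simp only [hx, and_true, Finset.sum_ite_eq', Finset.mem_univ, if_true]
        rw [Dade.card_H_conj hD ha₀ hx]
      · simp only [hx, and_false, if_false, Finset.sum_const_zero]
    simp_rw [h2]
    refine (Equiv.sum_comp (Equiv.mulRight y⁻¹)
      (fun z : G => if z * a₀ * z⁻¹ ∈ A then (Nat.card (H a₀) : ℂ)⁻¹ else 0)).trans ?_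
    rw [← Finset.sum_filter, Finset.sum_const, nsmul_eq_mul, ← Fintype.card_subtype,
      ← Nat.card_eq_fintype_card, Dade.card_conj_mem hD ha₀]
    have : (Nat.card (H a₀) : ℂ) ≠ 0 := by exact_mod_cast Nat.card_pos.ne'
    push_cast
    field_simp
  · refine Finset.sum_eq_zero fun x _ => Finset.sum_eq_zero fun a _ => if_neg ?_
    rintro ⟨ha, hu⟩
    exact hg ⟨a, ha, _, hu, x, by group⟩

open Classical in
/-- The basic counting formula: the average over `G` of a class function cut down to the Dade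
support is the average over `L` of `χ^ρ`. -/
theorem Dade.sum_supp [Fintype G] [Fintype L] (hD : DadeHypothesis A L H) {F : G → ℂ}
    (hF : IsClassFunction G F) :
    (Nat.card G : ℂ)⁻¹ * ∑ g : G, (if g ∈ dadeSupp A H then F g else 0) =
      (Nat.card L : ℂ)⁻¹ * ∑ a : L, invDade A L H F a := by
  have hG : (Nat.card G : ℂ) ≠ 0 := by exact_mod_cast Nat.card_pos.ne'
  have hL : (Nat.card L : ℂ) ≠ 0 := by exact_mod_cast Nat.card_pos.ne'
  have h1 : (Nat.card L : ℂ) * ∑ g : G, (if g ∈ dadeSupp A H then F g else 0) =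
      ∑ g : G, ∑ x : G, ∑ a : G, (if a ∈ A ∧ a⁻¹ * (x * g * x⁻¹) ∈ H a then
        (Nat.card (H a) : ℂ)⁻¹ else 0) * F g := by
    rw [Finset.mul_sum]
    refine Finset.sum_congr rfl fun g _ => ?_
    simp_rw [← Finset.sum_mul]
    rw [Dade.weight hD g]
    split_ifs <;> simp
  have h2 : ∀ x a : G, ∑ g : G, (if a ∈ A ∧ a⁻¹ * (x * g * x⁻¹) ∈ H a then
        (Nat.card (H a) : ℂ)⁻¹ else 0) * F g = if a ∈ A then dadeAvg H F a else 0 := by
    intro x a
    split_ifs with ha
    · rw [dadeAvg_eq_sum_ite, Finset.mul_sum]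
      refine Fintype.sum_equiv ((MulAut.conj x).toEquiv.trans (Equiv.mulLeft a⁻¹)) _ _ fun g => ?_
      simp only [ha, true_and, Equiv.trans_apply, MulEquiv.toEquiv_eq_coe, MulEquiv.coe_toEquiv,
        MulAut.conj_apply, Equiv.coe_mulLeft, mul_inv_cancel_left, hF g x]
      split_ifs <;> simp
    · simp [ha]
  have h3 : ∑ a : L, invDade A L H F a = ∑ a : G, if a ∈ A then dadeAvg H F a else 0 := by
    simp only [invDade_apply]
    rw [← Finset.sum_subtype (Finset.univ.filter (· ∈ L)) (by simp)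
      (fun a : G => if a ∈ A then dadeAvg H F a else 0), Finset.sum_filter]
    refine Finset.sum_congr rfl fun a _ => ?_
    by_cases ha : a ∈ A
    · simp [ha, Dade.mem_L hD ha]
    · simp [ha]
  rw [Finset.sum_comm] at h1
  simp_rw [fun x => Finset.sum_comm (s := (Finset.univ : Finset G)) (t := (Finset.univ : Finset G))
    (f := fun g a => (if a ∈ A ∧ a⁻¹ * (x * g * x⁻¹) ∈ H a then
        (Nat.card (H a) : ℂ)⁻¹ else 0) * F g), h2] at h1
  rw [Finset.sum_const, Finset.card_univ, nsmul_eq_mul, ← Nat.card_eq_fintype_card, ← h3] at h1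
  field_simp
  rw [mul_comm, h1, mul_comm]

namespace Dade

variable [Fintype G] [Fintype L]

/-- Peterfalvi (2.7): the adjoint of the Dade map is `χ ↦ χ^ρ`. -/
theorem classInner_invDade (hD : DadeHypothesis A L H) {α : L → ℂ} (hα : IsClassFunction L α)
    {χ : G → ℂ} (hχ : IsClassFunction G χ) :
    classInner (dadeIsometry A L H α) χ = classInner α (invDade A L H χ) := by
  classical
  have hF : IsClassFunction G (fun g => dadeIsometry A L H α g * conj (χ g)) := by
    intro g y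
    simp only [isClassFunction hD hα g y, hχ g y]
  have := sum_supp hD hF
  unfold classInner
  convert this using 3 with g _ a _
  · split_ifs with hg
    · rfl
    · rw [dade_apply_of_not_mem α hg, zero_mul]
  · by_cases ha : (a : G) ∈ A
    · rw [invDade_of_mem _ ha, invDade_of_mem _ ha, ← dadeAvg_conj, ← dadeAvg_smul]
      refine dadeAvg_congr fun u hu => ?_
      simp only [Pi.smul_apply, smul_eq_mul, apply_mul hD hα ha hu]
    · simp [invDade_of_not_mem _ ha]

/-- Peterfalvi (2.7), general form. -/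
theorem reciprocity (hD : DadeHypothesis A L H) {α : L → ℂ} (hα : IsClassFunction L α)
    (hαA : ∀ x : L, (x : G) ∉ A → α x = 0) {χ : G → ℂ} (hχ : IsClassFunction G χ) {ψ : L → ℂ}
    (hψ : ∀ a : L, (a : G) ∈ A → ψ a = dadeAvg H χ a) :
    classInner (dadeIsometry A L H α) χ = classInner α ψ := by
  rw [classInner_invDade hD hα hχ]
  unfold classInner
  congr 1
  refine Finset.sum_congr rfl fun a _ => ?_
  by_cases ha : (a : G) ∈ A
  · rw [invDade_of_mem _ ha, hψ a ha]
  · simp [hαA a ha]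

/-- Peterfalvi (2.7), second part: `χ` constant on the cosets `a H(a)`. -/
theorem reciprocity_res (hD : DadeHypothesis A L H) {α : L → ℂ} (hα : IsClassFunction L α)
    (hαA : ∀ x : L, (x : G) ∉ A → α x = 0) {χ : G → ℂ} (hχ : IsClassFunction G χ)
    (hc : ∀ a ∈ A, ∀ u ∈ H a, χ (a * u) = χ a) :
    classInner (dadeIsometry A L H α) χ = classInner α (fun x : L => χ x) :=
  reciprocity hD hα hαA hχ fun a ha => (dadeAvg_of_const (hc a ha)).symm

/-- Peterfalvi (2.6)(a). -/
theorem isometry (hD : DadeHypothesis A L H) {α β : L → ℂ} (hα : IsClassFunction L α)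
    (hβ : IsClassFunction L β) (hβA : ∀ x : L, (x : G) ∉ A → β x = 0) :
    classInner (dadeIsometry A L H α) (dadeIsometry A L H β) = classInner α β := by
  rw [classInner_invDade hD hα (isClassFunction hD hβ), invDade_dade hD hβ hβA]

theorem classInner_one (hD : DadeHypothesis A L H) {α : L → ℂ} (hα : IsClassFunction L α)
    (hαA : ∀ x : L, (x : G) ∉ A → α x = 0) :
    classInner (dadeIsometry A L H α) (fun _ => 1) = classInner α (fun _ => 1) :=
  reciprocity_res hD hα hαA (χ := fun _ => 1) (fun _ _ => rfl) (fun _ _ _ _ => rfl)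

end Dade

end CL.PF
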