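import Cfsg.Agent.Base
import Cfsg.Agent.PF.CohIrr
import Cfsg.Agent.PF.DadeMap

/-! Peterfalvi (5.9.a) for the Dade isometry and for induction. -/

set_option autoImplicit false

namespace CL.PF

open Cfsg CL.Char

variable {G : Type*} [Group G] [Fintype G] {L : Subgroup G} [Fintype L] {A : Set G}
  {H : G → Subgroup G} {S : Set (L → ℂ)} {τ₁ : (L → ℂ) → (G → ℂ)}

/-- (5.9.a) -/
theorem t5_9a (hD : DadeHypothesis A L H) (hτ : CoherentWith S (dadeIsometry A L H) τ₁)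
    (σ : ℂ ≃+* ℂ) (hσ : ∀ φ ∈ S, (fun x => σ (φ x)) ∈ S) {χ : L → ℂ} (hχ : χ ∈ S)
    (hirr : IsIrrCharacter L χ) (h2 : ∃ ψ ∈ S, ψ ≠ χ ∧ IsIrrCharacter L ψ) :
    τ₁ (fun x => σ (χ x)) = fun g => σ (τ₁ χ g) := by
  obtain ⟨ψ, hψ, hne, iψ⟩ := h2
  exact coherent_map_of_irr σ hτ (fun α _ => Dade.apply_one hD α) (mem_zspan hχ) (mem_zspan hψ)
    (mem_zspan (hσ χ hχ)) (mem_zspan (hσ ψ hψ)) hirr iψ hne.symm
    (fun α _ => dade_comp σ (map_zero σ) α)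

/-- (5.9.a) for complex conjugation -/
theorem t5_9a_conj (hD : DadeHypothesis A L H) (hτ : CoherentWith S (dadeIsometry A L H) τ₁)
    {χ : L → ℂ} (hχ : χ ∈ S) (hχ' : conjFun χ ∈ S) (hirr : IsIrrCharacter L χ)
    (hne : conjFun χ ≠ χ) : τ₁ (conjFun χ) = conjFun (τ₁ χ) :=
  coherent_conjFun_of_irr hτ (fun α _ => Dade.apply_one hD α) (mem_zspan hχ) (mem_zspan hχ') hirr
    hne (fun α _ => dade_conjFun α)

/-- (5.9.a) for induction -/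
theorem t5_9a_ind (hτ : CoherentWith S (fun α : L → ℂ => indFun L α) τ₁)
    (σ : ℂ ≃+* ℂ) (hσ : ∀ φ ∈ S, (fun x => σ (φ x)) ∈ S) {χ : L → ℂ} (hχ : χ ∈ S)
    (hirr : IsIrrCharacter L χ) (h2 : ∃ ψ ∈ S, ψ ≠ χ ∧ IsIrrCharacter L ψ) :
    τ₁ (fun x => σ (χ x)) = fun g => σ (τ₁ χ g) := by
  obtain ⟨ψ, hψ, hne, iψ⟩ := h2
  exact coherent_map_of_irr σ hτ
    (fun α hα => indFun_one_eq_zero L (apply_one_of_mem_zspanOn hα)) (mem_zspan hχ) (mem_zspan hψ)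
    (mem_zspan (hσ χ hχ)) (mem_zspan (hσ ψ hψ)) hirr iψ hne.symm
    (fun α _ => indFun_map σ L α)

end CL.PF
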