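import Cfsg.Agent.PF.A10_Ten
import Cfsg.Agent.PF.T5_9

/-!
# Peterfalvi (11.8) in abstract form
-/

set_option autoImplicit false
set_option linter.unusedSectionVars false

namespace CL.PF

open Cfsg CL.Char

variable {G X₁ X₂ : Type*} [Group G] [Fintype G] [Group X₁] [Group X₂] [Finite X₁] [Finite X₂]
  {L : Subgroup G} [Fintype L] {K : Subgroup L} {f₁ : X₁ →* L} {f₂ : X₂ →* L} {A A₀ : Set G}
  {R : G → Subgroup G} {d : ℕ} {δ : ℤ} {n : ℕ} {ζ : L → ℂ} {τ₁ : (L → ℂ) → (G → ℂ)}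

local notation "τ" => dadeIsometry A₀ L R
local notation "η" => eta (L.subtype.comp f₁) (L.subtype.comp f₂)
local notation "ηc" => etaCol (L.subtype.comp f₁) (L.subtype.comp f₂)
local notation "α" => alpha10 f₁ f₂ 1 n ζ
local notation "Orth" => OrthEta (L.subtype.comp f₁) (L.subtype.comp f₂)

namespace Hyp104

theorem bridge_gen (h : Hyp104 L K f₁ f₂ A A₀ R d δ n ζ) :
    IsGeneralizedCharacter G (τ (muCol f₁ f₂ 1 - ζ)) :=
  Dade.gen h.pd.dade (gen_sub (h.pti.muCol_gen 1) (gen_of_irr h.irr))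
    (h.pd.hyp76.supp₀ h.muCol_one_sub_supp)

theorem bridge_inner (h : Hyp104 L K f₁ f₂ A A₀ R d δ n ζ) {γ : L → ℂ}
    (hγ : IsClassFunction L γ) :
    classInner (τ (muCol f₁ f₂ 1 - ζ)) (τ γ) = classInner (muCol f₁ f₂ 1 - ζ) γ :=
  Dade.isometry' h.pd.dade (classFun_sub (h.pti.muCol_classFun 1) (irr_isClassFunction h.irr)) hγ
    (h.pd.hyp76.supp₀ h.muCol_one_sub_supp)

theorem bridge_norm (h : Hyp104 L K f₁ f₂ A A₀ R d δ n ζ) :
    classInner (τ (muCol f₁ f₂ 1 - ζ)) (τ (muCol f₁ f₂ 1 - ζ)) = (Nat.card X₁ : ℂ) + 1 := by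
  rw [h.bridge_inner (classFun_sub (h.pti.muCol_classFun 1) (irr_isClassFunction h.irr)),
    classInner_sub_left, classInner_sub_right, classInner_sub_right, h.zeta_inner_muCol,
    h.pti.muCol_inner_of_irr h.mem h.irr, h.pti.muCol_inner_self, irr_inner_self h.irr]
  ring

theorem bridge_inner_one (h : Hyp104 L K f₁ f₂ A A₀ R d δ n ζ) :
    classInner (τ (muCol f₁ f₂ 1 - ζ)) (η 1 1) = 1 := by
  rw [h.cyc.eta_one, Dade.classInner_one h.pd.dade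
    (classFun_sub (h.pti.muCol_classFun 1) (irr_isClassFunction h.irr))
    (h.pd.hyp76.supp₀ h.muCol_one_sub_supp), classInner_sub_left,
    SeqSelf.inner_one h.mem, h.pti.muCol_one, classInner_indOne_one, sub_zero]

theorem bridge_inner_sub (h : Hyp104 L K f₁ f₂ A A₀ R d δ n ζ) {φ : L → ℂ}
    (hφ : φ ∈ seqIndD K K ⊥) (hi : IsIrrCharacter L φ) (hne : ζ ≠ φ) :
    classInner (τ (muCol f₁ f₂ 1 - ζ)) (τ (ζ - φ)) = -1 := by
  rw [h.bridge_inner (classFun_sub (irr_isClassFunction h.irr) (irr_isClassFunction hi)),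
    classInner_sub_left, classInner_sub_right, classInner_sub_right,
    h.pti.muCol_inner_of_irr h.mem h.irr, h.pti.muCol_inner_of_irr hφ hi, irr_inner_self h.irr,
    irr_inner_of_ne h.irr hi hne]
  ring

theorem conj_ne (h : Hyp104 L K f₁ f₂ A A₀ R d δ n ζ) : conjFun ζ ≠ ζ :=
  SeqSelf.conj_ne h.odd h.mem h.irr

/-- (11.8.3), independence of `i` -/
theorem tau_alpha_row (h : Hyp104 L K f₁ f₂ A A₀ R d 1 n ζ) (i : X₁ →* ℂˣ) {j : X₂ →* ℂˣ}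
    (hj : j ≠ 1) : τ (α i j) = τ (α 1 j) + (η i j - η 1 j - η i 1 + η 1 1) := by
  rw [← (h.pd.t4_10 i j).2, ← dade_add, h.const.sign j hj]
  congr 1
  simp only [alpha10, Int.cast_one, one_smul]
  abel

/-- (11.8.3), independence of `j` -/
theorem tau_alpha_col (h : Hyp104 L K f₁ f₂ A A₀ R d 1 n ζ) (i : X₁ →* ℂˣ) {j k : X₂ →* ℂˣ}
    (hj : j ≠ 1) (hk : k ≠ 1) : τ (α i j) = τ (α i k) + (η i j - η i k) := by
  have e := (h.pd.t4_8 i hj hk (by rw [h.const.deg i j hj, h.const.deg i k hk])).2.2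
  rw [h.const.sign j hj, Int.cast_one, one_smul] at e
  rw [← e, ← dade_add]
  congr 1
  simp only [alpha10]
  abel

section
variable {T : Finset (L → ℂ)} (h : Hyp104 L K f₁ f₂ A A₀ R d 1 n ζ)
  (hT : ConjSub ↑T (seqIndD K K ⊥))
  (hi : ∀ φ ∈ T, IsIrrCharacter L φ ∧ φ 1 = Nat.card X₁) (hζ : ζ ∈ T)
  (hτ : CoherentWith ↑T (dadeIsometry A₀ L R) τ₁)
include h hT hi hζ hτ

/-- (11.8.3), `β` is real -/
theorem beta_real {j : X₂ →* ℂˣ} (hj : j ≠ 1) :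
    conjFun (τ (α 1 j) - η 1 j + η 1 1 + (n : ℂ) • τ₁ ζ) =
      τ (α 1 j) - η 1 j + η 1 1 + (n : ℂ) • τ₁ ζ := by
  have hζ' : conjFun ζ ∈ (T : Set (L → ℂ)) := hT.conj_mem ζ hζ
  have e1 : conjFun (α 1 j) = α 1 j⁻¹ + (n : ℂ) • (ζ - conjFun ζ) := by
    simp only [alpha10, conjFun_sub, conjFun_smul, h.pti.mu_conj, Int.cast_one, one_smul,
      map_natCast, dual_inv_one, smul_sub]
    abel
  have e2 := hτ.sub (mem_zspan hζ) (mem_zspan hζ') (gen_conjFun_apply_one (gen_of_irr h.irr)).symm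
  rw [conjFun_add, conjFun_add, conjFun_sub, conjFun_smul, map_natCast, ← dade_conjFun, e1,
    dade_add, dade_smul, e2, ← t5_9a_conj h.pd.dade hτ hζ hζ' h.irr h.conj_ne, h.cyc.eta_conj,
    h.cyc.eta_conj, dual_inv_one, dual_inv_one, h.tau_alpha_col 1 hj (dual_inv_ne_one hj),
    smul_sub]
  abel

/-- (11.8.2) -/
theorem beta_cases (hc : T.card = n) (i : X₁ →* ℂˣ) {j : X₂ →* ℂˣ} (hj : j ≠ 1) :
    classInner (τ (α i j)) (τ₁ ζ) + n = 1 ∨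
      Orth (τ (α i j) - η i j + η i 1 + (n : ℂ) • τ₁ ζ) := by
  classical
  have gen : ∀ φ ∈ T, IsGeneralizedCharacter G (τ₁ φ) := fun φ hφ => hτ.gen (mem_zspan hφ)
  have on1 : ∀ φ ∈ T, classInner (τ₁ φ) (τ₁ φ) = 1 := fun φ hφ => by
    rw [hτ.inner (mem_zspan hφ) (mem_zspan hφ), irr_inner_self (hi φ hφ).1]
  have on0 : ∀ φ ∈ T, ∀ ψ ∈ T, φ ≠ ψ → classInner (τ₁ φ) (τ₁ ψ) = 0 := fun φ hφ ψ hψ hne => by
    rw [hτ.inner (mem_zspan hφ) (mem_zspan hψ), irr_inner_of_ne (hi φ hφ).1 (hi ψ hψ).1 hne]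
  have orth : ∀ φ ∈ T, Orth (τ₁ φ) := fun φ hφ =>
    h.pd.coherent_orthEta h.odd hT.subset hT.conj_mem hτ hφ (hi φ hφ).1
  obtain ⟨b, hb⟩ := gen_inner_int (h.tau_alpha_gen i hj) (gen ζ hζ)
  have hφb : ∀ φ ∈ T.erase ζ, classInner (τ (α i j)) (τ₁ φ) = ((b + n : ℤ) : ℂ) := fun φ hφ => by
    have hφ' := Finset.mem_of_mem_erase hφ
    rw [h.tau_alpha_inner_of_ne hT.subset hτ hζ i hj hφ' (hi φ hφ').1 (hi φ hφ').2
      (Finset.ne_of_mem_erase hφ), hb]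
    push_cast; rfl
  have bes := bessel_orthonormal_le T τ₁ on1 on0 (τ (α i j))
  have h2 := h.const.two_le_n h.pti h.odd
  rw [← Finset.add_sum_erase _ _ hζ, h.tau_alpha_norm i hj, hb,
    Finset.sum_congr rfl (g := fun _ => ((b + n : ℤ) : ℝ) ^ 2) fun φ hφ => by
      rw [hφb φ hφ, Complex.norm_intCast, sq_abs],
    Finset.sum_const, Finset.card_erase_of_mem hζ, Complex.norm_intCast, sq_abs, hc,
    nsmul_eq_mul, Nat.cast_sub (by omega)] at bes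
  have e6 : ((2 : ℂ) + (n : ℂ) ^ 2).re = 2 + (n : ℝ) ^ 2 := by
    rw [← Complex.ofReal_natCast, ← Complex.ofReal_pow, Complex.add_re, Complex.ofReal_re]
    norm_num
  rw [e6] at bes
  have bes' : b ^ 2 + ((n : ℤ) - 1) * (b + n) ^ 2 ≤ 2 + n ^ 2 := by exact_mod_cast bes
  have h2' : (2 : ℤ) ≤ n := by exact_mod_cast h2
  obtain ⟨a, rfl⟩ : ∃ a, b = a - n := ⟨b + n, by ring⟩
  have ha : a = 0 ∨ a = 1 ∨ a = 2 := by
    have h3 : (n : ℤ) * (a ^ 2 - 2 * a) ≤ 2 := by nlinarith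
    have h4 : a ^ 2 - 2 * a ≤ 1 := by
      by_contra hc
      nlinarith
    have h5 : -1 < a := by nlinarith
    have h6 : a < 3 := by nlinarith
    omega
  rcases ha with rfl | rfl | rfl
  · right
    rw [h.tau_alpha_of_inner i hj (gen ζ hζ) (on1 ζ hζ) (orth ζ hζ) (by rw [hb]; push_cast; ring)]
    have e : ((1 : ℤ) : ℂ) • (η i j - η i 1) - (n : ℂ) • τ₁ ζ - η i j + η i 1 + (n : ℂ) • τ₁ ζ = 0 := by
      simp only [Int.cast_one, one_smul]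
      abel
    rw [e]
    exact orthEta_zero
  · left
    rw [hb]; push_cast; ring
  · right
    have hs : ∀ φ ∈ T, classInner (∑ ψ ∈ T, τ₁ ψ) (τ₁ φ) = 1 := fun φ hφ => by
      rw [classInner_sum_left, Finset.sum_eq_single_of_mem φ hφ fun ψ hψ hne => on0 ψ hψ φ hφ hne,
        on1 φ hφ]
    have gs : IsGeneralizedCharacter G (∑ ψ ∈ T, τ₁ ψ) := gen_sum _ gen
    have hss : classInner (∑ ψ ∈ T, τ₁ ψ) (∑ ψ ∈ T, τ₁ ψ) = n := by
      rw [classInner_sum_right, Finset.sum_congr rfl hs, Finset.sum_const, hc, nsmul_eq_mul,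
        mul_one]
    have mem : ∀ φ ∈ T, τ₁ φ ∈ zspan (τ₁ '' ↑T) := fun φ hφ => mem_zspan ⟨φ, hφ, rfl⟩
    have := h.bridge_coherence hT (fun φ hφ => (hi φ hφ).1) hτ i hj
      (X := τ (α i j) - (((2 : ℕ) : ℂ) • ∑ ψ ∈ T, τ₁ ψ - (n : ℂ) • τ₁ ζ))
      (Y := ((2 : ℕ) : ℂ) • ∑ ψ ∈ T, τ₁ ψ - (n : ℂ) • τ₁ ζ) (by abel)
      (zc_sub (zc_natCast_smul 2 (zc_sum _ mem)) (zc_natCast_smul n (mem ζ hζ)))
      (fun φ hφ => by
        rw [classInner_sub_left, classInner_sub_left, classInner_smul_left, classInner_smul_left,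
          hs φ hφ]
        by_cases e : φ = ζ
        · rw [e, hb, on1 ζ hζ]; push_cast; ring
        · rw [hφb φ (Finset.mem_erase.2 ⟨e, hφ⟩), on0 ζ hζ φ hφ (Ne.symm e)]; push_cast; ring)
      (by
        simp only [classInner_sub_left, classInner_sub_right, classInner_smul_left,
          classInner_smul_right, hss, hs ζ hζ, gen_inner_comm (gen ζ hζ) gs, on1 ζ hζ,
          map_natCast]
        push_cast; ring)
    rw [Int.cast_one, one_smul, sub_eq_iff_eq_add] at this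
    rw [this]
    convert (orthEta_sum T orth).smul ((2 : ℕ) : ℂ) using 1
    abel

/-- (11.8.5) -/
theorem tau_alpha_of_bridge (hG : Odd (Nat.card G)) (hc : T.card = n)
    (hb : τ (muCol f₁ f₂ 1 - ζ) = ηc 1 - τ₁ ζ) (i : X₁ →* ℂˣ) {j : X₂ →* ℂˣ} (hj : j ≠ 1) :
    τ (α i j) = ((1 : ℤ) : ℂ) • (η i j - η i 1) - (n : ℂ) • τ₁ ζ := by
  classical
  have gζ := hτ.gen (mem_zspan (Finset.mem_coe.2 hζ))
  have oζ : Orth (τ₁ ζ) := h.pd.coherent_orthEta h.odd hT.subset hT.conj_mem hτ hζ h.irr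
  have e1 := h.tau_alpha_inner 1 hj
    (classFun_sub (h.pti.muCol_classFun 1) (irr_isClassFunction h.irr))
  rw [hb, classInner_sub_right, classInner_sub_right, h.alpha_inner_muCol, h.alpha_inner_zeta,
    if_neg hj, if_pos rfl] at e1
  have e2 : classInner (τ (α 1 j) - η 1 j + η 1 1 + (n : ℂ) • τ₁ ζ) (ηc 1) =
      classInner (τ (α 1 j)) (τ₁ ζ) + n := by
    rw [classInner_add_left, classInner_add_left, classInner_sub_left, classInner_smul_left,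
      oζ.inner_etaCol, h.cyc.eta_inner_etaCol, h.cyc.eta_inner_etaCol, if_neg hj, if_pos rfl]
    push_cast at e1
    linear_combination e1
  have e3 : classInner (τ (α 1 j) - η 1 j + η 1 1 + (n : ℂ) • τ₁ ζ) (fun _ => 1) = 0 := by
    rw [classInner_add_left, classInner_add_left, classInner_sub_left, classInner_smul_left,
      Dade.classInner_one h.pd.dade (h.alpha_classFun 1 j) (h.alpha_supp 1 hj), ← h.pti.mu_one,
      h.alpha_inner_mu, ← h.cyc.eta_one, oζ, h.cyc.eta_inner_self,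
      h.cyc.eta_inner_of_ne (Or.inr hj)]
    simp [hj]
  obtain ⟨m, hm⟩ := gen_real_inner_even hG
    (gen_add (gen_add (gen_sub (h.tau_alpha_gen 1 hj) (h.cyc.eta_gen 1 j)) (h.cyc.eta_gen 1 1))
      (by simpa using gen_intCast_smul (n : ℤ) gζ)) (h.cyc.etaCol_gen 1)
    (h.beta_real hT hi hζ hτ hj) (by rw [h.cyc.etaCol_conj, dual_inv_one]) e3
  have e4 : classInner (τ (α 1 j)) (τ₁ ζ) = -(n : ℂ) := by
    rcases h.beta_cases hT hi hζ hτ hc 1 hj with e | e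
    · rw [e2, e] at hm
      have : (1 : ℤ) = 2 * m := by exact_mod_cast hm
      omega
    · rw [e.inner_etaCol] at e2
      linear_combination -e2
  rw [h.tau_alpha_row i hj, h.tau_alpha_of_inner 1 hj gζ
    (by rw [hτ.inner (mem_zspan hζ) (mem_zspan hζ), irr_inner_self h.irr]) oζ e4]
  simp only [Int.cast_one, one_smul]
  abel

/-- (11.8.4) -/
theorem exists_bridge (ho : Orth (τ (muCol f₁ f₂ 1 - ζ) - ηc 1)) :
    ∃ τ₂, CoherentWith ↑T τ τ₂ ∧ τ (muCol f₁ f₂ 1 - ζ) = ηc 1 - τ₂ ζ := by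
  classical
  have hζ' : conjFun ζ ∈ T := hT.conj_mem ζ hζ
  have sgn : ∀ φ ∈ T, IsSignedIrr G (τ₁ φ) := fun φ hφ =>
    iso_isSignedIrr hτ.iso (mem_zspan hφ) (hi φ hφ).1
  have on0 : ∀ φ ∈ T, ∀ ψ ∈ T, φ ≠ ψ → classInner (τ₁ φ) (τ₁ ψ) = 0 := fun φ hφ ψ hψ hne => by
    rw [hτ.inner (mem_zspan hφ) (mem_zspan hψ), irr_inner_of_ne (hi φ hφ).1 (hi ψ hψ).1 hne]
  have orth : ∀ φ ∈ T, classInner (ηc 1) (τ₁ φ) = 0 := fun φ hφ => classInner_eq_zero_comm.1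
    ((h.pd.coherent_orthEta h.odd hT.subset hT.conj_mem hτ hφ (hi φ hφ).1).inner_etaCol 1)
  obtain ⟨χ, hχ⟩ : ∃ χ, χ = τ (muCol f₁ f₂ 1 - ζ) - ηc 1 := ⟨_, rfl⟩
  have e : τ (muCol f₁ f₂ 1 - ζ) = ηc 1 + χ := by rw [hχ]; abel
  have gχ : IsGeneralizedCharacter G χ := hχ ▸ gen_sub h.bridge_gen (h.cyc.etaCol_gen 1)
  rw [← hχ] at ho
  have sχ : IsSignedIrr G χ := isSignedIrr_of_norm_one gχ (by
    have := h.bridge_norm
    rw [e, classInner_add_left, classInner_add_right, classInner_add_right, ho.inner_etaCol,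
      classInner_eq_zero_comm.1 (ho.inner_etaCol 1), h.cyc.etaCol_inner_etaCol, if_pos rfl] at this
    linear_combination this)
  have key : ∀ φ ∈ T, ζ ≠ φ → classInner χ (τ₁ ζ) - classInner χ (τ₁ φ) = -1 := fun φ hφ hne => by
    have := h.bridge_inner_sub (hT.subset hφ) (hi φ hφ).1 hne
    rw [hτ.sub (mem_zspan hζ) (mem_zspan hφ) (by rw [h.deg, (hi φ hφ).2]), e, classInner_add_left,
      classInner_sub_right, classInner_sub_right, orth ζ hζ, orth φ hφ] at this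
    linear_combination this
  have k1 := key _ hζ' h.conj_ne.symm
  rcases sχ.eq_or_eq_neg_or_orth (sgn ζ hζ) with e1 | e1 | e1
  · rw [e1, (sgn ζ hζ).inner_self, on0 ζ hζ _ hζ' h.conj_ne.symm] at k1
    norm_num at k1
  · exact ⟨τ₁, hτ, by rw [e, e1, sub_eq_add_neg]⟩
  · have e2 : χ = τ₁ (conjFun ζ) :=
      sχ.eq_of_inner_eq_one (sgn _ hζ') (by rw [e1] at k1; linear_combination -k1)
    refine ⟨_, hτ.dual (gen_of_irr h.irr) (SeqSelf.apply_one_ne_zero h.mem) (fun φ hφ => ?_)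
      hT.conj_mem, by rw [e, e2, sub_neg_eq_add]⟩
    by_contra hne
    simp only [Set.mem_insert_iff, Set.mem_singleton_iff, not_or] at hne
    have := key φ hφ (Ne.symm hne.1)
    rw [e1, e2, on0 _ hζ' φ hφ (Ne.symm hne.2)] at this
    norm_num at this

end

/-- the choice of `τ₂` in (11.8.6) -/
theorem exists_tau_muCol (h : Hyp104 L K f₁ f₂ A A₀ R d 1 n ζ) {S₁ S₂ : Set (L → ℂ)}
    (hS₁ : ConjSub S₁ (seqIndD K K ⊥)) (hS₂ : ConjSub S₂ (seqIndD K K ⊥)) (hd : Disjoint S₂ S₁)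
    (hτ : CoherentWith S₁ τ τ₁) (hζ : ζ ∈ S₁) (hc : IsCoherent S₂ {1}ᶜ τ) {j : X₂ →* ℂˣ}
    (hμ : muCol f₁ f₂ j ∈ S₂) (hb : τ (muCol f₁ f₂ j - (d : ℂ) • ζ) = ηc j - (d : ℂ) • τ₁ ζ) :
    ∃ τ₂, CoherentWith S₂ τ τ₂ ∧ τ₂ (muCol f₁ f₂ j) = ηc j := by
  classical
  have hj := h.pti.ne_one_of_muCol_mem (hS₂.subset hμ)
  by_cases hirr : ∃ χ ∈ S₂, IsIrrCharacter L χ
  swap
  · obtain ⟨τ₂, h1, h2⟩ := h.pd.t4_9 hj
    refine ⟨τ₂, h1.mono fun φ hφ => ?_, by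
      rw [h2 j hj rfl, h.const.sign j hj, Int.cast_one, one_smul]⟩
    obtain ⟨k, hk, rfl⟩ := (h.pti.seqInd_cases (hS₂.subset hφ)).resolve_right
      fun e => hirr ⟨φ, hφ, e⟩
    exact ⟨k, hk, by rw [h.const.muCol_apply_one h.pti hk, h.const.muCol_apply_one h.pti hj], rfl⟩
  obtain ⟨χ, hχ, iχ⟩ := hirr
  obtain ⟨τ₂, hτ₂⟩ := coherent_exists hc
  obtain ⟨B, hB, -⟩ := h.pd.t5_3b h.odd
  refine ⟨τ₂, hτ₂, eq_of_inner_eq_norm (n := Nat.card X₁)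
    (by rw [hτ₂.inner (mem_zspan hμ) (mem_zspan hμ), h.pti.muCol_inner_self])
    (by rw [h.cyc.etaCol_inner_etaCol, if_pos rfl]) ?_⟩
  obtain ⟨e, he0, he⟩ := subcoh_deg hB (hS₂.subset hχ)
  obtain ⟨m, -, hm⟩ := subcoh_deg hB (hS₂.subset hμ)
  have hγ := deg_comb_mem (mem_zspan hμ) (mem_zspan hχ) hm he
  have hγ' := zspanOn_mono hS₂.subset hγ
  have hβ : muCol f₁ f₂ j - (d : ℂ) • ζ ∈ zspanOn (seqIndD K K ⊥) {1}ᶜ :=
    sub_mem_zspanOn_one (mem_zspan (hS₂.subset hμ)) (zc_natCast_smul d (mem_zspan h.mem))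
      (by rw [h.const.muCol_apply_one h.pti hj, Pi.smul_apply, h.deg, smul_eq_mul])
  have e1 := iso_inner hB.isometry hγ' hβ
  have o1 := coherent_ortho hB hS₂ hS₁ hτ₂ hτ hd (mem_zspan hμ) (mem_zspan hζ)
  have o2 := coherent_ortho hB hS₂ hS₁ hτ₂ hτ hd (mem_zspan hχ) (mem_zspan hζ)
  have o3 := (h.pd.coherent_orthEta h.odd hS₂.subset hS₂.conj_mem hτ₂ hχ iχ).inner_etaCol j
  have o4 := h.pti.muCol_inner_of_irr h.mem h.irr j
  have o5 := classInner_eq_zero_comm.1 (h.pti.muCol_inner_of_irr (hS₂.subset hχ) iχ j)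
  have o6 : classInner χ ζ = 0 := irr_inner_of_ne iχ h.irr fun e =>
    Set.disjoint_left.1 hd hχ (e ▸ hζ)
  rw [← hτ₂.eq hγ, iso_sub hτ₂.iso (zc_nsmul e (mem_zspan hμ)) (zc_nsmul m (mem_zspan hχ)),
    iso_nsmul hτ₂.iso e (mem_zspan hμ), iso_nsmul hτ₂.iso m (mem_zspan hχ), hb] at e1
  simp only [← Nat.cast_smul_eq_nsmul ℂ, classInner_sub_left, classInner_sub_right,
    classInner_smul_left, classInner_smul_right, o1, o2, o3, o4, o5, o6,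
    h.pti.muCol_inner_self] at e1
  exact mul_left_cancel₀ (Nat.cast_ne_zero.2 he0.ne' : (e : ℂ) ≠ 0) (by linear_combination e1)

/-- (11.8) -/
theorem not_orth_col (h : Hyp104 L K f₁ f₂ A A₀ R d 1 n ζ) (hG : Odd (Nat.card G))
    {T : Finset (L → ℂ)} (hT : ConjSub ↑T (seqIndD K K ⊥))
    (hi : ∀ φ ∈ T, IsIrrCharacter L φ ∧ φ 1 = Nat.card X₁) (hζ : ζ ∈ T) (hc : T.card = n)
    {S₂ : Set (L → ℂ)} (hS₂ : ConjSub S₂ (seqIndD K K ⊥)) (hd : Disjoint S₂ ↑T)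
    (hc₂ : IsCoherent S₂ {1}ᶜ τ) {j : X₂ →* ℂˣ} (hμ : muCol f₁ f₂ j ∈ S₂)
    (hn : ¬ IsCoherent (S₂ ∪ ↑T) {1}ᶜ τ) : ¬ Orth (τ (muCol f₁ f₂ 1 - ζ) - ηc 1) := by
  intro ho
  have hj := h.pti.ne_one_of_muCol_mem (hS₂.subset hμ)
  obtain ⟨B, hB, -⟩ := h.pd.t5_3b h.odd
  obtain ⟨τ₀, hτ₀⟩ := coherent_exists (uniform_degree_coherence_sub hB hT ⟨ζ, hζ⟩
    fun φ hφ ψ hψ => by rw [(hi φ hφ).2, (hi ψ hψ).2])
  obtain ⟨τ₁, hτ₁, hb⟩ := h.exists_bridge hT hi hζ hτ₀ ho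
  have h1 := h.tau_muCol_sub fun i => h.tau_alpha_of_bridge hT hi hζ hτ₁ hG hc hb i hj
  have h2 : τ (muCol f₁ f₂ j - (d : ℂ) • ζ) = ηc j - (d : ℂ) • τ₁ ζ := by
    rw [sub_eq_iff_eq_add.1 h1, hb, h.const.eq_cast]
    funext g
    simp only [Pi.sub_apply, Pi.add_apply, Pi.smul_apply, smul_eq_mul]
    push_cast; ring
  obtain ⟨τ₂, hτ₂, e⟩ := h.exists_tau_muCol hT hS₂ hd hτ₁ hζ hc₂ hμ h2
  refine hn (bridge_coherent hB hS₂ hT hτ₂ hτ₁ hd hμ (zc_natCast_smul d (mem_zspan hζ))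
    (by rw [h.const.muCol_apply_one h.pti hj, Pi.smul_apply, h.deg, smul_eq_mul]) ?_)
  rw [h2, e, iso_natCast_smul hτ₁.iso d (mem_zspan hζ)]

end Hyp104

end CL.PF
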