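import Cfsg.Agent.PF.T9_7
import Cfsg.Agent.PF.One
import Cfsg.Agent.Char.Linear

/-! Linear characters of `H / H₀` in the situation of Peterfalvi (9.7.a).  Owner: helper54. -/

set_option autoImplicit false
set_option linter.unusedSectionVars false

namespace CL.PF

open Cfsg Subgroup BG CL.Char

section general
variable {L : Type*} [Group L]

/-- Extension of a `V`-invariant homomorphism of `H` to the semidirect product `H V`. -/
theorem exists_hom_sup_of_sd {A : Type*} [CommGroup A] {H V : Subgroup L}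
    (hn : V ≤ normalizer (H : Set L)) (hHV : H ⊓ V = ⊥) (θ : H →* A)
    (hθ : ∀ v (hv : v ∈ V) (x : H),
      θ ⟨v * x * v⁻¹, conj_mem_of_le_normalizer hn hv x.2⟩ = θ x) (lam : V →* A) :
    ∃ ξ : ↥(H ⊔ V) →* A, (∀ x : H, ξ ⟨x, mem_sup_left x.2⟩ = θ x) ∧
      ∀ v : V, ξ ⟨v, mem_sup_right v.2⟩ = lam v := by
  let e := sdEquiv hn hHV
  refine ⟨MonoidHom.mk' (fun m => θ (e.symm m).1 * lam (e.symm m).2) fun m m' => ?_,
    fun x => ?_, fun v => ?_⟩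
  · obtain ⟨⟨k, n⟩, rfl⟩ := e.surjective m
    obtain ⟨⟨k', n'⟩, rfl⟩ := e.surjective m'
    have : e (k, n) * e (k', n') =
        e (k * ⟨n * k' * (n : L)⁻¹, conj_mem_of_le_normalizer hn n.2 k'.2⟩, n * n') := by
      ext; simp [e, coe_sdEquiv, mul_assoc]
    simp only [this, Equiv.symm_apply_apply, map_mul, hθ n n.2 k']
    exact mul_mul_mul_comm _ _ _ _
  · have : (⟨x, mem_sup_left x.2⟩ : ↥(H ⊔ V)) = e (x, 1) := by ext; simp [e, coe_sdEquiv]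
    simp [this]
  · have : (⟨v, mem_sup_right v.2⟩ : ↥(H ⊔ V)) = e (1, v) := by ext; simp [e, coe_sdEquiv]
    simp [this]

/-- A linear character of `T` whose restriction to `H` has inertia group in `K` inside `T` induces
irreducibly to `K`. -/
theorem irr_relInd_linear [Finite L] {H T K : Subgroup L} [hH : H.Normal] (hHT : H ≤ T)
    (hTK : T ≤ K) (ξ : T →* ℂˣ)
    (hin : ∀ k ∈ K, (∀ x (hx : x ∈ H), ξ ⟨k * x * k⁻¹, hHT (hH.conj_mem x hx k)⟩ = ξ ⟨x, hHT hx⟩) →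
      k ∈ T) : IsIrrCharacter K (relInd T K fun t => (ξ t : ℂ)) := by
  have hle : H.subgroupOf K ≤ T.subgroupOf K := fun x hx => hHT hx
  let θ : H.subgroupOf K →* ℂˣ := ξ.comp
    ((K.subtype.comp (H.subgroupOf K).subtype).codRestrict T fun x => hHT x.2)
  rw [relInd_def]
  refine irr_indFun_of_inertia_le_of_over (H.subgroupOf K) hle (isIrrCharacter_linear θ)
    (fun k hk => hin k k.2 fun x hx => ?_)
    ((irr_relFun_iff hTK).2 (isIrrCharacter_linear ξ)) ?_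
  · exact Units.ext ((mem_inertia _).1 hk ⟨⟨x, hTK (hHT hx)⟩, hx⟩)
  · have := irr_inner_self (isIrrCharacter_linear θ)
    exact fun e => one_ne_zero (this.symm.trans e)

/-- Two homomorphisms on `H` agreeing on subgroups generating `H` are equal. -/
theorem hom_eq_of_iSup {A : Type*} [Group A] {ι : Sort*} {H : Subgroup L} {N : ι → Subgroup L}
    (hN : ⨆ i, N i = H) {θ θ' : H →* A} (h : ∀ i, ∀ y : H, (y : L) ∈ N i → θ y = θ' y) :
    θ = θ' := by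
  have : H ≤ (θ.eqLocus θ').map H.subtype := by
    conv_lhs => rw [← hN]
    exact iSup_le fun i y hy => ⟨⟨y, hN ▸ mem_iSup_of_mem i hy⟩, h i _ hy, rfl⟩
  ext1 y
  obtain ⟨z, hz, e⟩ := this y.2
  rwa [← Subtype.ext e]

end general

variable {M X₁ X₂ : Type*} [Group M] [Finite M] [Group X₁] [Group X₂] [Finite X₁] [Finite X₂]
  {H U H₀ H₁ : Subgroup M} [H₀.Normal] {f₁ : X₁ →* M} {f₂ : X₂ →* M}

theorem NonGalois9.gen_cj (h₁ : NonGalois9 H U H₀ f₁ H₁) : ⨆ x : X₁, cj (f₁ x) H₁ = H := h₁.gen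

theorem NonGalois9.not_le (h : Hyp95 H U H₀ f₁ f₂) (h₁ : NonGalois9 H U H₀ f₁ H₁) :
    ¬ H₁ ≤ H₀ := fun e => h.p_prime.one_lt.ne' (h₁.card ▸ relIndex_eq_one.2 e)

theorem NonGalois9.relIndex_cj_prime (h : Hyp95 H U H₀ f₁ f₂) (h₁ : NonGalois9 H U H₀ f₁ H₁)
    (g : M) : (H₀.relIndex (cj g H₁)).Prime := by
  rw [relIndex_cj_of_normal, h₁.card]; exact h.p_prime

theorem NonGalois9.cj_eq_sup (h : Hyp95 H U H₀ f₁ f₂) (h₁ : NonGalois9 H U H₀ f₁ H₁) {g s : M}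
    (hs : s ∈ cj g H₁) (hs₀ : s ∉ H₀) : cj g H₁ = H₀ ⊔ zpowers s :=
  ((eq_or_eq_of_relIndex_prime (h₁.relIndex_cj_prime h g) le_sup_left
    (sup_le (le_cj_of_normal h₁.le₀ g) (zpowers_le.2 hs))).resolve_left fun e =>
      hs₀ (e ▸ mem_sup_right (mem_zpowers s))).symm

theorem NonGalois9.der_norm_cj (h : Hyp95 H U H₀ f₁ f₂) (h₁ : NonGalois9 H U H₀ f₁ H₁) (x : X₁) :
    commutator M ≤ normalizer (cj (f₁ x) H₁ : Set M) := by
  rw [← h.sup_eq]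
  exact sup_le (h.H_le_normalizer (le_cj_of_normal h₁.le₀ _) (h.cj_le_H h₁.le _))
    (h.norm_cj h₁.norm x)

theorem NonGalois9.mem_centMod_iff (h : Hyp95 H U H₀ f₁ f₂) (h₁ : NonGalois9 H U H₀ f₁ H₁)
    {g : M} : g ∈ centMod H H₀ ↔ ∀ x : X₁, g ∈ centMod (cj (f₁ x) H₁) H₀ :=
  ⟨fun hg _ => centMod_anti (h.cj_le_H h₁.le _) hg, fun hg => h₁.gen_cj ▸ le_centMod_iSup hg⟩

/-- Linear characters of `H / H₀` with prescribed values on the `W₁`-conjugates of a generator of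
`H₁ / H₀`. -/
theorem NonGalois9.exists_lin (h : Hyp95 H U H₀ f₁ f₂) (h₁ : NonGalois9 H U H₀ f₁ H₁) {s : M}
    (hs : s ∈ H₁) (hs₀ : s ∉ H₀) (c : X₁ → ℂˣ) (hc : ∀ x, c x ^ pOf H H₀ = 1) :
    ∃ θ : H →* ℂˣ, (∀ y : H, (y : M) ∈ H₀ → θ y = 1) ∧
      ∀ x : X₁, θ ⟨f₁ x * s * (f₁ x)⁻¹, h.H_normal.conj_mem s (h₁.le hs) _⟩ = c x := by
  have := h.H_normal
  have : NeZero (pOf H H₀) := ⟨h.p_prime.ne_zero⟩
  let t : X₁ → H := fun x => ⟨f₁ x * s * (f₁ x)⁻¹, h.H_normal.conj_mem s (h₁.le hs) _⟩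
  let π := QuotientGroup.mk' (H₀.subgroupOf H)
  have hπ : ∀ y : H, (y : M) ∈ H₀ → π y = 1 := fun y hy => (QuotientGroup.eq_one_iff _).2 hy
  let Φ : (H ⧸ H₀.subgroupOf H →* ℂˣ) → X₁ → rootsOfUnity (pOf H H₀) ℂ := fun φ x =>
    ⟨φ (π (t x)), by
      rw [mem_rootsOfUnity, ← map_pow, ← map_pow, hπ _ (h.pow_mem (t x).2), map_one]⟩
  have hinj : Function.Injective Φ := by
    intro φ φ' e
    have : φ.comp π = φ'.comp π := by
      refine hom_eq_of_iSup h₁.gen_cj fun x y hy => ?_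
      rw [h₁.cj_eq_sup h (conj_mem_cj.2 hs) (fun e => hs₀ (by
        simpa [mul_assoc] using Normal.conj_mem inferInstance _ e (f₁ x)⁻¹))] at hy
      obtain ⟨a, ha, _, ⟨n, rfl⟩, e1⟩ := mem_sup_iff_of_normal.1 hy
      have e2 : y = ⟨a, h.H₀_le ha⟩ * t x ^ n := Subtype.ext (by simpa [t] using e1)
      have e3 : φ (π (t x)) = φ' (π (t x)) := congrArg Subtype.val (congrFun e x)
      simp only [e2, MonoidHom.comp_apply, map_mul, map_zpow, hπ ⟨a, _⟩ ha, e3, map_one]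
    exact MonoidHom.ext fun z => by
      obtain ⟨y, rfl⟩ := QuotientGroup.mk'_surjective _ z
      exact DFunLike.congr_fun this y
  have hcard : Nat.card (X₁ → rootsOfUnity (pOf H H₀) ℂ) ≤
      Nat.card (H ⧸ H₀.subgroupOf H →* ℂˣ) := by
    rw [Nat.card_fun, Complex.card_rootsOfUnity, card_linear_of_comm, ← h.relIndex_H]
    · rfl
    · intro a b
      obtain ⟨a, rfl⟩ := QuotientGroup.mk'_surjective _ a
      obtain ⟨b, rfl⟩ := QuotientGroup.mk'_surjective _ b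
      rw [← map_mul, ← map_mul, ← mul_inv_eq_one, ← map_inv, ← map_mul]
      exact hπ _ (by simpa [mul_assoc] using mem_centMod.1 (h.H_le_centMod a.2) b b.2)
  obtain ⟨φ, hφ⟩ := (hinj.bijective_of_nat_card_le hcard).2 fun x => ⟨c x, hc x⟩
  exact ⟨φ.comp π, fun y hy => by rw [MonoidHom.comp_apply, hπ y hy, map_one],
    fun x => congrArg Subtype.val (congrFun hφ x)⟩

/-- The kernel of a linear character of `H / H₀` meets `H₁ ^ g / H₀` trivially or contains it. -/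
theorem NonGalois9.mem_of_apply_eq_one (h : Hyp95 H U H₀ f₁ f₂) (h₁ : NonGalois9 H U H₀ f₁ H₁)
    {θ : H →* ℂˣ} (hθ : ∀ y : H, (y : M) ∈ H₀ → θ y = 1) {g : M} {t : H} (ht : (t : M) ∈ cj g H₁)
    (ht1 : θ t ≠ 1) {y : H} (hy : (y : M) ∈ cj g H₁) (hy1 : θ y = 1) : (y : M) ∈ H₀ := by
  by_contra hy0
  rw [h₁.cj_eq_sup h hy hy0] at ht
  obtain ⟨a, ha, _, ⟨n, rfl⟩, e1⟩ := mem_sup_iff_of_normal.1 ht
  have e2 : t = ⟨a, h.H₀_le ha⟩ * y ^ n := Subtype.ext (by simpa using e1)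
  exact ht1 (by rw [e2, map_mul, map_zpow, hθ _ ha, hy1, one_zpow, one_mul])

/-- Linear characters of `H / H₀` that are faithful on the factors `H₁ ^ x / H₀`, `x ∈ S`, and
trivial on the others. -/
theorem NonGalois9.exists_lin_supp (h : Hyp95 H U H₀ f₁ f₂) (h₁ : NonGalois9 H U H₀ f₁ H₁)
    (S : Set X₁) : ∃ θ : H →* ℂˣ, (∀ y : H, (y : M) ∈ H₀ → θ y = 1) ∧
      (∀ x ∈ S, ∀ y : H, (y : M) ∈ cj (f₁ x) H₁ → θ y = 1 → (y : M) ∈ H₀) ∧
      ∀ x ∉ S, ∀ y : H, (y : M) ∈ cj (f₁ x) H₁ → θ y = 1 := by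
  classical
  obtain ⟨s, hs, hs₀⟩ := not_forall₂.1 (h₁.not_le h)
  have hζ := Complex.isPrimitiveRoot_exp _ h.p_prime.ne_zero
  set ζ := (hζ.isUnit h.p_prime.ne_zero).unit
  have hζ1 : ζ ≠ 1 := fun e => hζ.ne_one h.p_prime.one_lt (by simpa [ζ] using congrArg Units.val e)
  have hζp : ζ ^ pOf H H₀ = 1 := Units.ext (by simpa [ζ] using hζ.pow_eq_one)
  obtain ⟨θ, hθ, hθs⟩ := h₁.exists_lin h hs hs₀ (fun x => if x ∈ S then ζ else 1)
    (fun x => by split_ifs <;> simp [hζp])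
  refine ⟨θ, hθ, fun x hx y hy hy1 => h₁.mem_of_apply_eq_one h hθ
    (t := ⟨_, h.H_normal.conj_mem s (h₁.le hs) (f₁ x)⟩) (conj_mem_cj.2 hs)
    (by rw [hθs x, if_pos hx]; exact hζ1) hy hy1, fun x hx y hy => ?_⟩
  rw [h₁.cj_eq_sup h (conj_mem_cj.2 hs) (fun e => hs₀ (by
    simpa [mul_assoc] using Normal.conj_mem inferInstance _ e (f₁ x)⁻¹))] at hy
  obtain ⟨a, ha, _, ⟨n, rfl⟩, e1⟩ := mem_sup_iff_of_normal.1 hy
  have e2 : y = ⟨a, h.H₀_le ha⟩ *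
      (⟨_, h.H_normal.conj_mem s (h₁.le hs) (f₁ x)⟩ : H) ^ n := Subtype.ext (by simpa using e1)
  rw [e2, map_mul, map_zpow, hθ _ ha, hθs x, if_neg hx, one_zpow, one_mul]

/-- The stabiliser in `M'` of such a linear character. -/
theorem NonGalois9.stab_iff (h : Hyp95 H U H₀ f₁ f₂) (h₁ : NonGalois9 H U H₀ f₁ H₁) {S : Set X₁}
    {θ : H →* ℂˣ} (hθ : ∀ y : H, (y : M) ∈ H₀ → θ y = 1)
    (hS : ∀ x ∈ S, ∀ y : H, (y : M) ∈ cj (f₁ x) H₁ → θ y = 1 → (y : M) ∈ H₀)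
    (hS' : ∀ x ∉ S, ∀ y : H, (y : M) ∈ cj (f₁ x) H₁ → θ y = 1) {k : M} (hk : k ∈ commutator M) :
    (∀ y : H, θ ⟨k * y * k⁻¹, h.H_normal.conj_mem _ y.2 k⟩ = θ y) ↔
      ∀ x ∈ S, k ∈ centMod (cj (f₁ x) H₁) H₀ := by
  have := h.H_normal
  constructor
  · intro hfix x hx
    refine mem_centMod.2 fun y hy => ?_
    have hyH := h.cj_le_H h₁.le _ hy
    refine hS x hx (⟨k * y * k⁻¹, h.H_normal.conj_mem _ hyH k⟩ * ⟨y, hyH⟩⁻¹)
      (mul_mem (conj_mem_of_le_normalizer (h₁.der_norm_cj h x) hk hy) (inv_mem hy)) ?_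
    rw [map_mul, map_inv, hfix ⟨y, hyH⟩, mul_inv_cancel]
  · intro hcent
    have : θ.comp (MulAut.conjNormal k : MulAut H).toMonoidHom = θ := by
      refine hom_eq_of_iSup h₁.gen_cj fun x y hy => ?_
      by_cases hx : x ∈ S
      · rw [← mul_inv_eq_one, ← map_inv, MonoidHom.comp_apply, ← map_mul]
        exact hθ _ (mem_centMod.1 (hcent x hx) _ hy)
      · rw [hS' x hx y hy]
        exact hS' x hx _ (conj_mem_of_le_normalizer (h₁.der_norm_cj h x) hk hy)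
    exact fun y => DFunLike.congr_fun this y

end CL.PF
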