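import Cfsg.Agent.Base
import Cfsg.Agent.PF.SeqInd
import Cfsg.Agent.PF.SdProj
import Cfsg.Agent.Solv.Glauberman

/-!
# Clifford theory for a pair of subgroups `N ≤ K` of `X` with `K ≤ N_X(N)`

`nInertia N ψ` is the stabiliser in `X` of (the extension by zero of) a function `ψ` on `N`.
Also: linear characters trivial on a subgroup, linear characters of semidirect products, sums of
squares of degrees.
-/

set_option autoImplicit false

namespace CL.PF

open Cfsg CL.Char ComplexConjugate Subgroup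
open scoped commutatorElement

section
variable {X : Type*} [Group X]

/-- the elements of `X` fixing the extension by zero of `ψ` under conjugation -/
def nInertia (N : Subgroup X) (ψ : N → ℂ) : Subgroup X where
  carrier := {g | ∀ x, extendByZero N ψ (g * x * g⁻¹) = extendByZero N ψ x}
  one_mem' := fun x => by simp
  mul_mem' := fun {a b} ha hb x => by
    rw [← hb x, ← ha (b * x * b⁻¹)]; congr 1; group
  inv_mem' := fun {a} ha x => by
    rw [← ha (a⁻¹ * x * a⁻¹⁻¹)]; congr 1; group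

variable {N K : Subgroup X} {ψ : N → ℂ}

theorem mem_nInertia {g : X} :
    g ∈ nInertia N ψ ↔ ∀ x, extendByZero N ψ (g * x * g⁻¹) = extendByZero N ψ x := Iff.rfl

theorem apply_conj_of_mem_nInertia {g : X} (hg : g ∈ nInertia N ψ) (n : N)
    (h : g * n * g⁻¹ ∈ N) : ψ ⟨g * n * g⁻¹, h⟩ = ψ n := by
  rw [← extendByZero_of_mem N ψ h, hg, extendByZero_coe]

theorem mem_nInertia_of_normalizer {g : X} (hg : g ∈ normalizer (N : Set X))
    (h : ∀ (n : N) (h : g * n * g⁻¹ ∈ N), ψ ⟨g * n * g⁻¹, h⟩ = ψ n) : g ∈ nInertia N ψ := by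
  intro x
  by_cases hx : x ∈ N
  · rw [extendByZero_of_mem N ψ hx,
      extendByZero_of_mem N ψ ((mem_normalizer_iff.1 hg x).1 hx)]
    exact h ⟨x, hx⟩ _
  · rw [extendByZero_of_not_mem N ψ hx,
      extendByZero_of_not_mem N ψ (fun h' => hx ((mem_normalizer_iff.1 hg x).2 h'))]

theorem le_nInertia (hψ : IsClassFunction N ψ) : N ≤ nInertia N ψ :=
  fun _ hg x => extendByZero_conj_mem N hψ hg x

theorem nInertia_eq_inertia [N.Normal] : nInertia N ψ = inertia N ψ := by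
  ext g
  rw [mem_inertia]
  exact ⟨fun hg n => apply_conj_of_mem_nInertia hg n _,
    fun h => mem_nInertia_of_normalizer (le_normalizer_of_normal (mem_top g)) fun n _ => h n⟩

theorem inertia_relFun (hNK : N ≤ K) [hN : (N.subgroupOf K).Normal] :
    inertia (N.subgroupOf K) (relFun N K ψ) = (nInertia N ψ).subgroupOf K := by
  ext g
  rw [mem_inertia, mem_subgroupOf]
  refine ⟨fun h => mem_nInertia_of_normalizer ?_ fun n _ => h ⟨⟨n, hNK n.2⟩, n.2⟩,
    fun hg n => apply_conj_of_mem_nInertia hg ⟨(n : K), n.2⟩ _⟩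
  exact (normal_subgroupOf_iff_le_normalizer hNK).1 hN g.2

/-- the restriction of a `g`-fixed function to a `g`-invariant subgroup is `g`-fixed -/
theorem mem_nInertia_relRes {A : Subgroup X} (hAN : A ≤ N) {g : X} (hg : g ∈ nInertia N ψ)
    (hgA : g ∈ normalizer (A : Set X)) : g ∈ nInertia A (relRes hAN ψ) :=
  mem_nInertia_of_normalizer hgA fun n h => apply_conj_of_mem_nInertia hg ⟨n, hAN n.2⟩ (hAN h)

/-- a linear character fixed by `g` is trivial on the commutators `[g, n]` -/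
theorem linear_comm_of_mem_nInertia {lam : N →* ℂˣ} {g : X}
    (hg : g ∈ nInertia N (fun x => (lam x : ℂ))) {n : X} (hn : n ∈ N) (h : g * n * g⁻¹ ∈ N) :
    lam ⟨g * n * g⁻¹ * n⁻¹, N.mul_mem h (N.inv_mem hn)⟩ = 1 := by
  have h1 : lam ⟨g * n * g⁻¹, h⟩ = lam ⟨n, hn⟩ :=
    Units.ext (apply_conj_of_mem_nInertia hg ⟨n, hn⟩ h)
  have h2 : (⟨g * n * g⁻¹ * n⁻¹, N.mul_mem h (N.inv_mem hn)⟩ : N) =
    ⟨g * n * g⁻¹, h⟩ * (⟨n, hn⟩ : N)⁻¹ := rfl
  rw [h2, map_mul, map_inv, h1, mul_inv_cancel]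

theorem mem_nInertia_linear {lam : N →* ℂˣ} {g : X} (hg : g ∈ normalizer (N : Set X))
    (h : ∀ n ∈ N, ∀ h : g * n * g⁻¹ * n⁻¹ ∈ N, lam ⟨_, h⟩ = 1) :
    g ∈ nInertia N (fun x => (lam x : ℂ)) := by
  refine mem_nInertia_of_normalizer hg fun n hn => ?_
  have h1 := h n n.2 (N.mul_mem hn (N.inv_mem n.2))
  have h2 : (⟨g * n * g⁻¹ * (n : X)⁻¹, N.mul_mem hn (N.inv_mem n.2)⟩ : N) =
    ⟨g * n * g⁻¹, hn⟩ * n⁻¹ := rfl
  rw [h2, map_mul, map_inv, mul_inv_eq_one] at h1
  exact congrArg Units.val h1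

theorem inKer_linear_iff {Y : Subgroup X} {lam : N →* ℂˣ} :
    InKer Y (fun x => (lam x : ℂ)) ↔ ∀ y : N, (y : X) ∈ Y → lam y = 1 := by
  refine forall₂_congr fun y _ => ?_
  simp

theorem inKer_linear_iff_le {Y : Subgroup X} {lam : N →* ℂˣ} :
    InKer Y (fun x => (lam x : ℂ)) ↔ Y.subgroupOf N ≤ lam.ker := inKer_linear_iff

variable [Finite X]

theorem classInner_relInd_self (hNK : N ≤ K) (hn : K ≤ normalizer (N : Set X)) [Fintype K]
    (hψ : IsIrrCharacter N ψ) :
    classInner (relInd N K ψ) (relInd N K ψ) = N.relIndex (nInertia N ψ ⊓ K) := by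
  haveI := normal_subgroupOf_of_le_normalizer hn
  rw [relInd_def, classInner_indFun_self _ ((irr_relFun_iff hNK).2 hψ), inertia_relFun hNK,
    ← inf_subgroupOf_right (nInertia N ψ), relIndex_subgroupOf inf_le_right]

theorem irr_relInd_iff (hNK : N ≤ K) (hn : K ≤ normalizer (N : Set X))
    (hψ : IsIrrCharacter N ψ) : IsIrrCharacter K (relInd N K ψ) ↔ nInertia N ψ ⊓ K ≤ N := by
  haveI := normal_subgroupOf_of_le_normalizer hn
  rw [relInd_def, irr_indFun_iff _ ((irr_relFun_iff hNK).2 hψ), inertia_relFun hNK]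
  exact ⟨fun h g hg => h (x := ⟨g, hg.2⟩) hg.1, fun h g hg => h ⟨hg, g.2⟩⟩

theorem eq_relInd_of_nInertia_le (hNK : N ≤ K) (hn : K ≤ normalizer (N : Set X)) [Fintype N]
    (hψ : IsIrrCharacter N ψ) (hI : nInertia N ψ ⊓ K ≤ N) {φ : K → ℂ} (hφ : IsIrrCharacter K φ)
    (h : classInner (relRes hNK φ) ψ ≠ 0) : φ = relInd N K ψ :=
  eq_relInd_of_inner_ne_zero hNK hφ ((irr_relInd_iff hNK hn hψ).2 hI) h

theorem classInner_res_relFun (hNK : N ≤ K) [Fintype N] [Fintype (N.subgroupOf K)] (φ : K → ℂ)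
    (ψ : N → ℂ) : classInner (fun x : N.subgroupOf K => φ x) (relFun N K ψ) =
      classInner (relRes hNK φ) ψ := by
  rw [← relFun_relRes hNK, classInner_relFun hNK]

theorem rel_clifford_apply_one (hNK : N ≤ K) (hn : K ≤ normalizer (N : Set X)) [Fintype N]
    (hψ : IsIrrCharacter N ψ) {φ : K → ℂ} (hφ : IsIrrCharacter K φ)
    (h : classInner (relRes hNK φ) ψ ≠ 0) :
    φ 1 = classInner (relRes hNK φ) ψ * (nInertia N ψ).relIndex K * ψ 1 := by
  haveI := normal_subgroupOf_of_le_normalizer hn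
  rw [← classInner_res_relFun hNK] at h ⊢
  rw [clifford_apply_one _ hφ ((irr_relFun_iff hNK).2 hψ) h, inertia_relFun hNK]
  rfl

theorem relIndex_nInertia_dvd_deg (hNK : N ≤ K) (hn : K ≤ normalizer (N : Set X)) [Fintype N]
    (hψ : IsIrrCharacter N ψ) {φ : K → ℂ} (hφ : IsIrrCharacter K φ)
    (h : classInner (relRes hNK φ) ψ ≠ 0) : (nInertia N ψ).relIndex K * deg ψ ∣ deg φ := by
  obtain ⟨e, he⟩ := char_inner_nat (char_relRes hNK (irr_isCharacter hφ)) (irr_isCharacter hψ)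
  have h1 := rel_clifford_apply_one hNK hn hψ hφ h
  rw [he, ← irr_cast_deg hφ, ← irr_cast_deg hψ] at h1
  refine ⟨e, ?_⟩
  have : deg φ = e * (nInertia N ψ).relIndex K * deg ψ := by exact_mod_cast h1
  rw [this]; ring

/-- two constituents of the restriction of an irreducible character are conjugate -/
theorem exists_conj_of_rel_constituents (hNK : N ≤ K) (hn : K ≤ normalizer (N : Set X))
    [Fintype N] {ψ' : N → ℂ} (hψ : IsIrrCharacter N ψ) (hψ' : IsIrrCharacter N ψ') {φ : K → ℂ}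
    (hφ : IsIrrCharacter K φ) (h : classInner (relRes hNK φ) ψ ≠ 0)
    (h' : classInner (relRes hNK φ) ψ' ≠ 0) :
    ∃ k ∈ K, ∀ (n : N) (hk : k * n * k⁻¹ ∈ N), ψ' n = ψ ⟨k * n * k⁻¹, hk⟩ := by
  haveI := normal_subgroupOf_of_le_normalizer hn
  rw [← classInner_res_relFun hNK] at h h'
  obtain ⟨k, hk⟩ := (mem_conjOrbit _).1 (mem_conjOrbit_of_constituents _ hφ
    ((irr_relFun_iff hNK).2 hψ) ((irr_relFun_iff hNK).2 hψ') h h')
  exact ⟨k, k.2, fun n _ => congrFun hk ⟨⟨n, hNK n.2⟩, n.2⟩⟩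

theorem relInd_eq_of_conj (hNK : N ≤ K) (hn : K ≤ normalizer (N : Set X)) {ψ' : N → ℂ} {k : X}
    (hk : k ∈ K) (h : ∀ (n : N) (hk : k * n * k⁻¹ ∈ N), ψ' n = ψ ⟨k * n * k⁻¹, hk⟩) :
    relInd N K ψ' = relInd N K ψ := by
  haveI := normal_subgroupOf_of_le_normalizer hn
  rw [relInd_def, relInd_def, ← indFun_conjChar (N.subgroupOf K) ⟨k, hk⟩ (relFun N K ψ)]
  congr 1
  funext n
  exact h ⟨(n : K), n.2⟩ _

theorem classInner_relInd_eq_zero (hNK : N ≤ K) (hn : K ≤ normalizer (N : Set X)) [Fintype K]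
    {ψ' : N → ℂ} (hψ : IsIrrCharacter N ψ) (hψ' : IsIrrCharacter N ψ')
    (h : relInd N K ψ' ≠ relInd N K ψ) : classInner (relInd N K ψ') (relInd N K ψ) = 0 := by
  haveI := normal_subgroupOf_of_le_normalizer hn
  rw [relInd_def, relInd_def] at h ⊢
  exact classInner_indFun_eq_zero_of_ne _ ((irr_relFun_iff hNK).2 hψ)
    ((irr_relFun_iff hNK).2 hψ') h

/-- relative Clifford correspondence: irreducibility -/
theorem irr_relInd_of_over {T : Subgroup X} (hNT : N ≤ T) (hTK : T ≤ K)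
    (hn : K ≤ normalizer (N : Set X)) [Fintype N] (hψ : IsIrrCharacter N ψ)
    (hI : nInertia N ψ ⊓ K ≤ T) {φ : T → ℂ} (hφ : IsIrrCharacter T φ)
    (h : classInner (relRes hNT φ) ψ ≠ 0) : IsIrrCharacter K (relInd T K φ) := by
  haveI := normal_subgroupOf_of_le_normalizer hn
  have hNK := hNT.trans hTK
  rw [relInd_def]
  refine irr_indFun_of_inertia_le_of_over (N.subgroupOf K) (fun x hx => hNT hx)
    ((irr_relFun_iff hNK).2 hψ) ?_ ((irr_relFun_iff hTK).2 hφ) ?_
  · rw [inertia_relFun hNK]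
    exact fun g hg => hI ⟨hg, g.2⟩
  · rwa [← classInner_relFun hNK] at h

/-- relative Clifford correspondence: surjectivity -/
theorem exists_eq_relInd_of_over {T : Subgroup X} (hNT : N ≤ T) (hTK : T ≤ K)
    (hn : K ≤ normalizer (N : Set X)) [Fintype N] (hψ : IsIrrCharacter N ψ)
    (hI : nInertia N ψ ⊓ K ≤ T) {χ : K → ℂ} (hχ : IsIrrCharacter K χ)
    (h : classInner (relRes (hNT.trans hTK) χ) ψ ≠ 0) :
    ∃ φ : T → ℂ, IsIrrCharacter T φ ∧ classInner (relRes hNT φ) ψ ≠ 0 ∧ χ = relInd T K φ := by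
  have hNK := hNT.trans hTK
  rw [← classInner_relInd_right hNK ψ (irr_isClassFunction hχ), ← relInd_relInd hNT hTK,
    classInner_relInd_right hTK _ (irr_isClassFunction hχ)] at h
  obtain ⟨φ, hφ, h1, h2⟩ := exists_irr_of_inner_ne_zero
    (classFun_relRes hTK (irr_isClassFunction hχ)) h
  rw [classInner_relInd_left hNT ψ (irr_isClassFunction hφ)] at h2
  have h3 := fun h0 => h2 (classInner_eq_zero_comm.1 h0)
  exact ⟨φ, hφ, h3, eq_relInd_of_inner_ne_zero hTK hχ
    (irr_relInd_of_over hNT hTK hn hψ hI hφ h3) h1⟩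

/-- a constituent on `N` of a character whose kernel contains `[N, N]` is linear -/
theorem exists_linear_of_inKer {Y : Subgroup X} (hY : ⁅N, N⁆ ≤ Y) (hψ : IsIrrCharacter N ψ)
    (h : InKer Y ψ) : ∃ lam : N →* ℂˣ, ψ = fun x => (lam x : ℂ) :=
  exists_linear_of_isIrrCharacter hψ ((h.mono hY).apply_one_eq_one hψ)

theorem exists_linear_relUnder (hNK : N ≤ K) [Fintype N] {Y : Subgroup X} (hY : ⁅N, N⁆ ≤ Y)
    {φ : K → ℂ} (hφ : IsIrrCharacter K φ) (h : InKer Y φ) :
    ∃ lam : N →* ℂˣ, classInner (relRes hNK φ) (fun x => (lam x : ℂ)) ≠ 0 ∧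
      InKer Y (fun x => (lam x : ℂ)) := by
  obtain ⟨ψ, hψ, h1⟩ := exists_irr_relUnder hNK hφ
  have h2 : InKer Y ψ :=
    InKer.of_constituent (char_relRes hNK (irr_isCharacter hφ)) hψ h1 (h.relRes hNK)
  obtain ⟨lam, rfl⟩ := exists_linear_of_inKer hY hψ h2
  exact ⟨lam, h1, h2⟩

end

/-! ### linear characters -/

section
variable {X : Type*} [Group X]

/-- the number of linear characters trivial on a subgroup containing the derived subgroup -/
theorem card_linear_le_ker [Finite X] {N : Subgroup X} (hN : commutator X ≤ N) :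
    Nat.card {lam : X →* ℂˣ // N ≤ lam.ker} = N.index := by
  haveI : N.Normal := ⟨fun n hn g => by
    have : g * n * g⁻¹ = ⁅g, n⁆ * n := by rw [commutatorElement_def]; group
    rw [this]
    exact N.mul_mem (hN (commutator_mem_commutator (mem_top g) (mem_top n))) hn⟩
  have hc : ∀ a b : X ⧸ N, a * b = b * a := by
    intro a b
    obtain ⟨a, rfl⟩ := QuotientGroup.mk_surjective a
    obtain ⟨b, rfl⟩ := QuotientGroup.mk_surjective b
    rw [← QuotientGroup.mk_mul, ← QuotientGroup.mk_mul, QuotientGroup.eq]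
    have : (a * b)⁻¹ * (b * a) = ⁅b⁻¹, a⁻¹⁆ := by rw [commutatorElement_def]; group
    rw [this]
    exact hN (commutator_mem_commutator (mem_top _) (mem_top _))
  rw [index, ← card_linear_of_comm hc]
  refine Nat.card_congr
    { toFun := fun lam => QuotientGroup.lift N lam.1 lam.2
      invFun := fun mu => ⟨mu.comp (QuotientGroup.mk' N), fun n hn => ?_⟩
      left_inv := fun lam => Subtype.ext (MonoidHom.ext fun x => rfl)
      right_inv := fun mu => ?_ }
  · rw [MonoidHom.mem_ker, MonoidHom.comp_apply, QuotientGroup.mk'_apply,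
      (QuotientGroup.eq_one_iff n).2 hn, map_one]
  · ext x; rfl

theorem card_linear_inKer [Finite X] {N Y : Subgroup X} (hY : ⁅N, N⁆ ≤ Y) :
    Nat.card {lam : N →* ℂˣ // InKer Y (fun x => (lam x : ℂ))} = Y.relIndex N := by
  simp only [inKer_linear_iff_le]
  refine card_linear_le_ker ?_
  rw [commutator_def, commutator_le]
  intro a _ b _
  exact hY (commutator_mem_commutator a.2 b.2)

theorem exists_linear_inKer_ne_one [Finite X] {N Y : Subgroup X} (hY : ⁅N, N⁆ ≤ Y) {g : X}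
    (hg : g ∈ N) (hgY : g ∉ Y) :
    ∃ lam : N →* ℂˣ, InKer Y (fun x => (lam x : ℂ)) ∧ lam ⟨g, hg⟩ ≠ 1 := by
  simp only [inKer_linear_iff_le]
  refine exists_linear_trivial_on_apply_ne_one ?_ hgY
  rw [commutator_def, commutator_le]
  intro a _ b _
  exact hY (commutator_mem_commutator a.2 b.2)

/-- linear characters of a semidirect product -/
theorem exists_linear_sup {H V : Subgroup X} (hn : V ≤ normalizer (H : Set X)) (hHV : H ⊓ V = ⊥)
    (lam : H →* ℂˣ) (hlam : V ≤ nInertia H (fun x => (lam x : ℂ))) (xi : V →* ℂˣ) :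
    ∃ mu : ↥(H ⊔ V) →* ℂˣ, (∀ h : H, mu ⟨h, mem_sup_left h.2⟩ = lam h) ∧
      ∀ v : V, mu ⟨v, mem_sup_right v.2⟩ = xi v := by
  let e := sdEquiv hn hHV
  have he : ∀ (a : H) (v : V) (h : (a : X) * v ∈ H ⊔ V), e.symm ⟨a * v, h⟩ = (a, v) :=
    fun a v h => by rw [Equiv.symm_apply_eq]; exact Subtype.ext (coe_sdEquiv hn hHV (a, v)).symm
  refine ⟨MonoidHom.mk' (fun x => lam (e.symm x).1 * xi (e.symm x).2) fun x y => ?_,
    fun h => ?_, fun v => ?_⟩
  · obtain ⟨⟨a, v⟩, rfl⟩ := e.surjective x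
    obtain ⟨⟨b, w⟩, rfl⟩ := e.surjective y
    have hb : (v : X) * b * (v : X)⁻¹ ∈ H := (mem_normalizer_iff.1 (hn v.2) b).1 b.2
    have h1 : e (a, v) * e (b, w) = e (a * ⟨_, hb⟩, v * w) := by
      apply Subtype.ext
      simp only [e, coe_mul, coe_sdEquiv]
      group
    have h2 : lam ⟨_, hb⟩ = lam b := Units.ext (apply_conj_of_mem_nInertia (hlam v.2) b hb)
    rw [h1]
    simp only [Equiv.symm_apply_apply, map_mul, h2]
    exact mul_mul_mul_comm _ _ _ _
  · have := he h 1 (by simpa using mem_sup_left h.2)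
    simp only [OneMemClass.coe_one, mul_one] at this
    simp [this]
  · have := he 1 v (by simpa using mem_sup_right v.2)
    simp only [OneMemClass.coe_one, one_mul] at this
    simp [this]

/-- a non-trivial linear character on a section of prime order is faithful on it -/
theorem mem_of_linear_eq_one_of_prime [Finite X] {A B N : Subgroup X} (hAB : A ≤ B) (hBN : B ≤ N)
    (hp : (A.relIndex B).Prime) {lam : N →* ℂˣ} (hA : InKer A (fun x => (lam x : ℂ)))
    (hB : ¬ InKer B (fun x => (lam x : ℂ))) {x : X} (hx : x ∈ B) (h1 : lam ⟨x, hBN hx⟩ = 1) :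
    x ∈ A := by
  set D := lam.ker.map N.subtype ⊓ B with hD
  have hAD : A ≤ D := fun a ha =>
    ⟨⟨⟨a, hBN (hAB ha)⟩, inKer_linear_iff.1 hA _ ha, rfl⟩, hAB ha⟩
  have h2 := relIndex_mul_relIndex A D B hAD inf_le_right
  rcases hp.eq_one_or_self_of_dvd _ (Dvd.intro _ h2) with h3 | h3
  · exact relIndex_eq_one.1 h3 ⟨⟨⟨x, hBN hx⟩, h1, rfl⟩, hx⟩
  · exfalso
    rw [h3, Nat.mul_eq_left hp.ne_zero] at h2
    refine hB (inKer_linear_iff.2 fun y hy => ?_)
    obtain ⟨⟨z, hz, e⟩, -⟩ := relIndex_eq_one.1 h2 hy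
    rwa [← Subtype.ext (p := fun x => x ∈ N) e]

end

/-! ### sums of squares of degrees -/

section
variable {X : Type*} [Group X] [Finite X] {K : Subgroup X}

open Classical in
theorem sum_deg_sq_inKer {Y : Subgroup X} (hn : K ≤ normalizer (Y : Set X)) :
    ∑ θ ∈ Finset.univ.filter (fun θ : IrrCharacter K => InKer Y (θ : K → ℂ)),
      deg (θ : K → ℂ) ^ 2 = Y.relIndex K := by
  haveI := normal_subgroupOf_of_le_normalizer hn
  convert sum_irr_ker_deg_sq (Y.subgroupOf K) <;> rfl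

open Classical in
theorem sum_deg_sq_not_inKer {H Y : Subgroup X} (hH : H ≤ K) (hY : Y ≤ K)
    (hnH : K ≤ normalizer (H : Set X)) (hn : K ≤ normalizer (Y : Set X)) :
    ∑ θ ∈ Finset.univ.filter
      (fun θ : IrrCharacter K => ¬ InKer H (θ : K → ℂ) ∧ InKer Y (θ : K → ℂ)),
      deg (θ : K → ℂ) ^ 2 + (H ⊔ Y).relIndex K = Y.relIndex K := by
  rw [← sum_deg_sq_inKer hn, ← sum_deg_sq_inKer (le_normalizer_sup hnH hn),
    ← Finset.sum_filter_add_sum_filter_not
      (Finset.univ.filter (fun θ : IrrCharacter K => InKer Y (θ : K → ℂ)))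
      (fun θ : IrrCharacter K => InKer H (θ : K → ℂ)), add_comm, Finset.filter_filter,
    Finset.filter_filter]
  congr 2
  · refine Finset.filter_congr fun θ _ => ?_
    rw [inKer_sup_iff (irr_isCharacter θ.2) hH hY, and_comm]
  · exact Finset.filter_congr fun θ _ => and_comm

/-- if all irreducible characters of `K` with `Y` but not `H` in their kernel have degree `d` -/
theorem card_mul_sq_of_deg_eq {H Y : Subgroup X} (hH : H ≤ K) (hY : Y ≤ K)
    (hnH : K ≤ normalizer (H : Set X)) (hn : K ≤ normalizer (Y : Set X)) {d : ℕ}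
    (hd : ∀ θ : K → ℂ, IsIrrCharacter K θ → ¬ InKer H θ → InKer Y θ → θ 1 = d) :
    Nat.card {θ : K → ℂ // IsIrrCharacter K θ ∧ ¬ InKer H θ ∧ InKer Y θ} * d ^ 2 +
      (H ⊔ Y).relIndex K = Y.relIndex K := by
  classical
  rw [← sum_deg_sq_not_inKer hH hY hnH hn, Finset.sum_congr rfl (g := fun _ => d ^ 2)
    (fun θ hθ => by
      rw [Finset.mem_filter] at hθ
      rw [deg_eq_of_apply_one (hd θ θ.2 hθ.2.1 hθ.2.2)]),
    Finset.sum_const, smul_eq_mul, ← Fintype.card_subtype, ← Nat.card_eq_fintype_card]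
  congr 2
  exact Nat.card_congr
    { toFun := fun θ => ⟨⟨θ.1, θ.2.1⟩, θ.2.2⟩
      invFun := fun θ => ⟨θ.1.1, θ.1.2, θ.2⟩
      left_inv := fun _ => rfl
      right_inv := fun _ => rfl }

end

end CL.PF
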