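import Cfsg.Agent.PF.DadeVchar
import Cfsg.Agent.Char.Orth

/-!
# Peterfalvi (2.3)/(2.6) supplements, (5.9)(b), (7.2), (7.3)
-/

set_option autoImplicit false

namespace CL.PF

open Subgroup Cfsg CL.Char
open scoped ComplexConjugate

variable {G : Type*} [Group G] {A : Set G} {L : Subgroup G} {H : G → Subgroup G}

open Classical in
theorem indicator_dadeSupp_isClassFunction {χ : G → ℂ} (hχ : IsClassFunction G χ) :
    IsClassFunction G ((dadeSupp A H).indicator χ) := by
  intro g y
  simp only [Set.indicator_apply, conj_mem_dadeSupp_iff, hχ g y]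

theorem invDade_indicator (χ : G → ℂ) :
    invDade A L H ((dadeSupp A H).indicator χ) = invDade A L H χ := by
  funext a
  by_cases ha : (a : G) ∈ A
  · rw [invDade_of_mem _ ha, invDade_of_mem _ ha]
    exact dadeAvg_congr fun u hu => Set.indicator_of_mem (mul_mem_dadeSupp ha hu) χ
  · rw [invDade_of_not_mem _ ha, invDade_of_not_mem _ ha]

/-- `χ^ρ` only depends on the values of `χ` on the Dade support. -/
theorem invDade_congr {χ ψ : G → ℂ} (h : ∀ g ∈ dadeSupp A H, χ g = ψ g) :
    invDade A L H χ = invDade A L H ψ := by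
  rw [← invDade_indicator χ, ← invDade_indicator ψ, Set.indicator_congr h]

theorem invDade_eq_zero {χ : G → ℂ} (h : ∀ g ∈ dadeSupp A H, χ g = 0) : invDade A L H χ = 0 := by
  funext a
  by_cases ha : (a : G) ∈ A
  · rw [invDade_of_mem _ ha]
    unfold dadeAvg
    rw [finsum_mem_congr rfl (fun u hu => h _ (mul_mem_dadeSupp ha hu))]
    simp
  · rw [invDade_of_not_mem _ ha]; rfl

/-- If `χ` is constant on the cosets `a H(a)`, then `χ^ρ` is the restriction of `χ` on `A`. -/
theorem invDade_eq_of_const [Finite G] {χ : G → ℂ} {a : L} (ha : (a : G) ∈ A)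
    (h : ∀ u ∈ H a, χ (a * u) = χ a) : invDade A L H χ a = χ a := by
  rw [invDade_of_mem _ ha]; exact dadeAvg_of_const h

theorem invDade_eq_of_bot [Finite G] (χ : G → ℂ) {a : L} (ha : (a : G) ∈ A) (h : H a = ⊥) :
    invDade A L H χ a = χ a :=
  invDade_eq_of_const ha fun u hu => by rw [h, mem_bot] at hu; rw [hu, mul_one]

theorem invDade_of_subset {A₁ : Set G} (h₁ : A₁ ⊆ A) (χ : G → ℂ) {a : L} (ha : (a : G) ∈ A₁) :
    invDade A₁ L H χ a = invDade A L H χ a := by
  rw [invDade_of_mem _ ha, invDade_of_mem _ (h₁ ha)]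

namespace Dade

variable [Fintype G] [Fintype L]

theorem classInner_invDade_right (hD : DadeHypothesis A L H) {α : L → ℂ}
    (hα : IsClassFunction L α) {χ : G → ℂ} (hχ : IsClassFunction G χ) :
    classInner χ (dadeIsometry A L H α) = classInner (invDade A L H χ) α := by
  rw [← conj_classInner, classInner_invDade hD hα hχ, conj_classInner]

theorem isometry' (hD : DadeHypothesis A L H) {α β : L → ℂ} (hα : IsClassFunction L α)
    (hβ : IsClassFunction L β) (hαA : ∀ x : L, (x : G) ∉ A → α x = 0) :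
    classInner (dadeIsometry A L H α) (dadeIsometry A L H β) = classInner α β := by
  rw [← conj_classInner, isometry hD hβ hα hαA, conj_classInner]

/-- `‖χ - χ^{ρτ}‖² = ‖χ‖² - ‖χ^ρ‖²`. -/
theorem norm_sub_dade_invDade (hD : DadeHypothesis A L H) {χ : G → ℂ}
    (hχ : IsClassFunction G χ) :
    classInner (χ - dadeIsometry A L H (invDade A L H χ))
        (χ - dadeIsometry A L H (invDade A L H χ)) =
      classInner χ χ - classInner (invDade A L H χ) (invDade A L H χ) := by
  have hρ := invDade_isClassFunction hD hχ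
  rw [classInner_sub_left, classInner_sub_right, classInner_sub_right,
    classInner_invDade_right hD hρ hχ, classInner_invDade hD hρ hχ,
    isometry hD hρ hρ (fun x hx => invDade_of_not_mem χ hx)]
  ring

/-- Peterfalvi (7.2)(b), inequality. -/
theorem norm_invDade_le (hD : DadeHypothesis A L H) {χ : G → ℂ} (hχ : IsClassFunction G χ) :
    (classInner (invDade A L H χ) (invDade A L H χ)).re ≤ (classInner χ χ).re := by
  have := classInner_self_re_nonneg (χ - dadeIsometry A L H (invDade A L H χ))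
  rw [norm_sub_dade_invDade hD hχ, Complex.sub_re] at this
  linarith

/-- Peterfalvi (7.2)(b), equality case. -/
theorem norm_invDade_eq_iff (hD : DadeHypothesis A L H) {χ : G → ℂ} (hχ : IsClassFunction G χ) :
    (classInner (invDade A L H χ) (invDade A L H χ)).re = (classInner χ χ).re ↔
      χ = dadeIsometry A L H (invDade A L H χ) := by
  rw [← sub_eq_zero (a := χ), ← classInner_self_eq_zero, norm_sub_dade_invDade hD hχ, sub_eq_zero,
    ← ofReal_classInner_self_re χ, ← ofReal_classInner_self_re (invDade A L H χ)]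
  simp only [Complex.ofReal_re, Complex.ofReal_inj, eq_comm]

open Classical in
omit [Fintype L] in
theorem norm_indicator (χ : G → ℂ) :
    (classInner ((dadeSupp A H).indicator χ) ((dadeSupp A H).indicator χ)).re =
      (Nat.card G : ℝ)⁻¹ * ∑ g : G, if g ∈ dadeSupp A H then ‖χ g‖ ^ 2 else 0 := by
  rw [classInner_self_re]
  congr 1
  refine Finset.sum_congr rfl fun g _ => ?_
  rw [Set.indicator_apply]
  split_ifs <;> simp

open Classical in
/-- Peterfalvi (7.3), inequality. -/
theorem norm_invDade_le_supp (hD : DadeHypothesis A L H) {χ : G → ℂ} (hχ : IsClassFunction G χ) :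
    (classInner (invDade A L H χ) (invDade A L H χ)).re ≤
      (Nat.card G : ℝ)⁻¹ * ∑ g : G, if g ∈ dadeSupp A H then ‖χ g‖ ^ 2 else 0 := by
  rw [← norm_indicator, ← invDade_indicator χ]
  exact norm_invDade_le hD (indicator_dadeSupp_isClassFunction hχ)

open Classical in
/-- Peterfalvi (7.3), equality case. -/
theorem norm_invDade_eq_supp_iff (hD : DadeHypothesis A L H) {χ : G → ℂ}
    (hχ : IsClassFunction G χ) :
    (classInner (invDade A L H χ) (invDade A L H χ)).re =
      (Nat.card G : ℝ)⁻¹ * ∑ g : G, (if g ∈ dadeSupp A H then ‖χ g‖ ^ 2 else 0) ↔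
      ∀ a ∈ A, ∀ u ∈ H a, χ (a * u) = χ a := by
  have hρ := invDade_isClassFunction hD hχ
  rw [← norm_indicator, ← invDade_indicator χ,
    norm_invDade_eq_iff hD (indicator_dadeSupp_isClassFunction hχ), invDade_indicator]
  constructor
  · intro h a ha u hu
    have h1 := congrFun h (a * u)
    have h2 := congrFun h a
    rw [Set.indicator_of_mem (mul_mem_dadeSupp ha hu)] at h1
    rw [Set.indicator_of_mem (subset_dadeSupp ha)] at h2
    rw [h1, h2]
    exact (apply_mul hD hρ (a := ⟨a, mem_L hD ha⟩) ha hu).trans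
      (apply_of_mem hD hρ (a := ⟨a, mem_L hD ha⟩) ha).symm
  · intro h
    funext g
    by_cases hg : g ∈ dadeSupp A H
    · rw [Set.indicator_of_mem hg]
      obtain ⟨a, ha, u, hu, x, e⟩ := hg
      rw [apply_eq hD hρ (a := ⟨a, mem_L hD ha⟩) ha hu e, ← hχ g x, e, h a ha u hu]
      exact (invDade_eq_of_const (a := ⟨a, mem_L hD ha⟩) ha (h a ha)).symm
    · rw [Set.indicator_of_notMem hg, dade_apply_of_not_mem _ hg]

open Classical in
/-- The number of elements of the Dade support: `|Ã| / |G| = |A| / |L|`. -/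
theorem card_supp (hD : DadeHypothesis A L H) :
    Nat.card (dadeSupp A H) * Nat.card L = Nat.card A * Nat.card G := by
  have h := sum_supp hD (F := fun _ => 1) (fun _ _ => rfl)
  have h1 : ∑ g : G, (if g ∈ dadeSupp A H then (1 : ℂ) else 0) = Nat.card (dadeSupp A H) := by
    rw [Finset.sum_boole, Nat.card_eq_fintype_card, Fintype.card_subtype]
  have h2 : ∑ a : L, invDade A L H (fun _ => 1) a = Nat.card A := by
    have : ∀ a : L, invDade A L H (fun _ => 1) a = if (a : G) ∈ A then 1 else 0 := by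
      intro a
      split_ifs with ha
      · exact invDade_eq_of_const ha fun _ _ => rfl
      · exact invDade_of_not_mem _ ha
    simp only [this]
    rw [Finset.sum_boole, ← Fintype.card_subtype, ← Nat.card_eq_fintype_card]
    congr 1
    exact Nat.card_congr ⟨fun a => ⟨a.1, a.2⟩, fun a => ⟨⟨a.1, mem_L hD a.2⟩, a.2⟩,
      fun _ => rfl, fun _ => rfl⟩
  rw [h1, h2] at h
  have hG : (Nat.card G : ℂ) ≠ 0 := card_ne_zero
  have hL : (Nat.card L : ℂ) ≠ 0 := card_ne_zero
  field_simp at h
  rw [mul_comm (Nat.card A)]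
  exact_mod_cast h

/-- In the trivial-intersection case the Dade map is induction. -/
theorem eq_indFun (hD : DadeHypothesis A L H) (hH : ∀ a ∈ A, H a = ⊥) {α : L → ℂ}
    (hα : IsClassFunction L α) (hαA : ∀ x : L, (x : G) ∉ A → α x = 0) :
    dadeIsometry A L H α = indFun L α := by
  refine classFun_ext (isClassFunction hD hα) (indFun_isClassFunction L α) fun χ hχ => ?_
  rw [classInner_indFun_left L α (irr_isClassFunction hχ)]
  refine reciprocity_res hD hα hαA (irr_isClassFunction hχ) fun a ha u hu => ?_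
  rw [hH a ha, mem_bot] at hu
  rw [hu, mul_one]

/-- The Dade map is induction on class functions supported on a part `A₁` of `A` where
`H` is trivial. -/
theorem eq_indFun_of_sub (hD : DadeHypothesis A L H) {A₁ : Set G} (h₁ : A₁ ⊆ A)
    (hH : ∀ a ∈ A₁, H a = ⊥) {α : L → ℂ}
    (hα : IsClassFunction L α) (hαA : ∀ x : L, (x : G) ∉ A₁ → α x = 0) :
    dadeIsometry A L H α = indFun L α := by
  refine classFun_ext (isClassFunction hD hα) (indFun_isClassFunction L α) fun χ hχ => ?_
  rw [classInner_indFun_left L α (irr_isClassFunction hχ),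
    classInner_invDade hD hα (irr_isClassFunction hχ)]
  refine classInner_congr_right fun a ha => ?_
  have ha₁ : (a : G) ∈ A₁ := by_contra fun h => ha (hαA a h)
  exact invDade_eq_of_bot χ (h₁ ha₁) (hH a ha₁)

/-- The Dade map is a linear isometry into virtual characters on any set of virtual characters
supported in `A`. -/
theorem isLinearIsometryOn (hD : DadeHypothesis A L H) {E : Set (L → ℂ)}
    (hE : ∀ α ∈ E, IsGeneralizedCharacter L α) (hEA : ∀ α ∈ E, ∀ x : L, (x : G) ∉ A → α x = 0) :
    IsLinearIsometryOn E (dadeIsometry A L H) :=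
  ⟨fun α _ β _ => dade_add α β, fun α _ n => dade_zsmul n α,
    fun α hα β hβ => isometry hD (gen_isClassFunction (hE α hα)) (gen_isClassFunction (hE β hβ))
      (hEA β hβ), fun α hα => gen hD (hE α hα) (hEA α hα)⟩

omit [Fintype G] [Fintype L] in
theorem zspan_vanish {S : Set (L → ℂ)} {x : L} (hS : ∀ φ ∈ S, φ x = 0) {α : L → ℂ}
    (hα : α ∈ zspan S) : α x = 0 := by
  refine Submodule.span_induction (p := fun α _ => α x = 0) hS rfl ?_ ?_ hα
  · intro a b _ _ ha hb; simp [ha, hb]
  · intro n a _ ha; simp [ha]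

omit [Fintype G] [Fintype L] in
theorem zspan_gen {S : Set (L → ℂ)} (hS : ∀ φ ∈ S, IsGeneralizedCharacter L φ) {α : L → ℂ}
    (hα : α ∈ zspan S) : IsGeneralizedCharacter L α :=
  Submodule.span_induction (p := fun α _ => IsGeneralizedCharacter L α) hS gen_zero
    (fun _ _ _ _ => gen_add) (fun n _ _ => gen_zsmul n) hα

omit [Fintype G] [Fintype L] in
/-- members of `ℤ[S, L^#]` vanish off `A` when the members of `S` vanish off `A ∪ {1}` -/
theorem zspanOn_vanish {S : Set (L → ℂ)}
    (hSA : ∀ φ ∈ S, ∀ x : L, x ≠ 1 → (x : G) ∉ A → φ x = 0) {α : L → ℂ}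
    (hα : α ∈ zspanOn S {1}ᶜ) (x : L) (hx : (x : G) ∉ A) : α x = 0 := by
  by_cases h1 : x = 1
  · exact hα.2 x (by simp [h1])
  · exact zspan_vanish (fun φ hφ => hSA φ hφ x h1 hx) hα.1

/-- The Dade map is a linear isometry on `ℤ[S, L^#]` for a set `S` of virtual characters
supported in `A ∪ {1}`. -/
theorem isLinearIsometryOn_zspanOn (hD : DadeHypothesis A L H) {S : Set (L → ℂ)}
    (hS : ∀ φ ∈ S, IsGeneralizedCharacter L φ)
    (hSA : ∀ φ ∈ S, ∀ x : L, x ≠ 1 → (x : G) ∉ A → φ x = 0) :
    IsLinearIsometryOn (zspanOn S {1}ᶜ) (dadeIsometry A L H) :=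
  isLinearIsometryOn hD (fun _ hα => zspan_gen hS hα.1) fun _ hα => zspanOn_vanish hSA hα

end Dade

/-- A virtual character of norm `2` vanishing at `1` is a difference of two distinct irreducible
characters. -/
theorem gen_norm_two_eq_sub [Fintype G] {θ : G → ℂ} (hθ : IsGeneralizedCharacter G θ)
    (h2 : classInner θ θ = 2) (h1 : θ 1 = 0) :
    ∃ μ ν : G → ℂ, IsIrrCharacter G μ ∧ IsIrrCharacter G ν ∧ μ ≠ ν ∧ θ = μ - ν := by
  classical
  obtain ⟨c, hc, hθc⟩ := gen_exists_eq_sum hθ
  have hsq : ∑ χ, c χ ^ 2 = 2 := by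
    have := classInner_self_eq_sum_sq (gen_isClassFunction hθ) hc
    rw [h2] at this
    exact_mod_cast this.symm
  have hpos : ∃ μ, 0 < c μ := by
    by_contra hneg
    push Not at hneg
    have h0 : ∑ χ : IrrCharacter G, c χ * deg (χ : G → ℂ) = 0 := by
      have := congrFun hθc 1
      rw [h1, Finset.sum_apply] at this
      simp only [Pi.smul_apply, smul_eq_mul] at this
      have h3 : ((∑ χ : IrrCharacter G, c χ * deg (χ : G → ℂ) : ℤ) : ℂ) = 0 := by
        rw [this]; push_cast
        exact Finset.sum_congr rfl fun χ _ => by rw [irr_cast_deg χ.2]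
      exact_mod_cast h3
    rw [Finset.sum_eq_zero_iff_of_nonpos fun χ _ =>
      mul_nonpos_of_nonpos_of_nonneg (hneg χ) (Int.natCast_nonneg _)] at h0
    have : ∀ χ, c χ = 0 := fun χ => by
      have h4 := h0 χ (Finset.mem_univ χ)
      have h5 : (deg (χ : G → ℂ) : ℤ) ≠ 0 := by exact_mod_cast (irr_deg_pos χ.2).ne'
      exact (mul_eq_zero.1 h4).resolve_right h5
    simp [this] at hsq
  obtain ⟨μ, hμ⟩ := hpos
  have hμ1 : c μ = 1 := by
    have : c μ ^ 2 ≤ 2 := hsq ▸ Finset.single_le_sum (f := fun χ => c χ ^ 2)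
      (fun _ _ => sq_nonneg _) (Finset.mem_univ μ)
    nlinarith
  have hi : classInner θ μ = 1 := by rw [hc, hμ1]; simp
  have hi' : classInner (μ : G → ℂ) θ = 1 := by rw [← conj_classInner, hi]; simp
  have hν : IsIrrCharacter G ((μ : G → ℂ) - θ) := by
    refine irr_of_gen_norm_one (gen_sub (gen_of_irr μ.2) hθ) ?_ ?_
    · rw [classInner_sub_left, classInner_sub_right, classInner_sub_right, irr_inner_self μ.2, hi,
        hi', h2]; norm_num
    · obtain ⟨n, -, hn⟩ := irr_apply_one μ.2
      simp [h1, hn]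
  refine ⟨μ, _, μ.2, hν, fun h => ?_, by simp⟩
  have : θ = 0 := by simpa using h.symm
  rw [this, classInner_zero_left] at h2
  norm_num at h2

/-- Peterfalvi (5.9)(b). -/
theorem Dade.irr_sub_conj [Fintype G] [Fintype L] (hD : DadeHypothesis A L H) {χ : L → ℂ}
    (hχ : IsIrrCharacter L χ) (hsupp : ∀ x : L, x ≠ 1 → (x : G) ∉ A → χ x = 0) :
    ∃ μ : G → ℂ, IsIrrCharacter G μ ∧
      dadeIsometry A L H (χ - conjFun χ) = μ - conjFun μ := by
  by_cases hc : conjFun χ = χ
  · refine ⟨fun _ => 1, irr_one, ?_⟩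
    rw [hc, sub_self, dade_zero]
    funext g; simp [conjFun]
  have hχc : IsIrrCharacter L (conjFun χ) := irr_conj hχ
  have hg : IsGeneralizedCharacter L (χ - conjFun χ) := gen_sub (gen_of_irr hχ) (gen_of_irr hχc)
  have hA : ∀ x : L, (x : G) ∉ A → (χ - conjFun χ) x = 0 := by
    intro x hx
    by_cases h1 : x = 1
    · simp [h1, conjFun, irr_conj_apply_one hχ]
    · simp [conjFun, hsupp x h1 hx]
  obtain ⟨μ, ν, hμ, hν, hne, e⟩ := gen_norm_two_eq_sub (Dade.gen hD hg hA) (by
    rw [Dade.isometry hD (gen_isClassFunction hg) (gen_isClassFunction hg) hA, classInner_sub_left,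
      classInner_sub_right, classInner_sub_right, irr_inner_self hχ, irr_inner_self hχc,
      irr_inner_of_ne hχ hχc (Ne.symm hc), irr_inner_of_ne hχc hχ hc]; norm_num)
    (Dade.apply_one hD _)
  refine ⟨μ, hμ, ?_⟩
  have e2 : conjFun μ - conjFun ν = ν - μ := by
    have h1 : conjFun (χ - conjFun χ) = -(χ - conjFun χ) := by
      funext x; simp [conjFun]
    have h2 := dade_conjFun (A := A) (H := H) (χ - conjFun χ)
    rw [h1, dade_neg, e] at h2
    rw [← neg_sub μ ν, h2]
    funext x; simp [conjFun]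
  have hμc : IsIrrCharacter G (conjFun μ) := irr_conj hμ
  have hνc : IsIrrCharacter G (conjFun ν) := irr_conj hν
  have e3 := congrArg (fun f => classInner f ν) e2
  simp only [classInner_sub_left, irr_inner_self hν, irr_inner_of_ne hμ hν hne] at e3
  have e4 : conjFun μ = ν := by
    by_contra h
    rw [irr_inner_of_ne hμc hν h, irr_inner hνc hν] at e3
    split_ifs at e3 <;> norm_num at e3
  rw [e, e4]

end CL.PF
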