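import Cfsg.Agent.PF.PrimeMu
import Cfsg.Agent.PF.One
import Cfsg.Agent.PF.DadeNorm

/-! Exports of Peterfalvi section 4 (prime TI hypotheses).  Owner: helper93.
(4.3)–(4.5) are in `PF/PrimeGrp`, `PF/PrimeMu`; this file contains (4.7)–(4.10). -/

set_option autoImplicit false

namespace CL.PF

open Cfsg CL.Char
open scoped ComplexConjugate

section EtaCol

variable {G X₁ X₂ : Type*} [Group G] [Fintype G] [Group X₁] [Group X₂]
  {f₁ : X₁ →* G} {f₂ : X₂ →* G}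

theorem CycTI.gen_etaCol [Finite X₁] (h : CycTI f₁ f₂) (j : X₂ →* ℂˣ) :
    IsGeneralizedCharacter G (etaCol f₁ f₂ j) := gen_sum _ fun i _ => h.eta_gen i j

theorem CycTI.gen_etaRow [Finite X₂] (h : CycTI f₁ f₂) (i : X₁ →* ℂˣ) :
    IsGeneralizedCharacter G (etaRow f₁ f₂ i) := gen_sum _ fun j _ => h.eta_gen i j

theorem CycTI.eta_etaCol_inner [Finite X₁] (h : CycTI f₁ f₂) (i : X₁ →* ℂˣ) (j k : X₂ →* ℂˣ)
    [Decidable (j = k)] :
    classInner (eta f₁ f₂ i j) (etaCol f₁ f₂ k) = if j = k then 1 else 0 := by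
  classical
  simp [etaCol, classInner_sum_right, h.eta_inner_mul]

theorem CycTI.etaCol_eta_inner [Finite X₁] (h : CycTI f₁ f₂) (i : X₁ →* ℂˣ) (j k : X₂ →* ℂˣ)
    [Decidable (k = j)] :
    classInner (etaCol f₁ f₂ k) (eta f₁ f₂ i j) = if k = j then 1 else 0 := by
  classical
  simp [etaCol, classInner_sum_left, h.eta_inner_mul]

theorem CycTI.eta_etaRow_inner [Finite X₂] (h : CycTI f₁ f₂) (i k : X₁ →* ℂˣ) (j : X₂ →* ℂˣ)
    [Decidable (i = k)] :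
    classInner (eta f₁ f₂ i j) (etaRow f₁ f₂ k) = if i = k then 1 else 0 := by
  classical
  simp [etaRow, classInner_sum_right, h.eta_inner_mul]

theorem CycTI.etaRow_eta_inner [Finite X₂] (h : CycTI f₁ f₂) (i k : X₁ →* ℂˣ) (j : X₂ →* ℂˣ)
    [Decidable (k = i)] :
    classInner (etaRow f₁ f₂ k) (eta f₁ f₂ i j) = if k = i then 1 else 0 := by
  classical
  simp [etaRow, classInner_sum_left, h.eta_inner_mul]

theorem CycTI.etaCol_inner [Finite X₁] (h : CycTI f₁ f₂) (j k : X₂ →* ℂˣ) [Decidable (j = k)] :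
    classInner (etaCol f₁ f₂ j) (etaCol f₁ f₂ k) = if j = k then (Nat.card X₁ : ℂ) else 0 := by
  nth_rewrite 1 [etaCol]
  simp only [classInner_sum_left, h.eta_etaCol_inner, Finset.sum_const, Finset.card_univ,
    h.fintype_card_dual₁]
  split_ifs <;> simp

theorem CycTI.etaRow_inner [Finite X₂] (h : CycTI f₁ f₂) (i k : X₁ →* ℂˣ) [Decidable (i = k)] :
    classInner (etaRow f₁ f₂ i) (etaRow f₁ f₂ k) = if i = k then (Nat.card X₂ : ℂ) else 0 := by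
  nth_rewrite 1 [etaRow]
  simp only [classInner_sum_left, h.eta_etaRow_inner, Finset.sum_const, Finset.card_univ,
    h.fintype_card_dual₂]
  split_ifs <;> simp

theorem CycTI.etaCol_etaRow_inner [Finite X₁] [Finite X₂] (h : CycTI f₁ f₂) (j : X₂ →* ℂˣ)
    (i : X₁ →* ℂˣ) : classInner (etaCol f₁ f₂ j) (etaRow f₁ f₂ i) = 1 := by
  classical
  nth_rewrite 1 [etaCol]
  simp [classInner_sum_left, h.eta_etaRow_inner]

theorem CycTI.etaCol_conj [Finite X₁] (h : CycTI f₁ f₂) (j : X₂ →* ℂˣ) :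
    conjFun (etaCol f₁ f₂ j) = etaCol f₁ f₂ j⁻¹ := by
  rw [etaCol, etaCol, conjFun_sum]
  simp only [h.eta_conj]
  exact Fintype.sum_equiv (Equiv.inv _) _ _ fun _ => rfl

theorem CycTI.etaRow_conj [Finite X₂] (h : CycTI f₁ f₂) (i : X₁ →* ℂˣ) :
    conjFun (etaRow f₁ f₂ i) = etaRow f₁ f₂ i⁻¹ := by
  rw [etaRow, etaRow, conjFun_sum]
  simp only [h.eta_conj]
  exact Fintype.sum_equiv (Equiv.inv _) _ _ fun _ => rfl

/-- `∑_i η_{ij}` vanishes on `V`. -/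
theorem CycTI.etaCol_eq_zero [Finite X₁] (h : CycTI f₁ f₂) (j : X₂ →* ℂˣ) {v : G}
    (hv : v ∈ cycV f₁ f₂) : etaCol f₁ f₂ j v = 0 := by
  obtain ⟨x, y, hx, hy, rfl⟩ := hv
  simp only [etaCol, Finset.sum_apply, h.eta_apply _ j hx hy]
  rw [← Finset.sum_mul, sum_dual_eq_zero h.comm₁ hx, zero_mul]

/-- `∑_j η_{ij}` vanishes on `V`. -/
theorem CycTI.etaRow_eq_zero [Finite X₂] (h : CycTI f₁ f₂) (i : X₁ →* ℂˣ) {v : G}
    (hv : v ∈ cycV f₁ f₂) : etaRow f₁ f₂ i v = 0 := by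
  obtain ⟨x, y, hx, hy, rfl⟩ := hv
  simp only [etaRow, Finset.sum_apply, h.eta_apply i _ hx hy]
  rw [← Finset.mul_sum, sum_dual_eq_zero h.comm₂ hy, mul_zero]

theorem OrthEta.orth_etaCol [Finite X₁] {ψ : G → ℂ} (ho : OrthEta f₁ f₂ ψ) (j : X₂ →* ℂˣ) :
    classInner ψ (etaCol f₁ f₂ j) = 0 := by
  rw [etaCol, classInner_sum_right]; exact Finset.sum_eq_zero fun i _ => ho i j

theorem OrthEta.orth_etaRow [Finite X₂] {ψ : G → ℂ} (ho : OrthEta f₁ f₂ ψ) (i : X₁ →* ℂˣ) :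
    classInner ψ (etaRow f₁ f₂ i) = 0 := by
  rw [etaRow, classInner_sum_right]; exact Finset.sum_eq_zero fun j _ => ho i j

theorem OrthEta.add {φ ψ : G → ℂ} (h1 : OrthEta f₁ f₂ φ) (h2 : OrthEta f₁ f₂ ψ) :
    OrthEta f₁ f₂ (φ + ψ) := fun i j => by rw [classInner_add_left, h1, h2, add_zero]

theorem OrthEta.sub {φ ψ : G → ℂ} (h1 : OrthEta f₁ f₂ φ) (h2 : OrthEta f₁ f₂ ψ) :
    OrthEta f₁ f₂ (φ - ψ) := fun i j => by rw [classInner_sub_left, h1, h2, sub_zero]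

theorem OrthEta.neg {φ : G → ℂ} (h1 : OrthEta f₁ f₂ φ) : OrthEta f₁ f₂ (-φ) :=
  fun i j => by rw [classInner_neg_left, h1, neg_zero]

theorem OrthEta.smul {φ : G → ℂ} (h1 : OrthEta f₁ f₂ φ) (c : ℂ) : OrthEta f₁ f₂ (c • φ) :=
  fun i j => by rw [classInner_smul_left, h1, mul_zero]

theorem OrthEta.zsmul {φ : G → ℂ} (h1 : OrthEta f₁ f₂ φ) (n : ℤ) : OrthEta f₁ f₂ (n • φ) := by
  rw [← Int.cast_smul_eq_zsmul ℂ]; exact h1.smul _

theorem orthEta_zero : OrthEta f₁ f₂ (0 : G → ℂ) := fun _ _ => classInner_zero_left _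

theorem orthEta_sum {ι : Type*} (s : Finset ι) {φ : ι → G → ℂ}
    (h : ∀ a ∈ s, OrthEta f₁ f₂ (φ a)) : OrthEta f₁ f₂ (∑ a ∈ s, φ a) := fun i j => by
  rw [classInner_sum_left]; exact Finset.sum_eq_zero fun a ha => h a ha i j

theorem OrthEta.conjFun {φ : G → ℂ} (h : CycTI f₁ f₂) (h1 : OrthEta f₁ f₂ φ) :
    OrthEta f₁ f₂ (conjFun φ) := fun i j => by
  rw [classInner_conjFun_left, h.eta_conj, classInner_eq_zero_comm, h1]

/-- A virtual character whose norm is that of `η_{ij} - η_{0j} - η_{i0} + η_{00}` and which agrees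
with it on `V` is equal to it. -/
theorem CycTI.eq_bridge (h : CycTI f₁ f₂) {φ : G → ℂ} (hφ : IsClassFunction G φ)
    (i : X₁ →* ℂˣ) (j : X₂ →* ℂˣ)
    (hn : classInner φ φ = classInner (indHom h.tiPair.iota (alphaF i j))
      (indHom h.tiPair.iota (alphaF i j)))
    (hV : ∀ x y, x ≠ 1 → y ≠ 1 → φ (f₁ x * f₂ y) = alphaF i j (x, y)) :
    φ = indHom h.tiPair.iota (alphaF i j) := by
  have := h.tiPair.finite₁
  have := h.tiPair.finite₂
  have := Fintype.ofFinite X₁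
  have := Fintype.ofFinite X₂
  have e1 := h.tiPair.inner_indHom (alphaF_supp i j) (alphaF i j)
  have e2 : classInner (indHom h.tiPair.iota (alphaF i j)) φ =
      classInner (alphaF i j) (alphaF i j) := by
    rw [classInner_indHom_left h.tiPair.iota_injective _ hφ]
    refine classInner_congr_right fun p hp => ?_
    have : ¬ (p.1 = 1 ∨ p.2 = 1) := fun e => hp (alphaF_supp i j p e)
    push Not at this
    exact hV _ _ this.1 this.2
  rw [← sub_eq_zero, ← classInner_self_eq_zero, classInner_sub_left, classInner_sub_right,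
    classInner_sub_right, hn, e2, ← conj_classInner _ φ, e2, conj_classInner, e1]
  ring

end EtaCol

section
variable {G X₁ X₂ : Type*} [Group G] [Group X₁] [Group X₂]
  {L : Subgroup G} {K H : Subgroup L} {f₁ : X₁ →* L} {f₂ : X₂ →* L} {A A₀ : Set G}
  {R : G → Subgroup G}

namespace PrimeDade

theorem A_subset (h : PrimeDade L K H f₁ f₂ A A₀ R) : A ⊆ A₀ := h.A₀_eq ▸ Set.subset_union_left

theorem mem_A₀_of_mem_cycVConj (h : PrimeDade L K H f₁ f₂ A A₀ R) {x : L}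
    (hx : x ∈ cycVConj f₁ f₂) : (x : G) ∈ A₀ := h.A₀_eq ▸ Or.inr ⟨x, hx, rfl⟩

theorem mem_A₀_iff (h : PrimeDade L K H f₁ f₂ A A₀ R) {x : L} :
    (x : G) ∈ A₀ ↔ (x : G) ∈ A ∨ x ∈ cycVConj f₁ f₂ := by
  rw [h.A₀_eq, Set.mem_union, Subtype.val_injective.mem_set_image]

theorem mem_K_of_mem_A (h : PrimeDade L K H f₁ f₂ A A₀ R) {x : L} (hx : (x : G) ∈ A) : x ∈ K := by
  obtain ⟨-, k, hk, e⟩ := h.A_sub _ hx
  rwa [← Subtype.val_injective e]

theorem one_not_mem_A (h : PrimeDade L K H f₁ f₂ A A₀ R) : (1 : G) ∉ A :=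
  fun e => (h.A_sub _ e).1 rfl

theorem not_mem_A_of_mem_cycVConj (h : PrimeDade L K H f₁ f₂ A A₀ R) {x : L}
    (hx : x ∈ cycVConj f₁ f₂) : (x : G) ∉ A :=
  fun e => h.primeTI.not_mem_of_mem_cycVConj hx (h.mem_K_of_mem_A e)

theorem mem_A_iff_of_mem_K (h : PrimeDade L K H f₁ f₂ A A₀ R) {x : L} (hx : x ∈ K) :
    (x : G) ∈ A₀ ↔ (x : G) ∈ A :=
  h.mem_A₀_iff.trans (or_iff_left fun e => h.primeTI.not_mem_of_mem_cycVConj e hx)

/-- `H^# ⊆ A` -/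
theorem mem_A_of_mem_H (h : PrimeDade L K H f₁ f₂ A A₀ R) {x : L} (hx : x ∈ H) (h1 : x ≠ 1) :
    (x : G) ∈ A := h.cent_mem x hx h1 x (h.H_le hx) h1 rfl

/-- on `V` the Dade image of a class function supported on `A₀` agrees with the function -/
theorem dade_apply_V (h : PrimeDade L K H f₁ f₂ A A₀ R) {α : L → ℂ}
    (hα : IsClassFunction L α) {x : X₁} {y : X₂} (hx : x ≠ 1) (hy : y ≠ 1) :
    dadeIsometry A₀ L R α ((L.subtype.comp f₁) x * (L.subtype.comp f₂) y) = α (f₁ x * f₂ y) :=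
  Dade.apply_of_mem h.dade hα (a := f₁ x * f₂ y)
    (h.mem_A₀_of_mem_cycVConj (cycV_subset_cycVConj (mem_cycV hx hy)))

/-- the Dade image of a class function supported on `A` vanishes on `V` -/
theorem dade_eq_zero_V (h : PrimeDade L K H f₁ f₂ A A₀ R) {α : L → ℂ}
    (hα : IsClassFunction L α) (hA : ∀ x : L, (x : G) ∉ A → α x = 0) {v : G}
    (hv : v ∈ cycV (L.subtype.comp f₁) (L.subtype.comp f₂)) : dadeIsometry A₀ L R α v = 0 := by
  obtain ⟨x, y, hx, hy, rfl⟩ := hv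
  rw [h.dade_apply_V hα hx hy]
  exact hA _ (h.not_mem_A_of_mem_cycVConj (cycV_subset_cycVConj (mem_cycV hx hy)))

/-- the Dade image of a class function supported on `K` vanishes on `V` -/
theorem dade_eq_zero_V' (h : PrimeDade L K H f₁ f₂ A A₀ R) {α : L → ℂ}
    (hα : IsClassFunction L α) (hK : ∀ x : L, x ∉ K → α x = 0) {v : G}
    (hv : v ∈ cycV (L.subtype.comp f₁) (L.subtype.comp f₂)) : dadeIsometry A₀ L R α v = 0 := by
  obtain ⟨x, y, hx, hy, rfl⟩ := hv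
  rw [h.dade_apply_V hα hx hy]
  exact hK _ (h.primeTI.not_mem_of_mem_cycVConj (cycV_subset_cycVConj (mem_cycV hx hy)))

variable [Finite G]

/-- (4.7) -/
theorem irr_eq_zero (h : PrimeDade L K H f₁ f₂ A A₀ R) {θ : K → ℂ}
    (hθ : IsIrrCharacter K θ) (hH : ¬ InKer H θ) {k : K} (hk : k ≠ 1) (hA : ((k : L) : G) ∉ A) :
    θ k = 0 := by
  have := h.H_normal
  refine irr_eq_zero_of_cent (H.subgroupOf K) hθ hH fun a ha hc => ?_
  by_contra h1
  exact hA (h.cent_mem a ha (fun e => h1 (Subtype.ext e)) k k.2 (fun e => hk (Subtype.ext e))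
    (congrArg Subtype.val hc).symm)

omit [Finite G] in
/-- `R(a) = 1` for `a ∈ V^L` -/
theorem R_eq_bot (h : PrimeDade L K H f₁ f₂ A A₀ R) {x : L} (hx : x ∈ cycVConj f₁ f₂) :
    R x = ⊥ := by
  have hx' := h.mem_A₀_of_mem_cycVConj hx
  rw [eq_bot_iff]
  intro u hu
  refine Dade.eq_one_of_mem_L h.dade hx' hu ?_
  have hc := Dade.commute h.dade hx' hu
  obtain ⟨m, _, ⟨a, b, ha, hb, rfl⟩, rfl⟩ := hx
  have : (m : G)⁻¹ * u * m ∈ Subgroup.centralizer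
      ({(L.subtype.comp f₁) a * (L.subtype.comp f₂) b} : Set G) := by
    rw [Subgroup.mem_centralizer_singleton_iff]
    have e : ((m : G) * ((f₁ a : G) * f₂ b) * (m : G)⁻¹) * u =
      u * ((m : G) * ((f₁ a : G) * f₂ b) * (m : G)⁻¹) := hc
    change (m : G)⁻¹ * u * m * ((f₁ a : G) * f₂ b) = (f₁ a : G) * f₂ b * ((m : G)⁻¹ * u * m)
    calc (m : G)⁻¹ * u * m * ((f₁ a : G) * f₂ b)
        = (m : G)⁻¹ * (u * ((m : G) * ((f₁ a : G) * f₂ b) * (m : G)⁻¹)) * m := by group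
      _ = _ := by rw [← e]; group
  rw [h.cycTI.tiPair.centralizer_eq (mem_cycV ha hb), h.cycTI.tiPair.mem_sup_iff] at this
  obtain ⟨a', b', e⟩ := this
  have : u = ((m * (f₁ a' * f₂ b') * m⁻¹ : L) : G) := by
    change u = (m : G) * ((L.subtype.comp f₁) a' * (L.subtype.comp f₂) b') * (m : G)⁻¹
    rw [← e]; group
  rw [this]; exact SetLike.coe_mem _

omit [Finite G]
variable [Fintype G] [Fintype L]

omit [Fintype G] in
theorem seqInd_eq_zero_K (h : PrimeDade L K H f₁ f₂ A A₀ R) {Y Z : Subgroup L} {φ : L → ℂ}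
    (hφ : φ ∈ seqIndD K Y Z) {x : L} (hx : x ∉ K) : φ x = 0 := by
  obtain ⟨θ, -, -, -, rfl⟩ := hφ
  have := h.primeTI.normal
  exact indFun_eq_zero_of_normal K θ hx

/-- (4.7) -/
theorem seqInd_eq_zero (h : PrimeDade L K H f₁ f₂ A A₀ R) {φ : L → ℂ}
    (hφ : φ ∈ seqIndD K H ⊥) {x : L} (hx : x ≠ 1) (hA : (x : G) ∉ A) : φ x = 0 := by
  obtain ⟨θ, hθ, h1, -, rfl⟩ := hφ
  refine indFun_eq_zero_of_forall K θ fun m hm => h.irr_eq_zero hθ h1 (fun e => hx ?_) fun e => ?_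
  · simpa using congrArg Subtype.val e
  · have := h.A_conj _ (m⁻¹).2 _ e
    apply hA
    simpa [mul_assoc] using this

omit [Fintype G] in
theorem seqInd_char {Y Z : Subgroup L} {φ : L → ℂ} (hφ : φ ∈ seqIndD K Y Z) : IsCharacter L φ := by
  obtain ⟨θ, hθ, -, -, rfl⟩ := hφ
  exact char_indFun K (irr_isCharacter hθ)

/-- `ℤ[S, L^#] ⊆ ℤ[Irr L, A]` -/
theorem zspanOn_subset (h : PrimeDade L K H f₁ f₂ A A₀ R) :
    zspanOn (seqIndD K H ⊥) {1}ᶜ ⊆ genOn L (Subtype.val ⁻¹' A) := fun _ hα =>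
  ⟨gen_of_mem_zspan (fun _ hφ => gen_of_char (seqInd_char hφ)) hα.1,
    fun x hx => Dade.zspanOn_vanish (fun _ hφ _ h1 h2 => h.seqInd_eq_zero hφ h1 h2) hα x hx⟩

/-- The Dade map is a linear isometry on `ℤ[S, L^#]`. -/
theorem iso (h : PrimeDade L K H f₁ f₂ A A₀ R) {S : Set (L → ℂ)} (hS : S ⊆ seqIndD K H ⊥) :
    IsLinearIsometryOn (zspanOn S {1}ᶜ) (dadeIsometry A₀ L R) :=
  Dade.isLinearIsometryOn_zspanOn h.dade (fun _ hφ => gen_of_char (seqInd_char (hS hφ)))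
    fun _ hφ _ h1 h2 => h.seqInd_eq_zero (hS hφ) h1 fun e => h2 (h.A_subset e)

/-- The Dade image of a member of `ℤ[S, L^#]` vanishes on `V`. -/
theorem dade_zspanOn_eq_zero_V (h : PrimeDade L K H f₁ f₂ A A₀ R) {S : Set (L → ℂ)}
    (hS : S ⊆ seqIndD K H ⊥) {α : L → ℂ} (hα : α ∈ zspanOn S {1}ᶜ) {v : G}
    (hv : v ∈ cycV (L.subtype.comp f₁) (L.subtype.comp f₂)) : dadeIsometry A₀ L R α v = 0 :=
  have := h.zspanOn_subset (zspanOn_mono hS hα)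
  h.dade_eq_zero_V (gen_isClassFunction this.1) this.2 hv

theorem mu_eq_zero (h : PrimeDade L K H f₁ f₂ A A₀ R) (i : X₁ →* ℂˣ) {j : X₂ →* ℂˣ}
    (hj : j ≠ 1) {x : L} (hK : x ∈ K) (hx : x ≠ 1) (hA : (x : G) ∉ A) : mu f₁ f₂ i j x = 0 :=
  (h.primeTI.mu_res i j ⟨x, hK⟩).trans (h.irr_eq_zero (h.primeTI.chiRes_irr j)
    (h.primeTI.not_inKer_chiRes h.le_H hj) (fun e => hx (congrArg Subtype.val e)) hA)

theorem mu_sub_eq_zero (h : PrimeDade L K H f₁ f₂ A A₀ R) (i : X₁ →* ℂˣ) {j k : X₂ →* ℂˣ}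
    (hj : j ≠ 1) (hk : k ≠ 1) (hd : mu f₁ f₂ i j 1 = mu f₁ f₂ i k 1) (x : L) (hx : (x : G) ∉ A₀) :
    (mu f₁ f₂ i j - mu f₁ f₂ i k) x = 0 := by
  rw [Pi.sub_apply, sub_eq_zero]
  by_cases h1 : x = 1
  · rw [h1, hd]
  by_cases hK : x ∈ K
  · rw [h.mu_eq_zero i hj hK h1 fun e => hx (h.A_subset e),
      h.mu_eq_zero i hk hK h1 fun e => hx (h.A_subset e)]
  · rcases h.primeTI.conj_cases hK with e | ⟨m, a, ha, rfl⟩
    · exact absurd (h.mem_A₀_of_mem_cycVConj e) hx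
    · rw [h.primeTI.mu_classFun, h.primeTI.mu_classFun, h.primeTI.mu_apply₁ i j ha,
        h.primeTI.mu_apply₁ i k ha, h.primeTI.delta_eq_of_apply_one hd]

/-- (4.8) -/
theorem t4_8 (h : PrimeDade L K H f₁ f₂ A A₀ R) (i : X₁ →* ℂˣ) {j k : X₂ →* ℂˣ}
    (hj : j ≠ 1) (hk : k ≠ 1) (hd : mu f₁ f₂ i j 1 = mu f₁ f₂ i k 1) :
    (∀ x : L, (x : G) ∉ A₀ → (mu f₁ f₂ i j - mu f₁ f₂ i k) x = 0) ∧
      delta f₁ f₂ j = delta f₁ f₂ k ∧
      dadeIsometry A₀ L R (mu f₁ f₂ i j - mu f₁ f₂ i k) =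
        (delta f₁ f₂ j : ℂ) • (eta (L.subtype.comp f₁) (L.subtype.comp f₂) i j -
          eta (L.subtype.comp f₁) (L.subtype.comp f₂) i k) := by
  have h1 := h.mu_sub_eq_zero i hj hk hd
  have h2 := h.primeTI.delta_eq_of_apply_one hd
  refine ⟨h1, h2, ?_⟩
  by_cases hjk : j = k
  · rw [hjk, sub_self, sub_self, dade_zero, smul_zero]
  have hg := gen_sub (h.primeTI.mu_gen i j) (h.primeTI.mu_gen i k)
  refine h.cycTI.eq_signed_sub (Dade.gen h.dade hg h1) ?_ (delta_eq j) i hjk ?_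
  · rw [Dade.isometry h.dade (gen_isClassFunction hg) (gen_isClassFunction hg) h1,
      classInner_sub_left, classInner_sub_right, classInner_sub_right, h.primeTI.mu_inner_self,
      h.primeTI.mu_inner_self, h.primeTI.mu_inner_of_ne (Or.inr hjk),
      h.primeTI.mu_inner_of_ne (Or.inr (Ne.symm hjk))]
    norm_num
  · rintro _ ⟨x, y, hx, hy, rfl⟩
    rw [h.dade_apply_V (gen_isClassFunction hg) hx hy, Pi.smul_apply, Pi.sub_apply, Pi.sub_apply,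
      h.cycTI.eta_apply i j hx hy, h.cycTI.eta_apply i k hx hy, h.primeTI.mu_apply i j hx,
      h.primeTI.mu_apply i k hx, ← h2, smul_eq_mul]
    ring

/-- (4.10) -/
theorem t4_10 (h : PrimeDade L K H f₁ f₂ A A₀ R) (i : X₁ →* ℂˣ) (j : X₂ →* ℂˣ) :
    (∀ x : L, x ∉ cycVConj f₁ f₂ → ((delta f₁ f₂ j : ℂ) • mu f₁ f₂ i j -
        (delta f₁ f₂ j : ℂ) • mu f₁ f₂ 1 j - mu f₁ f₂ i 1 + mu f₁ f₂ 1 1) x = 0) ∧
      dadeIsometry A₀ L R ((delta f₁ f₂ j : ℂ) • mu f₁ f₂ i j -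
        (delta f₁ f₂ j : ℂ) • mu f₁ f₂ 1 j - mu f₁ f₂ i 1 + mu f₁ f₂ 1 1) =
      eta (L.subtype.comp f₁) (L.subtype.comp f₂) i j -
        eta (L.subtype.comp f₁) (L.subtype.comp f₂) 1 j -
        eta (L.subtype.comp f₁) (L.subtype.comp f₂) i 1 +
        eta (L.subtype.comp f₁) (L.subtype.comp f₂) 1 1 := by
  have := h.primeTI.finite₁
  have := h.primeTI.finite₂
  have := Fintype.ofFinite X₁
  have := Fintype.ofFinite X₂
  have e1 : (delta f₁ f₂ j : ℂ) • mu f₁ f₂ i j - (delta f₁ f₂ j : ℂ) • mu f₁ f₂ 1 j -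
      mu f₁ f₂ i 1 + mu f₁ f₂ 1 1 = indHom h.primeTI.tiPair.iota (alphaF i j) := by
    rw [h.primeTI.cycTI.etaFam.ind', ← eta_eq_delta_smul_mu, ← eta_eq_delta_smul_mu,
      h.primeTI.mu_col_one_eq_eta, h.primeTI.mu_col_one_eq_eta]
    abel
  have e2 : ∀ x : L, x ∉ cycVConj f₁ f₂ → indHom h.primeTI.tiPair.iota (alphaF i j) x = 0 :=
    fun x hx => h.primeTI.tiPair.indHom_eq_zero (alphaF_supp i j) hx
  rw [e1]
  refine ⟨e2, ?_⟩
  have hc := indHom_isClassFunction h.primeTI.tiPair.iota (alphaF i j)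
  rw [h.cycTI.eq_bridge (Dade.isClassFunction h.dade hc) i j ?_ ?_, h.cycTI.etaFam.ind']
  · abel
  · rw [Dade.isometry h.dade hc hc fun x hx => e2 x fun e => hx (h.mem_A₀_of_mem_cycVConj e),
      h.primeTI.tiPair.inner_indHom (alphaF_supp i j),
      h.cycTI.tiPair.inner_indHom (alphaF_supp i j)]
  · intro x y hx hy
    rw [h.dade_apply_V hc hx hy, h.primeTI.tiPair.indHom_apply _ hx hy]

variable [Finite X₁]

/-- (4.9), the computation -/
theorem t4_9a (h : PrimeDade L K H f₁ f₂ A A₀ R) {j k : X₂ →* ℂˣ}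
    (hj : j ≠ 1) (hk : k ≠ 1) (hd : muCol f₁ f₂ j 1 = muCol f₁ f₂ k 1) :
    dadeIsometry A₀ L R (muCol f₁ f₂ j - muCol f₁ f₂ k) =
        (delta f₁ f₂ j : ℂ) • (etaCol (L.subtype.comp f₁) (L.subtype.comp f₂) j -
          etaCol (L.subtype.comp f₁) (L.subtype.comp f₂) k) := by
  rw [muCol, muCol, etaCol, etaCol, ← Finset.sum_sub_distrib, ← Finset.sum_sub_distrib, dade_sum,
    Finset.smul_sum]
  exact Finset.sum_congr rfl fun i _ =>
    (h.t4_8 i hj hk (h.primeTI.mu_apply_one_eq_of_muCol hd i)).2.2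

omit [Fintype G] in
theorem delta_eq_of_muCol (h : PrimeDade L K H f₁ f₂ A A₀ R) {j k : X₂ →* ℂˣ}
    (hd : muCol f₁ f₂ j 1 = muCol f₁ f₂ k 1) : delta f₁ f₂ j = delta f₁ f₂ k :=
  h.primeTI.delta_eq_of_apply_one (h.primeTI.mu_apply_one_eq_of_muCol hd 1)

/-- (4.9) -/
theorem t4_9 (h : PrimeDade L K H f₁ f₂ A A₀ R) {k : X₂ →* ℂˣ} (hk : k ≠ 1) :
    ∃ τ₁ : (L → ℂ) → (G → ℂ),
      CoherentWith {φ | ∃ j, j ≠ 1 ∧ muCol f₁ f₂ j 1 = muCol f₁ f₂ k 1 ∧ φ = muCol f₁ f₂ j}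
        (dadeIsometry A₀ L R) τ₁ ∧
      ∀ j, j ≠ 1 → muCol f₁ f₂ j 1 = muCol f₁ f₂ k 1 → τ₁ (muCol f₁ f₂ j) =
        (delta f₁ f₂ k : ℂ) • etaCol (L.subtype.comp f₁) (L.subtype.comp f₂) j := by
  classical
  have hk' : muCol f₁ f₂ k ∈ zspan {φ | ∃ j, j ≠ 1 ∧ muCol f₁ f₂ j 1 = muCol f₁ f₂ k 1 ∧
      φ = muCol f₁ f₂ j} := mem_zspan ⟨k, hk, rfl, rfl⟩
  obtain ⟨ν, hν, e⟩ := pivot_coherentWith (h.iso (S := {φ | ∃ j, j ≠ 1 ∧
      muCol f₁ f₂ j 1 = muCol f₁ f₂ k 1 ∧ φ = muCol f₁ f₂ j})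
      (by rintro _ ⟨j, hj, -, rfl⟩; exact h.primeTI.muCol_mem h.le_H hj)) hk'
    (by
      rw [h.primeTI.muCol_apply_one]
      exact mul_ne_zero (natCard_cast_ne_zero X₁) (irr_apply_one_ne_zero (h.primeTI.mu_irr 1 k)))
    (ζ₁ := (delta f₁ f₂ k : ℂ) • etaCol (L.subtype.comp f₁) (L.subtype.comp f₂) k)
    (by rw [Int.cast_smul_eq_zsmul]; exact gen_zsmul _ (h.cycTI.gen_etaCol k))
    (by rw [classInner_smul_left, classInner_smul_right, conj_delta, ← mul_assoc, delta_mul_self,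
      one_mul, h.cycTI.etaCol_inner, h.primeTI.muCol_inner'])
    (by
      rintro _ ⟨j, hj, hd, rfl⟩
      refine ⟨1, by rw [hd]; simp, ?_⟩
      rw [one_smul, h.t4_9a hj hk hd, h.delta_eq_of_muCol hd, classInner_smul_left,
        classInner_smul_right, conj_delta, ← mul_assoc, delta_mul_self, one_mul,
        classInner_sub_left, classInner_sub_left, h.cycTI.etaCol_inner, h.cycTI.etaCol_inner,
        h.primeTI.muCol_inner', h.primeTI.muCol_inner'])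
  refine ⟨ν, hν, fun j hj hd => ?_⟩
  have := hν.sub (mem_zspan ⟨j, hj, hd, rfl⟩) hk' hd
  rw [h.t4_9a hj hk hd, e, h.delta_eq_of_muCol hd, smul_sub, sub_left_inj] at this
  exact this.symm

end PrimeDade

end

end CL.PF
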