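import Cfsg.Agent.Base
import Cfsg.Agent.PF.A9_Lin
import Cfsg.Agent.PF.RelClifford
import Cfsg.Agent.PF.T4

/-! Characters of a group of type II, III, IV: the work for Peterfalvi (9.8), (9.9), (9.10). -/

set_option autoImplicit false
set_option linter.unusedSectionVars false

namespace CL.PF

open Cfsg Subgroup BG CL.Char
open scoped commutatorElement

section general
variable {L : Type*} [Group L]

theorem comm_sup_le_of_norm {A B D Y : Subgroup L} (hA : A ≤ normalizer (Y : Set L))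
    (hB : B ≤ normalizer (Y : Set L)) (h1 : ⁅A, D⁆ ≤ Y) (h2 : ⁅B, D⁆ ≤ Y) : ⁅A ⊔ B, D⁆ ≤ Y := by
  let S : Subgroup L :=
    { carrier := {g | g ∈ normalizer (Y : Set L) ∧ ∀ d ∈ D, ⁅g, d⁆ ∈ Y}
      one_mem' := ⟨one_mem _, fun d _ => by simp⟩
      mul_mem' := fun {a b} ha hb => ⟨mul_mem ha.1 hb.1, fun d hd => by
        have : ⁅a * b, d⁆ = a * ⁅b, d⁆ * a⁻¹ * ⁅a, d⁆ := by
          simp only [commutatorElement_def]; group
        rw [this]
        exact mul_mem (conj_mem_of_mem_norm ha.1 (hb.2 d hd)) (ha.2 d hd)⟩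
      inv_mem' := fun {a} ha => ⟨inv_mem ha.1, fun d hd => by
        have : ⁅a⁻¹, d⁆ = a⁻¹ * ⁅a, d⁆⁻¹ * a := by
          simp only [commutatorElement_def]; group
        rw [this]
        exact conj_mem_of_mem_norm' ha.1 (inv_mem (ha.2 d hd))⟩ }
  have h : A ⊔ B ≤ S := sup_le (fun a ha => ⟨hA ha, commutator_le.1 h1 a ha⟩)
    (fun b hb => ⟨hB hb, commutator_le.1 h2 b hb⟩)
  exact commutator_le.2 fun g hg => (h hg).2

theorem comm_sup_sup_le_of_norm {A B Y : Subgroup L} (hA : A ≤ normalizer (Y : Set L))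
    (hB : B ≤ normalizer (Y : Set L)) (h1 : ⁅A, A⁆ ≤ Y) (h2 : ⁅B, A⁆ ≤ Y) (h3 : ⁅B, B⁆ ≤ Y) :
    ⁅A ⊔ B, A ⊔ B⁆ ≤ Y := by
  refine comm_sup_le_of_norm hA hB ?_ ?_
  · rw [commutator_comm]; exact comm_sup_le_of_norm hA hB h1 h2
  · rw [commutator_comm]
    exact comm_sup_le_of_norm hA hB (by rwa [commutator_comm]) h3

theorem inKer_iff_le_map [Finite L] {K Y : Subgroup L} {θ : K → ℂ} (hθ : IsCharacter K θ)
    (hY : Y ≤ K) : InKer Y θ ↔ Y ≤ (charKer θ).map K.subtype := by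
  rw [inKer_iff_le_charKer hθ]
  refine ⟨fun h y hy => ⟨⟨y, hY hy⟩, h hy, rfl⟩, fun h y hy => ?_⟩
  obtain ⟨z, hz, e⟩ := h hy
  rwa [← Subtype.ext (p := fun x => x ∈ K) e]

theorem inKer_iSup [Finite L] {K : Subgroup L} {θ : K → ℂ} (hθ : IsCharacter K θ) {ι : Sort*}
    {Y : ι → Subgroup L} (hY : ∀ i, Y i ≤ K) (h : ∀ i, InKer (Y i) θ) : InKer (⨆ i, Y i) θ :=
  (inKer_iff_le_map hθ (iSup_le hY)).2 (iSup_le fun i => (inKer_iff_le_map hθ (hY i)).1 (h i))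

theorem inKer_commutator_of_le_nInertia [Finite L] {N A V : Subgroup L} (hAN : A ≤ N)
    {lam : N →* ℂˣ} (hV : V ≤ nInertia N (fun x => (lam x : ℂ)))
    (hVA : V ≤ normalizer (A : Set L)) : InKer ⁅V, A⁆ (fun x => (lam x : ℂ)) := by
  have h : ⁅V, A⁆ ≤ lam.ker.map N.subtype := commutator_le.2 fun v hv a ha =>
    ⟨⟨v * a * v⁻¹ * a⁻¹, _⟩, linear_comm_of_mem_nInertia (hV hv) (hAN ha)
      (hAN (conj_mem_of_mem_norm (hVA hv) ha)), rfl⟩
  refine inKer_linear_iff.2 fun y hy => ?_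
  obtain ⟨z, hz, e⟩ := h hy
  rwa [← Subtype.ext (p := fun x => x ∈ N) e]

theorem le_centMod_of_le_nInertia [Finite L] {N A V H₀ : Subgroup L} [H₀.Normal] (h0 : H₀ ≤ A)
    (hAN : A ≤ N) {lam : N →* ℂˣ} (hH₀ : InKer H₀ (fun x => (lam x : ℂ)))
    (hA : ¬ InKer A (fun x => (lam x : ℂ))) (hV : V ≤ nInertia N (fun x => (lam x : ℂ)))
    (hVA : V ≤ normalizer (A : Set L)) (hirr : H₀ ⊔ ⁅V, A⁆ = H₀ ∨ H₀ ⊔ ⁅V, A⁆ = A) :
    V ≤ centMod A H₀ := by
  rcases hirr with h | h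
  · exact le_centMod_iff.2 (le_sup_right.trans h.le)
  · refine absurd ?_ hA
    rw [← h]
    exact InKer.sup (char_unitsHom lam) (h0.trans hAN)
      ((commutator_le_right_of_norm hVA).trans hAN) hH₀
      (inKer_commutator_of_le_nInertia hAN hV hVA)

theorem conj_mem_nInertia_inf {N U : Subgroup L} {ψ : N → ℂ} {g : L} (hg : g ∈ nInertia N ψ)
    (hU : g ∈ normalizer (U : Set L)) : g ∈ normalizer ((U ⊓ nInertia N ψ : Subgroup L) : Set L) :=
  le_normalizer_inf (A := zpowers g) (zpowers_le.2 hU) (le_norm_of_le (zpowers_le.2 hg))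
    (mem_zpowers g)

end general

variable {M X₁ X₂ : Type*} [Group M] [Fintype M] [Group X₁] [Group X₂] [Finite X₁] [Finite X₂]
  {H U H₀ H₁ : Subgroup M} [H₀.Normal] {f₁ : X₁ →* M} {f₂ : X₂ →* M}

theorem Hyp92.der_inf_eq (h : Hyp92 H U f₁ f₂) {I : Subgroup M} (hI : H ≤ I) :
    I ⊓ commutator M = H ⊔ (U ⊓ I) := by
  have := h.H_normal
  rw [← h.sup_eq, inf_comm, sup_inf_dedekind hI]

theorem Hyp92.U_norm_of_der_le (_h : Hyp92 H U f₁ f₂) {V : Subgroup M} (h1 : ⁅U, U⁆ ≤ V)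
    (h2 : V ≤ U) : U ≤ normalizer (V : Set M) :=
  le_normalizer_of_commutator_le ((commutator_mono le_rfl h2).trans h1)

theorem Hyp92.der_norm_sup (h : Hyp92 H U f₁ f₂) {V : Subgroup M}
    (hV : U ≤ normalizer (V : Set M)) :
    commutator M ≤ normalizer ((H ⊔ V : Subgroup M) : Set M) := by
  have := h.H_normal
  rw [← h.sup_eq]
  exact sup_le (le_norm_of_le le_sup_left) (le_normalizer_sup le_normalizer_of_normal hV)

theorem Hyp92.H_sup_le (h : Hyp92 H U f₁ f₂) {V : Subgroup M} (hV : V ≤ U) :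
    H ⊔ V ≤ commutator M := sup_le h.H_le (hV.trans h.U_le)

theorem Hyp95.H₀_sup_le (h : Hyp95 H U H₀ f₁ f₂) {V : Subgroup M} (hV : V ≤ U) :
    H₀ ⊔ V ≤ commutator M := sup_le (h.H₀_le.trans h.H_le) (hV.trans h.U_le)

theorem Hyp95.der_HC_le (h : Hyp95 H U H₀ f₁ f₂) :
    ⁅H ⊔ cOf H U H₀, H ⊔ cOf H U H₀⁆ ≤ H₀ ⊔ ⁅cOf H U H₀, cOf H U H₀⁆ := by
  have := h.normal_H₀C'
  exact comm_sup_sup_le_of_norm le_normalizer_of_normal le_normalizer_of_normal
    (h.der_H_le.trans le_sup_left) ((le_centMod_iff.1 inf_le_right).trans le_sup_left) le_sup_right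

/-! ### inertia groups of linear characters -/

/-- the inertia group in `M'` of a linear character that is non-trivial on a section of order `p` -/
theorem Hyp95.nInertia_le_of_prime (h : Hyp95 H U H₀ f₁ f₂) {A N : Subgroup M} (h0 : H₀ ≤ A)
    (hAH : A ≤ H) (hp : (H₀.relIndex A).Prime) (hU : U ≤ normalizer (A : Set M)) (hHN : H ≤ N)
    {lam : N →* ℂˣ} (hH₀ : InKer H₀ (fun x => (lam x : ℂ)))
    (hA : ¬ InKer A (fun x => (lam x : ℂ))) :
    nInertia N (fun x => (lam x : ℂ)) ⊓ commutator M ≤ H ⊔ cOf A U H₀ := by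
  rw [h.der_inf_eq (hHN.trans (le_nInertia (isClassFunction_unitsHom lam)))]
  have hVA := (inf_le_left (b := nInertia N (fun x => (lam x : ℂ)))).trans hU
  exact sup_le_sup_left (le_inf inf_le_left (le_centMod_of_le_nInertia h0 (hAH.trans hHN) hH₀ hA
    inf_le_right hVA (eq_or_eq_of_relIndex_prime hp le_sup_left
      (sup_le h0 (commutator_le_right_of_norm hVA))))) _

theorem Hyp95.nInertia_le_of_galois (h : Hyp95 H U H₀ f₁ f₂) (hG : IsGalois9 H U H₀)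
    {N : Subgroup M} (hHN : H ≤ N) {lam : N →* ℂˣ}
    (hU' : ⁅U, U⁆ ≤ nInertia N (fun x => (lam x : ℂ))) (hH₀ : InKer H₀ (fun x => (lam x : ℂ)))
    (hA : ¬ InKer H (fun x => (lam x : ℂ))) :
    nInertia N (fun x => (lam x : ℂ)) ⊓ commutator M ≤ H ⊔ cOf H U H₀ := by
  have := h.H_normal
  rw [h.der_inf_eq (hHN.trans (le_nInertia (isClassFunction_unitsHom lam)))]
  refine sup_le_sup_left (le_inf inf_le_left (le_centMod_of_le_nInertia h.H₀_le hHN hH₀ hA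
    inf_le_right le_normalizer_of_normal (hG _ le_sup_left
      (sup_le h.H₀_le (commutator_le_right _ _)) ?_))) _
  exact le_normalizer_sup le_normalizer_of_normal (le_normalizer_commutator
    (h.U_norm_of_der_le (le_inf (commutator_le_right_of_norm le_normalizer) hU') inf_le_left)
    le_normalizer_of_normal)

theorem Hyp95.nInertia_le_of_W₁ (h : Hyp95 H U H₀ f₁ f₂) {N : Subgroup M} (hHN : H ≤ N)
    {lam : N →* ℂˣ} (hU' : ⁅U, U⁆ ≤ nInertia N (fun x => (lam x : ℂ)))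
    (hW : f₁.range ≤ nInertia N (fun x => (lam x : ℂ))) (hH₀ : InKer H₀ (fun x => (lam x : ℂ)))
    (hA : ¬ InKer H (fun x => (lam x : ℂ))) :
    nInertia N (fun x => (lam x : ℂ)) ⊓ commutator M ≤ H ⊔ cOf H U H₀ := by
  have := h.H_normal
  rw [h.der_inf_eq (hHN.trans (le_nInertia (isClassFunction_unitsHom lam)))]
  refine sup_le_sup_left (le_inf inf_le_left (le_centMod_of_le_nInertia h.H₀_le hHN hH₀ hA
    inf_le_right le_normalizer_of_normal (h.chief _ ?_ le_sup_left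
      (sup_le h.H₀_le (commutator_le_right _ _))))) _
  refine h.normal_of_le (h.H_le_normalizer le_sup_left
    (sup_le h.H₀_le (commutator_le_right _ _))) ?_
  refine le_normalizer_sup le_normalizer_of_normal (le_normalizer_commutator (sup_le
    (h.U_norm_of_der_le (le_inf (commutator_le_right_of_norm le_normalizer) hU') inf_le_left)
    fun w hw => conj_mem_nInertia_inf (hW hw) (h.W₁_norm hw)) le_normalizer_of_normal)

/-! ### (9.8.a) -/

theorem NonGalois9.cj_le_der (h : Hyp95 H U H₀ f₁ f₂) (h₁ : NonGalois9 H U H₀ f₁ H₁) (g : M) :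
    cj g H₁ ≤ commutator M := (h.cj_le_H h₁.le g).trans h.H_le

theorem NonGalois9.exists_not_inKer (h : Hyp95 H U H₀ f₁ f₂) (h₁ : NonGalois9 H U H₀ f₁ H₁)
    {N : Subgroup M} (hHN : H ≤ N) {θ : N → ℂ} (hθ : IsCharacter N θ) (hH : ¬ InKer H θ) :
    ∃ x : X₁, ¬ InKer (cj (f₁ x) H₁) θ := by
  by_contra hc
  push Not at hc
  exact hH (h₁.gen_cj ▸ inKer_iSup hθ (fun x => (h.cj_le_H h₁.le _).trans hHN) hc)

theorem Hyp95.a9_8a (h : Hyp95 H U H₀ f₁ f₂) (h₁ : NonGalois9 H U H₀ f₁ H₁)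
    {θ : commutator M → ℂ} (hθ : IsIrrCharacter (commutator M) θ) (hH : ¬ InKer H θ)
    (hH₀ : InKer H₀ θ) : uOf H₁ U H₀ ∣ deg θ := by
  have := h.H_normal
  obtain ⟨x, hx⟩ := h₁.exists_not_inKer h h.H_le (irr_isCharacter hθ) hH
  obtain ⟨lam, h1, h2⟩ := exists_linear_relUnder h.H_le h.der_H_le hθ hH₀
  have h3 := mt (inKer_iff_of_relOver (h.cj_le_H h₁.le (f₁ x)) h.H_le (h₁.der_norm_cj h x)
    (irr_unitsHom lam) hθ h1).1 hx
  have h4 := h.nInertia_le_of_prime (le_cj_of_normal h₁.le₀ _) (h.cj_le_H h₁.le _)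
    (h₁.relIndex_cj_prime h _) (h.norm_cj h₁.norm x) le_rfl h2 h3
  have h5 := relIndex_nInertia_dvd_deg h.H_le le_normalizer_of_normal (irr_unitsHom lam) hθ h1
  refine dvd_trans ?_ ((Dvd.intro _ rfl).trans h5)
  rw [← uOf_cj (K := H₁) (H₀ := H₀) (h.f₁_mem_norm x), uOf, ← h.relIndex_H_sup inf_le_left,
    ← inf_relIndex_right (nInertia H _)]
  exact relIndex_dvd_of_le_left _ h4

/-! ### the reducible characters -/

theorem Hyp95.card_inKer_chiRes (h : Hyp95 H U H₀ f₁ f₂) {V : Subgroup M} (hV : V ≤ U)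
    [(H₀ ⊔ V).Normal] :
    Nat.card {j : X₂ →* ℂˣ // InKer (H₀ ⊔ V) (chiRes (commutator M) f₁ f₂ j)} = pOf H H₀ := by
  rw [h.primeTI.card_inKer_chiRes _ (h.H₀_sup_le hV), ← h.relIndex_W₂, ← inf_relIndex_right,
    ← inf_relIndex_right H₀]
  congr 1
  exact le_antisymm (fun x hx => ⟨h.mem_H₀_of_mem_sup hV (h.W₂_le hx.2) hx.1, hx.2⟩)
    (inf_le_inf_right _ le_sup_left)

theorem Hyp95.inKer_chiRes_sup (h : Hyp95 H U H₀ f₁ f₂) {V : Subgroup M} (hV : V ≤ U)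
    [(H₀ ⊔ V).Normal] {j : X₂ →* ℂˣ} (hj : InKer H₀ (chiRes (commutator M) f₁ f₂ j)) :
    InKer (H₀ ⊔ V) (chiRes (commutator M) f₁ f₂ j) := by
  have h1 := h.card_inKer_chiRes hV
  have h2 := h.primeTI.card_inKer_chiRes H₀ (h.H₀_le.trans h.H_le)
  rw [h.relIndex_W₂, ← h1] at h2
  have h3 := Set.eq_of_subset_of_ncard_le
    (s := {j : X₂ →* ℂˣ | InKer (H₀ ⊔ V) (chiRes (commutator M) f₁ f₂ j)})
    (t := {j : X₂ →* ℂˣ | InKer H₀ (chiRes (commutator M) f₁ f₂ j)})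
    (fun j hj => InKer.mono hj le_sup_left) h2.le
  exact (Set.ext_iff.1 h3 j).2 hj

theorem Hyp92.inKer_chiRes_iff (h : Hyp92 H U f₁ f₂) {j : X₂ →* ℂˣ} :
    InKer H (chiRes (commutator M) f₁ f₂ j) ↔ j = 1 := by
  refine ⟨fun hj => by_contra fun h1 => h.primeTI.not_inKer_chiRes h.W₂_le h1 hj, ?_⟩
  rintro rfl
  rw [h.primeTI.chiRes_one]
  exact inKer_const _ _

theorem Hyp92.muCol_mem_iff (h : Hyp92 H U f₁ f₂) {Y : Subgroup M} [Y.Normal] {j : X₂ →* ℂˣ} :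
    muCol f₁ f₂ j ∈ seqIndD (commutator M) H Y ↔
      j ≠ 1 ∧ InKer Y (chiRes (commutator M) f₁ f₂ j) := by
  have := h.H_normal
  rw [← h.primeTI.indFun_chiRes, indFun_mem_seqIndD_iff (h.primeTI.chiRes_irr j),
    h.inKer_chiRes_iff]

theorem Hyp95.card_chiRes (h : Hyp95 H U H₀ f₁ f₂) {V : Subgroup M} (hV : V ≤ U)
    [(H₀ ⊔ V).Normal] :
    Nat.card {j : X₂ →* ℂˣ // j ≠ 1 ∧ InKer (H₀ ⊔ V) (chiRes (commutator M) f₁ f₂ j)} =
      pOf H H₀ - 1 := by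
  rw [← h.card_inKer_chiRes hV]
  have h1 : (1 : X₂ →* ℂˣ) ∈
      {j : X₂ →* ℂˣ | InKer (H₀ ⊔ V) (chiRes (commutator M) f₁ f₂ j)} := by
    rw [Set.mem_ofPred_eq, h.primeTI.chiRes_one]; exact inKer_const _ _
  have h2 := Set.ncard_sdiff_singleton_of_mem h1
  refine Eq.trans ?_ h2
  exact Nat.card_congr (Equiv.subtypeEquivRight fun j => and_comm)

theorem Hyp95.a9_card_muCol (h : Hyp95 H U H₀ f₁ f₂) {V : Subgroup M} (hV : V ≤ U)
    [(H₀ ⊔ V).Normal] :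
    Nat.card {j : X₂ →* ℂˣ // muCol f₁ f₂ j ∈ seqIndD (commutator M) H (H₀ ⊔ V)} =
      pOf H H₀ - 1 := by
  rw [← h.card_chiRes hV]
  exact Nat.card_congr (Equiv.subtypeEquivRight fun j => h.muCol_mem_iff)

/-- a `W₁`-invariant constituent of `χ_j` on a normal subgroup containing `H` -/
theorem Hyp92.exists_fixed_under (h : Hyp92 H U f₁ f₂) (j : X₂ →* ℂˣ) {N : Subgroup M} [N.Normal]
    (hHN : H ≤ N) (hN : N ≤ commutator M) :
    ∃ ψ : N → ℂ, IsIrrCharacter N ψ ∧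
      classInner (relRes hN (chiRes (commutator M) f₁ f₂ j)) ψ ≠ 0 ∧ f₁.range ≤ inertia N ψ := by
  have hμ := h.primeTI.mu_irr 1 j
  obtain ⟨ψ, hψ, h1⟩ := exists_irr_under N hμ
  have h2 : ¬ inertia N ψ ≤ commutator M := by
    intro hle
    obtain ⟨e, he⟩ := char_inner_nat (char_restrict (irr_isCharacter hμ) N) (irr_isCharacter hψ)
    have h3 := clifford_apply_one N hμ hψ h1
    have h4 : mu f₁ f₂ 1 j 1 = deg (chiRes (commutator M) f₁ f₂ j) :=
      (irr_cast_deg (h.primeTI.chiRes_irr j)).symm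
    rw [he, h4, ← irr_cast_deg hψ] at h3
    have h5 : deg (chiRes (commutator M) f₁ f₂ j) = e * (inertia N ψ).index * deg ψ := by
      exact_mod_cast h3
    have h6 : Nat.card X₁ ∣ Nat.card (commutator M) := by
      refine dvd_trans ?_ (irr_deg_dvd_card (h.primeTI.chiRes_irr j))
      rw [h5, ← h.index_der]
      exact ((index_dvd_of_le hle).mul_left e).mul_right _
    exact h.prime.one_lt.ne' (h.coprime_q_der.eq_one_of_dvd h6)
  obtain ⟨g, hg, hgK⟩ := SetLike.not_le_iff_exists.1 h2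
  obtain ⟨m, x, y, hx, rfl⟩ := h.primeTI.exists_conj_of_not_mem hgK
  refine ⟨conjChar N m ψ, irr_conjChar N hψ m, ?_, ?_⟩
  · rw [← classInner_res_conjChar N (irr_isClassFunction hμ) m] at h1
    exact h1
  · have h3 := (mem_inertia_conjChar N ψ m _).2 hg
    have h4 : f₁ x ∈ inertia N (conjChar N m ψ) :=
      (mul_mem_cancel_right (le_inertia N (irr_isClassFunction (irr_conjChar N hψ m))
        (hHN (h.W₂_le ⟨y, rfl⟩)))).1 h3
    rintro _ ⟨z, rfl⟩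
    obtain ⟨n, rfl⟩ := h.exists_pow_eq hx z
    rw [map_pow]
    exact pow_mem h4 n

/-- the `χ_j` with `H₀` but not `H` in their kernel are induced from `W₁`-invariant linear
characters of `H C` -/
theorem Hyp95.chiRes_eq_relInd (h : Hyp95 H U H₀ f₁ f₂) {j : X₂ →* ℂˣ} (hj : j ≠ 1)
    (hj₀ : InKer H₀ (chiRes (commutator M) f₁ f₂ j)) :
    ∃ lam : ↥(H ⊔ cOf H U H₀) →* ℂˣ,
      f₁.range ≤ nInertia (H ⊔ cOf H U H₀) (fun x => (lam x : ℂ)) ∧
      InKer (H₀ ⊔ cOf H U H₀) (fun x => (lam x : ℂ)) ∧ ¬ InKer H (fun x => (lam x : ℂ)) ∧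
      chiRes (commutator M) f₁ f₂ j =
        relInd (H ⊔ cOf H U H₀) (commutator M) (fun x => (lam x : ℂ)) := by
  have := h.H_normal
  have := h.normal_HC
  have := h.normal_H₀C
  have hN := h.H_sup_le (V := cOf H U H₀) inf_le_left
  have hχ := h.primeTI.chiRes_irr j
  obtain ⟨ψ, hψ, h1, hW⟩ := h.exists_fixed_under j le_sup_left hN
  have h2 : InKer (H₀ ⊔ cOf H U H₀) ψ := (inKer_iff_of_relOver (sup_le_sup_right h.H₀_le _) hN
    le_normalizer_of_normal hψ hχ h1).2 (h.inKer_chiRes_sup inf_le_left hj₀)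
  have h3 : ¬ InKer H ψ := fun h3 => hj (h.inKer_chiRes_iff.1
    ((inKer_iff_of_relOver le_sup_left hN le_normalizer_of_normal hψ hχ h1).1 h3))
  obtain ⟨lam, rfl⟩ := exists_linear_of_inKer
    (h.der_HC_le.trans (sup_le_sup_left h.der_cOf_le _)) hψ h2
  rw [← nInertia_eq_inertia] at hW
  refine ⟨lam, hW, h2, h3, eq_relInd_of_nInertia_le hN le_normalizer_of_normal hψ ?_ hχ h1⟩
  exact h.nInertia_le_of_W₁ le_sup_left ((h.der_le_cOf.trans le_sup_right).trans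
    (le_nInertia (irr_isClassFunction hψ))) hW (h2.mono le_sup_left) h3

theorem Hyp95.indFun_HC_one (h : Hyp95 H U H₀ f₁ f₂) (lam : ↥(H ⊔ cOf H U H₀) →* ℂˣ) :
    indFun (H ⊔ cOf H U H₀) (fun x => (lam x : ℂ)) 1 = ((Nat.card X₁ * uOf H U H₀ : ℕ) : ℂ) := by
  rw [indFun_one, h.index_HC.1]; simp

theorem Hyp95.a9_muCol_facts (h : Hyp95 H U H₀ f₁ f₂) {j : X₂ →* ℂˣ}
    (hj : muCol f₁ f₂ j ∈ seqIndD (commutator M) H H₀) :
    muCol f₁ f₂ j 1 = ((Nat.card X₁ * uOf H U H₀ : ℕ) : ℂ) ∧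
      muCol f₁ f₂ j ∈ seqIndD (commutator M) H (H₀ ⊔ cOf H U H₀) ∧
      IsIndLin (H ⊔ cOf H U H₀) (muCol f₁ f₂ j) := by
  have := h.normal_H₀C
  obtain ⟨h1, h2⟩ := h.muCol_mem_iff.1 hj
  obtain ⟨lam, -, -, -, h3⟩ := h.chiRes_eq_relInd h1 h2
  have h4 : muCol f₁ f₂ j = indFun (H ⊔ cOf H U H₀) (fun x => (lam x : ℂ)) := by
    rw [← h.primeTI.indFun_chiRes, h3, indFun_relInd (h.H_sup_le inf_le_left)]
  exact ⟨h4 ▸ h.indFun_HC_one lam, h.muCol_mem_iff.2 ⟨h1, h.inKer_chiRes_sup inf_le_left h2⟩,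
    lam, h4⟩

/-- an irreducible character induced from `N`, where `H ≤ N ≤ M'` -/
theorem Hyp92.indFun_mem_of_irr (h : Hyp92 H U f₁ f₂) {N Y : Subgroup M} (hHN : H ≤ N)
    (hN : N ≤ commutator M) (hY : Y ≤ N) (hn : commutator M ≤ normalizer (Y : Set M)) {ψ : N → ℂ}
    (hψ : IsCharacter N ψ) (hi : IsIrrCharacter _ (relInd N (commutator M) ψ)) (h1 : ¬ InKer H ψ)
    (h2 : InKer Y ψ) : indFun N ψ ∈ seqIndD (commutator M) H Y := by
  have := h.H_normal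
  rw [← indFun_relInd hN]
  exact indFun_mem_seqIndD hi (mt (inKer_relInd_iff hHN hN le_normalizer_of_normal hψ).1 h1)
    ((inKer_relInd_iff hY hN hn hψ).2 h2)

/-! ### (9.8.c) -/

theorem Hyp95.a9_8c (h : Hyp95 H U H₀ f₁ f₂) (h₁ : NonGalois9 H U H₀ f₁ H₁) :
    ∃ χ ∈ seqIndD (commutator M) H (H₀ ⊔ cOf H U H₀), IsIrrCharacter M χ ∧
      χ 1 = ((Nat.card X₁ * uOf H U H₀ : ℕ) : ℂ) ∧ IsIndLin (H ⊔ cOf H U H₀) χ := by
  classical
  have hH := h.H_normal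
  have := h.normal_HC
  have := h.normal_H₀C
  obtain ⟨s, hs, hs₀⟩ := SetLike.not_le_iff_exists.1 (h₁.not_le h)
  have hp := h.p_prime
  obtain ⟨ζ, hζ⟩ : ∃ ζ : ℂˣ, IsPrimitiveRoot ζ (pOf H H₀) := by
    have := Complex.isPrimitiveRoot_exp _ hp.ne_zero
    exact ⟨(this.isUnit hp.ne_zero).unit, IsPrimitiveRoot.coe_units_iff.1 (by simpa using this)⟩
  have hζ1 : ζ ≠ 1 := hζ.ne_one hp.one_lt
  obtain ⟨θ, hθ₀, hθ⟩ := h₁.exists_lin h hs hs₀ (fun x => if x = 1 then ζ⁻¹ else ζ) (fun x => by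
    split_ifs
    · rw [inv_pow, hζ.pow_eq_one, inv_one]
    · exact hζ.pow_eq_one)
  have hne : ∀ x : X₁, θ ⟨f₁ x * s * (f₁ x)⁻¹, hH.conj_mem s (h₁.le hs) _⟩ ≠ 1 := by
    intro x
    rw [hθ]
    split_ifs
    · exact inv_ne_one.2 hζ1
    · exact hζ1
  have hI : inertia H (fun x => (θ x : ℂ)) ≤ H ⊔ cOf H U H₀ := by
    have hK : ∀ k ∈ inertia H (fun x => (θ x : ℂ)), k ∈ commutator M → k ∈ H ⊔ cOf H U H₀ := by
      intro k hk hkK
      rw [h.HC_eq]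
      refine ⟨hkK, (h₁.mem_centMod_iff h).2 fun x => ?_⟩
      have h2 := h.nInertia_le_of_prime (le_cj_of_normal h₁.le₀ (f₁ x)) (h.cj_le_H h₁.le _)
        (h₁.relIndex_cj_prime h _) (h.norm_cj h₁.norm x) le_rfl (inKer_linear_iff.2 hθ₀)
        (fun h3 => hne x (inKer_linear_iff.1 h3 _ (conj_mem_cj.2 hs)))
        ⟨nInertia_eq_inertia (N := H) ▸ hk, hkK⟩
      exact sup_le (h.H_le_centMod.trans (centMod_anti (h.cj_le_H h₁.le _))) inf_le_right h2
    intro g hg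
    obtain ⟨a, ha, u, hu, x, rfl⟩ := h.exists_mul g
    by_cases hx : x = 1
    · subst hx
      exact hK _ hg (by simpa using mul_mem (h.H_le ha) (h.U_le hu))
    exfalso
    have hg' : u * f₁ x ∈ inertia H (fun x => (θ x : ℂ)) := by
      rw [mul_assoc] at hg
      exact (mul_mem_cancel_left (le_inertia H (isClassFunction_unitsHom θ) ha)).1 hg
    -- `u` inverts `t = f₁ x * s * (f₁ x)⁻¹` modulo `H₀`
    set t := f₁ x * s * (f₁ x)⁻¹ with ht
    have htH : t ∈ H := hH.conj_mem s (h₁.le hs) _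
    have htA : t ∈ cj (f₁ x) H₁ := conj_mem_cj.2 hs
    have hutA : u * t * u⁻¹ ∈ cj (f₁ x) H₁ := conj_mem_of_mem_norm (h.norm_cj h₁.norm x hu) htA
    have e1 : θ ⟨u * t * u⁻¹, hH.conj_mem t htH u⟩ = ζ⁻¹ := by
      have h2 := (mem_inertia H).1 hg' ⟨s, h₁.le hs⟩
      have h3 := hθ 1
      simp only [map_one, one_mul, inv_one, mul_one, if_true] at h3
      rw [h3] at h2
      rw [← Units.val_inj, ← h2]
      congr 3
      simp only [ht, mul_inv_rev, mul_assoc]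
    have e2 : θ ⟨t, htH⟩ = ζ := by rw [hθ x, if_neg hx]
    have h2 : u * t * u⁻¹ * t ∈ H₀ := by
      refine h₁.mem_of_apply_eq_one h hθ₀ (t := ⟨t, htH⟩) htA (e2 ▸ hζ1)
        (y := ⟨u * t * u⁻¹, hH.conj_mem t htH u⟩ * ⟨t, htH⟩) (mul_mem hutA htA) ?_
      rw [map_mul, e1, e2, inv_mul_cancel]
    let π := QuotientGroup.mk' H₀
    have h3 : π u * π t * (π u)⁻¹ = (π t)⁻¹ := by
      rw [eq_inv_iff_mul_eq_one, ← map_inv, ← map_mul, ← map_mul, ← map_mul]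
      exact (QuotientGroup.eq_one_iff _).2 h2
    obtain ⟨k, hk⟩ := h.odd
    have hpow : ∀ y : M ⧸ H₀, y = ((y * y) ^ k)⁻¹ := by
      intro y
      obtain ⟨y, rfl⟩ := QuotientGroup.mk'_surjective H₀ y
      have h4 : y ^ (2 * k + 1) = 1 := hk ▸ pow_card_eq_one'
      rw [eq_inv_iff_mul_eq_one, ← pow_two, ← pow_mul, ← pow_succ', ← map_pow, h4, map_one]
    have h5 : Commute (π u * π u) (π t) := by
      have : π u * π u * π t * (π u * π u)⁻¹ = π t := by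
        calc π u * π u * π t * (π u * π u)⁻¹ = π u * (π u * π t * (π u)⁻¹) * (π u)⁻¹ := by group
          _ = π u * (π t)⁻¹ * (π u)⁻¹ := by rw [h3]
          _ = (π u * π t * (π u)⁻¹)⁻¹ := by group
          _ = π t := by rw [h3, inv_inv]
      exact mul_inv_eq_iff_eq_mul.1 this
    have h6 : Commute (π u) (π t) := by rw [hpow (π u)]; exact (h5.pow_left k).inv_left
    rw [h6.eq, mul_inv_cancel_right] at h3
    have h7 : π t = 1 := by rw [hpow (π t), mul_eq_one_iff_eq_inv.2 h3]; simp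
    exact hζ1 (e2 ▸ hθ₀ ⟨t, htH⟩ ((QuotientGroup.eq_one_iff _).1 h7))
  have hdisj : H ⊓ cOf H U H₀ = ⊥ := eq_bot_iff.2 (h.inf_eq ▸ inf_le_inf_left _ inf_le_left)
  obtain ⟨lam, hl1, hl2⟩ := exists_linear_sup le_normalizer_of_normal hdisj θ
    (fun c hc => mem_nInertia_linear (le_normalizer_of_normal (mem_top c))
      fun n hn _ => hθ₀ _ (mem_centMod.1 hc.2 n hn)) 1
  have hres : relRes le_sup_left (fun x => (lam x : ℂ)) = fun x => (θ x : ℂ) :=
    funext fun x => congrArg Units.val (hl1 x)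
  have hirr : IsIrrCharacter M (indFun (H ⊔ cOf H U H₀) (fun x => (lam x : ℂ))) := by
    refine irr_indFun_of_inertia_le_of_over H le_sup_left (irr_unitsHom θ) hI (irr_unitsHom lam) ?_
    have : classInner (relRes le_sup_left (fun x => (lam x : ℂ))) (fun x => (θ x : ℂ)) = 1 := by
      rw [hres, irr_inner_self (irr_unitsHom θ)]
    exact this ▸ one_ne_zero
  have hN := h.H_sup_le (V := cOf H U H₀) inf_le_left
  refine ⟨_, h.indFun_mem_of_irr le_sup_left hN (sup_le_sup_right h.H₀_le _)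
    le_normalizer_of_normal (char_unitsHom lam) (irr_of_irr_indFun _
      (char_relInd hN (char_unitsHom lam)) (by rwa [indFun_relInd hN])) (fun h3 => ?_) ?_,
    hirr, h.indFun_HC_one lam, lam, rfl⟩
  · exact hne 1 (hl1 _ ▸ inKer_linear_iff.1 h3 _ (hH.conj_mem s (h₁.le hs) _))
  · refine InKer.sup (char_unitsHom lam) (h.H₀_le.trans le_sup_left) le_sup_right
      (inKer_linear_iff.2 fun y hy => ?_) (inKer_linear_iff.2 fun y hy => hl2 ⟨y, hy⟩)
    exact (hl1 ⟨y, h.H₀_le hy⟩).trans (hθ₀ _ hy)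

end CL.PF
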