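import Cfsg.Agent.PF.T9_7
import Cfsg.Agent.PF.T4
import Cfsg.Agent.PF.A9_Char

/-! Peterfalvi (9.8), (9.9), (9.10).  `S(Y)` is `seqIndD (commutator M) H Y`.
Owner: helper54 / helper94. -/

set_option autoImplicit false
set_option linter.unusedSectionVars false

namespace CL.PF

open Cfsg Subgroup BG CL.Char

variable {M X₁ X₂ : Type*} [Group M] [Fintype M] [Group X₁] [Group X₂] [Finite X₁] [Finite X₂]
  {H U H₀ : Subgroup M} [H₀.Normal] {f₁ : X₁ →* M} {f₂ : X₂ →* M}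

/-- (9.8.a) -/
theorem Hyp95.t9_8a (h : Hyp95 H U H₀ f₁ f₂) {H₁ : Subgroup M} (h₁ : NonGalois9 H U H₀ f₁ H₁)
    {θ : commutator M → ℂ} (hθ : IsIrrCharacter (commutator M) θ) (hH : ¬ InKer H θ)
    (hH₀ : InKer H₀ θ) : ∃ n : ℕ, θ 1 = ((uOf H₁ U H₀ * n : ℕ) : ℂ) := by
  obtain ⟨n, hn⟩ := h.a9_8a h₁ hθ hH hH₀
  exact ⟨n, by rw [← hn, irr_cast_deg hθ]⟩

/-- (9.8.b), (9.9.b): the number of reducible members of `S(H₀)` -/
theorem Hyp95.card_muCol (h : Hyp95 H U H₀ f₁ f₂) :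
    Nat.card {j : X₂ →* ℂˣ // muCol f₁ f₂ j ∈ seqIndD (commutator M) H H₀} = pOf H H₀ - 1 := by
  have : (H₀ ⊔ ⊥).Normal := by rwa [sup_bot_eq]
  simpa using h.a9_card_muCol (V := ⊥) bot_le

theorem Hyp95.exists_muCol (h : Hyp95 H U H₀ f₁ f₂) :
    ∃ j : X₂ →* ℂˣ, j ≠ 1 ∧ muCol f₁ f₂ j ∈ seqIndD (commutator M) H H₀ := by
  have h1 := h.card_muCol
  have h2 := h.three_le_p
  obtain ⟨⟨j, hj⟩⟩ := (Nat.card_pos_iff.1 (h1 ▸ (by omega : 0 < pOf H H₀ - 1))).1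
  exact ⟨j, (h.muCol_mem_iff.1 hj).1, hj⟩

/-- (9.8.b), (9.9.b): the reducible members of `S(H₀)` -/
theorem Hyp95.muCol_facts (h : Hyp95 H U H₀ f₁ f₂) {j : X₂ →* ℂˣ}
    (hj : muCol f₁ f₂ j ∈ seqIndD (commutator M) H H₀) :
    muCol f₁ f₂ j 1 = ((Nat.card X₁ * uOf H U H₀ : ℕ) : ℂ) ∧
      muCol f₁ f₂ j ∈ seqIndD (commutator M) H (H₀ ⊔ cOf H U H₀) ∧
      IsIndLin (H ⊔ cOf H U H₀) (muCol f₁ f₂ j) := h.a9_muCol_facts hj

/-- a member of `S(Y)` is irreducible or one of the `μ_j` -/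
theorem Hyp92.irr_or_eq_muCol (h : Hyp92 H U f₁ f₂) {Y : Subgroup M} {χ : M → ℂ}
    (hχ : χ ∈ seqIndD (commutator M) H Y) :
    IsIrrCharacter M χ ∨ ∃ j, j ≠ 1 ∧ χ = muCol f₁ f₂ j := by
  obtain ⟨θ, hθ, h1, -, rfl⟩ := hχ
  rcases h.primeTI.irr_cases hθ with ⟨j, rfl⟩ | ⟨h2, -⟩
  · exact Or.inr ⟨j, mt h.inKer_chiRes_iff.2 h1, h.primeTI.indFun_chiRes j⟩
  · exact Or.inl h2

/-- (9.8.c) -/
theorem Hyp95.t9_8c (h : Hyp95 H U H₀ f₁ f₂) (hG : ¬ IsGalois9 H U H₀) :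
    ∃ χ ∈ seqIndD (commutator M) H (H₀ ⊔ cOf H U H₀), IsIrrCharacter M χ ∧
      χ 1 = ((Nat.card X₁ * uOf H U H₀ : ℕ) : ℂ) ∧ IsIndLin (H ⊔ cOf H U H₀) χ := by
  obtain ⟨H₁, h₁⟩ := h.t9_7a hG
  exact h.a9_8c h₁

section d
variable {H₁ : Subgroup M}

/-- the product of `H₀` and of the conjugates `H₁^w`, `w ∈ W₁^#` -/
def coSup (H₀ H₁ : Subgroup M) (f₁ : X₁ →* M) : Subgroup M :=
  H₀ ⊔ ⨆ x : {x : X₁ // x ≠ 1}, cj (f₁ x) H₁

theorem cj_le_coSup {x : X₁} (hx : x ≠ 1) : cj (f₁ x) H₁ ≤ coSup H₀ H₁ f₁ :=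
  (le_iSup (fun x : {x : X₁ // x ≠ 1} => cj (f₁ x) H₁) ⟨x, hx⟩).trans le_sup_right

theorem NonGalois9.coSup_le (h : Hyp95 H U H₀ f₁ f₂) (h₁ : NonGalois9 H U H₀ f₁ H₁) :
    coSup H₀ H₁ f₁ ≤ H := sup_le h.H₀_le (iSup_le fun _ => h.cj_le_H h₁.le _)

theorem NonGalois9.der_norm_coSup (h : Hyp95 H U H₀ f₁ f₂) (h₁ : NonGalois9 H U H₀ f₁ H₁) :
    commutator M ≤ normalizer (coSup H₀ H₁ f₁ : Set M) :=
  le_normalizer_sup le_normalizer_of_normal (norms_iSup fun x => h₁.der_norm_cj h x)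

theorem NonGalois9.der_norm (h : Hyp95 H U H₀ f₁ f₂) (h₁ : NonGalois9 H U H₀ f₁ H₁) :
    commutator M ≤ normalizer (H₁ : Set M) := by
  simpa [cj_one] using h₁.der_norm_cj h 1

theorem NonGalois9.coSup_sup (h : Hyp95 H U H₀ f₁ f₂) (h₁ : NonGalois9 H U H₀ f₁ H₁) :
    coSup H₀ H₁ f₁ ⊔ H₁ = H := by
  refine le_antisymm (sup_le (h₁.coSup_le h) h₁.le) ?_
  conv_lhs => rw [← h₁.gen_cj]
  refine iSup_le fun x => ?_
  by_cases hx : x = 1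
  · subst hx
    rw [map_one, cj_one]
    exact le_sup_right
  · exact (cj_le_coSup hx).trans le_sup_left

theorem NonGalois9.coSup_inf (h : Hyp95 H U H₀ f₁ f₂) (h₁ : NonGalois9 H U H₀ f₁ H₁) :
    coSup H₀ H₁ f₁ ⊓ H₁ = H₀ := by
  refine le_antisymm (fun y hy => ?_) (le_inf le_sup_left h₁.le₀)
  obtain ⟨θ, h0, h1, h2⟩ := h₁.exists_lin_supp h {1}
  have h3 : InKer (coSup H₀ H₁ f₁) (fun x => (θ x : ℂ)) :=
    InKer.sup (char_unitsHom θ) h.H₀_le (iSup_le fun _ => h.cj_le_H h₁.le _)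
      (inKer_linear_iff.2 h0) (inKer_iSup (char_unitsHom θ) (fun _ => h.cj_le_H h₁.le _)
        fun x => inKer_linear_iff.2 (h2 x x.2))
  exact h1 1 rfl ⟨y, h₁.le hy.2⟩ (by simpa [cj_one] using hy.2)
    (inKer_linear_iff.1 h3 ⟨y, h₁.le hy.2⟩ hy.1)

theorem NonGalois9.relIndex_coSup (h : Hyp95 H U H₀ f₁ f₂) (h₁ : NonGalois9 H U H₀ f₁ H₁) :
    (coSup H₀ H₁ f₁).relIndex H = pOf H H₀ := by
  conv_lhs => rw [← h₁.coSup_sup h]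
  rw [relIndex_sup_of_norm ((h₁.le.trans h.H_le).trans (h₁.der_norm_coSup h)),
    ← inf_relIndex_right, h₁.coSup_inf h, h₁.card]

theorem NonGalois9.der_le_cOf (h : Hyp95 H U H₀ f₁ f₂) (h₁ : NonGalois9 H U H₀ f₁ H₁) :
    ⁅U, U⁆ ≤ cOf H₁ U H₀ := h.der_le_cOf.trans (inf_le_inf_left _ (centMod_anti h₁.le))

theorem NonGalois9.der_norm_coSup_sup (h : Hyp95 H U H₀ f₁ f₂) (h₁ : NonGalois9 H U H₀ f₁ H₁) :
    commutator M ≤ normalizer ((coSup H₀ H₁ f₁ ⊔ ⁅U, U⁆ : Subgroup M) : Set M) := by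
  have := h.normal_H₀U'
  have e : coSup H₀ H₁ f₁ ⊔ ⁅U, U⁆ = coSup H₀ H₁ f₁ ⊔ (H₀ ⊔ ⁅U, U⁆) := by
    rw [← sup_assoc, sup_of_le_left (a := coSup H₀ H₁ f₁) le_sup_left]
  rw [e]
  exact le_normalizer_sup (h₁.der_norm_coSup h) le_normalizer_of_normal

/-- the characters of `M'` counted in (9.8.d) are induced from linear characters of
`H C_U(H₁ / H₀)` -/
theorem NonGalois9.eq_relInd (h : Hyp95 H U H₀ f₁ f₂) (h₁ : NonGalois9 H U H₀ f₁ H₁)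
    {θ : commutator M → ℂ} (hθ : IsIrrCharacter (commutator M) θ) (hH : ¬ InKer H θ)
    (hY : InKer (coSup H₀ H₁ f₁ ⊔ ⁅U, U⁆) θ) :
    ¬ InKer H₁ θ ∧ ∃ lam : ↥(H ⊔ cOf H₁ U H₀) →* ℂˣ,
      θ = relInd (H ⊔ cOf H₁ U H₀) (commutator M) (fun x => (lam x : ℂ)) := by
  have hA : ¬ InKer H₁ θ := fun h2 => hH (h₁.coSup_sup h ▸ InKer.sup (irr_isCharacter hθ)
    ((h₁.coSup_le h).trans h.H_le) (h₁.le.trans h.H_le) (hY.mono le_sup_left) h2)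
  refine ⟨hA, ?_⟩
  have hN := h.H_sup_le (V := cOf H₁ U H₀) inf_le_left
  have hn := h₁.der_norm_coSup_sup h
  have hV : cOf H₁ U H₀ ≤ commutator M := le_sup_right.trans hN
  have hH₀ : H₀ ≤ coSup H₀ H₁ f₁ ⊔ ⁅U, U⁆ := le_sup_left.trans le_sup_left
  have hc : ⁅H ⊔ cOf H₁ U H₀, H ⊔ cOf H₁ U H₀⁆ ≤ coSup H₀ H₁ f₁ ⊔ ⁅U, U⁆ := by
    refine comm_sup_sup_le_of_norm (h.H_le.trans hn) (hV.trans hn) (h.der_H_le.trans hH₀) ?_
      ((commutator_mono inf_le_left inf_le_left).trans le_sup_right)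
    rw [commutator_comm]
    conv_lhs => arg 1; rw [← h₁.coSup_sup h]
    refine comm_sup_le_of_norm (le_norm_of_le le_sup_left) ((h₁.le.trans h.H_le).trans hn)
      ((commutator_le_left_of_norm (hV.trans (h₁.der_norm_coSup h))).trans le_sup_left) ?_
    rw [commutator_comm]
    exact (le_centMod_iff.1 inf_le_right).trans hH₀
  obtain ⟨lam, h1, h2⟩ := exists_linear_relUnder hN hc hθ hY
  have h3 := mt (inKer_iff_of_relOver (h₁.le.trans le_sup_left) hN (h₁.der_norm h)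
    (irr_unitsHom lam) hθ h1).1 hA
  exact ⟨lam, eq_relInd_of_nInertia_le hN
    (h.der_norm_sup (h.U_norm_of_der_le (h₁.der_le_cOf h) inf_le_left)) (irr_unitsHom lam)
    (h.nInertia_le_of_prime h₁.le₀ h₁.le (h₁.card ▸ h.p_prime) h₁.norm le_sup_left (h2.mono hH₀)
      h3) hθ h1⟩

theorem NonGalois9.apply_one_eq (h : Hyp95 H U H₀ f₁ f₂) (h₁ : NonGalois9 H U H₀ f₁ H₁)
    {θ : commutator M → ℂ} (hθ : IsIrrCharacter (commutator M) θ) (hH : ¬ InKer H θ)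
    (hY : InKer (coSup H₀ H₁ f₁ ⊔ ⁅U, U⁆) θ) : θ 1 = uOf H₁ U H₀ := by
  obtain ⟨-, lam, rfl⟩ := h₁.eq_relInd h hθ hH hY
  rw [relInd_one, h.relIndex_H_sup inf_le_left]
  simp

theorem NonGalois9.card_mul_sq (h : Hyp95 H U H₀ f₁ f₂) (h₁ : NonGalois9 H U H₀ f₁ H₁) :
    Nat.card {θ : commutator M → ℂ // IsIrrCharacter (commutator M) θ ∧ ¬ InKer H θ ∧
      InKer (coSup H₀ H₁ f₁ ⊔ ⁅U, U⁆) θ} * uOf H₁ U H₀ ^ 2 =
        (pOf H H₀ - 1) * (⁅U, U⁆ : Subgroup M).relIndex U := by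
  have := h.H_normal
  have hU' : ⁅U, U⁆ ≤ U := commutator_le_right_of_norm le_normalizer
  have hY : coSup H₀ H₁ f₁ ⊔ ⁅U, U⁆ ≤ commutator M :=
    sup_le ((h₁.coSup_le h).trans h.H_le) (hU'.trans h.U_le)
  have h1 := card_mul_sq_of_deg_eq h.H_le hY le_normalizer_of_normal (h₁.der_norm_coSup_sup h)
    (fun θ hθ h1 h2 => h₁.apply_one_eq h hθ h1 h2)
  rw [← sup_assoc, sup_of_le_left (h₁.coSup_le h), h.relIndex_H_sup hU'] at h1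
  have h2 := card_eq_card_mul_relIndex hY
  rw [card_sup_of_sd ((hU'.trans h.U_le).trans (h₁.der_norm_coSup h))
    (eq_bot_iff.2 (h.inf_eq ▸ inf_le_inf (h₁.coSup_le h) hU')), h.card_der,
    card_eq_card_mul_relIndex (h₁.coSup_le h), card_eq_card_mul_relIndex hU',
    h₁.relIndex_coSup h, mul_mul_mul_comm] at h2
  have h3 := Nat.eq_of_mul_eq_mul_left (Nat.mul_pos Nat.card_pos Nat.card_pos) h2
  rw [← h3] at h1
  rw [Nat.sub_mul, one_mul, ← h1, Nat.add_sub_cancel]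

/-- the characters counted in (9.8.d) are not conjugate under elements outside `M'` -/
theorem NonGalois9.mem_der_of_conjChar (h : Hyp95 H U H₀ f₁ f₂)
    {θ θ' : commutator M → ℂ} (hθ : IsClassFunction _ θ) (hY : InKer (coSup H₀ H₁ f₁) θ)
    (hA : ¬ InKer H₁ θ') {g : M} (hg : θ' = conjChar (commutator M) g θ) : g ∈ commutator M := by
  obtain ⟨k, hk, x, rfl⟩ := h.exists_der_mul g
  by_cases hx : x = 1
  · simpa [hx] using hk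
  refine absurd (fun y hy => ?_) hA
  rw [hg, conjChar_mul, conjChar_of_mem _ hθ hk, conjChar_apply_one, conjChar_apply]
  exact hY _ (cj_le_coSup hx (conj_mem_cj.2 hy))

theorem NonGalois9.irr_indFun (h : Hyp95 H U H₀ f₁ f₂) (h₁ : NonGalois9 H U H₀ f₁ H₁)
    {θ : commutator M → ℂ} (hθ : IsIrrCharacter (commutator M) θ) (hH : ¬ InKer H θ)
    (hY : InKer (coSup H₀ H₁ f₁ ⊔ ⁅U, U⁆) θ) : IsIrrCharacter M (indFun (commutator M) θ) :=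
  irr_indFun_of_inertia_le _ hθ fun _ hg => NonGalois9.mem_der_of_conjChar h
    (irr_isClassFunction hθ) (hY.mono le_sup_left) (h₁.eq_relInd h hθ hH hY).1
    ((mem_inertia_iff _).1 hg).symm

theorem NonGalois9.indFun_mem (h : Hyp95 H U H₀ f₁ f₂) (h₁ : NonGalois9 H U H₀ f₁ H₁)
    {θ : commutator M → ℂ} (hθ : IsIrrCharacter (commutator M) θ) (hH : ¬ InKer H θ)
    (hY : InKer (coSup H₀ H₁ f₁ ⊔ ⁅U, U⁆) θ) :
    indFun (commutator M) θ ∈ seqIndD (commutator M) H (H₀ ⊔ ⁅U, U⁆) ∧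
      IsIrrCharacter M (indFun (commutator M) θ) ∧
      indFun (commutator M) θ 1 = ((Nat.card X₁ * uOf H₁ U H₀ : ℕ) : ℂ) := by
  refine ⟨indFun_mem_seqIndD hθ hH (hY.mono (sup_le_sup_right le_sup_left _)),
    h₁.irr_indFun h hθ hH hY, ?_⟩
  rw [indFun_one, h₁.apply_one_eq h hθ hH hY, h.index_der, Nat.cast_mul]

end d

/-- (9.8.d) -/
theorem Hyp95.t9_8d (h : Hyp95 H U H₀ f₁ f₂) {H₁ : Subgroup M} (h₁ : NonGalois9 H U H₀ f₁ H₁) :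
    (pOf H H₀ - 1) * Nat.card U ≤ uOf H₁ U H₀ ^ 2 * Nat.card ↥⁅U, U⁆ *
      Nat.card {χ : M → ℂ // χ ∈ seqIndD (commutator M) H (H₀ ⊔ ⁅U, U⁆) ∧ IsIrrCharacter M χ ∧
        χ 1 = ((Nat.card X₁ * uOf H₁ U H₀ : ℕ) : ℂ)} := by
  have hU' : ⁅U, U⁆ ≤ U := commutator_le_right_of_norm le_normalizer
  haveI : Finite {χ : M → ℂ // χ ∈ seqIndD (commutator M) H (H₀ ⊔ ⁅U, U⁆) ∧ IsIrrCharacter M χ ∧
      χ 1 = ((Nat.card X₁ * uOf H₁ U H₀ : ℕ) : ℂ)} :=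
    ((seqIndD_finite _ _ _).subset fun _ hχ => hχ.1).to_subtype
  have h1 := Nat.card_le_card_of_injective
    (α := {θ : commutator M → ℂ // IsIrrCharacter (commutator M) θ ∧ ¬ InKer H θ ∧
      InKer (coSup H₀ H₁ f₁ ⊔ ⁅U, U⁆) θ})
    (β := {χ : M → ℂ // χ ∈ seqIndD (commutator M) H (H₀ ⊔ ⁅U, U⁆) ∧ IsIrrCharacter M χ ∧
      χ 1 = ((Nat.card X₁ * uOf H₁ U H₀ : ℕ) : ℂ)})
    (fun θ => ⟨indFun _ θ.1, h₁.indFun_mem h θ.2.1 θ.2.2.1 θ.2.2.2⟩) (fun θ θ' e => by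
      obtain ⟨g, hg⟩ := (mem_conjOrbit _).1
        ((indFun_eq_iff_mem_conjOrbit _ θ'.2.1 θ.2.1).1 (congrArg Subtype.val e))
      have hgK := NonGalois9.mem_der_of_conjChar h (irr_isClassFunction θ'.2.1)
        (θ'.2.2.2.mono le_sup_left) (h₁.eq_relInd h θ.2.1 θ.2.2.1 θ.2.2.2).1 hg
      exact Subtype.ext (hg.trans (conjChar_of_mem _ (irr_isClassFunction θ'.2.1) hgK)))
  rw [card_eq_card_mul_relIndex hU', mul_left_comm, ← h₁.card_mul_sq h]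
  calc _ = uOf H₁ U H₀ ^ 2 * Nat.card ↥⁅U, U⁆ * _ := by ring
    _ ≤ _ := Nat.mul_le_mul_left _ h1

theorem Hyp95.t9_8d' (h : Hyp95 H U H₀ f₁ f₂) {H₁ : Subgroup M} (h₁ : NonGalois9 H U H₀ f₁ H₁) :
    ∃ χ ∈ seqIndD (commutator M) H (H₀ ⊔ ⁅U, U⁆), IsIrrCharacter M χ ∧
      χ 1 = ((Nat.card X₁ * uOf H₁ U H₀ : ℕ) : ℂ) := by
  have h1 := h.t9_8d h₁
  have h2 := h.three_le_p
  have h3 : 0 < (pOf H H₀ - 1) * Nat.card U := Nat.mul_pos (by omega) Nat.card_pos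
  obtain ⟨⟨χ, hχ⟩⟩ := (Nat.card_pos_iff.1 (Nat.pos_of_mul_pos_left (h3.trans_le h1))).1
  exact ⟨χ, hχ⟩

/-- (9.9.a), for characters of `M'` -/
theorem Hyp95.eq_relInd_of_galois (h : Hyp95 H U H₀ f₁ f₂) (hG : IsGalois9 H U H₀)
    {θ : commutator M → ℂ} (hθ : IsIrrCharacter (commutator M) θ) (hH : ¬ InKer H θ)
    (hY : InKer (H₀ ⊔ ⁅cOf H U H₀, cOf H U H₀⁆) θ) :
    ∃ lam : ↥(H ⊔ cOf H U H₀) →* ℂˣ,
      θ = relInd (H ⊔ cOf H U H₀) (commutator M) (fun x => (lam x : ℂ)) := by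
  have := h.H_normal
  have := h.normal_HC
  have hN := h.H_sup_le (V := cOf H U H₀) inf_le_left
  obtain ⟨lam, h1, h2⟩ := exists_linear_relUnder hN h.der_HC_le hθ hY
  have h3 := mt (inKer_iff_of_relOver le_sup_left hN le_normalizer_of_normal
    (irr_unitsHom lam) hθ h1).1 hH
  exact ⟨lam, eq_relInd_of_nInertia_le hN le_normalizer_of_normal (irr_unitsHom lam)
    (h.nInertia_le_of_galois hG le_sup_left ((h.der_le_cOf.trans le_sup_right).trans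
      (le_nInertia (isClassFunction_unitsHom lam))) (h2.mono le_sup_left) h3) hθ h1⟩

/-- (9.9.a), divisibility -/
theorem Hyp95.uOf_dvd_deg_of_galois (h : Hyp95 H U H₀ f₁ f₂) (hG : IsGalois9 H U H₀)
    {θ : commutator M → ℂ} (hθ : IsIrrCharacter (commutator M) θ) (hH : ¬ InKer H θ)
    (hH₀ : InKer H₀ θ) : uOf H U H₀ ∣ deg θ := by
  have := h.H_normal
  obtain ⟨lam, h1, h2⟩ := exists_linear_relUnder h.H_le h.der_H_le hθ hH₀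
  have h3 := mt (inKer_iff_of_relOver le_rfl h.H_le le_normalizer_of_normal
    (irr_unitsHom lam) hθ h1).1 hH
  have h4 := h.nInertia_le_of_galois hG le_rfl (fun c hc => mem_nInertia_linear
    (le_normalizer_of_normal (mem_top c)) fun n hn _ =>
      inKer_linear_iff.1 h2 _ (mem_centMod.1 (h.der_le_cOf hc).2 n hn)) h2 h3
  have h5 := relIndex_nInertia_dvd_deg h.H_le le_normalizer_of_normal (irr_unitsHom lam) hθ h1
  refine dvd_trans ?_ ((Dvd.intro _ rfl).trans h5)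
  rw [uOf, ← h.relIndex_H_sup inf_le_left, ← inf_relIndex_right (nInertia H _)]
  exact relIndex_dvd_of_le_left _ h4

/-- (9.9.a) -/
theorem Hyp95.t9_9a (h : Hyp95 H U H₀ f₁ f₂) (hG : IsGalois9 H U H₀) {χ : M → ℂ}
    (hχ : χ ∈ seqIndD (commutator M) H (H₀ ⊔ ⁅cOf H U H₀, cOf H U H₀⁆)) :
    χ 1 = ((Nat.card X₁ * uOf H U H₀ : ℕ) : ℂ) ∧ IsIndLin (H ⊔ cOf H U H₀) χ := by
  obtain ⟨θ, hθ, h1, h2, rfl⟩ := hχ
  obtain ⟨lam, rfl⟩ := h.eq_relInd_of_galois hG hθ h1 h2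
  rw [indFun_relInd (h.H_sup_le inf_le_left)]
  exact ⟨h.indFun_HC_one lam, lam, rfl⟩

/-- (9.9.c) -/
theorem Hyp95.t9_9c (h : Hyp95 H U H₀ f₁ f₂) (hG : IsGalois9 H U H₀)
    (hred : ∀ χ ∈ seqIndD (commutator M) H (H₀ ⊔ ⁅cOf H U H₀, cOf H U H₀⁆), ¬ IsIrrCharacter M χ) :
    cOf H U H₀ = ⊥ ∧ uOf H U H₀ = (pOf H H₀ ^ Nat.card X₁ - 1) / (pOf H H₀ - 1) := by
  have := h.H_normal
  have := h.normal_H₀C'
  set C := cOf H U H₀ with hC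
  have hC' : ⁅C, C⁆ ≤ U := h.der_cOf_le.trans inf_le_left
  have h1 := card_mul_sq_of_deg_eq h.H_le (h.H₀_sup_le hC') le_normalizer_of_normal
    le_normalizer_of_normal (d := uOf H U H₀) (fun θ hθ h1 h2 => by
      obtain ⟨lam, rfl⟩ := h.eq_relInd_of_galois hG hθ h1 h2
      rw [relInd_one, h.index_HC.2.1]; simp)
  have h2 : Nat.card {θ : commutator M → ℂ // IsIrrCharacter (commutator M) θ ∧ ¬ InKer H θ ∧
      InKer (H₀ ⊔ ⁅C, C⁆) θ} = pOf H H₀ - 1 := by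
    rw [← h.card_chiRes hC']
    symm
    refine Nat.card_eq_of_bijective (fun j => ⟨chiRes (commutator M) f₁ f₂ j.1,
      h.primeTI.chiRes_irr j.1, mt h.inKer_chiRes_iff.1 j.2.1, j.2.2⟩)
      ⟨fun j k e => Subtype.ext (h.primeTI.chiRes_inj (Subtype.mk.inj e)),
        fun ⟨θ, hθ, h3, h4⟩ => ?_⟩
    rcases h.primeTI.irr_cases hθ with ⟨j, rfl⟩ | ⟨h5, -⟩
    · exact ⟨⟨j, mt h.inKer_chiRes_iff.2 h3, h4⟩, rfl⟩
    · exact absurd h5 (hred _ (indFun_mem_seqIndD hθ h3 h4))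
  rw [h2, ← sup_assoc, sup_of_le_left h.H₀_le, ← relIndex_mul_relIndex (H₀ ⊔ ⁅C, C⁆) (H ⊔ ⁅C, C⁆)
    (commutator M) (sup_le_sup_right h.H₀_le _) (h.H_sup_le hC'), h.relIndex_H₀_sup hC',
    h.relIndex_H_sup hC', ← relIndex_mul_relIndex ⁅C, C⁆ C U h.der_cOf_le inf_le_left] at h1
  set c := (⁅C, C⁆ : Subgroup M).relIndex C with hc
  change (pOf H H₀ - 1) * uOf H U H₀ ^ 2 + c * uOf H U H₀ =
    pOf H H₀ ^ Nat.card X₁ * (c * uOf H U H₀) at h1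
  have hu : 0 < uOf H U H₀ := lt_trans zero_lt_one h.uOf_facts.1
  have hp := h.three_le_p
  have hc0 : 0 < c := Nat.pos_of_ne_zero index_ne_zero_of_finite
  have hP : 1 ≤ pOf H H₀ ^ Nat.card X₁ := Nat.one_le_pow _ _ (by omega)
  have h3 : (pOf H H₀ - 1) * uOf H U H₀ = (pOf H H₀ ^ Nat.card X₁ - 1) * c := by
    apply Nat.eq_of_mul_eq_mul_right hu
    rw [mul_assoc (pOf H H₀ ^ Nat.card X₁ - 1), Nat.sub_mul (pOf H H₀ ^ Nat.card X₁),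
      ← h1, one_mul, Nat.add_sub_cancel]
    ring
  have h4 : (pOf H H₀ - 1) * uOf H U H₀ ≤ pOf H H₀ ^ Nat.card X₁ - 1 := by
    rw [mul_comm]
    exact (Nat.le_div_iff_mul_le (by omega)).1 h.uOf_le
  have hP' : 1 < pOf H H₀ ^ Nat.card X₁ := Nat.one_lt_pow h.prime.ne_zero (by omega)
  have hc1 : c = 1 := by
    rw [h3] at h4
    have : c ≤ 1 := by
      by_contra hlt
      have : (pOf H H₀ ^ Nat.card X₁ - 1) * 2 ≤ (pOf H H₀ ^ Nat.card X₁ - 1) * c :=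
        Nat.mul_le_mul_left _ (by omega)
      omega
    omega
  refine ⟨?_, ?_⟩
  · by_contra hne
    exact (commutator_lt_of_isSolvable (h.solv_sub C) hne).not_ge (relIndex_eq_one.1 hc1)
  · rw [hc1, mul_one] at h3
    rw [← h3, Nat.mul_div_cancel_left _ (by omega)]

/-- (9.10) -/
theorem Hyp95.t9_10 (h : Hyp95 H U H₀ f₁ f₂) :
    (∃ χ ∈ seqIndD (commutator M) H (H₀ ⊔ ⁅cOf H U H₀, cOf H U H₀⁆), IsIrrCharacter M χ ∧
      χ 1 = ((Nat.card X₁ * uOf H U H₀ : ℕ) : ℂ) ∧ IsIndLin (H ⊔ cOf H U H₀) χ) ∨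
    (IsGalois9 H U H₀ ∧ cOf H U H₀ = ⊥ ∧ IsCyclic U ∧
      Nat.card U = (pOf H H₀ ^ Nat.card X₁ - 1) / (pOf H H₀ - 1)) := by
  by_cases hG : IsGalois9 H U H₀
  · by_cases hred : ∀ χ ∈ seqIndD (commutator M) H (H₀ ⊔ ⁅cOf H U H₀, cOf H U H₀⁆),
        ¬ IsIrrCharacter M χ
    · obtain ⟨h1, h2⟩ := h.t9_9c hG hred
      obtain ⟨g, -, hg⟩ := (h.t9_7b' hG).1
      rw [h1, sup_bot_eq] at hg
      refine Or.inr ⟨hG, h1, hg ▸ inferInstance, ?_⟩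
      rw [← h2, uOf, h1, relIndex_bot_left]
    · push Not at hred
      obtain ⟨χ, hχ, hi⟩ := hred
      exact Or.inl ⟨χ, hχ, hi, h.t9_9a hG hχ⟩
  · obtain ⟨χ, hχ, h1⟩ := h.t9_8c hG
    exact Or.inl ⟨χ, seqIndD_mono le_rfl (sup_le_sup_left h.der_cOf_le _) hχ, h1⟩

end CL.PF
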