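import Cfsg.Agent.PF.A11_Eight
import Cfsg.Agent.PF.T9_8
import Cfsg.Agent.BG.Fit

/-!
# Peterfalvi (11.8), (11.9) for a group with the structure given by (11.5) to (11.7)
-/

set_option autoImplicit false
set_option linter.unusedSectionVars false

namespace CL.PF

open Cfsg CL.Char

theorem arith_11_9 {p q x y : ℤ} (hp : 3 ≤ p) (hq : 3 ≤ q)
    (h : 1 + (p - 1) * y ^ 2 + (q - 1) * (x ^ 2 + (p - 1) * (x + y - 1) ^ 2) ≤ q) :
    (x = 1 ∧ y = 0) ∨ (x = 0 ∧ y = 1 ∧ p ≤ q) := by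
  have hy : 0 ≤ (p - 1) * y ^ 2 := mul_nonneg (by omega) (sq_nonneg _)
  have h1 : x ^ 2 + (p - 1) * (x + y - 1) ^ 2 ≤ 1 := by
    by_contra hc
    nlinarith
  have h2 : x + y - 1 = 0 := by
    by_contra hc
    have := Int.one_le_abs hc
    have : 1 ≤ (x + y - 1) ^ 2 := by nlinarith [sq_abs (x + y - 1)]
    nlinarith [sq_nonneg x]
  obtain rfl : y = 1 - x := by omega
  rw [h2] at h h1
  have h3 : -1 ≤ x := by nlinarith
  have h4 : x ≤ 1 := by nlinarith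
  interval_cases x
  · exfalso; nlinarith
  · right; refine ⟨rfl, rfl, by nlinarith⟩
  · left; exact ⟨rfl, rfl⟩

variable {G X₁ X₂ : Type*} [Group G] [Fintype G] [Group X₁] [Group X₂] [Finite X₁] [Finite X₂]
  {L : Subgroup G} [Fintype L] {K : Subgroup L} {f₁ : X₁ →* L} {f₂ : X₂ →* L} {A A₀ : Set G}
  {R : G → Subgroup G} {d : ℕ} {δ : ℤ} {n : ℕ} {ζ : L → ℂ}

local notation "τ" => dadeIsometry A₀ L R
local notation "η" => eta (L.subtype.comp f₁) (L.subtype.comp f₂)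
local notation "ηc" => etaCol (L.subtype.comp f₁) (L.subtype.comp f₂)
local notation "ηr" => etaRow (L.subtype.comp f₁) (L.subtype.comp f₂)
local notation "Orth" => OrthEta (L.subtype.comp f₁) (L.subtype.comp f₂)

namespace Hyp104

theorem bridge_inner_aut (h : Hyp104 L K f₁ f₂ A A₀ R d δ n ζ) (σ : ℂ ≃+* ℂ) {i i' : X₁ →* ℂˣ}
    {j j' : X₂ →* ℂˣ} (hi : ∀ x, (i' x : ℂ) = σ (i x)) (hj : ∀ y, (j' y : ℂ) = σ (j y)) :
    classInner (τ (muCol f₁ f₂ 1 - ζ)) (η i' j') = classInner (τ (muCol f₁ f₂ 1 - ζ)) (η i j) := by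
  have e1 : muCol f₁ f₂ 1 - ζ =
      (fun x => (σ : ℂ →+* ℂ) ((muCol f₁ f₂ 1 - ζ) x)) + ((fun x => σ (ζ x)) - ζ) := by
    funext x
    have := congrFun (h.pti.muCol_aut σ (j := 1) (j' := 1) (by simp)) x
    simp only [Pi.sub_apply, Pi.add_apply, RingHom.coe_coe, map_sub, ← this]
    ring
  have o := h.pd.dade_sub_orthEta' (seqIndD_map σ h.mem) h.mem (irr_map σ h.irr) h.irr
    (gen_map_apply_one σ (gen_of_irr h.irr)) i' j'
  conv_lhs => rw [e1, dade_add, classInner_add_left, o, add_zero, dade_ringHom,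
    h.cyc.eta_aut σ hi hj]
  exact gen_classInner_map σ h.bridge_gen (h.cyc.eta_gen i j)

/-- (11.9.a), (11.9.b) -/
theorem orth_row (h : Hyp104 L K f₁ f₂ A A₀ R d δ n ζ) (hp₁ : (Nat.card X₁).Prime)
    (hp₂ : (Nat.card X₂).Prime) (hn : ¬ Orth (τ (muCol f₁ f₂ 1 - ζ) - ηc 1)) :
    Nat.card X₂ < Nat.card X₁ ∧ Orth (τ (muCol f₁ f₂ 1 - ζ) - ηr 1) := by
  classical
  obtain ⟨β, hβ⟩ : ∃ β, β = τ (muCol f₁ f₂ 1 - ζ) := ⟨_, rfl⟩
  have gβ : IsGeneralizedCharacter G β := hβ ▸ h.bridge_gen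
  obtain ⟨i₀, hi₀⟩ := h.cyc.exists_dual_ne_one₁
  obtain ⟨j₀, hj₀⟩ := h.cyc.exists_dual_ne_one₂
  obtain ⟨x, hx⟩ := gen_inner_int gβ (h.cyc.eta_gen i₀ 1)
  obtain ⟨y, hy⟩ := gen_inner_int gβ (h.cyc.eta_gen 1 j₀)
  have a11 : classInner β (η 1 1) = ((1 : ℤ) : ℂ) := by rw [hβ, h.bridge_inner_one, Int.cast_one]
  have ai : ∀ i, i ≠ 1 → classInner β (η i 1) = x := fun i hi => by
    obtain ⟨σ, hσ, -⟩ := exists_aut_of_prime_card hp₁ hi₀ hi 1 one_ne_zero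
    rw [← hx, hβ]
    exact h.bridge_inner_aut σ hσ (by simp)
  have aj : ∀ j, j ≠ 1 → classInner β (η 1 j) = y := fun j hj => by
    obtain ⟨σ, hσ, -⟩ := exists_aut_of_prime_card hp₂ hj₀ hj 1 one_ne_zero
    rw [← hy, hβ]
    exact h.bridge_inner_aut σ (by simp) hσ
  have aij : ∀ i j, i ≠ 1 → j ≠ 1 → classInner β (η i j) = ((x + y - 1 : ℤ) : ℂ) :=
    fun i j hi hj => by
      have := h.cyc.t3_7 (gen_isClassFunction gβ) (fun v hv => hβ ▸ h.pd.dade_eq_zero_V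
        (classFun_sub (h.pti.muCol_classFun 1) (irr_isClassFunction h.irr))
        h.muCol_one_sub_supp hv) i 1 j 1
      rw [a11, ai i hi, aj j hj] at this
      push_cast at this ⊢
      linear_combination this
  have bes := bessel_orthonormal Finset.univ (fun p : (X₁ →* ℂˣ) × (X₂ →* ℂˣ) => η p.1 p.2)
    (fun p _ => h.cyc.eta_inner_self _ _)
    (fun p _ q _ hpq => h.cyc.eta_inner_of_ne (by
      by_contra hc
      push Not at hc
      exact hpq (Prod.ext hc.1 hc.2))) β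
  have h1 : 1 ≤ rip (β - ∑ p : (X₁ →* ℂˣ) × (X₂ →* ℂˣ), classInner β (η p.1 p.2) • η p.1 p.2)
      (β - ∑ p : (X₁ →* ℂˣ) × (X₂ →* ℂˣ), classInner β (η p.1 p.2) • η p.1 p.2) := by
    refine gen_one_le_rip_self (gen_sub gβ (gen_sum _ fun p _ => ?_)) fun e => ?_
    · obtain ⟨m, hm⟩ := gen_inner_int gβ (h.cyc.eta_gen p.1 p.2)
      rw [hm]
      exact gen_intCast_smul m (h.cyc.eta_gen _ _)
    · have e1 := h.bridge_inner_sub h.conjug.mem h.conjug.irr h.conj_ne.symm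
      have o := h.pd.dade_sub_orthEta' h.mem h.conjug.mem h.irr h.conjug.irr
        (gen_conjFun_apply_one (gen_of_irr h.irr)).symm
      rw [← hβ, sub_eq_zero.1 e, classInner_sum_left, Finset.sum_eq_zero fun p _ => by
        rw [classInner_smul_left, classInner_eq_zero_comm.1 (o _ _), mul_zero]] at e1
      norm_num at e1
  have h3 := h.cyc.three_le₁
  have h3' := h.cyc.three_le₂
  have nrm : ∀ m : ℤ, ‖(m : ℂ)‖ ^ 2 = ((m ^ 2 : ℤ) : ℝ) := fun m => by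
    rw [Complex.norm_intCast, sq_abs, Int.cast_pow]
  rw [← rip_def] at bes
  generalize β - _ = r at bes h1
  rw [Fintype.sum_prod_type, ← Finset.add_sum_erase _ _ (Finset.mem_univ 1),
    ← Finset.add_sum_erase _ _ (Finset.mem_univ 1),
    Finset.sum_congr rfl (s₁ := Finset.univ.erase (1 : X₂ →* ℂˣ))
      (g := fun _ => ((y ^ 2 : ℤ) : ℝ)) fun j hj => by
      rw [aj j (Finset.ne_of_mem_erase hj), nrm],
    Finset.sum_congr rfl (s₁ := Finset.univ.erase (1 : X₁ →* ℂˣ)) (g := fun _ => ((x ^ 2 : ℤ) : ℝ) +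
        (Nat.card X₂ - 1 : ℕ) • (((x + y - 1) ^ 2 : ℤ) : ℝ)) fun i hi => by
      rw [← Finset.add_sum_erase _ _ (Finset.mem_univ 1), ai i (Finset.ne_of_mem_erase hi), nrm,
        Finset.sum_congr rfl (g := fun _ => (((x + y - 1) ^ 2 : ℤ) : ℝ)) fun j hj => by
          rw [aij i j (Finset.ne_of_mem_erase hi) (Finset.ne_of_mem_erase hj), nrm],
        Finset.sum_const, Finset.card_erase_of_mem (Finset.mem_univ _), Finset.card_univ,
        h.cyc.fintype_card_dual₂],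
    Finset.sum_const, Finset.sum_const, Finset.card_erase_of_mem (Finset.mem_univ _),
    Finset.card_erase_of_mem (Finset.mem_univ _), Finset.card_univ, Finset.card_univ,
    h.cyc.fintype_card_dual₁, h.cyc.fintype_card_dual₂, a11, nrm] at bes
  have e7 : (classInner β β).re = Nat.card X₁ + 1 := by rw [hβ, h.bridge_norm]; simp
  rw [e7] at bes
  simp only [nsmul_eq_mul, Nat.cast_sub (show 1 ≤ Nat.card X₁ by omega),
    Nat.cast_sub (show 1 ≤ Nat.card X₂ by omega)] at bes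
  have h4 : 1 + ((Nat.card X₂ : ℤ) - 1) * y ^ 2 + ((Nat.card X₁ : ℤ) - 1) *
      (x ^ 2 + ((Nat.card X₂ : ℤ) - 1) * (x + y - 1) ^ 2) ≤ Nat.card X₁ := by
    rw [← Int.cast_le (R := ℝ)]
    push_cast at bes ⊢
    linarith
  rw [← hβ] at hn ⊢
  rcases arith_11_9 (by omega) (by omega) h4 with ⟨rfl, rfl⟩ | ⟨rfl, rfl, hle⟩
  · refine absurd (fun i j => ?_) hn
    rw [classInner_sub_left, h.cyc.etaCol_eta_inner]
    by_cases hi : i = 1 <;> by_cases hj : j = 1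
    · simp [hi, hj, a11]
    · simp [hi, aj j hj, Ne.symm hj]
    · simp [hj, ai i hi]
    · simp [aij i j hi hj, Ne.symm hj]
  · refine ⟨lt_of_le_of_ne (by exact_mod_cast hle) fun e => ?_, fun i j => ?_⟩
    · have := h.cyc.coprime
      rw [e, Nat.coprime_self] at this
      omega
    rw [classInner_sub_left, h.cyc.etaRow_eta_inner]
    by_cases hi : i = 1 <;> by_cases hj : j = 1
    · simp [hi, hj, a11]
    · simp [hi, aj j hj]
    · simp [hj, ai i hi, Ne.symm hi]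
    · simp [aij i j hi hj, Ne.symm hi]

/-- the computation in (11.9.c) -/
theorem eq_one_of_orth_row (h : Hyp104 L K f₁ f₂ A A₀ R d δ n ζ)
    (ho : Orth (τ (muCol f₁ f₂ 1 - ζ) - ηr 1)) {S : Set (L → ℂ)}
    (hS : ConjSub S (seqIndD K K ⊥)) (hc : IsCoherent S {1}ᶜ τ) {j : X₂ →* ℂˣ}
    (hμ : muCol f₁ f₂ j ∈ S) {χ : L → ℂ} (hχ : χ ∈ S) (iχ : IsIrrCharacter L χ) (hne : ζ ≠ χ)
    {m : ℕ} (hm : muCol f₁ f₂ j 1 = m * χ 1) : m = 1 := by
  obtain ⟨τ₂, hτ⟩ := coherent_exists hc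
  have hj := h.pti.ne_one_of_muCol_mem (hS.subset hμ)
  have e1 := h.bridge_inner (classFun_sub (h.pti.muCol_classFun j)
    (gen_isClassFunction (gen_zsmul (m : ℤ) (gen_of_irr iχ))))
  obtain ⟨b, hb⟩ := gen_inner_int h.bridge_gen (hτ.gen (mem_zspan hχ))
  have e2 : ∀ k, classInner (τ (muCol f₁ f₂ 1 - ζ)) (ηc k) = 1 := fun k => by
    have := ho.inner_etaCol k
    rw [classInner_sub_left, gen_inner_comm (h.cyc.gen_etaRow 1) (h.cyc.etaCol_gen k),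
      h.cyc.etaCol_etaRow_inner] at this
    exact sub_eq_zero.1 this
  rw [hτ.sub_zsmul (mem_zspan hμ) (mem_zspan hχ) (by rw [hm, Int.cast_natCast])] at e1
  simp only [← Int.cast_smul_eq_zsmul ℂ, classInner_sub_left (muCol f₁ f₂ 1),
    classInner_sub_right, classInner_smul_right, hb, h.zeta_inner_muCol,
    h.pti.muCol_inner_of_ne hj.symm, h.pti.muCol_inner_of_irr (hS.subset hχ) iχ,
    irr_inner_of_ne h.irr iχ hne, map_intCast] at e1
  have e3 : ∃ ε : ℤ, (ε = 1 ∨ ε = -1) ∧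
      classInner (τ (muCol f₁ f₂ 1 - ζ)) (τ₂ (muCol f₁ f₂ j)) = ε := by
    rcases h.pd.t5_8 h.odd hS.subset hS.conj_mem hτ ⟨χ, hχ, iχ⟩ hμ with e | ⟨e, -⟩
    · exact ⟨_, delta_eq j, by rw [e, classInner_smul_right, e2, conj_delta, mul_one]⟩
    · refine ⟨-delta f₁ f₂ j, ?_, by
        rw [e, classInner_neg_right, classInner_smul_right, e2, conj_delta, mul_one, Int.cast_neg]⟩
      rcases delta_eq (f₁ := f₁) (f₂ := f₂) j with e' | e' <;> simp [e']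
  obtain ⟨ε, hε, e3⟩ := e3
  rw [e3] at e1
  have e4 : ε = m * b := by
    have : (ε : ℂ) = ((m : ℤ) : ℂ) * b := by linear_combination e1
    exact_mod_cast this
  have e5 : (m : ℤ) ∣ 1 := by
    rcases hε with rfl | rfl
    · exact ⟨b, e4⟩
    · exact ⟨-b, by rw [mul_neg, ← e4]; rfl⟩
  exact Nat.dvd_one.1 (by exact_mod_cast e5)

end Hyp104

/-- (11.8), (11.9) -/
theorem Hyp95.t11_9 {H U : Subgroup L} (h : Hyp95 H U ⊥ f₁ f₂)
    (hD : PrimeDade L (commutator L) (commutator L) f₁ f₂ A A₀ R) (hG : Odd (Nat.card G))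
    (hp : (Nat.card X₂).Prime) (hHC : ⁅commutator L, commutator L⁆ = H ⊔ cOf H U ⊥)
    (hC : cOf H U ⊥ = ⁅U, U⁆)
    (h3 : ¬ IsCoherent (inducedIrrAbove (commutator L) (cOf H U ⊥)) {1}ᶜ τ)
    (h9 : IsCoherent (seqIndD (commutator L) H (⊥ ⊔ ⁅cOf H U ⊥, cOf H U ⊥⁆)) {1}ᶜ τ) :
    Nat.card X₂ < Nat.card X₁ ∧ IsGalois9 H U ⊥ ∧ IsCyclic U ∧ cOf H U ⊥ = ⊥ ∧
      ∀ ζ ∈ inducedIrrAbove (commutator L) H, IsIrrCharacter L ζ ∧ ζ 1 = (Nat.card X₁ : ℂ) ∧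
        Orth (τ (muCol f₁ f₂ 1 - ζ) - ηr 1) := by
  classical
  have hP := h.primeTI
  have := h.H_normal
  have hCn : (cOf H U ⊥).Normal := by simpa using h.normal_H₀C
  have hW := h.W₂_le_der
  obtain ⟨B, hB, -⟩ := hD.t5_3b h.odd
  obtain ⟨d, δ, n, c⟩ := hP.exists_const10 hW hp
  obtain ⟨T, hT⟩ : ∃ T : Finset (L → ℂ),
      ↑T = seqIndD (commutator L) (commutator L) ⁅commutator L, commutator L⁆ :=
    ⟨(seqIndD_finite _ _ _).toFinset, Set.Finite.coe_toFinset _⟩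
  have hTi : ∀ φ ∈ T, IsIrrCharacter L φ ∧ φ 1 = Nat.card X₁ := fun φ hφ =>
    hP.irr_of_mem_seqIndD_der hW (hT ▸ Finset.mem_coe.2 hφ)
  have hTs : ConjSub ↑T (seqIndD (commutator L) (commutator L) ⊥) :=
    hT ▸ seqIndD_conjSub (seqIndD_subset_self _ _ _)
  have hTc := hP.card_seqIndD_der hW T hT
  rw [hHC, h.index_HC.2.1] at hTc
  obtain ⟨j, hj, hμ⟩ := h.exists_muCol
  obtain ⟨hμ1, hμ2, -⟩ := h.muCol_facts hμ
  rw [bot_sup_eq] at hμ2
  have h3q := h.three_le_q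
  have hd : d = uOf H U ⊥ := by
    rw [c.muCol_apply_one hP hj, ← Nat.cast_mul, Nat.cast_inj, mul_comm] at hμ1
    exact Nat.eq_of_mul_eq_mul_left (by omega) hμ1
  have hδ : δ = 1 ∧ T.card = n := by
    have e1 := c.eq
    have e2 : (T.card : ℤ) * Nat.card X₁ + 1 = d := by rw [hd]; exact_mod_cast hTc
    have h3q' : (3 : ℤ) ≤ Nat.card X₁ := by exact_mod_cast h3q
    rcases c.delta_cases hP with e | e
    · refine ⟨e, ?_⟩
      have : (T.card : ℤ) = n := mul_right_cancel₀ (b := (Nat.card X₁ : ℤ)) (by omega)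
        (by linear_combination e2 + e1 + e)
      exact_mod_cast this
    · have e3 : ((n : ℤ) - T.card) * Nat.card X₁ = 2 := by linear_combination -e2 - e1 - e
      have := Int.le_of_dvd two_pos (Dvd.intro_left _ e3)
      omega
  obtain ⟨rfl, hn⟩ := hδ
  have hS₂ : ConjSub (seqIndD (commutator L) H (cOf H U ⊥))
      (seqIndD (commutator L) (commutator L) ⊥) := seqIndD_conjSub (seqIndD_subset_self _ _ _)
  have hdiff := seqIndD_diff (K := commutator L) (H := commutator L) (A := H) (Y := cOf H U ⊥)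
    h.H_le h.H_le (inf_le_left.trans h.U_le)
  rw [← hHC, ← hT] at hdiff
  have hc₂ : IsCoherent (seqIndD (commutator L) H (cOf H U ⊥)) {1}ᶜ τ :=
    subcoh_coherent_mono hB hS₂ ⟨_, hμ2⟩ (seqIndD_mono le_rfl (sup_le bot_le h.der_cOf_le)) h9
  have hyp : ∀ ζ ∈ T, Hyp104 L (commutator L) f₁ f₂ A A₀ R d 1 n ζ := fun ζ hζ =>
    ⟨hD, h.odd, c, hTs.subset hζ, (hTi ζ hζ).1, (hTi ζ hζ).2⟩
  have key : ∀ ζ ∈ T, Nat.card X₂ < Nat.card X₁ ∧ Orth (τ (muCol f₁ f₂ 1 - ζ) - ηr 1) :=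
    fun ζ hζ => (hyp ζ hζ).orth_row h.prime hp ((hyp ζ hζ).not_orth_col hG hTs hTi hζ hn hS₂
      (hdiff ▸ Set.disjoint_sdiff_left) hc₂ hμ2 (by
        rwa [← hdiff, Set.sdiff_union_of_subset (by
          rw [hT, hHC]; exact seqIndD_mono le_rfl le_sup_right), ← inducedIrrAbove_eq]))
  obtain ⟨ζ₀, hζ₀⟩ : T.Nonempty := Finset.card_pos.1 (by have := c.two_le_n hP h.odd; omega)
  have hlt := (key ζ₀ hζ₀).1
  have hgal : IsGalois9 H U ⊥ := by
    by_contra hng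
    obtain ⟨H₁, h₁⟩ := h.t9_7a hng
    obtain ⟨χ, hχ, iχ, hχ1⟩ := h.t9_8d' h₁
    rw [bot_sup_eq, ← hC] at hχ
    obtain ⟨m, hm⟩ := (NonGalois9.a_dvd_u h h₁).1
    have := (hyp ζ₀ hζ₀).eq_one_of_orth_row (key ζ₀ hζ₀).2 hS₂ hc₂ hμ2 hχ iχ
      (fun e => (hdiff ▸ hχ : χ ∈ _ \ (T : Set (L → ℂ))).2 (e ▸ hζ₀)) (m := m)
      (by rw [hμ1, hχ1, hm]; push_cast; ring)
    rw [this, mul_one] at hm
    have h4 := h.uOf_facts.2.2.2.1
    have h5 := Nat.le_of_dvd (by have := h.three_le_p; omega) h₁.dvd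
    rw [h.pOf_eq hp] at h5
    omega
  have hcyc : IsCyclic U := by
    obtain ⟨g, hg, e⟩ := (h.t9_7b' hgal).1
    rw [← BG.nil_eq_of_der_sup h.U_nil (Subgroup.zpowers_le.2 hg) (by rw [← hC, sup_comm, e])]
    infer_instance
  have hC1 : cOf H U ⊥ = ⊥ := by
    rw [hC, Subgroup.commutator_eq_bot_iff_le_centralizer]
    exact Subgroup.le_centralizer U
  refine ⟨hlt, hgal, hcyc, hC1, fun ζ hζ => ?_⟩
  rw [hHC, hC1, sup_bot_eq, ← inducedIrrAbove_eq] at hT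
  have hζ' : ζ ∈ T := Finset.mem_coe.1 (hT ▸ hζ)
  exact ⟨(hTi ζ hζ').1, (hTi ζ hζ').2, (key ζ hζ').2⟩

end CL.PF
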