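import Cfsg.Agent.PF.SevenB
import Cfsg.Agent.Char.Values
import Cfsg.Agent.Char.Linear

/-!
# Peterfalvi (12.2) to (12.5), in an abstract setting

`Hyp12 L H A₁ A R` collects what the character theory of a maximal subgroup `L` of type I uses,
with `H = L_F`, `A₁ = H^#`, `A = A(L)`.  Orthogonality of a signed irreducible character `ψ` to all
the sets `R(χ)` of (12.2.b) is expressed by `Orth12`.
-/

set_option autoImplicit false

namespace CL.PF

open Cfsg CL.Char
open scoped ComplexConjugate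

section Gen
variable {G : Type*} [Group G] [Fintype G]

theorem inner_conjFun_of_anti {γ μ : G → ℂ} (hγ : IsGeneralizedCharacter G γ)
    (hμ : IsGeneralizedCharacter G μ) (h : conjFun γ = -γ) :
    classInner γ (conjFun μ) = -classInner γ μ := by
  rw [classInner_conjFun_right, h, classInner_neg_right, gen_inner_comm hμ hγ]

theorem inner_eq_zero_of_anti {γ μ : G → ℂ} (hγ : IsGeneralizedCharacter G γ)
    (hμ : IsGeneralizedCharacter G μ) (h : conjFun γ = -γ)
    (h0 : classInner γ (μ - conjFun μ) = 0) : classInner γ μ = 0 := by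
  rw [classInner_sub_right, inner_conjFun_of_anti hγ hμ h] at h0
  linear_combination h0 / 2

omit [Fintype G] [Group G] in
theorem conjFun_sub_conjFun (μ : G → ℂ) : conjFun (μ - conjFun μ) = -(μ - conjFun μ) := by
  rw [conjFun_sub, conjFun_conjFun, neg_sub]

/-- A virtual character of norm at most `|E|` with all members of `E` as constituents has no
other constituent. -/
theorem inner_eq_zero_of_card_le {b : G → ℂ} (hb : IsGeneralizedCharacter G b)
    (E : Finset (G → ℂ)) (hE : ∀ a ∈ E, IsIrrCharacter G a) (hne : ∀ a ∈ E, classInner b a ≠ 0)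
    (hle : rip b b ≤ E.card) {ψ : G → ℂ} (hψ : IsIrrCharacter G ψ) (hψE : ψ ∉ E) :
    classInner b ψ = 0 := by
  classical
  by_contra h0
  have hirr : ∀ a ∈ insert ψ E, IsIrrCharacter G a := by
    intro a ha
    rcases Finset.mem_insert.1 ha with rfl | ha
    · exact hψ
    · exact hE a ha
  have hB := (isON_of_irr hirr).bessel_rip (fun a ha => gen_of_irr (hirr a ha)) hb
  have hge : ∀ a ∈ insert ψ E, (1 : ℝ) ≤ rip b a ^ 2 := by
    intro a ha
    have hn : classInner b a ≠ 0 := by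
      rcases Finset.mem_insert.1 ha with rfl | ha
      · exact h0
      · exact hne a ha
    obtain ⟨n, hn'⟩ := gen_inner_int hb (gen_of_irr (hirr a ha))
    rw [rip_of_classInner_eq_int hn']
    have : n ≠ 0 := by
      rintro rfl
      exact hn (by simpa using hn')
    have : (1 : ℤ) ≤ n ^ 2 := by
      have := sq_pos_of_ne_zero this
      omega
    exact_mod_cast this
  have := Finset.card_nsmul_le_sum _ _ _ hge
  rw [Finset.card_insert_of_notMem hψE] at this
  simp only [nsmul_eq_mul, mul_one, Nat.cast_add, Nat.cast_one] at this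
  linarith

/-- A class function whose coefficients at non-principal irreducible characters only depend on the
degree is constant outside the derived subgroup. -/
theorem classFun_eq_of_inner_eq_of_deg {f : G → ℂ} (hf : IsClassFunction G f)
    (h : ∀ θ₁ θ₂ : G → ℂ, IsIrrCharacter G θ₁ → IsIrrCharacter G θ₂ → θ₁ ≠ (fun _ => 1) →
      θ₂ ≠ (fun _ => 1) → θ₁ 1 = θ₂ 1 → classInner f θ₁ = classInner f θ₂)
    {x y : G} (hx : x ∉ commutator G) (hy : y ∉ commutator G) : f x = f y := by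
  classical
  -- the value at `x`
  have key : ∀ (z : G) (lam : G →* ℂˣ), lam z ≠ 1 →
      f z = classInner f (fun _ => 1) - classInner f (fun g => (lam g : ℂ)) := by
    intro z lam hz
    have hl1 : (fun g => (lam g : ℂ)) ≠ fun _ => 1 := by
      intro e
      apply hz
      ext
      simpa using congrFun e z
    set c₀ := classInner f (fun g => (lam g : ℂ)) with hc₀
    let c : IrrCharacter G → ℂ := fun θ => if θ = irrOne G then c₀ else classInner f θ
    have hc : ∀ θ₁ θ₂ : IrrCharacter G, (θ₁ : G → ℂ) 1 = (θ₂ : G → ℂ) 1 → c θ₁ = c θ₂ := by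
      have hne : ∀ θ : IrrCharacter G, θ ≠ irrOne G → (θ : G → ℂ) ≠ fun _ => 1 := by
        intro θ hθ e
        exact hθ (Subtype.ext e)
      intro θ₁ θ₂ hd
      by_cases h₁ : θ₁ = irrOne G <;> by_cases h₂ : θ₂ = irrOne G
      · simp [c, h₁, h₂]
      · simp only [c, h₁, h₂, if_true, if_false]
        refine h _ _ (isIrrCharacter_linear lam) θ₂.2 hl1 (hne _ h₂) ?_
        rw [← hd, h₁, irrOne_apply]
        simp
      · simp only [c, h₁, h₂, if_true, if_false]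
        refine h _ _ θ₁.2 (isIrrCharacter_linear lam) (hne _ h₁) hl1 ?_
        rw [hd, h₂, irrOne_apply]
        simp
      · simp only [c, h₁, h₂, if_false]
        exact h _ _ θ₁.2 θ₂.2 (hne _ h₁) (hne _ h₂) hd
    let e : IrrCharacter G ≃ IrrCharacter G :=
      { toFun := fun θ => ⟨fun g => (lam g : ℂ) * (θ : G → ℂ) g, irr_unitsHom_mul lam θ.2⟩
        invFun := fun θ => ⟨fun g => (lam⁻¹ g : ℂ) * (θ : G → ℂ) g, irr_unitsHom_mul lam⁻¹ θ.2⟩
        left_inv := fun θ => Subtype.ext (funext fun g => by simp)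
        right_inv := fun θ => Subtype.ext (funext fun g => by simp) }
    have hS : ∑ θ : IrrCharacter G, c θ * (θ : G → ℂ) z = 0 := by
      have h1 : ∑ θ : IrrCharacter G, c θ * (θ : G → ℂ) z =
          (lam z : ℂ) * ∑ θ : IrrCharacter G, c θ * (θ : G → ℂ) z := by
        conv_lhs => rw [← e.sum_comp]
        rw [Finset.mul_sum]
        refine Finset.sum_congr rfl fun θ _ => ?_
        have h5 : c (e θ) = c θ := hc _ _ (by simp [e])
        rw [h5]
        simp only [e, Equiv.coe_fn_mk]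
        ring
      have h2 : (1 - (lam z : ℂ)) ≠ 0 := by
        intro e'
        apply hz
        ext
        simpa using (sub_eq_zero.1 e').symm
      have : (1 - (lam z : ℂ)) * ∑ θ : IrrCharacter G, c θ * (θ : G → ℂ) z = 0 := by
        linear_combination h1
      exact (mul_eq_zero.1 this).resolve_left h2
    rw [classFun_apply_eq_sum hf z, ← Finset.add_sum_erase _ _ (Finset.mem_univ (irrOne G))]
    rw [← Finset.add_sum_erase _ _ (Finset.mem_univ (irrOne G))] at hS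
    have h3 : ∑ θ ∈ Finset.univ.erase (irrOne G), classInner f θ * (θ : G → ℂ) z =
        ∑ θ ∈ Finset.univ.erase (irrOne G), c θ * (θ : G → ℂ) z :=
      Finset.sum_congr rfl fun θ hθ => by simp [c, (Finset.mem_erase.1 hθ).1]
    rw [h3]
    simp only [c, if_true, irrOne_apply, mul_one] at hS ⊢
    have h4 : classInner f (irrOne G : G → ℂ) = classInner f (fun _ => 1) := rfl
    rw [h4]
    linear_combination hS
  obtain ⟨l₁, h₁⟩ := exists_linear_apply_ne_one hx
  obtain ⟨l₂, h₂⟩ := exists_linear_apply_ne_one hy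
  have hne : ∀ (l : G →* ℂˣ) (z : G), l z ≠ 1 → (fun g => (l g : ℂ)) ≠ fun _ => 1 := by
    intro l z hz e
    apply hz
    ext
    simpa using congrFun e z
  rw [key x l₁ h₁, key y l₂ h₂, h _ _ (isIrrCharacter_linear l₁) (isIrrCharacter_linear l₂)
    (hne _ _ h₁) (hne _ _ h₂) (by simp)]

end Gen

section Out
variable {L : Type*} [Group L]

/-- The irreducible characters of `L` whose kernel does not contain `H`. -/
def irrOut (H : Subgroup L) : Set (L → ℂ) := {φ | IsIrrCharacter L φ ∧ ∃ h ∈ H, φ h ≠ φ 1}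

variable {H : Subgroup L}

theorem irrOut_ne_one {φ : L → ℂ} (h : φ ∈ irrOut H) : φ ≠ fun _ => 1 := by
  rintro rfl
  obtain ⟨_, x, _, hx⟩ := h
  exact hx rfl

variable [Fintype L]

theorem irrOut_conj {φ : L → ℂ} (h : φ ∈ irrOut H) : conjFun φ ∈ irrOut H := by
  obtain ⟨hi, x, hx, hne⟩ := h
  refine ⟨irr_conjFun hi, x, hx, fun e => hne ?_⟩
  simpa [conjFun_apply] using congrArg conj e

theorem irrOut_conj_ne (hodd : Odd (Nat.card L)) {φ : L → ℂ} (h : φ ∈ irrOut H) :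
    conjFun φ ≠ φ := irr_conj_ne_of_odd hodd h.1 (irrOut_ne_one h)

theorem irrOut_inner_sub_conj {φ φ' : L → ℂ} (h : φ ∈ irrOut H) (h' : φ' ∈ irrOut H) (h1 : φ ≠ φ')
    (h2 : φ ≠ conjFun φ') : classInner (φ - conjFun φ) (φ' - conjFun φ') = 0 := by
  have i := h.1
  have i' := h'.1
  have h3 : conjFun φ ≠ φ' := fun e => h2 (by rw [← e, conjFun_conjFun])
  have h4 : conjFun φ ≠ conjFun φ' := fun e => h1 (conjFun_inj.1 e)
  rw [classInner_sub_left, classInner_sub_right, classInner_sub_right, irr_inner_of_ne i i' h1,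
    irr_inner_of_ne i (irr_conjFun i') h2, irr_inner_of_ne (irr_conjFun i) i' h3,
    irr_inner_of_ne (irr_conjFun i) (irr_conjFun i') h4]
  simp

theorem irrOut_norm_sub_conj (hodd : Odd (Nat.card L)) {φ : L → ℂ} (h : φ ∈ irrOut H) :
    classInner (φ - conjFun φ) (φ - conjFun φ) = 2 := by
  have i := h.1
  have hne := irrOut_conj_ne hodd h
  rw [classInner_sub_left, classInner_sub_right, classInner_sub_right, irr_inner_self i,
    irr_inner_of_ne i (irr_conjFun i) hne.symm, irr_inner_of_ne (irr_conjFun i) i hne,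
    irr_inner_self (irr_conjFun i)]
  norm_num

/-- (1.5.e) -/
theorem seqSelf_conjFun_ne [H.Normal] (hodd : Odd (Nat.card L)) {χ : L → ℂ}
    (hχ : χ ∈ seqIndD H H ⊥) : conjFun χ ≠ χ := by
  obtain ⟨θ, hθ, hθ1, rfl⟩ := mem_seqIndD_self.1 hχ
  intro e
  have e' : indFun H (fun h => conj (θ h)) = indFun H θ := by
    rw [indFun_conj]
    exact e
  obtain ⟨g, hg⟩ := (mem_conjOrbit H).1 ((indFun_eq_iff_mem_conjOrbit H hθ (irr_conj hθ)).1 e')
  have h2 : g * g ∈ inertia H θ := by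
    rw [mem_inertia_iff, conjChar_mul, ← hg, conjChar_conj, ← hg]
    funext h
    simp
  obtain ⟨k, hk⟩ := hodd
  have hg' : g ∈ inertia H θ := by
    have : g = (g * g) ^ (k + 1) := by
      rw [← pow_two, ← pow_mul, show 2 * (k + 1) = Nat.card L + 1 by omega, pow_succ,
        pow_card_eq_one', one_mul]
    rw [this]
    exact Subgroup.pow_mem _ h2 _
  rw [(mem_inertia_iff H).1 hg'] at hg
  have hoH : Odd (Nat.card H) := Odd.of_dvd_nat ⟨k, hk⟩ (Subgroup.card_subgroup_dvd_card H)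
  exact irr_conj_ne_of_odd hoH hθ hθ1 hg

/-- A class function orthogonal to `irrOut H` is constant on the cosets of `H`. -/
theorem classFun_apply_mul_of_orth {f : L → ℂ} (hf : IsClassFunction L f)
    (h : ∀ φ ∈ irrOut H, classInner f φ = 0) (x : L) {y : L} (hy : y ∈ H) : f (x * y) = f x := by
  rw [classFun_apply_eq_sum hf, classFun_apply_eq_sum hf x]
  refine Finset.sum_congr rfl fun φ _ => ?_
  by_cases hφ : (φ : L → ℂ) ∈ irrOut H
  · simp [h _ hφ]
  · have h1 : (φ : L → ℂ) y = (φ : L → ℂ) 1 := by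
      by_contra hne
      exact hφ ⟨φ.2, y, hy, hne⟩
    have hc := irr_isCharacter φ.2
    rw [classFun_mul_comm (gen_isClassFunction (gen_of_irr φ.2)), char_apply_mul_of_eq_one hc h1]

end Out

/-- The hypotheses used in (12.2) to (12.5). -/
structure Hyp12 {G : Type*} [Group G] (L : Subgroup G) [Fintype L] (H : Subgroup L)
    (A₁ A : Set G) (R : G → Subgroup G) : Prop extends Hyp76 L H A₁ A R where
  odd : Odd (Nat.card L)
  supp_irr : ∀ φ ∈ irrOut H, ∀ x : L, x ≠ 1 → (x : G) ∉ A → φ x = 0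
  decomp : ∀ θ : H → ℂ, IsIrrCharacter H θ → θ ≠ (fun _ => 1) →
    ∃ C : Finset (L → ℂ), (∀ φ ∈ C, IsIrrCharacter L φ) ∧ indFun H θ = ∑ φ ∈ C, φ
  triv : ∀ a ∈ A, a ∉ A₁ → R a = ⊥

/-- `ψ` is orthogonal to `(φ - φ̄)^τ` for every irreducible `φ` whose kernel does not contain `H`. -/
def Orth12 {G : Type*} [Group G] [Fintype G] (L : Subgroup G) (H : Subgroup L) (A : Set G)
    (R : G → Subgroup G) (ψ : G → ℂ) : Prop :=
  ∀ φ ∈ irrOut H, classInner (dadeIsometry A L R (φ - conjFun φ)) ψ = 0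

namespace Hyp12
variable {G : Type*} [Group G] {L : Subgroup G} [Fintype L] {H : Subgroup L} {A₁ A : Set G}
  {R : G → Subgroup G}

/-- (12.2.a) -/
theorem block (h : Hyp12 L H A₁ A R) {θ : H → ℂ} (hθ : IsIrrCharacter H θ)
    (hθ1 : θ ≠ fun _ => 1) : ∃ C : Finset (L → ℂ), (∀ φ ∈ C, φ ∈ irrOut H) ∧
      indFun H θ = ∑ φ ∈ C, φ ∧ ∀ φ ∈ C, ∀ φ' ∈ C, ∀ x ∈ H, φ x = φ' x := by
  have := h.normal
  obtain ⟨C, hC, e⟩ := h.decomp θ hθ hθ1
  have h1 : ∀ φ ∈ C, classInner (fun x : H => φ x) θ = 1 := by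
    intro φ hφ
    rw [← classInner_indFun_right H θ (gen_isClassFunction (gen_of_irr (hC φ hφ))), e,
      ← conj_classInner, (isON_of_irr hC).inner_sum_of_mem subset_rfl hφ, map_one]
  have h2 : ∀ φ ∈ C, (fun x : H => φ x) = ∑ ψ ∈ conjOrbit H θ, ψ := by
    intro φ hφ
    rw [clifford H (hC φ hφ) hθ (by rw [h1 φ hφ]; exact one_ne_zero), h1 φ hφ, one_smul]
  refine ⟨C, fun φ hφ => ⟨hC φ hφ, ?_⟩, e, fun φ hφ φ' hφ' x hx => ?_⟩
  · by_contra hne
    push Not at hne
    have h3 : (fun x : H => φ x) = φ 1 • fun _ : H => (1 : ℂ) := by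
      funext x
      simp [hne x x.2]
    have := h1 φ hφ
    rw [h3, classInner_smul_left, classInner_eq_zero_comm.1 (irr_inner_one hθ hθ1)] at this
    simp at this
  · exact (congrFun (h2 φ hφ) ⟨x, hx⟩).trans (congrFun (h2 φ' hφ') ⟨x, hx⟩).symm

theorem block_of_mem (h : Hyp12 L H A₁ A R) {χ : L → ℂ} (hχ : χ ∈ seqIndD H H ⊥) :
    ∃ C : Finset (L → ℂ), (∀ φ ∈ C, φ ∈ irrOut H) ∧ χ = ∑ φ ∈ C, φ := by
  obtain ⟨θ, hθ, hθ1, rfl⟩ := mem_seqIndD_self.1 hχ
  obtain ⟨C, h1, h2, -⟩ := h.block hθ hθ1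
  exact ⟨C, h1, h2⟩

theorem block_of_irrOut (h : Hyp12 L H A₁ A R) {φ : L → ℂ} (hφ : φ ∈ irrOut H) :
    ∃ C : Finset (L → ℂ), φ ∈ C ∧ (∀ φ' ∈ C, φ' ∈ irrOut H) ∧ ∑ φ' ∈ C, φ' ∈ seqIndD H H ⊥ ∧
      ∀ φ' ∈ C, ∀ x ∈ H, φ' x = φ x := by
  have := h.normal
  obtain ⟨θ, hθ, hne⟩ := exists_irr_under H hφ.1
  have hθ1 : θ ≠ fun _ => 1 := by
    rintro rfl
    exact hne (classInner_res_one_eq_zero H hφ.1 hφ.2)
  obtain ⟨C, h1, h2, h3⟩ := h.block hθ hθ1
  have hm : φ ∈ C := by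
    by_contra hn
    apply hne
    rw [← classInner_indFun_right H θ (gen_isClassFunction (gen_of_irr hφ.1)), h2,
      classInner_sum_right]
    exact Finset.sum_eq_zero fun φ' hφ' =>
      irr_inner_of_ne hφ.1 (h1 φ' hφ').1 (fun e => hn (e ▸ hφ'))
  exact ⟨C, hm, h1, h2 ▸ mem_seqIndD_self.2 ⟨θ, hθ, hθ1, rfl⟩, fun φ' hφ' => h3 φ' hφ' φ hm⟩

theorem supp_sub (h : Hyp12 L H A₁ A R) {φ φ' : L → ℂ} (hφ : φ ∈ irrOut H) (hφ' : φ' ∈ irrOut H)
    (hd : φ 1 = φ' 1) (x : L) (hx : (x : G) ∉ A) : (φ - φ') x = 0 := by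
  by_cases h1 : x = 1
  · simp [h1, hd]
  · simp [h.supp_irr φ hφ x h1 hx, h.supp_irr φ' hφ' x h1 hx]

theorem supp_sub_conj (h : Hyp12 L H A₁ A R) {φ : L → ℂ} (hφ : φ ∈ irrOut H) (x : L)
    (hx : (x : G) ∉ A) : (φ - conjFun φ) x = 0 :=
  h.supp_sub hφ (irrOut_conj hφ) (gen_conjFun_apply_one (gen_of_irr hφ.1)).symm x hx

/-- the constituents of two members of `S` which are not conjugate are not conjugate -/
theorem conj_notMem (h : Hyp12 L H A₁ A R) {C D : Finset (L → ℂ)} (hC : ∀ φ ∈ C, φ ∈ irrOut H)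
    (hD : ∀ φ ∈ D, φ ∈ irrOut H) (hSC : ∑ φ ∈ C, φ ∈ seqIndD H H ⊥)
    (hSD : ∑ φ ∈ D, φ ∈ seqIndD H H ⊥) (hne : conjFun (∑ φ ∈ C, φ) ≠ ∑ φ ∈ D, φ) {φ : L → ℂ}
    (hφ : φ ∈ C) : conjFun φ ∉ D := by
  have := h.normal
  intro hφD
  have h0 := SeqSelf.inner_of_ne (SeqSelf.conj_mem hSC) hSD hne
  refine char_inner_ne_zero_of_common (SeqSelf.char (SeqSelf.conj_mem hSC)) (SeqSelf.char hSD)
    (hD _ hφD).1 ?_ ?_ h0
  · rw [classInner_conjFun, ← conj_classInner,
      (isON_of_irr fun a ha => (hC a ha).1).inner_sum_of_mem subset_rfl hφ]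
    simp
  · rw [(isON_of_irr fun a ha => (hD a ha).1).inner_sum_of_mem subset_rfl hφD]
    simp

theorem notMem_of_ne (h : Hyp12 L H A₁ A R) {C D : Finset (L → ℂ)} (hC : ∀ φ ∈ C, φ ∈ irrOut H)
    (hD : ∀ φ ∈ D, φ ∈ irrOut H) (hSC : ∑ φ ∈ C, φ ∈ seqIndD H H ⊥)
    (hSD : ∑ φ ∈ D, φ ∈ seqIndD H H ⊥) (hne : ∑ φ ∈ C, φ ≠ ∑ φ ∈ D, φ) {φ : L → ℂ}
    (hφ : φ ∈ C) : φ ∉ D := by
  have := h.normal
  intro hφD
  have h0 := SeqSelf.inner_of_ne hSC hSD hne
  refine char_inner_ne_zero_of_common (SeqSelf.char hSC) (SeqSelf.char hSD)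
    (hD _ hφD).1 ?_ ?_ h0
  · rw [(isON_of_irr fun a ha => (hC a ha).1).inner_sum_of_mem subset_rfl hφ]
    simp
  · rw [(isON_of_irr fun a ha => (hD a ha).1).inner_sum_of_mem subset_rfl hφD]
    simp

variable [Fintype G]

theorem tau_gen (h : Hyp12 L H A₁ A R) {φ : L → ℂ} (hφ : φ ∈ irrOut H) :
    IsGeneralizedCharacter G (dadeIsometry A L R (φ - conjFun φ)) :=
  Dade.gen h.dade₀ (gen_sub (gen_of_irr hφ.1) (gen_of_irr (irr_conjFun hφ.1))) (h.supp_sub_conj hφ)

omit [Fintype L] [Fintype G] in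
theorem tau_anti (φ : L → ℂ) : conjFun (dadeIsometry A L R (φ - conjFun φ)) =
    -dadeIsometry A L R (φ - conjFun φ) := by
  rw [← dade_conjFun, conjFun_sub_conjFun, dade_neg]

theorem tau_inner (h : Hyp12 L H A₁ A R) {β : L → ℂ} (hβ : IsClassFunction L β) {φ : L → ℂ}
    (hφ : φ ∈ irrOut H) :
    classInner (dadeIsometry A L R β) (dadeIsometry A L R (φ - conjFun φ)) =
      classInner β (φ - conjFun φ) :=
  Dade.isometry h.dade₀ hβ
    (gen_isClassFunction (gen_sub (gen_of_irr hφ.1) (gen_of_irr (irr_conjFun hφ.1))))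
    (h.supp_sub_conj hφ)

/-- the two constituents of `(φ - φ̄)^τ` -/
theorem exists_mu (h : Hyp12 L H A₁ A R) {φ : L → ℂ} (hφ : φ ∈ irrOut H) :
    ∃ μ : G → ℂ, IsIrrCharacter G μ ∧ conjFun μ ≠ μ ∧
      dadeIsometry A L R (φ - conjFun φ) = μ - conjFun μ := by
  obtain ⟨μ, hμ, e⟩ := Dade.irr_sub_conj h.dade₀ hφ.1 (h.supp_irr φ hφ)
  refine ⟨μ, hμ, fun hc => ?_, e⟩
  have := h.tau_inner
    (gen_isClassFunction (gen_sub (gen_of_irr hφ.1) (gen_of_irr (irr_conjFun hφ.1)))) hφ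
  rw [irrOut_norm_sub_conj h.odd hφ, e, hc, sub_self, classInner_zero_left] at this
  norm_num at this

/-- a constituent of `(φ - φ̄)^τ` is orthogonal to every skew virtual character orthogonal to
`(φ - φ̄)^τ` -/
theorem inner_eq_zero_of_constituent (h : Hyp12 L H A₁ A R) {φ : L → ℂ} (hφ : φ ∈ irrOut H)
    {a : G → ℂ} (ha : IsIrrCharacter G a)
    (hne : classInner (dadeIsometry A L R (φ - conjFun φ)) a ≠ 0) {γ : G → ℂ}
    (hγ : IsGeneralizedCharacter G γ) (hc : conjFun γ = -γ)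
    (h0 : classInner γ (dadeIsometry A L R (φ - conjFun φ)) = 0) : classInner γ a = 0 := by
  obtain ⟨μ, hμ, -, e⟩ := h.exists_mu hφ
  rw [e] at h0 hne
  have h1 := inner_eq_zero_of_anti hγ (gen_of_irr hμ) hc h0
  by_cases h2 : μ = a
  · rw [← h2, h1]
  · by_cases h3 : conjFun μ = a
    · rw [← h3, inner_conjFun_of_anti hγ (gen_of_irr hμ) hc, h1, neg_zero]
    · rw [classInner_sub_left, irr_inner_of_ne hμ ha h2,
        irr_inner_of_ne (irr_conjFun hμ) ha h3] at hne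
      simp at hne

/-- The basic orthogonality statement behind (12.4) and (12.5). -/
theorem tau_inner_eq_zero (h : Hyp12 L H A₁ A R) {ψ : G → ℂ} (hψ : IsSignedIrr G ψ)
    (ho : Orth12 L H A R ψ) {β : L → ℂ} (hβ : IsGeneralizedCharacter L β)
    (hβA : ∀ x : L, (x : G) ∉ A → β x = 0) (Y : Finset (L → ℂ)) (hY : ∀ φ ∈ Y, φ ∈ irrOut H)
    (hc : ∀ φ ∈ Y, conjFun φ ∉ Y) (hne : ∀ φ ∈ Y, classInner β (φ - conjFun φ) ≠ 0)
    (hle : rip β β ≤ Y.card) : classInner (dadeIsometry A L R β) ψ = 0 := by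
  classical
  have hb := Dade.gen h.dade₀ hβ hβA
  have hex : ∀ φ ∈ Y, ∃ a : G → ℂ, IsIrrCharacter G a ∧
      classInner (dadeIsometry A L R β) a ≠ 0 ∧
      classInner (dadeIsometry A L R (φ - conjFun φ)) a ≠ 0 := by
    intro φ hφ
    have := hne φ hφ
    rw [← h.tau_inner (gen_isClassFunction hβ) (hY φ hφ)] at this
    exact exists_irr_of_inner_ne_zero (gen_isClassFunction hb) this
  choose! a ha1 ha2 ha3 using hex
  have hinj : Set.InjOn a (Y : Set (L → ℂ)) := by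
    intro φ hφ φ' hφ' e
    by_contra hn
    have h0 : classInner (dadeIsometry A L R (φ' - conjFun φ'))
        (dadeIsometry A L R (φ - conjFun φ)) = 0 := by
      rw [h.tau_inner (gen_isClassFunction
        (gen_sub (gen_of_irr (hY φ' hφ').1) (gen_of_irr (irr_conjFun (hY φ' hφ').1)))) (hY φ hφ)]
      exact irrOut_inner_sub_conj (hY φ' hφ') (hY φ hφ) (Ne.symm hn)
        (fun e' => hc φ hφ (e' ▸ hφ'))
    have := h.inner_eq_zero_of_constituent (hY φ hφ) (ha1 φ hφ) (ha3 φ hφ) (h.tau_gen (hY φ' hφ'))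
      (tau_anti φ') h0
    exact ha3 φ' hφ' (e ▸ this)
  obtain ⟨ε, ψ₀, hε, hψ₀, rfl⟩ := hψ.exists_sign
  have hε0 : (ε : ℂ) ≠ 0 := by rcases hε with rfl | rfl <;> simp
  rw [classInner_zsmul_right, inner_eq_zero_of_card_le hb (Y.image a) ?_ ?_ ?_ hψ₀ ?_, mul_zero]
  · intro b hb'
    obtain ⟨φ, hφ, rfl⟩ := Finset.mem_image.1 hb'
    exact ha1 φ hφ
  · intro b hb'
    obtain ⟨φ, hφ, rfl⟩ := Finset.mem_image.1 hb'
    exact ha2 φ hφ
  · rw [Finset.card_image_of_injOn hinj,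
      rip_congr (Dade.isometry h.dade₀ (gen_isClassFunction hβ) (gen_isClassFunction hβ) hβA)]
    exact hle
  · intro hm
    obtain ⟨φ, hφ, e⟩ := Finset.mem_image.1 hm
    have := ho φ (hY φ hφ)
    rw [classInner_zsmul_right, ← e] at this
    exact ha3 φ hφ ((mul_eq_zero.1 this).resolve_left hε0)

/-- differences of sums of irreducible characters -/
theorem tau_sub_inner_eq_zero (h : Hyp12 L H A₁ A R) {ψ : G → ℂ} (hψ : IsSignedIrr G ψ)
    (ho : Orth12 L H A R ψ) {C D : Finset (L → ℂ)} (hC : ∀ φ ∈ C, φ ∈ irrOut H)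
    (hD : ∀ φ ∈ D, φ ∈ irrOut H) (hd : (∑ φ ∈ C, φ) 1 = (∑ φ ∈ D, φ) 1) (hCD : Disjoint C D)
    (hc : ∀ φ, φ ∈ C ∨ φ ∈ D → ¬ (conjFun φ ∈ C ∨ conjFun φ ∈ D)) :
    classInner (dadeIsometry A L R (∑ φ ∈ C, φ - ∑ φ ∈ D, φ)) ψ = 0 := by
  classical
  have hY : ∀ φ ∈ C ∪ D, φ ∈ irrOut H := fun φ hφ =>
    (Finset.mem_union.1 hφ).elim (hC φ) (hD φ)
  have hON := isON_of_irr fun φ hφ => (hY φ hφ).1
  have hconj : ∀ φ ∈ C ∪ D, ∀ E : Finset (L → ℂ), E ⊆ C ∪ D →
      classInner (∑ φ ∈ E, φ) (conjFun φ) = 0 := by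
    intro φ hφ E hE
    rw [classInner_sum_left]
    refine Finset.sum_eq_zero fun φ' hφ' =>
      irr_inner_of_ne (hY φ' (hE hφ')).1 (irr_conjFun (hY φ hφ).1) fun e => ?_
    exact hc φ (Finset.mem_union.1 hφ) (e ▸ Finset.mem_union.1 (hE hφ'))
  refine h.tau_inner_eq_zero hψ ho
    (gen_sub (gen_sum _ fun φ hφ => gen_of_irr (hC φ hφ).1)
      (gen_sum _ fun φ hφ => gen_of_irr (hD φ hφ).1)) ?_ (C ∪ D) hY
    (fun φ hφ hφ' => hc φ (Finset.mem_union.1 hφ) (Finset.mem_union.1 hφ')) ?_ ?_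
  · intro x hx
    by_cases h1 : x = 1
    · rw [h1, Pi.sub_apply, hd, sub_self]
    · rw [Pi.sub_apply, Finset.sum_apply, Finset.sum_apply,
        Finset.sum_eq_zero fun φ hφ => h.supp_irr φ (hC φ hφ) x h1 hx,
        Finset.sum_eq_zero fun φ hφ => h.supp_irr φ (hD φ hφ) x h1 hx, sub_self]
  · intro φ hφ
    rw [classInner_sub_left, classInner_sub_right, classInner_sub_right,
      hconj φ hφ C Finset.subset_union_left, hconj φ hφ D Finset.subset_union_right]
    by_cases hm : φ ∈ C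
    · rw [hON.inner_sum_of_mem Finset.subset_union_left hm,
        hON.inner_sum_of_notMem Finset.subset_union_right hφ (Finset.disjoint_left.1 hCD hm)]
      simp
    · rw [hON.inner_sum_of_notMem Finset.subset_union_left hφ hm,
        hON.inner_sum_of_mem Finset.subset_union_right ((Finset.mem_union.1 hφ).resolve_left hm)]
      simp
  · rw [rip_sub_self, rip_of_classInner_eq_nat (hON.mono Finset.subset_union_left).inner_sum_self,
      rip_of_classInner_eq_nat (hON.mono Finset.subset_union_right).inner_sum_self,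
      rip_of_classInner_eq_nat
        (hON.inner_sum_sum Finset.subset_union_left Finset.subset_union_right),
      Finset.card_union_of_disjoint hCD, Finset.disjoint_iff_inter_eq_empty.1 hCD]
    simp

theorem tau_irr_sub_inner (h : Hyp12 L H A₁ A R) {ψ : G → ℂ} (hψ : IsSignedIrr G ψ)
    (ho : Orth12 L H A R ψ) {φ φ' : L → ℂ} (hφ : φ ∈ irrOut H) (hφ' : φ' ∈ irrOut H)
    (hd : φ 1 = φ' 1) : classInner (dadeIsometry A L R (φ - φ')) ψ = 0 := by
  by_cases h1 : φ = φ'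
  · rw [h1, sub_self, dade_zero, classInner_zero_left]
  by_cases h2 : φ' = conjFun φ
  · rw [h2]
    exact ho φ hφ
  have := h.tau_sub_inner_eq_zero hψ ho (C := {φ}) (D := {φ'}) (by simpa using hφ)
    (by simpa using hφ') (by simpa using hd) (by simpa using h1) (by
      simp only [Finset.mem_singleton]
      rintro χ (rfl | rfl) (e | e)
      · exact irrOut_conj_ne h.odd hφ e
      · exact h2 e.symm
      · exact h2 (conjFun_eq_iff.1 e)
      · exact irrOut_conj_ne h.odd hφ' e)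
  simpa using this

theorem tau_seq_sub_conj_inner (h : Hyp12 L H A₁ A R) {ψ : G → ℂ} (ho : Orth12 L H A R ψ)
    {χ : L → ℂ} (hχ : χ ∈ seqIndD H H ⊥) :
    classInner (dadeIsometry A L R (χ - conjFun χ)) ψ = 0 := by
  obtain ⟨C, hC, rfl⟩ := h.block_of_mem hχ
  rw [conjFun_sum, ← Finset.sum_sub_distrib, dade_sum, classInner_sum_left]
  exact Finset.sum_eq_zero fun φ hφ => ho φ (hC φ hφ)

theorem tau_seq_sub_inner (h : Hyp12 L H A₁ A R) {ψ : G → ℂ} (hψ : IsSignedIrr G ψ)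
    (ho : Orth12 L H A R ψ) {χ χ' : L → ℂ} (hχ : χ ∈ seqIndD H H ⊥) (hχ' : χ' ∈ seqIndD H H ⊥)
    (hd : χ 1 = χ' 1) : classInner (dadeIsometry A L R (χ - χ')) ψ = 0 := by
  have := h.normal
  by_cases h1 : χ = χ'
  · rw [h1, sub_self, dade_zero, classInner_zero_left]
  by_cases h2 : conjFun χ = χ'
  · rw [← h2]
    exact h.tau_seq_sub_conj_inner ho hχ
  obtain ⟨C, hC, rfl⟩ := h.block_of_mem hχ
  obtain ⟨D, hD, rfl⟩ := h.block_of_mem hχ'
  refine h.tau_sub_inner_eq_zero hψ ho hC hD hd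
    (Finset.disjoint_left.2 fun φ hφ => h.notMem_of_ne hC hD hχ hχ' h1 hφ) ?_
  rintro φ (hφ | hφ) (e | e)
  · exact h.conj_notMem hC hC hχ hχ (seqSelf_conjFun_ne h.odd hχ) hφ e
  · exact h.conj_notMem hC hD hχ hχ' h2 hφ e
  · exact h.conj_notMem hD hC hχ' hχ (fun e' => h2 (conjFun_eq_iff.1 e').symm)
      hφ e
  · exact h.conj_notMem hD hD hχ' hχ' (seqSelf_conjFun_ne h.odd hχ') hφ e

/-- (12.3): it is enough to be orthogonal to all `(χ - χ̄)^τ`, `χ ∈ S`. -/
theorem orth12_of_seq (h : Hyp12 L H A₁ A R) {ψ : G → ℂ} (hψ : IsSignedIrr G ψ)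
    (ho : ∀ χ ∈ seqIndD H H ⊥, classInner (dadeIsometry A L R (χ - conjFun χ)) ψ = 0) :
    Orth12 L H A R ψ := by
  have := h.normal
  intro φ hφ
  obtain ⟨C, hm, hC, hS, -⟩ := h.block_of_irrOut hφ
  obtain ⟨ε, ψ₀, hε, hψ₀, rfl⟩ := hψ.exists_sign
  have hε0 : (ε : ℂ) ≠ 0 := by rcases hε with rfl | rfl <;> simp
  have h1 := ho _ hS
  rw [classInner_zsmul_right] at h1 ⊢
  have h2 := (mul_eq_zero.1 h1).resolve_left hε0
  by_contra hne
  have hne' := right_ne_zero_of_mul hne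
  rw [conjFun_sum, ← Finset.sum_sub_distrib, dade_sum, classInner_sum_left,
    Finset.sum_eq_single_of_mem φ hm] at h2
  · exact hne' h2
  · intro φ' hφ' hn
    refine h.inner_eq_zero_of_constituent hφ hψ₀ hne' (h.tau_gen (hC φ' hφ')) (tau_anti φ') ?_
    rw [h.tau_inner (gen_isClassFunction
      (gen_sub (gen_of_irr (hC φ' hφ').1) (gen_of_irr (irr_conjFun (hC φ' hφ').1)))) hφ]
    exact irrOut_inner_sub_conj (hC φ' hφ') hφ hn
      (fun e => h.conj_notMem hC hC hS hS (seqSelf_conjFun_ne h.odd hS) hm (e ▸ hφ'))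

/-- (12.3), in the form in which it is used: `ψ - ψ̄` vanishes on `Ã₁`. -/
theorem orth12_of_supp (h : Hyp12 L H A₁ A R) {ψ : G → ℂ} (hψ : IsSignedIrr G ψ)
    (hs : ∀ g ∈ dadeSupp A₁ R, (ψ - conjFun ψ) g = 0) : Orth12 L H A R ψ := by
  have := h.normal
  refine h.orth12_of_seq hψ fun χ hχ => ?_
  have hg := gen_sub (SeqSelf.gen hχ) (SeqSelf.gen (SeqSelf.conj_mem hχ))
  have hA : ∀ x : L, (x : G) ∉ A₁ → (χ - conjFun χ) x = 0 :=
    h.toHyp76.supp (fun x hx => by
      simp [SeqSelf.eq_zero hχ hx, SeqSelf.eq_zero (SeqSelf.conj_mem hχ) hx])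
      (by simp [gen_conjFun_apply_one (SeqSelf.gen hχ)])
  refine inner_eq_zero_of_anti (Dade.gen h.dade₀ hg (h.toHyp76.supp₀ hA)) hψ.gen (tau_anti χ) ?_
  rw [classInner_def, Finset.sum_eq_zero, mul_zero]
  intro g _
  by_cases hm : g ∈ dadeSupp A₁ R
  · simp [hs g hm]
  · simp [h.toHyp76.tau_eq_zero (gen_isClassFunction hg) hA hm]

/-- (12.4) -/
theorem apply_mul (h : Hyp12 L H A₁ A R) {ψ : G → ℂ} (hψ : IsSignedIrr G ψ)
    (ho : Orth12 L H A R ψ) {x y : L} (hx : x ∉ H) (hy : y ∈ H) : ψ (x * y) = ψ x := by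
  classical
  have := h.normal
  have hψc := gen_isClassFunction hψ.gen
  let f : L → ℂ := fun z => if z ∈ H then 0 else ψ z
  have hf : IsClassFunction L f := by
    intro g k
    have : k * g * k⁻¹ ∈ H ↔ g ∈ H :=
      ⟨fun hm => (by simpa [mul_assoc] using h.normal.conj_mem _ hm k⁻¹),
        fun hm => h.normal.conj_mem _ hm k⟩
    simp only [f, this, Subgroup.coe_mul, Subgroup.coe_inv, hψc (g : G) k]
  have hxy : x * y ∉ H := fun hm => hx (by simpa using H.mul_mem hm (H.inv_mem hy))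
  have key := classFun_apply_mul_of_orth (H := H) hf ?_ x hy
  · simpa only [f, hx, hxy, if_false, Subgroup.coe_mul] using key
  intro φ hφ
  obtain ⟨C, hm, hC, hS, hres⟩ := h.block_of_irrOut hφ
  -- `|C| φ - ∑ C` vanishes on `H` and equals `|C| φ` outside
  have h1 : ∀ φ' ∈ C, classInner (φ - φ') (fun z : L => ψ z) = 0 := by
    intro φ' hφ'
    have hd : φ 1 = φ' 1 := (hres φ' hφ' 1 H.one_mem).symm
    have hcl := classFun_sub (gen_isClassFunction (gen_of_irr hφ.1))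
      (gen_isClassFunction (gen_of_irr (hC φ' hφ').1))
    have e := Dade.eq_indFun_of_sub h.dade₀ (A₁ := A \ A₁) Set.sdiff_subset
      (fun a ha => h.triv a ha.1 ha.2) hcl (fun z hz => by
        by_cases hzA : (z : G) ∈ A
        · have : (z : G) ∈ A₁ := by
            by_contra hn
            exact hz ⟨hzA, hn⟩
          simp [hres φ' hφ' z ((h.mem_iff z).1 this).1]
        · exact h.supp_sub hφ (hC φ' hφ') hd z hzA)
    rw [← classInner_indFun_left L _ hψc, ← e]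
    exact h.tau_irr_sub_inner hψ ho hφ (hC φ' hφ') hd
  have h2 : classInner (∑ φ' ∈ C, (φ - φ')) (fun z : L => ψ z) = (C.card : ℂ) * classInner φ f := by
    rw [← classInner_smul_left, classInner_def, classInner_def]
    congr 1
    refine Finset.sum_congr rfl fun z _ => ?_
    by_cases hz : z ∈ H
    · rw [Finset.sum_apply, Finset.sum_eq_zero fun φ' hφ' => by simp [hres φ' hφ' z hz]]
      simp [f, hz]
    · have := SeqSelf.eq_zero hS hz
      rw [Finset.sum_sub_distrib, Pi.sub_apply, this]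
      simp [f, hz]
  rw [classInner_sum_left, Finset.sum_eq_zero h1] at h2
  have hC0 : (C.card : ℂ) ≠ 0 := by exact_mod_cast (Finset.card_pos.2 ⟨φ, hm⟩).ne'
  exact classInner_eq_zero_comm.1 ((mul_eq_zero.1 h2.symm).resolve_left hC0)

/-- (12.5) -/
theorem invDade_eq (h : Hyp12 L H A₁ A R) {ψ : G → ℂ} (hψ : IsSignedIrr G ψ)
    (ho : Orth12 L H A R ψ) {x y : H} (hx : x ∉ commutator H) (hy : y ∉ commutator H) :
    invDade A₁ L R ψ x = invDade A₁ L R ψ y := by
  have := h.normal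
  have hψc := gen_isClassFunction hψ.gen
  have hρ := Dade.invDade_isClassFunction h.toHyp76.dade hψc
  refine classFun_eq_of_inner_eq_of_deg (f := fun z : H => invDade A₁ L R ψ z)
    (classFun_restrict hρ H) (fun θ₁ θ₂ i₁ i₂ n₁ n₂ hd => ?_) hx hy
  have m₁ := mem_seqIndD_self.2 ⟨θ₁, i₁, n₁, rfl⟩
  have m₂ := mem_seqIndD_self.2 ⟨θ₂, i₂, n₂, rfl⟩
  have hd' : indFun H θ₁ 1 = indFun H θ₂ 1 := by rw [indFun_one, indFun_one, hd]
  have h0 := h.tau_seq_sub_inner hψ ho m₁ m₂ hd'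
  rw [h.toHyp76.reciprocity (classFun_sub (SeqSelf.classFun m₁) (SeqSelf.classFun m₂))
    (h.toHyp76.supp (fun x hx => by simp [SeqSelf.eq_zero m₁ hx, SeqSelf.eq_zero m₂ hx])
      (by simp [hd'])) hψc, classInner_sub_left, classInner_indFun_left H _ hρ,
    classInner_indFun_left H _ hρ, sub_eq_zero] at h0
  rw [← conj_classInner, h0, conj_classInner]

end Hyp12

end CL.PF
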