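import Cfsg.Agent.BG.A16_TypeF
import Cfsg.Agent.BG.T6_1
import Cfsg.Agent.BG.T3_W
import Cfsg.Agent.BG.T3_9
import Cfsg.Agent.BG.Rank
import Cfsg.Agent.PGrp.ClassBound

/-!
# The group theory of Peterfalvi (8.2) and (12.9) to (12.12), in any finite group
-/

set_option autoImplicit false

namespace CL.BG

open Cfsg Subgroup

variable {G : Type*} [Group G] [Finite G] {M L U U₁ U₀ H K E A P T : Subgroup G} {x : G}
  {p q : ℕ}

namespace TypeFWith

/-- (8.2.a) -/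
theorem card_U₀ (h : TypeFWith M U U₁ U₀) : Nat.card U₀ = Monoid.exponent U := by
  have := t3_9_zgroup (odd_card_of_le h.odd (h.U₀_le.trans h.U_le)) h.core_ne
    (h.U₀_le.trans h.sdp.norm) h.reg
  rw [← h.exp_eq, IsZGroup.exponent_eq_card]

/-- (8.2.b) -/
theorem frob_of_isZGroup (h : TypeFWith M U U₁ U₀) (hZ : IsZGroup U) :
    Frob (fittingHallOf M) U M := by
  have e : U₀ = U := eq_of_le_of_card_ge h.U₀_le (by rw [h.card_U₀, IsZGroup.exponent_eq_card])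
  exact ⟨h.sdp, h.core_ne, h.U_ne, e ▸ h.reg⟩

theorem hall_U (h : TypeFWith M U U₁ U₀) : Hall (primesOf (fittingHallOf M))ᶜ U M :=
  h.sdp.hall_right_of_left (fcore_hall M)

theorem sup_normalIn (h : TypeFWith M U U₁ U₀) : fittingHallOf M ⊔ U₁ ⊴ M :=
  ⟨sup_le (fcore_le M) (h.U₁_normal.le.trans h.U_le), by
    conv_lhs => rw [← h.sdp.sup]
    exact sup_le (le_norm_of_le le_sup_left) (norms_sup h.sdp.norm h.U₁_normal.norm)⟩

/-- (8.2.c) -/
theorem inf_cent1_le (h : TypeFWith M U U₁ U₀) (hx : x ∈ fittingHallOf M) (hx1 : x ≠ 1) :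
    M ⊓ 𝐂₁(x) ≤ fittingHallOf M ⊔ U₁ := by
  rintro y ⟨hy, hc⟩
  set π := primesOf (fittingHallOf M)
  rw [← piPart_mul_piPart_compl π y]
  refine mul_mem (mem_sup_left ((fcore_hall M).mem_of_normal (fcore_normal M).norm
    (piPart_mem π hy) (piElt_piPart π y))) ?_
  obtain ⟨g, hg, hle⟩ := hall_conj_le h.solvable h.hall_U
    (zpowers_le_of_mem (piPart_mem πᶜ hy)) (piGrp_zpowers.2 (piElt_piPart πᶜ y))
  have h1 : g * piPart πᶜ y * g⁻¹ ∈ U := hle (conj_mem_cj.2 (mem_zpowers _))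
  have h2 : piPart πᶜ y ∈ 𝐂₁(x) := piPart_mem πᶜ hc
  have h3 := h.cent_le (g * x * g⁻¹) ((fcore_normal M).conj_mem hg hx)
    (by simpa using hx1) ⟨h1, by rw [← cj_cent1]; exact conj_mem_cj.2 h2⟩
  have h4 := conj_mem_of_mem_norm' (h.sup_normalIn.norm hg) (mem_sup_right h3)
  simpa [mul_assoc] using h4

omit [Finite G] in
theorem der_sup_le (h : TypeFWith M U U₁ U₀) :
    ⁅fittingHallOf M ⊔ U₁, fittingHallOf M ⊔ U₁⁆ ≤ fittingHallOf M :=
  (h.sdp.restrict_right h.U₁_normal.le).der_le_left h.U₁_comm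

/-- a Sylow `p`-subgroup contains an element of order `p` without fixed points on `M_F` -/
theorem exists_fpf (h : TypeFWith M U U₁ U₀) (hp : p.Prime) (hd : p ∣ Nat.card U)
    (hP : SylowOf p P M) : ∃ a ∈ P, orderOf a = p ∧ fittingHallOf M ⊓ 𝐂₁(a) = ⊥ := by
  have := Fact.mk hp
  obtain ⟨u, hu, ho⟩ := exists_orderOf_eq_of_dvd_card hp (h.dvd_card_U₀ hp hd)
  have hu1 : u ≠ 1 := fun e => hp.one_lt.ne (by rw [← ho, e, orderOf_one])
  obtain ⟨g, hg, hle⟩ := sylow_conj_le hP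
    (isPGroup_of_card_prime (X := zpowers u) (by rw [Nat.card_zpowers, ho]))
    (zpowers_le_of_mem (h.U_le (h.U₀_le hu)))
  refine ⟨g * u * g⁻¹, hle (conj_mem_cj.2 (mem_zpowers u)), by rw [← ho]; exact (MulAut.conj g).orderOf_eq u, ?_⟩
  rw [← cj_cent1, ← (fcore_normal M).cj_eq hg, ← cj_inf, h.reg u hu hu1, cj_bot]

/-- (12.11) -/
theorem le_of_frob (h : TypeFWith M U U₁ U₀) (hF : Frob H E L) (hn : Group.IsNilpotent H)
    (hU : L ⊓ M = U) (hp : p.Prime) (hA : IsPGroup p A) (hAH : A ≤ H) (hAM : A ≤ M)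
    (hAK : ¬ A ≤ 𝐂(fittingHallOf M)) (hx : x ∈ A) (hx1 : x ≠ 1)
    (hKx : fittingHallOf M ⊓ 𝐂₁(x) ≠ ⊥) : U ≤ H := by
  have := Fact.mk hp
  have hUL : U ≤ L := hU ▸ inf_le_left
  refine hF.isHall_ker.hall.le_of_normal hF.normalIn.norm hUL (piGrp_iff.2 fun q hq hd => ?_)
  by_contra hqH
  obtain ⟨Z, hZU, hZ⟩ := exists_card_eq_of_dvd_card hq hd
  have hZp : (Nat.card Z).Prime := hZ ▸ hq
  have hreg : Semiregular H Z := hF.semiregular_of_disj (hZU.trans hUL)
    ((piGrp_primesOf H).inf_eq_bot ((piGrp_iff_of_card_prime hq hZ).2 hqH))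
  have hAP : A ≤ piCoreOf {p} H ⊓ M := le_inf (nil_pgroup_le_core hn hAH hA) hAM
  have hPH : piCoreOf {p} H ⊓ M ≤ H := inf_le_left.trans (piCoreOf_le _ _)
  have hPU : piCoreOf {p} H ⊓ M ≤ U := hU ▸ inf_le_inf_right M ((piCoreOf_le _ _).trans hF.left_le)
  have hfr : Frob (piCoreOf {p} H ⊓ M) Z (piCoreOf {p} H ⊓ M ⊔ Z) :=
    (hreg.mono_left hPH).frob
      (norms_inf (norms_piCoreOf _ ((hZU.trans hUL).trans hF.normalIn.norm))
        (le_norm_of_le (hZU.trans h.U_le)))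
      (ne_bot_of_mem (hAP hx) hx1) (ne_bot_of_card_prime hZp)
  have hPZ : piCoreOf {p} H ⊓ M ⊔ Z ≤ U := sup_le hPU hZU
  by_cases hc : fittingHallOf M ⊓ 𝐂(Z) = ⊥
  · exact hAK (hAP.trans (wielandt_frob_cent hfr (solvable_of_le (solvable_of_nil hn) hPH)
      (hPZ.trans h.sdp.norm) (coprime_card_mono h.coprime le_rfl hPZ)
      (solvable_of_nil (fcore_nilpotent M)) hc))
  · obtain ⟨y, hy, hy1⟩ := exists_ne_one_of_ne_bot hc
    obtain ⟨y', hy', hy1'⟩ := exists_ne_one_of_ne_bot hKx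
    have hZ1 : Z ≤ U₁ := (le_inf hZU (le_cent1_iff.2 hy.2)).trans (h.cent_le y hy.1 hy1)
    have hx1' : x ∈ U₁ := h.cent_le y' hy'.1 hy1' ⟨hPU (hAP hx), mem_cent1_comm.1 hy'.2⟩
    obtain ⟨z, hz, hz1⟩ := exists_ne_one_of_ne_bot (ne_bot_of_card_prime hZp)
    exact hx1 (hreg.eq_one hz hz1 (hAH hx)
      (cent_le_cent1 (hZ1 hz) (le_cent_of_comm h.U₁_comm hx1')))

end TypeFWith

/-- a group of Frobenius type is a Frobenius group unless it has `p`-rank at least two for some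
prime `p` not dividing the order of `M_F` -/
theorem frob_or_elemN (h : IsOfTypeF M) : (∃ E : Subgroup G, Frob (fittingHallOf M) E M) ∨
    ∃ p : ℕ, p.Prime ∧ ¬ p ∣ Nat.card (fittingHallOf M) ∧ ∃ A, ElemN p 2 M A := by
  obtain ⟨U, U₁, U₀, h⟩ := isOfTypeF_iff_exists.1 h
  by_cases hZ : IsZGroup U
  · exact Or.inl ⟨U, h.frob_of_isZGroup hZ⟩
  · rw [isZGroup_iff_forall] at hZ
    push Not at hZ
    obtain ⟨p, hp, P, hP, hle, hc⟩ := hZ
    obtain ⟨A, hA⟩ := exists_elemN_two_of_not_isCyclic hp hP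
      (odd_card_of_le h.odd (hle.trans h.U_le)) hc
    refine Or.inr ⟨p, hp, fun hd => hp.one_lt.ne' ?_, A, hA.mono (hle.trans h.U_le)⟩
    exact Nat.eq_one_of_dvd_coprimes h.coprime hd ((hA.mono hle).dvd_card' two_pos)

theorem prime_lt_of_dvd_sq_sub_one (hp : p.Prime) (hq : q.Prime) (hp2 : p ≠ 2) (hq2 : q ≠ 2)
    (h : q ∣ p ^ 2 - 1) : q < p := by
  have h2 := hp.two_le
  have e : p ^ 2 - 1 = (p + 1) * (p - 1) := by simpa using Nat.sq_sub_sq p 1
  rw [e] at h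
  rcases hq.dvd_mul.1 h with h | h
  · have h3 : 2 * q ∣ p + 1 := Nat.Coprime.mul_dvd_of_dvd_of_dvd
      ((Nat.coprime_primes Nat.prime_two hq).2 hq2.symm) (hp.odd_of_ne_two hp2).add_one.two_dvd h
    have := Nat.le_of_dvd (by omega) h3
    omega
  · have := Nat.le_of_dvd (by omega) h
    omega

/-- the arithmetic step of (12.10) -/
theorem TypeI.lt_of_not_TI (h : TypeI L) (hTI : ¬ IsTISubset (fittingHallOf L : Set G))
    (hp : p.Prime) (hA : ElemN p 2 (fittingHallOf L) A) (hq : q.Prime) (hqL : q ∣ Nat.card L)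
    (hqH : ¬ q ∣ Nat.card (fittingHallOf L)) : q < p := by
  obtain ⟨U, U₁, U₀, hF⟩ := isOfTypeF_iff_exists.1 h.1
  have hqU : q ∣ Nat.card U := by
    rw [← hF.sdp.card] at hqL
    exact (hq.dvd_mul.1 hqL).resolve_left hqH
  have hq0 := hF.dvd_card_U₀ hq hqU
  have hpH := hA.dvd_card' two_pos
  have hodd : ∀ r : ℕ, r ∣ Nat.card L → r ≠ 2 := fun r hr e =>
    (Nat.not_even_iff_odd.2 hF.odd) (even_iff_two_dvd.2 (e ▸ hr))
  refine prime_lt_of_dvd_sq_sub_one hp hq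
    (hodd p (hpH.trans (card_dvd_of_le (fcore_le L)))) (hodd q hqL) ?_
  rcases h.2 with h2 | ⟨hc, hr, -⟩ | ⟨he, -⟩
  · exact absurd h2 hTI
  · have hAe := hA.eq_omegaOne_of_comm hp hc ((pRank_le_rank hp _).trans (rank_le_iff.2 hr))
    have := (hF.reg.mono_left hA.le).card_dvd_pred
      (hAe ▸ norms_omegaOne p (hF.U₀_le.trans hF.sdp.norm))
    rw [hA.card] at this
    exact hq0.trans this
  · have h1 := he p hp hpH
    rw [exponent_quot_fcore_eq hF.sdp, ← hF.card_U₀] at h1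
    have e : p ^ 2 - 1 = (p + 1) * (p - 1) := by simpa using Nat.sq_sub_sq p 1
    rw [e]
    exact (hq0.trans h1).mul_left _

theorem card_lines (hp : p.Prime) (hT : ElemN p 2 H T) :
    Nat.card {X : Subgroup G // ElemN p 1 T X} = p + 1 := by
  have := Fact.mk hp
  rw [← CL.PGrp.Chain.card_subgroups_of_card_sq hT.card (hT.not_isCyclic hp le_rfl)]
  refine Nat.card_congr
    { toFun := fun X => ⟨X.1.subgroupOf T, by
        rw [Nat.card_congr (subgroupOfEquivOfLe X.2.le).toEquiv, X.2.card_one]⟩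
      invFun := fun Y => ⟨Y.1.map T.subtype, elemN_one_of_card hp (map_subtype_le _) (by
        rw [card_map_of_injective T.subtype_injective, Y.2])⟩
      left_inv := fun X => Subtype.ext (map_subgroupOf_eq_of_le X.2.le)
      right_inv := fun Y => Subtype.ext (comap_map_eq_self_of_injective T.subtype_injective _) }

theorem card_dvd_of_free_lines (hp : p.Prime) (hT : ElemN p 2 H T) (hn : E ≤ 𝐍(T))
    (hfree : ∀ X, ElemN p 1 T X → E ⊓ 𝐍(X) = ⊥) : Nat.card E ∣ p + 1 := by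
  let : MulAction E {X : Subgroup G // ElemN p 1 T X} :=
    { smul := fun e X => ⟨cj e X.1, X.2.cj_of_mem_norm (hn e.2)⟩
      one_smul := fun X => Subtype.ext (cj_one _)
      mul_smul := fun a b X => Subtype.ext (cj_mul _ _ _) }
  rw [← card_lines hp hT, Nat.card_congr (MulAction.selfEquivOrbitsQuotientProd (G := E)
    (X := {X : Subgroup G // ElemN p 1 T X}) (fun X => eq_bot_iff.2 fun e he => ?_)), Nat.card_prod]
  · exact Dvd.intro_left _ rfl
  · have h1 : cj (e : G) X.1 = X.1 := congrArg Subtype.val (MulAction.mem_stabilizer_iff.1 he)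
    have h2 : (e : G) ∈ E ⊓ 𝐍(X.1) := ⟨e.2, cj_eq_iff_mem_norm.1 h1⟩
    rw [hfree X.1 X.2] at h2
    exact Subtype.ext h2

/-- (12.12) -/
theorem two_mul_card_le_of_elemN (hp : p.Prime) (hp2 : p ≠ 2) (hT : ElemN p 2 H T) (hn : E ≤ 𝐍(T))
    (hreg : Semiregular T E) (hodd : Odd (Nat.card E)) (hx : x ∈ T)
    (hNx : E ⊓ 𝐍(zpowers x) = ⊥) : 2 * Nat.card E ≤ p + 1 := by
  have hpo := hp.odd_of_ne_two hp2
  by_cases h : ∃ X, ElemN p 1 T X ∧ E ≤ 𝐍(X)
  · obtain ⟨X, hX, hEX⟩ := h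
    have := (hreg.mono_left hX.le).two_mul_card_lt hEX (hX.ne_bot hp one_pos)
      (by rw [hX.card_one]; exact hpo) hodd
    rw [hX.card_one] at this
    omega
  have hT1 := hT.ne_bot hp two_pos
  have hcomm : IsMulCommutative E := by
    rw [comm_iff_le_cent, ← commutator_eq_bot_iff', eq_bot_iff, ← hreg.inf_cent_eq_bot' le_rfl hT1]
    refine le_inf (NormalIn.der E).le (t2_6a hp hT.elem hT.card.dvd hn hodd fun hd => ?_)
    exact hp.one_lt.ne' (Nat.eq_one_of_dvd_coprimes (hreg.coprime hn) (hT.dvd_card two_pos) hd)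
  have hdvd : Nat.card E ∣ p + 1 := by
    refine card_dvd_of_free_lines hp hT hn fun X hX => eq_bot_iff.2 ?_
    rintro y ⟨hyE, hyX⟩
    obtain ⟨a, ha, ha1, -, hXa⟩ := hX.exists_zpowers hp
    obtain ⟨i, hi⟩ : y * a * y⁻¹ ∈ zpowers a := hXa ▸ conj_mem_of_mem_norm hyX ha
    let S : Subgroup G :=
      { carrier := {t | t ∈ T ∧ y * t * y⁻¹ = t ^ i}
        one_mem' := ⟨one_mem _, by simp⟩
        mul_mem' := fun {s t} hs ht => ⟨mul_mem hs.1 ht.1, by
          have hc : Commute s t := (mem_cent.1 (hT.le_cent ht.1) s hs.1)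
          rw [hc.mul_zpow, ← hs.2, ← ht.2]; group⟩
        inv_mem' := fun {t} ht => ⟨inv_mem ht.1, by rw [inv_zpow, ← ht.2]; group⟩ }
    have hST : S ≤ T := fun _ ht => ht.1
    have hES : E ≤ 𝐍(S) := fun e he => mem_norm_of_cj_le (cj_le_iff.2 fun t ht =>
      ⟨conj_mem_of_mem_norm (hn he) ht.1, by
        have hc : e * y = y * e := mem_cent.1 (le_cent_of_comm hcomm hyE) e he
        rw [conj_zpow, ← ht.2]
        calc y * (e * t * e⁻¹) * y⁻¹ = (y * e) * t * (y * e)⁻¹ := by group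
          _ = e * (y * t * y⁻¹) * e⁻¹ := by rw [← hc]; group⟩)
    have hS : S = T := by
      by_contra hne
      exact h ⟨S, hT.one_of_two hp hST (ne_bot_of_mem (x := a) ⟨hX.le ha, hi.symm⟩ ha1) hne, hES⟩
    have hxS : x ∈ S := hS ▸ hx
    rw [← hNx]
    refine ⟨hyE, mem_norm_of_cj_le ?_⟩
    rw [cj_zpowers, hxS.2]
    exact zpowers_le_of_mem (zpow_mem (mem_zpowers x) i)
  exact Nat.le_of_dvd (Nat.succ_pos p)
    (Nat.Coprime.mul_dvd_of_dvd_of_dvd hodd.coprime_two_left hpo.add_one.two_dvd hdvd)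

/-- (12.12), applied to `Ω₁(Z(O_p(H)))` -/
theorem Frob.two_mul_card_le (hF : Frob H E L) (hn : Group.IsNilpotent H)
    (hodd : Odd (Nat.card L)) (hp : p.Prime) (hA : ElemN p 2 M A) (hr : pRank p M ≤ 2)
    (hAH : A ≤ H) (hx : x ∈ A) (hx1 : x ≠ 1) (hNx : 𝐍(zpowers x) ≤ M) (hLM : L ⊓ M ≤ H) :
    2 * Nat.card E ≤ p + 1 := by
  have := Fact.mk hp
  have hAP : A ≤ piCoreOf {p} H := nil_pgroup_le_core hn hAH hA.isPGroup
  have hc : omegaOne p 𝐙(piCoreOf {p} H) ≤ 𝐂(A) :=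
    (omegaOne_center_le_cent p _).trans (cent_anti hAP)
  have hTA : omegaOne p 𝐙(piCoreOf {p} H) ≤ A :=
    (hA.maxElem_of_pRank_le' hp hr).le_of_elemAb (elemAb_omegaOne_center p _)
      (((hc.trans (cent_anti (zpowers_le_of_mem hx))).trans (cent_le_norm _)).trans hNx) hc
  have hT1 : omegaOne p 𝐙(piCoreOf {p} H) ≠ ⊥ :=
    omegaOne_center_ne_bot hp (isPGroup_piCoreOf hp H) (ne_bot_of_mem (hAP hx) hx1)
  have hET : E ≤ 𝐍(omegaOne p 𝐙(piCoreOf {p} H)) :=
    (norms_piCoreOf _ hF.norm).trans (norm_le_norm_omegaOne_center p _)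
  have hoE := odd_card_of_le hodd hF.right_le
  have hpo : Odd p := hodd.of_dvd_nat
    ((hA.dvd_card two_pos).trans (card_dvd_of_le (hAH.trans hF.left_le)))
  by_cases e : omegaOne p 𝐙(piCoreOf {p} H) = A
  · rw [e] at hET
    refine two_mul_card_le_of_elemN hp (by rintro rfl; exact absurd hpo (by decide)) hA hET
      (hF.reg.mono_left hAH) hoE hx (eq_bot_iff.2 ?_)
    rw [← hF.disj]
    exact le_inf ((inf_le_inf hF.right_le hNx).trans hLM) inf_le_left
  · have hX := hA.one_of_two hp hTA hT1 e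
    have := (hF.reg.mono_left (hTA.trans hAH)).two_mul_card_lt hET hT1
      (by rw [hX.card_one]; exact hpo) hoE
    rw [hX.card_one] at this
    omega

/-- the index of the derived subgroup of a group with a fixed point free automorphism of odd
prime order -/
theorem five_le_relIndex_der (hK : Group.IsSolvable K) (hne : K ≠ ⊥) (hodd : Odd (Nat.card K))
    (hp : p.Prime) (hp2 : p ≠ 2) {a : G} (ha : a ∈ 𝐍(K)) (ho : orderOf a = p)
    (hc : K ⊓ 𝐂₁(a) = ⊥) : 5 ≤ ⁅K, K⁆.relIndex K := by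
  have hcard : Nat.card (zpowers a) = p := by rw [Nat.card_zpowers, ho]
  have hreg : Semiregular K (zpowers a) :=
    semiregular_of_card_prime (hcard ▸ hp) (by rw [cent_zpowers, hc])
  have hn : zpowers a ≤ 𝐍(K) := zpowers_le_of_mem ha
  have h1 := hreg.card_modEq hn
  have h2 := (hreg.mono_left (NormalIn.der K).le).card_modEq (norms_der hn)
  rw [hcard] at h1 h2
  have h3 : Nat.card ↥⁅K, K⁆ * ⁅K, K⁆.relIndex K = Nat.card K := by
    rw [← Nat.card_congr (subgroupOfEquivOfLe (NormalIn.der K).le).toEquiv]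
    exact card_mul_index _
  have h4 : ⁅K, K⁆.relIndex K ≡ 1 [MOD p] := by
    have := (h2.mul_right (⁅K, K⁆.relIndex K)).symm
    rw [h3, one_mul] at this
    exact this.trans h1
  have h5 : ⁅K, K⁆.relIndex K ≠ 1 := fun e =>
    (der_lt_of_solvable hK hne).not_ge (relIndex_eq_one.1 e)
  have h6 : Odd (⁅K, K⁆.relIndex K) := hodd.of_dvd_nat (Dvd.intro_left _ h3)
  have h7 := relIndex_pos ⁅K, K⁆ K
  have h8 := Nat.le_of_dvd (by omega) ((Nat.modEq_iff_dvd' h7).1 h4.symm)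
  have h9 := hp.two_le
  obtain ⟨k, hk⟩ := h6
  omega

end CL.BG
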