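import Cfsg.Agent.PF.A12_Num
import Cfsg.Agent.PF.A12_Grp
import Cfsg.Agent.PF.One

/-!
# Peterfalvi (12.1), (12.2.a) for a subgroup of weak type I
-/

set_option autoImplicit false

namespace CL.PF

open Cfsg CL.BG CL.Char

variable {G : Type*} [Group G] {M : Subgroup G}

theorem map_commutator_subtype_subtype (K : Subgroup M) :
    (commutator K).map (M.subtype.comp K.subtype) = ⁅K.map M.subtype, K.map M.subtype⁆ := by
  rw [commutator_def, Subgroup.map_commutator, ← Subgroup.map_map, ← MonoidHom.range_eq_map,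
    Subgroup.range_subtype]

theorem mem_commutator_iff_coe {K : Subgroup M} {y : K} :
    y ∈ commutator K ↔ ((y : M) : G) ∈ ⁅K.map M.subtype, K.map M.subtype⁆ := by
  rw [← map_commutator_subtype_subtype]
  exact (Subgroup.mem_map_iff_mem (f := M.subtype.comp K.subtype)
    (M.subtype_injective.comp K.subtype_injective)).symm

theorem index_commutator_eq_relIndex (K : Subgroup M) :
    (commutator K).index = ⁅K.map M.subtype, K.map M.subtype⁆.relIndex (K.map M.subtype) := by
  rw [← map_commutator_subtype_subtype, ← Subgroup.relIndex_top_right,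
    ← Subgroup.relIndex_map_map_of_injective (f := M.subtype.comp K.subtype) _ _
      (M.subtype_injective.comp K.subtype_injective), ← Subgroup.map_map ⊤,
    ← MonoidHom.range_eq_map, Subgroup.range_subtype]

variable [Finite G] [Fintype M]

/-- (8.2.c), (1.7.c): the characters induced from `M_F` have no multiple constituent -/
theorem typeF_decomp (h : IsOfTypeF M) {θ : fittingHall M → ℂ}
    (hθ : IsIrrCharacter (fittingHall M) θ) (hθ1 : θ ≠ fun _ => 1) :
    ∃ C : Finset (M → ℂ), (∀ φ ∈ C, IsIrrCharacter M φ) ∧ indFun (fittingHall M) θ = ∑ φ ∈ C, φ := by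
  classical
  obtain ⟨U, U₁, U₀, h⟩ := isOfTypeF_iff_exists.1 h
  have := (fittingHall_spec M).1
  have := Fintype.ofFinite (fittingHall M)
  have hle : inertia (fittingHall M) θ ≤ (fittingHallOf M ⊔ U₁).subgroupOf M :=
    inertia_le_of_cent_le _ (fun n hn hn1 y hy => h.inf_cent1_le (mem_fcore_iff.2 hn)
      (fun e => hn1 (Subtype.ext e)) ⟨y.2, mem_cent1.2 (congrArg Subtype.val (mem_cent1.1 hy))⟩)
      hθ hθ1
  obtain ⟨C, hC, -, e, -⟩ := exists_indFun_eq_sum_of_coprime (fittingHall M) hθ
    (fun x hx y hy => mem_fcore_iff.1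
      (h.der_sup_le (Subgroup.commutator_mem_commutator (hle hx) (hle hy))))
    ((fittingHall_coprime M).coprime_dvd_right (Subgroup.relIndex_dvd_index_of_normal _ _))
  exact ⟨C, fun φ hφ => ((hC φ).1 hφ).1, e⟩

theorem hyp12_of_typeI {R : G → Subgroup G} (hI : TypeI M) (hD : DadeHypothesis (ftA M) M R)
    (htriv : ∀ a ∈ ftA M, a ∉ typeA1 M → R a = ⊥) :
    Hyp12 M (fittingHall M) (typeA1 M) (ftA M) R where
  dade₀ := hD
  normal := (fittingHall_spec M).1
  subset := fun x hx => by
    rw [BG.mem_typeA1, typeCore_of_typeF hI.1] at hx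
    rw [ftA_of_typeI hI]
    exact ⟨fcore_le M hx.1, hx.2, x, hx.1, hx.2, rfl⟩
  mem_iff := fun x => by
    rw [BG.mem_typeA1, typeCore_of_typeF hI.1, mem_fcore_iff]
    simp
  odd := hI.1.2.1
  supp_irr := fun φ hφ x hx1 hx => by
    have := (fittingHall_spec M).1
    refine irr_eq_zero_of_cent (fittingHall M) hφ.1 (fun hk => ?_) fun y hy hc => ?_
    · obtain ⟨y, hy, hne⟩ := hφ.2
      exact hne (hk y hy)
    · by_contra hy1
      refine hx ?_
      rw [ftA_of_typeI hI]
      exact ⟨x.2, fun e => hx1 (Subtype.ext e), y, mem_fcore_iff.2 hy,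
        fun e => hy1 (Subtype.ext e), (congrArg Subtype.val hc).symm⟩
  decomp := fun _ hθ hθ1 => typeF_decomp hI.1 hθ hθ1
  triv := htriv

end CL.PF
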