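import Cfsg.Agent.PF.A12_Char
import Cfsg.Agent.Char.Congr

/-!
# Peterfalvi (12.14) to (12.16), in abstract form
-/

set_option autoImplicit false

namespace CL.PF

open Cfsg CL.Char

theorem twelve_a_eq_zero {a : ℤ} {e h p : ℕ} (he : 3 ≤ e) (h2 : 2 * e ≤ p + 1) (hh : p ^ 2 ≤ h)
    (hb : (a : ℝ) ^ 2 * ((h : ℝ) - 1) / e ≤ e - 1 + 2 * a) : a = 0 := by
  by_contra ha
  have he0 : (0 : ℝ) < e := by exact_mod_cast (by omega : 0 < e)
  rw [div_le_iff₀ he0] at hb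
  have hb' : a ^ 2 * ((h : ℤ) - 1) ≤ ((e : ℤ) - 1 + 2 * a) * e := by exact_mod_cast hb
  have h3 : (3 : ℤ) ≤ e := by exact_mod_cast he
  have h4 : 2 * (e : ℤ) - 1 ≤ p := by omega
  have h5 : (p : ℤ) ^ 2 ≤ h := by exact_mod_cast hh
  have h6 : 4 * (e : ℤ) * (e - 1) ≤ h - 1 := by nlinarith
  have h7 : 1 ≤ a ^ 2 := by
    have := sq_pos_of_ne_zero ha
    omega
  have h8 : a ^ 2 * (4 * (e : ℤ) * (e - 1)) ≤ ((e : ℤ) - 1 + 2 * a) * e :=
    (mul_le_mul_of_nonneg_left h6 (sq_nonneg a)).trans hb'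
  have h9 : a ^ 2 * (4 * ((e : ℤ) - 1)) ≤ e - 1 + 2 * a := by
    refine le_of_mul_le_mul_right ?_ (by omega : (0 : ℤ) < e)
    linarith
  have h10 : a ≤ a ^ 2 := by nlinarith
  nlinarith

theorem twelve_sq_le {m : ℤ} {e p : ℕ} (he : 1 ≤ e) (h2 : 2 * e ≤ p + 1) (hd : (p : ℤ) ∣ m - e) :
    ((e : ℤ) - 1) ^ 2 ≤ m ^ 2 := by
  obtain ⟨k, hk⟩ := hd
  have h1 : (1 : ℤ) ≤ e := by exact_mod_cast he
  have h4 : 2 * (e : ℤ) - 1 ≤ p := by omega
  rcases le_or_gt 0 k with h | h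
  · have : (e : ℤ) ≤ m := by nlinarith
    nlinarith
  · have : m ≤ 1 - (e : ℤ) := by nlinarith
    nlinarith

theorem twelve_final {e h k d c i : ℕ} {s : ℝ} (he : 3 ≤ e) (hk : 5 ≤ k) (hd : 0 < d) (hc : c = k * d)
    (hi : 0 < i) (hih : i ≤ h) (hs : ((e : ℝ) - 1) ^ 2 ≤ s)
    (hle : 1 - (e : ℝ) / h + ((c : ℝ) * i)⁻¹ * (((c : ℝ) - d) * s) ≤ 1) : False := by
  have he' : (3 : ℝ) ≤ e := by exact_mod_cast he
  have hk' : (5 : ℝ) ≤ k := by exact_mod_cast hk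
  have hd' : (0 : ℝ) < d := by exact_mod_cast hd
  have hi' : (0 : ℝ) < i := by exact_mod_cast hi
  have hih' : (i : ℝ) ≤ h := by exact_mod_cast hih
  have hc' : (c : ℝ) = k * d := by exact_mod_cast hc
  have h1 : (e : ℝ) / h ≤ e / i := div_le_div_of_nonneg_left (by linarith) hi' hih'
  have h2 : ((c : ℝ) * i)⁻¹ * (((c : ℝ) - d) * s) = ((k - 1) / k * s) / i := by
    rw [hc']; field_simp
  rw [h2] at hle
  have h3 : ((k : ℝ) - 1) / k * s / i ≤ e / i := by linarith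
  rw [div_le_div_iff_of_pos_right hi'] at h3
  have h4 : (4 : ℝ) / 5 ≤ ((k : ℝ) - 1) / k := by
    rw [div_le_div_iff₀ (by norm_num) (by linarith)]; linarith
  have h5 : (4 : ℝ) / 5 * ((e : ℝ) - 1) ^ 2 ≤ e :=
    (mul_le_mul h4 hs (sq_nonneg _) (by linarith)).trans h3
  nlinarith

variable {G : Type*} [Group G] [Fintype G]

open Classical in
theorem norm_invDade_add_le {A₁ A₂ : Set G} {L₁ L₂ : Subgroup G} [Fintype L₁] [Fintype L₂]
    {R₁ R₂ : G → Subgroup G} (hD₁ : DadeHypothesis A₁ L₁ R₁) (hD₂ : DadeHypothesis A₂ L₂ R₂)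
    (hd : Disjoint (dadeSupp A₁ R₁) (dadeSupp A₂ R₂)) {χ : G → ℂ} (hχ : IsClassFunction G χ) :
    rip (invDade A₁ L₁ R₁ χ) (invDade A₁ L₁ R₁ χ) +
      rip (invDade A₂ L₂ R₂ χ) (invDade A₂ L₂ R₂ χ) ≤ rip χ χ := by
  have h1 := Dade.norm_invDade_le_supp hD₁ hχ
  have h2 := Dade.norm_invDade_le_supp hD₂ hχ
  rw [rip_def, rip_def, rip_def, classInner_self_re χ]
  refine (add_le_add h1 h2).trans ?_
  rw [← mul_add, ← Finset.sum_add_distrib]
  refine mul_le_mul_of_nonneg_left (Finset.sum_le_sum fun g _ => ?_) (by positivity)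
  by_cases e₁ : g ∈ dadeSupp A₁ R₁
  · rw [if_pos e₁, if_neg (Set.disjoint_left.1 hd e₁), add_zero]
  · rw [if_neg e₁, zero_add]
    split_ifs
    · exact le_rfl
    · positivity

variable {L M : Subgroup G} [Fintype L] [Fintype M] {H : Subgroup L} {K : Subgroup M}
  {A A₀ B₁ B : Set G} {R S : G → Subgroup G} {ν : (L → ℂ) → (G → ℂ)} {ζ : L → ℂ}

/-- (12.3) -/
theorem Hyp78.orth12 (hL : Hyp78 L H A A₀ R ν ζ) (hodd : Odd (Nat.card G))
    (hM : Hyp12 M K B₁ B S) (hd : Disjoint (dadeSupp A R) (dadeSupp B₁ S)) :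
    Orth12 M K B S (ν ζ) := by
  refine hM.orth12_of_supp hL.nu_zeta_signed fun g hg => ?_
  have := hL.normal
  have hc := SeqSelf.conj_mem hL.mem
  rw [← hL.toHyp76.nu_conjFun hodd subset_rfl hL.coh hL.mem hc hL.irr,
    ← Hyp76.nu_sub_conj subset_rfl hL.coh hL.mem hc]
  refine hL.toHyp76.tau_eq_zero
    (Char.classFun_sub (SeqSelf.classFun hL.mem) (SeqSelf.classFun hc)) ?_
    (fun h => Set.disjoint_left.1 hd h hg)
  refine hL.toHyp76.supp (fun x hx => ?_) ?_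
  · rw [Pi.sub_apply, SeqSelf.eq_zero hL.mem hx, SeqSelf.eq_zero hc hx, sub_zero]
  · rw [Pi.sub_apply, conjFun_apply, hL.deg]; simp

/-- (12.4) for `ψ = ζ^ν` -/
theorem Hyp78.nu_apply_mul (hL : Hyp78 L H A A₀ R ν ζ) (hodd : Odd (Nat.card G))
    (hM : Hyp12 M K B₁ B S) (hd : Disjoint (dadeSupp A R) (dadeSupp B₁ S)) {x y : M}
    (hx : x ∉ K) (hy : y ∈ K) : ν ζ (x * y) = ν ζ x :=
  hM.apply_mul hL.nu_zeta_signed (hL.orth12 hodd hM hd) hx hy

/-- (12.14), (12.15), (12.16) -/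
theorem twelve_contradiction (hodd : Odd (Nat.card G)) (hL : Hyp78 L H A A₀ R ν ζ)
    (hM : Hyp12 M K B₁ B S) (hd : Disjoint (dadeSupp A R) (dadeSupp B₁ S)) {p : ℕ}
    (hp : p.Prime) {x : G} (hxA : x ∈ A) (hxM : x ∈ M) (hxK : (⟨x, hxM⟩ : M) ∉ K)
    (hxp : x ^ p = 1) (hRx : R x ≤ K.map M.subtype) (he : 3 ≤ H.index)
    (h2 : 2 * H.index ≤ p + 1) (hh : p ^ 2 ≤ Nat.card H)
    (hconst : ∀ g ∈ B₁, ∀ u ∈ S g, ν ζ (g * u) = ν ζ g) {g₀ : K} (hg₀ : g₀ ∉ commutator K)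
    (hc : x * ((g₀ : M) : G) = ((g₀ : M) : G) * x) (hK : 5 ≤ (commutator K).index)
    (hMK : K.index ≤ Nat.card H) : False := by
  classical
  have hs := hL.nu_zeta_signed
  have hgen : IsGeneralizedCharacter G (ν ζ) := hL.nu_gen (mem_zspan hL.mem)
  have ho := hL.orth12 hodd hM hd
  have hxL : x ∈ L := Dade.mem_L hL.toHyp76.dade hxA
  -- (12.14)
  obtain ⟨a, ha⟩ := hL.exists_a
  obtain rfl : a = 0 := twelve_a_eq_zero he h2 hh (hL.a_bound ha)
  have hmul : ∀ y : M, y ∈ K → ν ζ (x * y) = ν ζ x := fun y hy =>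
    hM.apply_mul hs ho (x := ⟨x, hxM⟩) hxK hy
  have hx : ν ζ x = ζ ⟨x, hxL⟩ := by
    have h1 := hL.invDade_nu_zeta ha (x := ⟨x, hxL⟩) hxA
    rw [invDade_eq_of_const (a := ⟨x, hxL⟩) hxA (fun u hu => by
      obtain ⟨y, hy, rfl⟩ := hRx hu
      exact hmul y hy)] at h1
    simpa using h1
  -- (12.15)
  have hrho : ∀ y : K, y ∉ commutator K → invDade B₁ M S (ν ζ) y = ν ζ ((y : M) : G) := by
    intro y hy
    have hy1 : (y : M) ≠ 1 := fun e => hy (by
      rw [show y = 1 from Subtype.ext e]; exact one_mem _)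
    have hB := (hM.mem_iff y).2 ⟨y.2, hy1⟩
    exact invDade_eq_of_const hB (hconst _ hB)
  have hcst : ∀ y : K, y ∉ commutator K → ν ζ ((y : M) : G) = ν ζ ((g₀ : M) : G) := by
    intro y hy
    rw [← hrho y hy, ← hrho g₀ hg₀]
    exact hM.invDade_eq hs ho hy hg₀
  obtain ⟨m, hm⟩ : ∃ m : ℤ, ν ζ ((g₀ : M) : G) = m := by
    refine gen_exists_int_of_forall_pow hgen (orderOf_pos g₀).ne' (by simp) fun k hk => ?_
    refine hcst (g₀ ^ k) fun hmem => hg₀ ?_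
    obtain ⟨j, hj⟩ := exists_pow_eq_self_of_coprime hk
    rw [← hj]
    exact pow_mem hmem j
  have hdvd : (p : ℤ) ∣ m - H.index := by
    have hε := Complex.isPrimitiveRoot_exp p hp.ne_zero
    obtain ⟨ω₁, hω₁, e₁⟩ := gen_exists_sub_eq_one_sub_mul hgen hc hp.ne_zero hxp hε
    obtain ⟨ω₂, hω₂, e₂⟩ := gen_exists_sub_eq_one_sub_mul (gen_of_irr hL.irr)
      (x := ⟨x, hxL⟩) (y := 1) (by simp) hp.ne_zero (Subtype.ext hxp) hε
    refine prime_dvd_of_eq_one_sub_mul (a := 1) hp (by rw [pow_one]; exact hε.pow_eq_one)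
      (hω₂.sub hω₁) ?_
    rw [hmul _ g₀.2, hx, hm] at e₁
    rw [mul_one, hL.deg] at e₂
    push_cast
    linear_combination e₂ - e₁
  have hsq : ((H.index : ℝ) - 1) ^ 2 ≤ (m : ℝ) ^ 2 := by
    exact_mod_cast twelve_sq_le (by omega) h2 hdvd
  -- (12.16)
  have hp2 := hp.two_le
  have hb : 2 * H.index + 1 ≤ Nat.card H := by nlinarith
  have hlowL := hL.norm_invDade_nu_zeta_ge hb
  have hsum := norm_invDade_add_le hL.toHyp76.dade hM.toHyp76.dade hd (gen_isClassFunction hgen)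
  rw [rip_eq_one_of hL.nu_zeta_norm] at hsum
  have hlowM : ((Nat.card K : ℝ) * K.index)⁻¹ *
      (((Nat.card K : ℝ) - Nat.card (commutator K)) * (m : ℝ) ^ 2) ≤
      rip (invDade B₁ M S (ν ζ)) (invDade B₁ M S (ν ζ)) := by
    rw [rip_def, classInner_self_re, ← Nat.cast_mul, K.card_mul_index]
    refine mul_le_mul_of_nonneg_left ?_ (by positivity)
    set T : Finset K := Finset.univ.filter fun y => y ∉ commutator K with hT
    have hcard : (T.card : ℝ) = (Nat.card K : ℝ) - Nat.card (commutator K) := by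
      have := Finset.card_filter_add_card_filter_not (s := (Finset.univ : Finset K))
        (fun y => y ∈ commutator K)
      rw [Finset.card_univ, ← Nat.card_eq_fintype_card, ← Fintype.card_subtype,
        ← Nat.card_eq_fintype_card] at this
      rw [eq_sub_iff_add_eq, add_comm]
      exact_mod_cast this
    calc ((Nat.card K : ℝ) - Nat.card (commutator K)) * (m : ℝ) ^ 2
        = ∑ y ∈ T, ‖invDade B₁ M S (ν ζ) y‖ ^ 2 := by
          rw [← hcard, ← nsmul_eq_mul, ← Finset.sum_const]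
          refine Finset.sum_congr rfl fun y hy => ?_
          have hy' := (Finset.mem_filter.1 hy).2
          rw [hrho y hy', hcst y hy', hm, Complex.norm_intCast, sq_abs]
      _ = ∑ y ∈ T.map (Function.Embedding.subtype _), ‖invDade B₁ M S (ν ζ) y‖ ^ 2 := by
          rw [Finset.sum_map]; rfl
      _ ≤ _ := Finset.sum_le_sum_of_subset_of_nonneg (Finset.subset_univ _) fun _ _ _ => by
          positivity
  refine twelve_final he hK (Nat.card_pos (α := commutator K))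
    ((commutator K).index_mul_card).symm (Nat.pos_of_ne_zero K.index_ne_zero_of_finite) hMK hsq ?_
  linarith

end CL.PF
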