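import Cfsg.Agent.Base
import Cfsg.Agent.S1546

/-!
# Peterfalvi section 13: the arithmetic of (13.11), (13.12), (13.13), (13.15)
-/

set_option autoImplicit false

namespace CL.PF

/-- The number `m` of (13.10). -/
noncomputable def m13 (p q : ℕ) : ℝ :=
  1 - 1 / ((q : ℝ) - 1) - ((q : ℝ) - 1) / (q : ℝ) ^ p + 1 / (((q : ℝ) - 1) * (q : ℝ) ^ p)

theorem m13_gt {p q : ℕ} (hp : 3 ≤ p) (hq : 3 ≤ q) :
    1 - 1 / ((q : ℝ) - 1) - 1 / (q : ℝ) ^ 2 < m13 p q := by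
  have hq' : (3 : ℝ) ≤ q := by exact_mod_cast hq
  have hq0 : (0 : ℝ) < q := by linarith
  have h1 : (0 : ℝ) < 1 / (((q : ℝ) - 1) * (q : ℝ) ^ p) := by
    apply one_div_pos.mpr
    apply mul_pos (by linarith) (pow_pos hq0 _)
  have h2 : ((q : ℝ) - 1) / (q : ℝ) ^ p ≤ 1 / (q : ℝ) ^ 2 := by
    rw [div_le_div_iff₀ (pow_pos hq0 _) (pow_pos hq0 _), one_mul]
    have : (q : ℝ) ^ 3 ≤ (q : ℝ) ^ p := pow_le_pow_right₀ (by linarith) hp
    nlinarith [sq_nonneg (q : ℝ)]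
  unfold m13
  linarith

theorem m13_lt_one (p : ℕ) {q : ℕ} (hq : 3 ≤ q) : m13 p q < 1 := by
  have hq' : (3 : ℝ) ≤ q := by exact_mod_cast hq
  have hq0 : (0 : ℝ) < q := by linarith
  have h1 : (0 : ℝ) < ((q : ℝ) - 1) / (q : ℝ) ^ p := div_pos (by linarith) (pow_pos hq0 _)
  have h2 : 1 / (((q : ℝ) - 1) * (q : ℝ) ^ p) ≤ 1 / ((q : ℝ) - 1) := by
    apply one_div_le_one_div_of_le (by linarith)
    have : (1 : ℝ) ≤ (q : ℝ) ^ p := one_le_pow₀ (by linarith)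
    nlinarith
  unfold m13
  linarith

/-- (13.11.a) -/
theorem m13_gt_of_seven_le {p q : ℕ} (hp : 3 ≤ p) (hq : 7 ≤ q) : 8 / 10 < m13 p q := by
  have hq' : (7 : ℝ) ≤ q := by exact_mod_cast hq
  have h := m13_gt hp (show 3 ≤ q by omega)
  have h1 : 1 / ((q : ℝ) - 1) ≤ 1 / 6 := one_div_le_one_div_of_le (by norm_num) (by linarith)
  have h2 : 1 / (q : ℝ) ^ 2 ≤ 1 / 49 := one_div_le_one_div_of_le (by norm_num) (by nlinarith)
  linarith

/-- (13.11.b) -/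
theorem m13_gt_of_five_le {p q : ℕ} (hp : 3 ≤ p) (hq : 5 ≤ q) : 7 / 10 < m13 p q := by
  have hq' : (5 : ℝ) ≤ q := by exact_mod_cast hq
  have h := m13_gt hp (show 3 ≤ q by omega)
  have h1 : 1 / ((q : ℝ) - 1) ≤ 1 / 4 := one_div_le_one_div_of_le (by norm_num) (by linarith)
  have h2 : 1 / (q : ℝ) ^ 2 ≤ 1 / 25 := one_div_le_one_div_of_le (by norm_num) (by nlinarith)
  linarith

theorem sq_lt_three_pow {p : ℕ} (hp : 5 ≤ p) : 3 * p ^ 2 < 3 ^ p := by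
  induction p, hp using Nat.le_induction with
  | base => norm_num
  | succ n hn ih => rw [pow_succ 3 n]; nlinarith

/-- (13.11.c) -/
theorem m13_three {p : ℕ} (hp : 5 ≤ p) : (p : ℝ) ^ 2 - 1 < 2 * (m13 p 3 * (p : ℝ) ^ 2) := by
  have h : (3 : ℝ) * (p : ℝ) ^ 2 < 3 ^ p := by exact_mod_cast sq_lt_three_pow hp
  have h3 : (0 : ℝ) < 3 ^ p := by positivity
  have hm : m13 p 3 = 1 / 2 - 3 / (2 * 3 ^ p) := by
    unfold m13
    push_cast
    field_simp
    ring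
  rw [hm]
  have : 3 * (p : ℝ) ^ 2 / 3 ^ p < 1 := by rwa [div_lt_one h3]
  have e : 2 * ((1 / 2 - 3 / (2 * 3 ^ p)) * (p : ℝ) ^ 2) = p ^ 2 - 3 * (p : ℝ) ^ 2 / 3 ^ p := by
    field_simp
  rw [e]
  linarith

theorem three_le_of_odd_prime {p : ℕ} (hp : p.Prime) (hp2 : p ≠ 2) : 3 ≤ p := by
  have := hp.two_le
  omega

theorem five_le_of_odd_prime {p : ℕ} (hp : p.Prime) (hp2 : p ≠ 2) (hp3 : p ≠ 3) : 5 ≤ p := by
  have := hp.two_le
  have h4 : p ≠ 4 := by rintro rfl; norm_num at hp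
  omega

theorem seven_le_of_odd_prime {p : ℕ} (hp : p.Prime) (hp2 : p ≠ 2) (hp3 : p ≠ 3) (hp5 : p ≠ 5) :
    7 ≤ p := by
  have := five_le_of_odd_prime hp hp2 hp3
  have h6 : p ≠ 6 := by rintro rfl; norm_num at hp
  omega

/-- the consequence of (13.11) used in (13.12) and (13.15) -/
theorem m13_small {p q : ℕ} (hp : p.Prime) (hq : q.Prime) (hp2 : p ≠ 2) (hq2 : q ≠ 2)
    (hpq : p ≠ q) (h : m13 p q * ((2 * q + 1) * ((p : ℝ) - 1)) < q * p) : q = 3 ∧ 5 ≤ p := by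
  have hp3 := three_le_of_odd_prime hp hp2
  by_cases hq3 : q = 3
  · exact ⟨hq3, five_le_of_odd_prime hp hp2 (hq3 ▸ hpq)⟩
  exfalso
  have hq5 := five_le_of_odd_prime hq hq2 hq3
  have hm := m13_gt_of_five_le hp3 hq5
  have hq5' : (5 : ℝ) ≤ q := by exact_mod_cast hq5
  by_cases hp3' : p = 3
  · subst hp3'
    by_cases hq5e : q = 5
    · subst hq5e
      push_cast at h
      linarith
    · have hq7 := seven_le_of_odd_prime hq hq2 hq3 hq5e
      have hm' := m13_gt_of_seven_le hp3 hq7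
      push_cast at h
      nlinarith
  · have hp5 : (5 : ℝ) ≤ p := by exact_mod_cast five_le_of_odd_prime hp hp2 hp3'
    have h1 : (0 : ℝ) < (2 * q + 1) * ((p : ℝ) - 1) := by nlinarith
    have h2 : 7 / 10 * ((2 * q + 1) * ((p : ℝ) - 1)) < q * p := by nlinarith
    nlinarith

/-- If `m p^(q-1) x < u q`, `u (p - 1) ≤ p^q - 1` and `x ≥ 2 q + 1`, then `q = 3`, `p ≥ 5` and
`(p² - 1) x < 6 u`. -/
theorem m13_small' {p q u x : ℕ} (hp : p.Prime) (hq : q.Prime) (hp2 : p ≠ 2) (hq2 : q ≠ 2)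
    (hpq : p ≠ q) (hu : u * (p - 1) ≤ p ^ q - 1) (hx : 2 * q + 1 ≤ x)
    (h : m13 p q * (p : ℝ) ^ (q - 1) * x < u * q) :
    q = 3 ∧ 5 ≤ p ∧ (p ^ 2 - 1) * x < 6 * u := by
  have hp3 := three_le_of_odd_prime hp hp2
  have hq3 := three_le_of_odd_prime hq hq2
  have hp3' : (3 : ℝ) ≤ p := by exact_mod_cast hp3
  have hq3' : (3 : ℝ) ≤ q := by exact_mod_cast hq3
  have hx' : (2 * q + 1 : ℝ) ≤ x := by exact_mod_cast hx
  have hpos : (0 : ℝ) < (p : ℝ) ^ (q - 1) := by positivity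
  have hu' : (u : ℝ) * ((p : ℝ) - 1) < (p : ℝ) ^ (q - 1) * p := by
    have h1 : u * (p - 1) < p ^ q := lt_of_le_of_lt hu (Nat.sub_lt (by positivity) one_pos)
    have h2 : p ^ q = p ^ (q - 1) * p := by rw [← pow_succ]; congr 1; omega
    rw [h2] at h1
    have h3 : ((u * (p - 1) : ℕ) : ℝ) < ((p ^ (q - 1) * p : ℕ) : ℝ) := by exact_mod_cast h1
    rw [Nat.cast_mul, Nat.cast_sub (by omega)] at h3
    push_cast at h3
    exact h3
  have hm0 : 0 < m13 p q := by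
    have h1 := m13_gt hp3 hq3
    have h2 : 1 / ((q : ℝ) - 1) ≤ 1 / 2 := one_div_le_one_div_of_le (by norm_num) (by linarith)
    have h3 : 1 / (q : ℝ) ^ 2 ≤ 1 / 9 := one_div_le_one_div_of_le (by norm_num) (by nlinarith)
    linarith
  have key : m13 p q * ((2 * q + 1) * ((p : ℝ) - 1)) < q * p := by
    have h1 : m13 p q * (p : ℝ) ^ (q - 1) * (2 * q + 1) ≤ m13 p q * (p : ℝ) ^ (q - 1) * x :=
      mul_le_mul_of_nonneg_left hx' (by positivity)
    have h2 : m13 p q * (p : ℝ) ^ (q - 1) * (2 * q + 1) * ((p : ℝ) - 1) < u * q * ((p : ℝ) - 1) :=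
      mul_lt_mul_of_pos_right (lt_of_le_of_lt h1 h) (by linarith)
    have h3 : (u : ℝ) * q * ((p : ℝ) - 1) < (p : ℝ) ^ (q - 1) * p * q := by nlinarith
    have h4 : (p : ℝ) ^ (q - 1) * (m13 p q * ((2 * q + 1) * ((p : ℝ) - 1))) <
        (p : ℝ) ^ (q - 1) * (q * p) := by nlinarith
    exact lt_of_mul_lt_mul_left h4 hpos.le
  obtain ⟨rfl, hp5⟩ := m13_small hp hq hp2 hq2 hpq key
  refine ⟨rfl, hp5, ?_⟩
  have h1 := m13_three hp5
  have h2 : ((p : ℝ) ^ 2 - 1) * x < 6 * u := by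
    norm_num at h
    have hx0 : (0 : ℝ) < x := by linarith
    nlinarith
  have h3 : (((p ^ 2 - 1) * x : ℕ) : ℝ) < ((6 * u : ℕ) : ℝ) := by
    rw [Nat.cast_mul, Nat.cast_sub (Nat.one_le_pow _ _ (by omega))]
    push_cast
    exact h2
  exact_mod_cast h3

theorem two_mul_add_one_le_of_odd {q c : ℕ} (hq : Odd q) (hc : Odd c) (h1 : c ≠ 1)
    (hd : q ∣ c - 1) : 2 * q + 1 ≤ c := by
  obtain ⟨k, hk⟩ := hd
  obtain ⟨a, rfl⟩ := hc
  obtain ⟨b, rfl⟩ := hq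
  have hk' : 2 * a = (2 * b + 1) * k := by omega
  rcases k with _ | _ | k
  · omega
  · omega
  · nlinarith

/-- the arithmetic of (13.12) -/
theorem arith13_12 {p q u c : ℕ} (hp : p.Prime) (hq : q.Prime) (hp2 : p ≠ 2) (hq2 : q ≠ 2)
    (hpq : p ≠ q) (hu : u * (p - 1) ≤ p ^ q - 1) (huo : Odd u) (hco : Odd c) (hc1 : c ≠ 1)
    (hqc : q ∣ c - 1) (hcp : Nat.Coprime c p)
    (h : m13 p q * (p : ℝ) ^ (q - 1) * c < u * q) : Nat.Coprime (p ^ q * c) (q * u) := by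
  have hx := two_mul_add_one_le_of_odd (hq.odd_of_ne_two hq2) hco hc1 hqc
  obtain ⟨rfl, hp5, h6⟩ := m13_small' hp hq hp2 hq2 hpq hu hx h
  obtain ⟨r, rfl⟩ : ∃ r, p = r + 1 := ⟨p - 1, by omega⟩
  have e1 : (r + 1) ^ 3 - 1 = (r ^ 2 + 3 * r + 3) * r := by
    apply Nat.sub_eq_of_eq_add; ring
  have e2 : (r + 1) ^ 2 - 1 = r ^ 2 + 2 * r := by
    apply Nat.sub_eq_of_eq_add; ring
  rw [e1, Nat.add_sub_cancel] at hu
  rw [e2] at h6
  have hu' : u ≤ r ^ 2 + 3 * r + 3 := Nat.le_of_mul_le_mul_right hu (by omega)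
  have hc13 : c < 13 := by
    by_contra hc
    push Not at hc
    nlinarith
  have hc7 : c = 7 := by
    obtain ⟨k, hk⟩ := hqc
    obtain ⟨a, ha⟩ := hco
    omega
  subst hc7
  have hr : r < 7 := by
    by_contra hc
    push Not at hc
    nlinarith
  have hr4 : r = 4 := by
    have h5 : r ≠ 5 := by rintro rfl; norm_num at hp
    have h6 : r ≠ 6 := by rintro rfl; norm_num at hcp
    omega
  subst hr4
  obtain ⟨a, ha⟩ := huo
  have : u = 29 ∨ u = 31 := by omega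
  rcases this with rfl | rfl <;> norm_num

theorem lt_two_pow_pred {q : ℕ} (hq : 5 ≤ q) : 2 * q < 2 ^ (q - 1) := by
  induction q, hq using Nat.le_induction with
  | base => norm_num
  | succ n hn ih =>
    have : 2 ^ (n + 1 - 1) = 2 * 2 ^ (n - 1) := by
      rw [← pow_succ']; congr 1; omega
    omega

/-- the arithmetic of (13.13) -/
theorem arith13_13 {p q u : ℕ} (hp : p.Prime) (hq : q.Prime) (hp2 : p ≠ 2) (hq2 : q ≠ 2)
    (hpq : p ≠ q) (hu : u ∣ ((p - 1) / 2) ^ (q - 1))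
    (h : m13 p q * (p : ℝ) ^ (q - 1) < u * q) : q = 3 ∧ u = ((p - 1) / 2) ^ 2 := by
  have hp3 := three_le_of_odd_prime hp hp2
  obtain ⟨r, rfl⟩ := hp.odd_of_ne_two hp2
  have hr : (2 * r + 1 - 1) / 2 = r := by omega
  rw [hr] at hu ⊢
  have hr0 : 0 < r := by omega
  have hule : u ≤ r ^ (q - 1) := Nat.le_of_dvd (by positivity) hu
  have hq3 : q = 3 := by
    by_contra hq3
    have hq5 := five_le_of_odd_prime hq hq2 hq3
    have hm := m13_gt_of_five_le hp3 hq5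
    have h1 : u * 2 ^ (q - 1) ≤ (2 * r + 1) ^ (q - 1) := by
      calc u * 2 ^ (q - 1) ≤ r ^ (q - 1) * 2 ^ (q - 1) := Nat.mul_le_mul_right _ hule
        _ = (2 * r) ^ (q - 1) := by rw [mul_pow, mul_comm]
        _ ≤ (2 * r + 1) ^ (q - 1) := Nat.pow_le_pow_left (by omega) _
    have h2 : u * (2 * q) ≤ (2 * r + 1) ^ (q - 1) :=
      le_trans (Nat.mul_le_mul_left _ (lt_two_pow_pred hq5).le) h1
    have h3 : (u : ℝ) * (2 * q) ≤ ((2 * r + 1 : ℕ) : ℝ) ^ (q - 1) := by exact_mod_cast h2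
    have hpos : (0 : ℝ) < ((2 * r + 1 : ℕ) : ℝ) ^ (q - 1) := by positivity
    nlinarith
  subst hq3
  refine ⟨rfl, ?_⟩
  have hp5 := five_le_of_odd_prime hp hp2 hpq
  have h1 := m13_three hp5
  norm_num at hu hule h
  have h2 : ((2 * r + 1 : ℕ) : ℝ) ^ 2 - 1 < 6 * u := by push_cast at h1 ⊢; linarith
  have h3 : (2 * r + 1) ^ 2 < 6 * u + 1 := by
    have : (((2 * r + 1) ^ 2 : ℕ) : ℝ) < ((6 * u + 1 : ℕ) : ℝ) := by push_cast at h2 ⊢; linarith
    exact_mod_cast this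
  obtain ⟨k, hk⟩ := hu
  rcases k with _ | _ | k
  · simp at hk; omega
  · omega
  · nlinarith

/-- the arithmetic of (13.15) -/
theorem arith13_15 {p q u : ℕ} (hp : p.Prime) (hq : q.Prime) (hp2 : p ≠ 2) (hq2 : q ≠ 2)
    (hpq : p ≠ q) (hu : u ∣ (p ^ q - 1) / (p - 1)) (huq : Nat.Coprime u q)
    (h : m13 p q * (p : ℝ) ^ (q - 1) < u * q) :
    u = if p % q = 1 then (p ^ q - 1) / (p - 1) / q else (p ^ q - 1) / (p - 1) := by
  obtain ⟨hodd, h1, h2⟩ := Cfsg.Agent.S1546.result p q hp hq hp2 hq2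
  have hp3 := three_le_of_odd_prime hp hp2
  have hq3 := three_le_of_odd_prime hq hq2
  have hdv : p - 1 ∣ p ^ q - 1 := by simpa using Nat.sub_dvd_pow_sub_pow p 1 q
  have hN := Nat.div_mul_cancel hdv
  set N := (p ^ q - 1) / (p - 1) with hNdef
  obtain ⟨x, hx⟩ := hu
  have hxo : Odd x := by rw [hx] at hodd; exact (Nat.odd_mul.mp hodd).2
  have hx0 : 0 < x := hxo.pos
  -- the case `x ≥ 2 q + 1` is impossible
  have big : ¬ 2 * q + 1 ≤ x := by
    intro hb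
    have hx' : (0 : ℝ) < x := by exact_mod_cast hx0
    have h' : m13 p q * (p : ℝ) ^ (q - 1) * x < (N : ℕ) * q := by
      rw [hx]; push_cast; nlinarith
    obtain ⟨rfl, hp5, h6⟩ := m13_small' hp hq hp2 hq2 hpq hN.le hb h'
    have h7 := m13_three hp5
    norm_num at h
    have h8 : p ^ 2 < 6 * u + 1 := by
      have : ((p ^ 2 : ℕ) : ℝ) < ((6 * u + 1 : ℕ) : ℝ) := by push_cast; linarith
      exact_mod_cast this
    obtain ⟨r, rfl⟩ : ∃ r, p = r + 1 := ⟨p - 1, by omega⟩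
    have e1 : (r + 1) ^ 3 - 1 = (r ^ 2 + 3 * r + 3) * r := by
      apply Nat.sub_eq_of_eq_add; ring
    have e2 : (r + 1) ^ 2 - 1 = r ^ 2 + 2 * r := by
      apply Nat.sub_eq_of_eq_add; ring
    rw [e1, Nat.add_sub_cancel] at hN
    have hN' : N = r ^ 2 + 3 * r + 3 := Nat.eq_of_mul_eq_mul_right (by omega) hN
    rw [e2, hN'] at h6
    have hr : r < 7 := by
      by_contra hc
      push Not at hc
      nlinarith
    rw [hN'] at hx
    have h5 : r ≠ 5 := by rintro rfl; norm_num at hp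
    have : r = 4 ∨ r = 6 := by omega
    rcases this with rfl | rfl
    · have h9 : u * (2 * 3 + 1) ≤ u * x := Nat.mul_le_mul_left _ hb
      omega
    · have h9 : u * (2 * 3 + 1) ≤ u * x := Nat.mul_le_mul_left _ hb
      omega
  split_ifs with hm
  · have hqx : q ∣ x := (Nat.Coprime.symm huq).dvd_of_dvd_mul_left (hx ▸ h1 hm)
    obtain ⟨y, rfl⟩ := hqx
    have hy : Odd y := (Nat.odd_mul.mp hxo).2
    have hy1 : y = 1 := by
      obtain ⟨k, rfl⟩ := hy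
      rcases k with _ | k
      · rfl
      · exfalso; apply big; nlinarith
    subst hy1
    rw [hx, mul_one, Nat.mul_div_cancel _ (by omega)]
  · have h3 := (h2 hm).2 x ⟨u, by rw [hx, mul_comm]⟩
    by_cases hx1 : x = 1
    · rw [hx, hx1, mul_one]
    · exfalso
      apply big
      apply two_mul_add_one_le_of_odd (hq.odd_of_ne_two hq2) hxo hx1
      have := Nat.div_add_mod x q
      exact ⟨x / q, by omega⟩

end CL.PF
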