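import Cfsg.Agent.Base

/-!
# The lattice combinatorics behind Peterfalvi (3.5) and (3.8)

Vectors are integer functions on a finite type `B`, with the standard dot product.
-/

open Matrix

namespace CL.PF.Grid

variable {B : Type*} [Fintype B]

theorem dot_self_nonneg (v : B → ℤ) : 0 ≤ v ⬝ᵥ v :=
  Finset.sum_nonneg fun _ _ => mul_self_nonneg _

theorem eq_zero_of_dot_self (v : B → ℤ) (h : v ⬝ᵥ v = 0) : v = 0 := by
  funext b
  have := (Finset.sum_eq_zero_iff_of_nonneg (fun b _ => mul_self_nonneg (v b))).1 h b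
    (Finset.mem_univ b)
  exact mul_self_eq_zero.1 this

theorem sq_le_dot_self (v : B → ℤ) (b : B) : v b * v b ≤ v ⬝ᵥ v :=
  Finset.single_le_sum (f := fun b => v b * v b) (fun _ _ => mul_self_nonneg _) (Finset.mem_univ b)

theorem exists_single_of_unit [DecidableEq B] {x : B → ℤ} (hx : x ⬝ᵥ x = 1) :
    ∃ b s, (s = 1 ∨ s = -1) ∧ x = Pi.single b s := by
  have hx0 : x ≠ 0 := by rintro rfl; simp at hx
  obtain ⟨b, hb⟩ := Function.ne_iff.1 hx0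
  have h1 := sq_le_dot_self x b
  have hb' : x b ≠ 0 := hb
  have h2 : x b = 1 ∨ x b = -1 := by
    have : x b * x b = 1 := by
      have := mul_self_pos.2 hb'
      omega
    exact Int.eq_one_or_neg_one_of_mul_eq_one this
  refine ⟨b, x b, h2, ?_⟩
  have h3 : (x - Pi.single b (x b)) ⬝ᵥ (x - Pi.single b (x b)) = 0 := by
    simp only [sub_dotProduct, dotProduct_sub, dotProduct_single, single_dotProduct, hx]
    rcases h2 with h | h <;> simp [h]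
  exact sub_eq_zero.1 (eq_zero_of_dot_self _ h3)

theorem unit_cases {x y : B → ℤ} (hx : x ⬝ᵥ x = 1) (hy : y ⬝ᵥ y = 1) :
    x = y ∨ x = -y ∨ x ⬝ᵥ y = 0 := by
  classical
  obtain ⟨b, s, hs, rfl⟩ := exists_single_of_unit hx
  obtain ⟨c, t, ht, rfl⟩ := exists_single_of_unit hy
  by_cases hbc : b = c
  · subst hbc
    rcases hs with rfl | rfl <;> rcases ht with rfl | rfl <;> simp [Pi.single_neg]
  · right; right
    simp [hbc]

/-- Two unit vectors on which some vector has coefficients `1` and `0` are orthogonal. -/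
theorem sep {x y : B → ℤ} (v : B → ℤ) (hx : x ⬝ᵥ x = 1) (hy : y ⬝ᵥ y = 1) (h1 : v ⬝ᵥ x = 1)
    (h0 : v ⬝ᵥ y = 0) : x ⬝ᵥ y = 0 := by
  rcases unit_cases hx hy with h | h | h
  · rw [h, h0] at h1; exact absurd h1 (by norm_num)
  · rw [h, dotProduct_neg, h0] at h1; exact absurd h1 (by norm_num)
  · exact h

theorem sep' {x y : B → ℤ} (v : B → ℤ) (hx : x ⬝ᵥ x = 1) (hy : y ⬝ᵥ y = 1) (h0 : v ⬝ᵥ x = 0)
    (h1 : v ⬝ᵥ y = 1) : x ⬝ᵥ y = 0 := by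
  rw [dotProduct_comm]; exact sep v hy hx h1 h0

theorem bessel (xs : List (B → ℤ)) (hu : ∀ x ∈ xs, x ⬝ᵥ x = 1)
    (ho : xs.Pairwise (fun x y => x ⬝ᵥ y = 0)) (v : B → ℤ) :
    (xs.map (fun x => (v ⬝ᵥ x) * (v ⬝ᵥ x))).sum ≤ v ⬝ᵥ v := by
  induction xs generalizing v with
  | nil => simpa using dot_self_nonneg v
  | cons x xs ih =>
    rw [List.pairwise_cons] at ho
    have hx : x ⬝ᵥ x = 1 := hu x (by simp)
    have h1 := ih (fun y hy => hu y (by simp [hy])) ho.2 (v - (v ⬝ᵥ x) • x)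
    have h2 : xs.map (fun y => ((v - (v ⬝ᵥ x) • x) ⬝ᵥ y) * ((v - (v ⬝ᵥ x) • x) ⬝ᵥ y)) =
        xs.map (fun y => (v ⬝ᵥ y) * (v ⬝ᵥ y)) := by
      refine List.map_congr_left fun y hy => ?_
      rw [sub_dotProduct, smul_dotProduct, ho.1 y hy, smul_zero, sub_zero]
    rw [h2] at h1
    simp only [sub_dotProduct, dotProduct_sub, smul_dotProduct, dotProduct_smul, hx,
      smul_eq_mul, dotProduct_comm x v] at h1
    simp only [List.map_cons, List.sum_cons]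
    linarith

theorem natAbs_le_mul_self (c : ℤ) : (c.natAbs : ℤ) ≤ c * c := by
  rw [← Int.natAbs_mul_self' c]
  have : (0 : ℤ) ≤ c.natAbs := Int.natCast_nonneg _
  rcases this.eq_or_lt with h | h
  · rw [← h]; simp
  · nlinarith

theorem bessel_abs (xs : List (B → ℤ)) (hu : ∀ x ∈ xs, x ⬝ᵥ x = 1)
    (ho : xs.Pairwise (fun x y => x ⬝ᵥ y = 0)) (v : B → ℤ) :
    (xs.map (fun x => ((v ⬝ᵥ x).natAbs : ℤ))).sum ≤ v ⬝ᵥ v :=
  le_trans (List.sum_le_sum fun _ _ => natAbs_le_mul_self _) (bessel xs hu ho v)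

theorem coeff_bound {x v : B → ℤ} (hx : x ⬝ᵥ x = 1) (hv : v ⬝ᵥ v ≤ 3) :
    -1 ≤ v ⬝ᵥ x ∧ v ⬝ᵥ x ≤ 1 := by
  have := bessel [x] (by simpa using hx) (by simp) v
  simp only [List.map_cons, List.map_nil, List.sum_cons, List.sum_nil, add_zero] at this
  constructor <;> nlinarith

theorem exists_unit {v : B → ℤ} (h0 : v ⬝ᵥ v ≠ 0) (h3 : v ⬝ᵥ v ≤ 3) :
    ∃ x : B → ℤ, x ⬝ᵥ x = 1 ∧ v ⬝ᵥ x = 1 := by
  classical
  have hv0 : v ≠ 0 := by rintro rfl; simp at h0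
  obtain ⟨b, hb⟩ := Function.ne_iff.1 hv0
  have hb' : v b ≠ 0 := hb
  have h1 := sq_le_dot_self v b
  have h2 : v b * v b = 1 := by
    have h4 : -1 ≤ v b := by nlinarith
    have h5 : v b ≤ 1 := by nlinarith
    have : v b = 1 ∨ v b = -1 := by omega
    rcases this with h | h <;> simp [h]
  exact ⟨Pi.single b (v b), by simp [h2], by simp [h2]⟩

/-- Two vectors of norm three with inner product one and without opposite constituents. -/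
structure Lnk (u v : B → ℤ) : Prop where
  left : u ⬝ᵥ u = 3
  right : v ⬝ᵥ v = 3
  dot : u ⬝ᵥ v = 1
  nonneg : ∀ b, 0 ≤ u b * v b

theorem Lnk.symm {u v : B → ℤ} (h : Lnk u v) : Lnk v u :=
  ⟨h.right, h.left, by rw [dotProduct_comm]; exact h.dot, fun b => by
    rw [mul_comm]; exact h.nonneg b⟩

theorem lnk_of_deg {u v d : B → ℤ} (hd : ∀ b, d b ≠ 0) (hu : u ⬝ᵥ u = 3) (hv : v ⬝ᵥ v = 3)
    (huv : u ⬝ᵥ v = 1) (hdeg : u ⬝ᵥ d = v ⬝ᵥ d) : Lnk u v := by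
  classical
  refine ⟨hu, hv, huv, fun b => ?_⟩
  by_contra hneg
  push Not at hneg
  have h1 := sq_le_dot_self u b
  have h2 := sq_le_dot_self v b
  have h3 : -1 ≤ u b := by nlinarith
  have h4 : u b ≤ 1 := by nlinarith
  have h5 : -1 ≤ v b := by nlinarith
  have h6 : v b ≤ 1 := by nlinarith
  have h7 : (u b - v b) * (u b - v b) = 4 := by
    have : (u b = 1 ∧ v b = -1) ∨ (u b = -1 ∧ v b = 1) := by
      have hu' : u b = 1 ∨ u b = 0 ∨ u b = -1 := by omega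
      have hv' : v b = 1 ∨ v b = 0 ∨ v b = -1 := by omega
      rcases hu' with h | h | h <;> rcases hv' with h' | h' | h' <;> simp_all
    rcases this with ⟨h, h'⟩ | ⟨h, h'⟩ <;> rw [h, h'] <;> norm_num
  have h8 : (u - v - Pi.single b (u b - v b)) ⬝ᵥ (u - v - Pi.single b (u b - v b)) = 0 := by
    simp only [sub_dotProduct, dotProduct_sub, dotProduct_single, single_dotProduct, hu, hv, huv,
      Pi.single_eq_same, dotProduct_comm v u, Pi.sub_apply]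
    linarith
  have h9 : u - v = Pi.single b (u b - v b) := sub_eq_zero.1 (eq_zero_of_dot_self _ h8)
  have h10 : (u - v) ⬝ᵥ d = 0 := by rw [sub_dotProduct, hdeg, sub_self]
  rw [h9, single_dotProduct] at h10
  rcases mul_eq_zero.1 h10 with h | h
  · rw [h] at h7; norm_num at h7
  · exact hd b h

theorem Lnk.coeff_nonneg {u v x : B → ℤ} (h : Lnk u v) (hx : x ⬝ᵥ x = 1) (hu : u ⬝ᵥ x = 1) :
    0 ≤ v ⬝ᵥ x := by
  classical
  obtain ⟨b, s, hs, rfl⟩ := exists_single_of_unit hx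
  have := h.nonneg b
  simp only [dotProduct_single] at hu ⊢
  rcases hs with rfl | rfl
  · have h1 : u b = 1 := by linarith
    rw [h1] at this; linarith
  · have h1 : u b = -1 := by linarith
    rw [h1] at this; linarith

theorem Lnk.exists_common {u v : B → ℤ} (h : Lnk u v) :
    ∃ x : B → ℤ, x ⬝ᵥ x = 1 ∧ u ⬝ᵥ x = 1 ∧ v ⬝ᵥ x = 1 := by
  obtain ⟨x, hx, hux⟩ := exists_unit (v := u) (by rw [h.left]; norm_num) h.left.le
  have n1 : (u - x) ⬝ᵥ (u - x) = 2 := by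
    simp only [sub_dotProduct, dotProduct_sub, h.left, hx, hux, dotProduct_comm x u]; norm_num
  obtain ⟨y, hy, huy⟩ := exists_unit (v := u - x) (by rw [n1]; norm_num) (by rw [n1]; norm_num)
  have hxy : x ⬝ᵥ y = 0 :=
    sep' (u - x) hx hy (by rw [sub_dotProduct, hux, hx, sub_self]) huy
  have huy' : u ⬝ᵥ y = 1 := by rw [sub_dotProduct, hxy, sub_zero] at huy; exact huy
  have hz : (u - x - y) ⬝ᵥ (u - x - y) = 1 := by
    simp only [sub_dotProduct, dotProduct_sub, h.left, hx, hux, hy, huy', hxy,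
      dotProduct_comm x u, dotProduct_comm y u, dotProduct_comm y x]; norm_num
  have huz : u ⬝ᵥ (u - x - y) = 1 := by
    simp only [dotProduct_sub, h.left, hux, huy']; norm_num
  have a1 := h.coeff_nonneg hx hux
  have a2 := h.coeff_nonneg hy huy'
  have a3 := h.coeff_nonneg hz huz
  have a4 : v ⬝ᵥ (u - x - y) = 1 - v ⬝ᵥ x - v ⬝ᵥ y := by
    simp only [dotProduct_sub, h.symm.dot]
  have : v ⬝ᵥ x = 1 ∨ v ⬝ᵥ y = 1 ∨ v ⬝ᵥ (u - x - y) = 1 := by omega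
  rcases this with h1 | h1 | h1
  · exact ⟨x, hx, hux, h1⟩
  · exact ⟨y, hy, huy', h1⟩
  · exact ⟨_, hz, huz, h1⟩

/-- The third constituent of a vector of norm three. -/
theorem third {u x y : B → ℤ} (hu : u ⬝ᵥ u = 3) (hx : x ⬝ᵥ x = 1) (hy : y ⬝ᵥ y = 1)
    (hxy : x ⬝ᵥ y = 0) (hux : u ⬝ᵥ x = 1) (huy : u ⬝ᵥ y = 1) :
    ∃ z : B → ℤ, z ⬝ᵥ z = 1 ∧ u ⬝ᵥ z = 1 ∧ x ⬝ᵥ z = 0 ∧ y ⬝ᵥ z = 0 ∧ u = x + y + z := by
  refine ⟨u - x - y, ?_, ?_, ?_, ?_, by abel⟩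
  · simp only [sub_dotProduct, dotProduct_sub, hu, hx, hux, hy, huy, hxy,
      dotProduct_comm x u, dotProduct_comm y u, dotProduct_comm y x]; norm_num
  · simp only [dotProduct_sub, hu, hux, huy]; norm_num
  · simp only [dotProduct_sub, hx, hxy, hux, dotProduct_comm x u]; norm_num
  · simp only [dotProduct_sub, hy, hxy, huy, dotProduct_comm y u, dotProduct_comm y x]; norm_num

theorem eq_of_three {u x y z : B → ℤ} (hu : u ⬝ᵥ u = 3) (hx : x ⬝ᵥ x = 1) (hy : y ⬝ᵥ y = 1)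
    (hz : z ⬝ᵥ z = 1) (hxy : x ⬝ᵥ y = 0) (hxz : x ⬝ᵥ z = 0) (hyz : y ⬝ᵥ z = 0) (a b c : ℤ)
    (hux : u ⬝ᵥ x = a) (huy : u ⬝ᵥ y = b) (huz : u ⬝ᵥ z = c) (h : a * a + b * b + c * c = 3)
    (w : B → ℤ) : w ⬝ᵥ u = a * (w ⬝ᵥ x) + b * (w ⬝ᵥ y) + c * (w ⬝ᵥ z) := by
  have h0 : (u - a • x - b • y - c • z) ⬝ᵥ (u - a • x - b • y - c • z) = 0 := by
    simp only [sub_dotProduct, dotProduct_sub, smul_dotProduct, dotProduct_smul, smul_eq_mul,
      hu, hx, hux, hy, huy, hxy, hz, huz, hxz, hyz,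
      dotProduct_comm x u, dotProduct_comm y u, dotProduct_comm y x, dotProduct_comm z u,
      dotProduct_comm z x, dotProduct_comm z y]
    linarith
  have h1 : u = a • x + b • y + c • z := by
    have := eq_zero_of_dot_self _ h0
    rw [← sub_eq_zero, ← this]; abel
  conv_lhs => rw [h1]
  simp only [dotProduct_add, dotProduct_smul, smul_eq_mul]

theorem arith1 (c sp tp sq tq sr tr : ℤ) (h1 : 0 = c + sp + tp) (h2 : 0 = c + sq + tq)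
    (h3 : 0 = c + sr + tr) (h7 : (c.natAbs : ℤ) + (sp.natAbs + (tp.natAbs + (sq.natAbs +
      (tq.natAbs + (sr.natAbs + (tr.natAbs + 0)))))) ≤ 3) : c = 0 := by
  omega

theorem arith2 (c sp tp sq tq sr tr e : ℤ) (h1 : 0 = c + sp + tp) (h2 : 0 = c + sq + tq)
    (h3 : 1 = c + sr + tr) (h4 : 0 = sp + sq + sr) (h5 : 1 = sr - tr + e) (h6 : 0 ≤ c)
    (h7 : 0 ≤ sr) (h8 : 0 ≤ tr) (h9 : (c.natAbs : ℤ) + (sp.natAbs + (tp.natAbs + (sq.natAbs +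
      (tq.natAbs + (sr.natAbs + (tr.natAbs + (e.natAbs + 0))))))) ≤ 3) (h10 : e ≤ 1) :
    sr = 1 ∧ ((sq = -1 ∧ tq = 1) ∨ (sp = -1 ∧ tp = 1)) := by
  have : (c = 1 ∧ sr = 0 ∧ tr = 0) ∨ (c = 0 ∧ sr = 1 ∧ tr = 0) ∨ (c = 0 ∧ sr = 0 ∧ tr = 1) := by
    omega
  rcases this with ⟨rfl, rfl, rfl⟩ | ⟨rfl, rfl, rfl⟩ | ⟨rfl, rfl, rfl⟩ <;> omega

section TwoColumns

variable {I : Type*} {a b : I → B → ℤ}

/-- Two columns of the grid. -/
structure TwoCol (a b : I → B → ℤ) : Prop where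
  aa : ∀ {i k}, i ≠ k → Lnk (a i) (a k)
  bb : ∀ {i k}, i ≠ k → Lnk (b i) (b k)
  ab : ∀ i, Lnk (a i) (b i)
  orth : ∀ {i k}, i ≠ k → b i ⬝ᵥ a k = 0

theorem TwoCol.caseII_aux (h : TwoCol a b) {p q r t : I} (hpq : p ≠ q) (hpr : p ≠ r) (hqr : q ≠ r)
    (hpt : p ≠ t) (hqt : q ≠ t) (hrt : r ≠ t) {x ur : B → ℤ} (hx : x ⬝ᵥ x = 1)
    (hpx : a p ⬝ᵥ x = 1) (hqx : a q ⬝ᵥ x = 1) (hrx : a r ⬝ᵥ x = 1) (htx : a t ⬝ᵥ x = 0)
    (hur : ur ⬝ᵥ ur = 1) (hrur : a r ⬝ᵥ ur = 1) (htur : a t ⬝ᵥ ur = 1) (hbur : b t ⬝ᵥ ur = 1) :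
    False := by
  obtain ⟨up, hup, hpup, htup⟩ := (h.aa hpt).exists_common
  obtain ⟨uq, huq, hquq, htuq⟩ := (h.aa hqt).exists_common
  have xup : x ⬝ᵥ up = 0 := sep' (a t) hx hup htx htup
  have xuq : x ⬝ᵥ uq = 0 := sep' (a t) hx huq htx htuq
  have xur : x ⬝ᵥ ur = 0 := sep' (a t) hx hur htx htur
  obtain ⟨vp, hvp, hpvp, xvp, upvp, ep⟩ := third (h.aa hpq).left hx hup xup hpx hpup
  obtain ⟨vq, hvq, hqvq, xvq, uqvq, eq⟩ := third (h.aa hpq).right hx huq xuq hqx hquq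
  obtain ⟨vr, hvr, hrvr, xvr, urvr, er⟩ := third (h.aa hpr).right hx hur xur hrx hrur
  have Ep : ∀ w : B → ℤ, w ⬝ᵥ a p = w ⬝ᵥ x + w ⬝ᵥ up + w ⬝ᵥ vp := fun w => by
    conv_lhs => rw [ep]
    simp only [dotProduct_add]
  have Eq : ∀ w : B → ℤ, w ⬝ᵥ a q = w ⬝ᵥ x + w ⬝ᵥ uq + w ⬝ᵥ vq := fun w => by
    conv_lhs => rw [eq]
    simp only [dotProduct_add]
  have Er : ∀ w : B → ℤ, w ⬝ᵥ a r = w ⬝ᵥ x + w ⬝ᵥ ur + w ⬝ᵥ vr := fun w => by
    conv_lhs => rw [er]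
    simp only [dotProduct_add]
  -- the table of coefficients
  have t1 : a q ⬝ᵥ up = 0 ∧ a q ⬝ᵥ vp = 0 := by
    have h1 := (h.aa hpq).coeff_nonneg hup hpup
    have h2 := (h.aa hpq).coeff_nonneg hvp hpvp
    have h3 := Ep (a q)
    rw [(h.aa hpq.symm).dot] at h3
    omega
  have t2 : a r ⬝ᵥ up = 0 ∧ a r ⬝ᵥ vp = 0 := by
    have h1 := (h.aa hpr).coeff_nonneg hup hpup
    have h2 := (h.aa hpr).coeff_nonneg hvp hpvp
    have h3 := Ep (a r)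
    rw [(h.aa hpr.symm).dot] at h3
    omega
  have t3 : a r ⬝ᵥ uq = 0 ∧ a r ⬝ᵥ vq = 0 := by
    have h1 := (h.aa hqr).coeff_nonneg huq hquq
    have h2 := (h.aa hqr).coeff_nonneg hvq hqvq
    have h3 := Eq (a r)
    rw [(h.aa hqr.symm).dot] at h3
    omega
  have upuq : up ⬝ᵥ uq = 0 := sep' (a q) hup huq t1.1 hquq
  have upvq : up ⬝ᵥ vq = 0 := sep' (a q) hup hvq t1.1 hqvq
  have vpuq : vp ⬝ᵥ uq = 0 := sep' (a q) hvp huq t1.2 hquq
  have vpvq : vp ⬝ᵥ vq = 0 := sep' (a q) hvp hvq t1.2 hqvq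
  have upur : up ⬝ᵥ ur = 0 := sep' (a r) hup hur t2.1 hrur
  have upvr : up ⬝ᵥ vr = 0 := sep' (a r) hup hvr t2.1 hrvr
  have vpur : vp ⬝ᵥ ur = 0 := sep' (a r) hvp hur t2.2 hrur
  have vpvr : vp ⬝ᵥ vr = 0 := sep' (a r) hvp hvr t2.2 hrvr
  have uqur : uq ⬝ᵥ ur = 0 := sep' (a r) huq hur t3.1 hrur
  have uqvr : uq ⬝ᵥ vr = 0 := sep' (a r) huq hvr t3.1 hrvr
  have vqur : vq ⬝ᵥ ur = 0 := sep' (a r) hvq hur t3.2 hrur
  have vqvr : vq ⬝ᵥ vr = 0 := sep' (a r) hvq hvr t3.2 hrvr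
  have Et : ∀ w : B → ℤ, w ⬝ᵥ a t = w ⬝ᵥ up + w ⬝ᵥ uq + w ⬝ᵥ ur := fun w => by
    have := eq_of_three (h.aa hpt).right hup huq hur upuq upur uqur 1 1 1 htup htuq htur
      (by norm_num) w
    linarith
  -- the vector `b t`
  have n3 : ∀ i, b i ⬝ᵥ b i ≤ 3 := fun i => (h.ab i).right.le
  have bt : b t ⬝ᵥ x = 0 ∧ b t ⬝ᵥ up = 0 ∧ b t ⬝ᵥ vp = 0 ∧ b t ⬝ᵥ uq = 0 ∧ b t ⬝ᵥ vq = 0 ∧
      b t ⬝ᵥ vr = -1 := by
    have h1 := Ep (b t)
    have h2 := Eq (b t)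
    have h3 := Er (b t)
    have h4 := Et (b t)
    rw [h.orth hpt.symm] at h1
    rw [h.orth hqt.symm] at h2
    rw [h.orth hrt.symm] at h3
    rw [(h.ab t).symm.dot] at h4
    have h5 := (h.ab t).coeff_nonneg hup htup
    have h6 := (h.ab t).coeff_nonneg huq htuq
    have h7 := bessel_abs [x, up, vp, uq, vq, ur, vr]
      (by simp [hx, hup, hvp, huq, hvq, hur, hvr])
      (by simp [xup, xvp, xuq, xvq, xur, xvr, upvp, upuq, upvq, upur, upvr, vpuq, vpvq, vpur,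
        vpvr, uqvq, uqur, uqvr, vqur, vqvr, urvr]) (b t)
    simp only [List.map_cons, List.map_nil, List.sum_cons, List.sum_nil,
      (h.ab t).right] at h7
    have h8 := arith1 _ _ _ _ _ _ _ h1 h2 h3 h7
    clear h7
    omega
  obtain ⟨bt1, bt2, bt3, bt4, bt5, bt6⟩ := bt
  have hnv : (-vr) ⬝ᵥ (-vr) = 1 := by simpa using hvr
  obtain ⟨w, hw, -, urw, vrw, ew⟩ := third (h.ab t).right hur hnv (by simpa using urvr) hbur
    (by simp [bt6])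
  have Ew : ∀ s : B → ℤ, s ⬝ᵥ b t = s ⬝ᵥ ur - s ⬝ᵥ vr + s ⬝ᵥ w := fun s => by
    conv_lhs => rw [ew]
    simp only [dotProduct_add, dotProduct_neg]; ring
  have vrw' : vr ⬝ᵥ w = 0 := by simpa using vrw
  have xw : x ⬝ᵥ w = 0 := by have := Ew x; rw [dotProduct_comm, bt1] at this; omega
  have upw : up ⬝ᵥ w = 0 := by have := Ew up; rw [dotProduct_comm, bt2] at this; omega
  have vpw : vp ⬝ᵥ w = 0 := by have := Ew vp; rw [dotProduct_comm, bt3] at this; omega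
  have uqw : uq ⬝ᵥ w = 0 := by have := Ew uq; rw [dotProduct_comm, bt4] at this; omega
  have vqw : vq ⬝ᵥ w = 0 := by have := Ew vq; rw [dotProduct_comm, bt5] at this; omega
  -- the vector `b r`
  have br : b r ⬝ᵥ ur = 1 ∧ ((b r ⬝ᵥ uq = -1 ∧ b r ⬝ᵥ vq = 1) ∨
      (b r ⬝ᵥ up = -1 ∧ b r ⬝ᵥ vp = 1)) := by
    have h1 := Ep (b r)
    have h2 := Eq (b r)
    have h3 := Er (b r)
    have h4 := Et (b r)
    have h5 := Ew (b r)
    rw [h.orth hpr.symm] at h1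
    rw [h.orth hqr.symm] at h2
    rw [(h.ab r).symm.dot] at h3
    rw [h.orth hrt] at h4
    rw [(h.bb hrt).dot] at h5
    have h6 := (h.ab r).coeff_nonneg hx hrx
    have h7 := (h.ab r).coeff_nonneg hur hrur
    have h8 := (h.ab r).coeff_nonneg hvr hrvr
    have h9 := bessel_abs [x, up, vp, uq, vq, ur, vr, w]
      (by simp [hx, hup, hvp, huq, hvq, hur, hvr, hw])
      (by simp [xup, xvp, xuq, xvq, xur, xvr, upvp, upuq, upvq, upur, upvr, vpuq, vpvq, vpur,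
        vpvr, uqvq, uqur, uqvr, vqur, vqvr, urvr, xw, upw, vpw, uqw, vqw, urw, vrw']) (b r)
    simp only [List.map_cons, List.map_nil, List.sum_cons, List.sum_nil,
      (h.ab r).right] at h9
    exact arith2 _ _ _ _ _ _ _ _ h1 h2 h3 h4 h5 h6 h7 h8 h9 (coeff_bound hw (n3 r)).2
  obtain ⟨br1, br2 | br2⟩ := br
  · have h0 := eq_of_three (h.ab r).right huq hvq hur uqvq uqur vqur (-1) 1 1 br2.1 br2.2 br1
      (by norm_num) (b p)
    have h1 := Ep (b p)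
    have h2 := Eq (b p)
    have h3 := Er (b p)
    have h4 := Et (b p)
    rw [(h.bb hpr).dot] at h0
    rw [(h.ab p).symm.dot] at h1
    rw [h.orth hpq] at h2
    rw [h.orth hpr] at h3
    rw [h.orth hpt] at h4
    have h6 := (h.ab p).coeff_nonneg hx hpx
    have h7 := (h.ab p).coeff_nonneg hup hpup
    have h8 := (h.ab p).coeff_nonneg hvp hpvp
    omega
  · have h0 := eq_of_three (h.ab r).right hup hvp hur upvp upur vpur (-1) 1 1 br2.1 br2.2 br1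
      (by norm_num) (b q)
    have h1 := Ep (b q)
    have h2 := Eq (b q)
    have h3 := Er (b q)
    have h4 := Et (b q)
    rw [(h.bb hqr).dot] at h0
    rw [h.orth hpq.symm] at h1
    rw [(h.ab q).symm.dot] at h2
    rw [h.orth hqr] at h3
    rw [h.orth hqt] at h4
    have h6 := (h.ab q).coeff_nonneg hx hqx
    have h7 := (h.ab q).coeff_nonneg huq hquq
    have h8 := (h.ab q).coeff_nonneg hvq hqvq
    omega

theorem TwoCol.caseII (h : TwoCol a b) {p q r t : I} (hpq : p ≠ q) (hpr : p ≠ r) (hqr : q ≠ r)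
    (hpt : p ≠ t) (hqt : q ≠ t) (hrt : r ≠ t) {x : B → ℤ} (hx : x ⬝ᵥ x = 1)
    (hpx : a p ⬝ᵥ x = 1) (hqx : a q ⬝ᵥ x = 1) (hrx : a r ⬝ᵥ x = 1) (htx : a t ⬝ᵥ x = 0) :
    False := by
  obtain ⟨up, hup, hpup, htup⟩ := (h.aa hpt).exists_common
  obtain ⟨uq, huq, hquq, htuq⟩ := (h.aa hqt).exists_common
  obtain ⟨ur, hur, hrur, htur⟩ := (h.aa hrt).exists_common
  have key : ∀ {p q : I} {up : B → ℤ}, p ≠ q → up ⬝ᵥ up = 1 → a p ⬝ᵥ up = 1 → a t ⬝ᵥ up = 1 →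
      a p ⬝ᵥ x = 1 → a q ⬝ᵥ x = 1 → a q ⬝ᵥ up = 0 := by
    intro p q up hpq hup hpup htup hpx hqx
    have xup : x ⬝ᵥ up = 0 := sep' (a t) hx hup htx htup
    obtain ⟨vp, hvp, hpvp, xvp, upvp, ep⟩ := third (h.aa hpq).left hx hup xup hpx hpup
    have h1 := (h.aa hpq).coeff_nonneg hup hpup
    have h2 := (h.aa hpq).coeff_nonneg hvp hpvp
    have h3 := (h.aa hpq.symm).dot
    rw [ep] at h3
    simp only [dotProduct_add] at h3
    omega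
  have upuq : up ⬝ᵥ uq = 0 := sep' (a q) hup huq (key hpq hup hpup htup hpx hqx) hquq
  have upur : up ⬝ᵥ ur = 0 := sep' (a r) hup hur (key hpr hup hpup htup hpx hrx) hrur
  have uqur : uq ⬝ᵥ ur = 0 := sep' (a r) huq hur (key hqr huq hquq htuq hqx hrx) hrur
  have h0 := eq_of_three (h.aa hpt).right hup huq hur upuq upur uqur 1 1 1 htup htuq htur
      (by norm_num) (b t)
  rw [(h.ab t).symm.dot] at h0
  have h5 := (h.ab t).coeff_nonneg hup htup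
  have h6 := (h.ab t).coeff_nonneg huq htuq
  have h7 := (h.ab t).coeff_nonneg hur htur
  have : b t ⬝ᵥ up = 1 ∨ b t ⬝ᵥ uq = 1 ∨ b t ⬝ᵥ ur = 1 := by omega
  rcases this with h1 | h1 | h1
  · exact h.caseII_aux hqr hpq.symm hpr.symm hqt hrt hpt hx hqx hrx hpx htx hup hpup htup h1
  · exact h.caseII_aux hpr hpq hqr.symm hpt hrt hqt hx hpx hrx hqx htx huq hquq htuq h1
  · exact h.caseII_aux hpq hpr hqr hpt hqt hrt hx hpx hqx hrx htx hur hrur htur h1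

/-- Peterfalvi (3.5.4). -/
theorem TwoCol.pivot (h : TwoCol a b) {p q r t : I} (hpq : p ≠ q) (hpr : p ≠ r) (hqr : q ≠ r)
    (hpt : p ≠ t) (hqt : q ≠ t) (hrt : r ≠ t) {x : B → ℤ} (hx : x ⬝ᵥ x = 1)
    (hpx : a p ⬝ᵥ x = 1) (hqx : a q ⬝ᵥ x = 1) : a r ⬝ᵥ x = 1 := by
  by_contra hne
  have hrx : a r ⬝ᵥ x = 0 := by
    have h1 := (h.aa hpr).coeff_nonneg hx hpx
    have h2 := coeff_bound hx (h.aa hpr).right.le
    omega
  obtain ⟨x2, hx2, hpx2, hrx2⟩ := (h.aa hpr).exists_common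
  obtain ⟨x4, hx4, hqx4, hrx4⟩ := (h.aa hqr).exists_common
  have xx2 : x ⬝ᵥ x2 = 0 := sep' (a r) hx hx2 hrx hrx2
  have xx4 : x ⬝ᵥ x4 = 0 := sep' (a r) hx hx4 hrx hrx4
  obtain ⟨x3, hx3, hpx3, xx3, x2x3, ep⟩ := third (h.aa hpq).left hx hx2 xx2 hpx hpx2
  obtain ⟨x5, hx5, hqx5, xx5, x4x5, eq⟩ := third (h.aa hpq).right hx hx4 xx4 hqx hqx4
  have Ep : ∀ w : B → ℤ, w ⬝ᵥ a p = w ⬝ᵥ x + w ⬝ᵥ x2 + w ⬝ᵥ x3 := fun w => by
    conv_lhs => rw [ep]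
    simp only [dotProduct_add]
  have Eq : ∀ w : B → ℤ, w ⬝ᵥ a q = w ⬝ᵥ x + w ⬝ᵥ x4 + w ⬝ᵥ x5 := fun w => by
    conv_lhs => rw [eq]
    simp only [dotProduct_add]
  have t1 : a q ⬝ᵥ x2 = 0 ∧ a q ⬝ᵥ x3 = 0 := by
    have h1 := (h.aa hpq).coeff_nonneg hx2 hpx2
    have h2 := (h.aa hpq).coeff_nonneg hx3 hpx3
    have h3 := Ep (a q)
    rw [(h.aa hpq.symm).dot] at h3
    omega
  have t2 : a p ⬝ᵥ x4 = 0 ∧ a p ⬝ᵥ x5 = 0 := by
    have h1 := (h.aa hpq.symm).coeff_nonneg hx4 hqx4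
    have h2 := (h.aa hpq.symm).coeff_nonneg hx5 hqx5
    have h3 := Eq (a p)
    rw [(h.aa hpq).dot] at h3
    omega
  have x2x4 : x2 ⬝ᵥ x4 = 0 := sep' (a q) hx2 hx4 t1.1 hqx4
  obtain ⟨x6, hx6, hrx6, x2x6, x4x6, er⟩ := third (h.aa hpr).right hx2 hx4 x2x4 hrx2 hrx4
  have Er : ∀ w : B → ℤ, w ⬝ᵥ a r = w ⬝ᵥ x2 + w ⬝ᵥ x4 + w ⬝ᵥ x6 := fun w => by
    conv_lhs => rw [er]
    simp only [dotProduct_add]
  have c1 := (h.aa hpt).coeff_nonneg hx hpx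
  have c2 := (h.aa hpt).coeff_nonneg hx2 hpx2
  have c3 := (h.aa hpt).coeff_nonneg hx3 hpx3
  have c4 := (h.aa hqt).coeff_nonneg hx4 hqx4
  have c5 := (h.aa hqt).coeff_nonneg hx5 hqx5
  have c6 := (h.aa hrt).coeff_nonneg hx6 hrx6
  have e1 := Ep (a t)
  have e2 := Eq (a t)
  have e3 := Er (a t)
  rw [(h.aa hpt.symm).dot] at e1
  rw [(h.aa hqt.symm).dot] at e2
  rw [(h.aa hrt.symm).dot] at e3
  have : a t ⬝ᵥ x = 1 ∨ a t ⬝ᵥ x2 = 1 ∨ a t ⬝ᵥ x4 = 1 ∨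
      (a t ⬝ᵥ x3 = 1 ∧ a t ⬝ᵥ x5 = 1 ∧ a t ⬝ᵥ x6 = 1) := by omega
  rcases this with h1 | h1 | h1 | ⟨h3, h5, h6⟩
  · exact h.caseII hpq hpt hqt hpr hqr hrt.symm hx hpx hqx h1 hrx
  · exact h.caseII hpr hpt hrt hpq hqr.symm hqt.symm hx2 hpx2 hrx2 h1 t1.1
  · exact h.caseII hqr hqt hrt hpq.symm hpr.symm hpt.symm hx4 hqx4 hrx4 h1 t2.1
  · have t3 : a r ⬝ᵥ x3 = 0 := by
      have h3 := Ep (a r)
      rw [(h.aa hpr.symm).dot] at h3
      omega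
    have t4 : a r ⬝ᵥ x5 = 0 := by
      have h3 := Eq (a r)
      rw [(h.aa hqr.symm).dot] at h3
      omega
    have x3x5 : x3 ⬝ᵥ x5 = 0 := sep' (a q) hx3 hx5 t1.2 hqx5
    have x3x6 : x3 ⬝ᵥ x6 = 0 := sep' (a r) hx3 hx6 t3 hrx6
    have x5x6 : x5 ⬝ᵥ x6 = 0 := sep' (a r) hx5 hx6 t4 hrx6
    have h0 := eq_of_three (h.aa hpt).right hx3 hx5 hx6 x3x5 x3x6 x5x6 1 1 1 h3 h5 h6
      (by norm_num) (b p)
    have g1 := Ep (b p)
    have g2 := Eq (b p)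
    have g3 := Er (b p)
    rw [h.orth hpt] at h0
    rw [(h.ab p).symm.dot] at g1
    rw [h.orth hpq] at g2
    rw [h.orth hpr] at g3
    omega

/-- Peterfalvi (3.5.5). -/
theorem TwoCol.not_pivot (h : TwoCol a b) {p q r t : I} (hpq : p ≠ q) (hpr : p ≠ r) (hqr : q ≠ r)
    (hpt : p ≠ t) (hqt : q ≠ t) (hrt : r ≠ t) {x : B → ℤ} (hx : x ⬝ᵥ x = 1)
    (hpx : a p ⬝ᵥ x = 1) (hqx : a q ⬝ᵥ x = 1) (hrx : a r ⬝ᵥ x = 1) : b t ⬝ᵥ x = 0 := by
  have split : ∀ {i : I}, a i ⬝ᵥ x = 1 → ∃ u v : B → ℤ, u ⬝ᵥ u = 1 ∧ v ⬝ᵥ v = 1 ∧ a i ⬝ᵥ u = 1 ∧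
      a i ⬝ᵥ v = 1 ∧ x ⬝ᵥ u = 0 ∧ x ⬝ᵥ v = 0 ∧ u ⬝ᵥ v = 0 ∧
      ∀ w : B → ℤ, w ⬝ᵥ a i = w ⬝ᵥ x + w ⬝ᵥ u + w ⬝ᵥ v := by
    intro i hi
    have h3 := (h.ab i).left
    have n1 : (a i - x) ⬝ᵥ (a i - x) = 2 := by
      simp only [sub_dotProduct, dotProduct_sub, h3, hx, hi, dotProduct_comm x (a i)]; norm_num
    obtain ⟨y, hy, huy⟩ := exists_unit (v := a i - x) (by rw [n1]; norm_num) (by rw [n1]; norm_num)
    have hxy : x ⬝ᵥ y = 0 :=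
      sep' (a i - x) hx hy (by rw [sub_dotProduct, hi, hx, sub_self]) huy
    have huy' : a i ⬝ᵥ y = 1 := by rw [sub_dotProduct, hxy, sub_zero] at huy; exact huy
    obtain ⟨z, hz, hiz, xz, yz, e⟩ := third h3 hx hy hxy hi huy'
    refine ⟨y, z, hy, hz, huy', hiz, hxy, xz, yz, fun w => ?_⟩
    conv_lhs => rw [e]
    simp only [dotProduct_add]
  obtain ⟨up, vp, hup, hvp, hpup, hpvp, xup, xvp, upvp, Ep⟩ := split hpx
  obtain ⟨uq, vq, huq, hvq, hquq, hqvq, xuq, xvq, uqvq, Eq⟩ := split hqx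
  obtain ⟨ur, vr, hur, hvr, hrur, hrvr, xur, xvr, urvr, Er⟩ := split hrx
  have t1 : a q ⬝ᵥ up = 0 ∧ a q ⬝ᵥ vp = 0 := by
    have h1 := (h.aa hpq).coeff_nonneg hup hpup
    have h2 := (h.aa hpq).coeff_nonneg hvp hpvp
    have h3 := Ep (a q)
    rw [(h.aa hpq.symm).dot] at h3
    omega
  have t2 : a r ⬝ᵥ up = 0 ∧ a r ⬝ᵥ vp = 0 := by
    have h1 := (h.aa hpr).coeff_nonneg hup hpup
    have h2 := (h.aa hpr).coeff_nonneg hvp hpvp
    have h3 := Ep (a r)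
    rw [(h.aa hpr.symm).dot] at h3
    omega
  have t3 : a r ⬝ᵥ uq = 0 ∧ a r ⬝ᵥ vq = 0 := by
    have h1 := (h.aa hqr).coeff_nonneg huq hquq
    have h2 := (h.aa hqr).coeff_nonneg hvq hqvq
    have h3 := Eq (a r)
    rw [(h.aa hqr.symm).dot] at h3
    omega
  have upuq : up ⬝ᵥ uq = 0 := sep' (a q) hup huq t1.1 hquq
  have upvq : up ⬝ᵥ vq = 0 := sep' (a q) hup hvq t1.1 hqvq
  have vpuq : vp ⬝ᵥ uq = 0 := sep' (a q) hvp huq t1.2 hquq
  have vpvq : vp ⬝ᵥ vq = 0 := sep' (a q) hvp hvq t1.2 hqvq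
  have upur : up ⬝ᵥ ur = 0 := sep' (a r) hup hur t2.1 hrur
  have upvr : up ⬝ᵥ vr = 0 := sep' (a r) hup hvr t2.1 hrvr
  have vpur : vp ⬝ᵥ ur = 0 := sep' (a r) hvp hur t2.2 hrur
  have vpvr : vp ⬝ᵥ vr = 0 := sep' (a r) hvp hvr t2.2 hrvr
  have uqur : uq ⬝ᵥ ur = 0 := sep' (a r) huq hur t3.1 hrur
  have uqvr : uq ⬝ᵥ vr = 0 := sep' (a r) huq hvr t3.1 hrvr
  have vqur : vq ⬝ᵥ ur = 0 := sep' (a r) hvq hur t3.2 hrur
  have vqvr : vq ⬝ᵥ vr = 0 := sep' (a r) hvq hvr t3.2 hrvr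
  have h1 := Ep (b t)
  have h2 := Eq (b t)
  have h3 := Er (b t)
  rw [h.orth hpt.symm] at h1
  rw [h.orth hqt.symm] at h2
  rw [h.orth hrt.symm] at h3
  have h7 := bessel_abs [x, up, vp, uq, vq, ur, vr]
    (by simp [hx, hup, hvp, huq, hvq, hur, hvr])
    (by simp [xup, xvp, xuq, xvq, xur, xvr, upvp, upuq, upvq, upur, upvr, vpuq, vpvq, vpur,
      vpvr, uqvq, uqur, uqvr, vqur, vqvr, urvr]) (b t)
  simp only [List.map_cons, List.map_nil, List.sum_cons, List.sum_nil,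
    (h.ab t).right] at h7
  exact arith1 _ _ _ _ _ _ _ h1 h2 h3 h7

end TwoColumns

theorem exists_three_ne {I : Type*} [Fintype I] (hI : 4 ≤ Fintype.card I) (i : I) :
    ∃ p q r : I, p ≠ q ∧ p ≠ r ∧ q ≠ r ∧ p ≠ i ∧ q ≠ i ∧ r ≠ i := by
  classical
  have h : 2 < (Finset.univ.erase i).card := by
    rw [Finset.card_erase_of_mem (Finset.mem_univ i), Finset.card_univ]; omega
  obtain ⟨p, q, r, hp, hq, hr, h1, h2, h3⟩ := Finset.two_lt_card_iff.1 h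
  exact ⟨p, q, r, h1, h2, h3, Finset.ne_of_mem_erase hp, Finset.ne_of_mem_erase hq,
    Finset.ne_of_mem_erase hr⟩

theorem exists_ne_three {I : Type*} [Fintype I] (hI : 4 ≤ Fintype.card I) (p q r : I) :
    ∃ t : I, p ≠ t ∧ q ≠ t ∧ r ≠ t := by
  classical
  have h : ({p, q, r} : Finset I).card < (Finset.univ : Finset I).card := by
    have := Finset.card_le_three (a := p) (b := q) (c := r)
    rw [Finset.card_univ]; omega
  obtain ⟨t, -, ht⟩ := Finset.exists_mem_notMem_of_card_lt_card h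
  simp only [Finset.mem_insert, Finset.mem_singleton, not_or] at ht
  exact ⟨t, Ne.symm ht.1, Ne.symm ht.2.1, Ne.symm ht.2.2⟩

/-- A common constituent of all the vectors of a column. -/
theorem TwoCol.exists_pivot {I : Type*} [Fintype I] {a b : I → B → ℤ} (h : TwoCol a b)
    (hI : Fintype.card I = 2 ∨ 4 ≤ Fintype.card I) :
    ∃ x : B → ℤ, x ⬝ᵥ x = 1 ∧ ∀ i, a i ⬝ᵥ x = 1 := by
  classical
  obtain ⟨p, q, hpq⟩ := Fintype.exists_pair_of_one_lt_card (α := I) (by omega)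
  obtain ⟨x, hx, hp, hq⟩ := (h.aa hpq).exists_common
  refine ⟨x, hx, fun r => ?_⟩
  by_cases hpr : p = r
  · exact hpr ▸ hp
  by_cases hqr : q = r
  · exact hqr ▸ hq
  rcases hI with hI | hI
  · exfalso
    have : 2 < (Finset.univ : Finset I).card :=
      Finset.two_lt_card_iff.2 ⟨p, q, r, by simp, by simp, by simp, hpq, hpr, hqr⟩
    rw [Finset.card_univ] at this; omega
  · obtain ⟨t, h1, h2, h3⟩ := exists_ne_three hI p q r
    exact h.pivot hpq hpr hqr h1 h2 h3 hx hp hq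

/-- The combinatorial content of Peterfalvi (3.5). -/
theorem grid_exists_aux {I J : Type*} [Fintype I] [Fintype J] [DecidableEq I] [DecidableEq J]
    (β : I → J → B → ℤ) (d : B → ℤ) (hd : ∀ b, d b ≠ 0) (c : ℤ) (hdeg : ∀ i j, β i j ⬝ᵥ d = c)
    (hip : ∀ i j i' j', β i j ⬝ᵥ β i' j' =
      (1 + if i = i' then 1 else 0) * (1 + if j = j' then 1 else 0) - 1)
    (hI : 4 ≤ Fintype.card I) (hJ : Fintype.card J = 2 ∨ 4 ≤ Fintype.card J) :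
    ∃ (y : J → B → ℤ) (z : I → B → ℤ), (∀ j, y j ⬝ᵥ y j = 1) ∧ (∀ i, z i ⬝ᵥ z i = 1) ∧
      (∀ i j j', β i j ⬝ᵥ y j' = if j = j' then 1 else 0) ∧
      (∀ i j i', β i j ⬝ᵥ z i' = if i = i' then 1 else 0) := by
  have n3 : ∀ i j, β i j ⬝ᵥ β i j = 3 := fun i j => by rw [hip]; simp
  have lc : ∀ {i k} j, i ≠ k → Lnk (β i j) (β k j) := fun {i k} j hik =>
    lnk_of_deg hd (n3 _ _) (n3 _ _) (by rw [hip]; simp [hik]) (by rw [hdeg, hdeg])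
  have lr : ∀ i {j k}, j ≠ k → Lnk (β i j) (β i k) := fun i {j k} hjk =>
    lnk_of_deg hd (n3 _ _) (n3 _ _) (by rw [hip]; simp [hjk]) (by rw [hdeg, hdeg])
  have tc : ∀ {j k}, j ≠ k → TwoCol (fun i => β i j) (fun i => β i k) := fun {j k} hjk =>
    ⟨fun h => lc j h, fun h => lc k h, fun i => lr i hjk,
      fun h => by rw [hip]; simp [h, hjk.symm]⟩
  have tr : ∀ {i k}, i ≠ k → TwoCol (fun j => β i j) (fun j => β k j) := fun {i k} hik =>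
    ⟨fun h => lr i h, fun h => lr k h, fun j => lc j hik,
      fun h => by rw [hip]; simp [h, hik.symm]⟩
  have : Nontrivial I := Fintype.one_lt_card_iff_nontrivial.1 (by omega)
  have : Nontrivial J := Fintype.one_lt_card_iff_nontrivial.1 (by omega)
  have hy : ∀ j, ∃ x : B → ℤ, x ⬝ᵥ x = 1 ∧ ∀ i, β i j ⬝ᵥ x = 1 := fun j => by
    obtain ⟨k, hk⟩ := exists_ne j
    exact (tc hk.symm).exists_pivot (Or.inr hI)
  have hz : ∀ i, ∃ x : B → ℤ, x ⬝ᵥ x = 1 ∧ ∀ j, β i j ⬝ᵥ x = 1 := fun i => by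
    obtain ⟨k, hk⟩ := exists_ne i
    exact (tr hk.symm).exists_pivot hJ
  choose y hy1 hy2 using hy
  choose z hz1 hz2 using hz
  have hy3 : ∀ i j j', j ≠ j' → β i j ⬝ᵥ y j' = 0 := fun i j j' hjj => by
    obtain ⟨p, q, r, h1, h2, h3, h4, h5, h6⟩ := exists_three_ne hI i
    exact (tc hjj.symm).not_pivot h1 h2 h3 h4 h5 h6 (hy1 j') (hy2 _ _) (hy2 _ _) (hy2 _ _)
  refine ⟨y, z, hy1, hz1, fun i j j' => ?_, fun i j i' => ?_⟩
  · split_ifs with h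
    · exact h ▸ hy2 j i
    · exact hy3 i j j' h
  · split_ifs with h
    · exact h ▸ hz2 i j
    · obtain ⟨k, hk⟩ := exists_ne j
      have yz : y j ⬝ᵥ z i' = 0 := sep' (β i' k) (hy1 j) (hz1 i') (hy3 _ _ _ hk) (hz2 _ _)
      obtain ⟨w, hw, hbw, -, -, e⟩ := third (n3 i' j) (hy1 j) (hz1 i') yz (hy2 _ _) (hz2 _ _)
      have l := lc j (Ne.symm h)
      have h1 := l.coeff_nonneg (hz1 i') (hz2 _ _)
      have h2 := l.coeff_nonneg hw hbw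
      have h3 := l.symm.dot
      conv_lhs at h3 => rw [e]
      simp only [dotProduct_add, hy2] at h3
      omega

theorem grid_exists {I J : Type*} [Fintype I] [Fintype J] [DecidableEq I] [DecidableEq J]
    (β : I → J → B → ℤ) (d : B → ℤ) (hd : ∀ b, d b ≠ 0) (c : ℤ) (hdeg : ∀ i j, β i j ⬝ᵥ d = c)
    (hip : ∀ i j i' j', β i j ⬝ᵥ β i' j' =
      (1 + if i = i' then 1 else 0) * (1 + if j = j' then 1 else 0) - 1)
    (hI : Fintype.card I = 2 ∨ 4 ≤ Fintype.card I) (hJ : Fintype.card J = 2 ∨ 4 ≤ Fintype.card J)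
    (hIJ : 4 ≤ Fintype.card I ∨ 4 ≤ Fintype.card J) :
    ∃ (y : J → B → ℤ) (z : I → B → ℤ), (∀ j, y j ⬝ᵥ y j = 1) ∧ (∀ i, z i ⬝ᵥ z i = 1) ∧
      (∀ i j j', β i j ⬝ᵥ y j' = if j = j' then 1 else 0) ∧
      (∀ i j i', β i j ⬝ᵥ z i' = if i = i' then 1 else 0) := by
  rcases hIJ with h | h
  · exact grid_exists_aux β d hd c hdeg hip h hJ
  · obtain ⟨z, y, h1, h2, h3, h4⟩ := grid_exists_aux (fun j i => β i j) d hd c
      (fun j i => hdeg i j) (fun j i j' i' => by rw [hip, mul_comm]) h hI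
    exact ⟨y, z, h2, h1, fun i j j' => h4 j i j', fun i j i' => h3 j i i'⟩

end CL.PF.Grid
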