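import Cfsg.Agent.Base
import Cfsg.Agent.PF.CycBasic
import Cfsg.Agent.PF.GridComb
import Cfsg.Agent.Auto.ACL_PF_TIPair_iota_0772a1

/-!
# Peterfalvi (3.2)-(3.8): families of signed irreducible characters attached to a cyclic TI-set
-/

set_option autoImplicit false

namespace CL.PF

open Cfsg CL.Char
open scoped ComplexConjugate

/-! ### rectangle-rule matrices -/

section Rect

variable {I J R : Type*} [AddCommGroup R]

/-- The rectangle rule of (3.7). -/
def RectRule (a : I → J → R) : Prop := ∀ i i' j j', a i j + a i' j' = a i j' + a i' j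

theorem RectRule.swap {a : I → J → R} (h : RectRule a) : RectRule (fun j i => a i j) :=
  fun j j' i i' => by rw [h i i' j j', add_comm]

theorem rectRule_of_base {a : I → J → R} (i₀ : I) (j₀ : J)
    (h : ∀ i j, i ≠ i₀ → j ≠ j₀ → a i j = a i j₀ + a i₀ j - a i₀ j₀) : RectRule a := by
  have h' : ∀ i j, a i j = a i j₀ + a i₀ j - a i₀ j₀ := fun i j => by
    by_cases hi : i = i₀
    · subst hi; abel
    by_cases hj : j = j₀
    · subst hj; abel
    exact h i j hi hj
  intro i i' j j'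
  rw [h' i j, h' i' j', h' i j', h' i' j]; abel

theorem RectRule.min_le_card [Fintype I] [Fintype J] {a : I → J → R} (h : RectRule a)
    {i₀ : I} {j₀ : J} (h0 : a i₀ j₀ ≠ 0) :
    min (Fintype.card I) (Fintype.card J) ≤ Nat.card {p : I × J // a p.1 p.2 ≠ 0} := by
  classical
  by_cases hr : ∀ i, ∃ j, a i j ≠ 0
  · choose f hf using hr
    refine (min_le_left _ _).trans ?_
    rw [← Nat.card_eq_fintype_card]
    exact Nat.card_le_card_of_injective (fun i => (⟨(i, f i), hf i⟩ : {p : I × J // a p.1 p.2 ≠ 0}))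
      (fun i i' e => congrArg (fun p => p.1.1) e)
  · push Not at hr
    obtain ⟨i₁, hi₁⟩ := hr
    have h1 : ∀ j, a i₀ j ≠ 0 := fun j => by
      have := h i₀ i₁ j j₀
      rw [hi₁, hi₁, add_zero, add_zero] at this
      rwa [this]
    refine (min_le_right _ _).trans ?_
    rw [← Nat.card_eq_fintype_card]
    exact Nat.card_le_card_of_injective
      (fun j => (⟨(i₀, j), h1 j⟩ : {p : I × J // a p.1 p.2 ≠ 0}))
      (fun i i' e => congrArg (fun p => p.1.2) e)

/-- The combinatorial content of (3.8). -/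
theorem RectRule.trichotomy [Fintype I] [Fintype J] {a : I → J → R} (h : RectRule a)
    (hIJ : Fintype.card I + 2 ≤ Fintype.card J)
    (hc : Nat.card {p : I × J // a p.1 p.2 ≠ 0} < 2 * Fintype.card I) :
    (∀ i j, a i j = 0) ∨ (∃ j₀ c, (∀ i, a i j₀ = c) ∧ ∀ i j, j ≠ j₀ → a i j = 0) ∨
      (∃ i₀ c, (∀ j, a i₀ j = c) ∧ ∀ i j, i ≠ i₀ → a i j = 0) := by
  classical
  set n : I → ℕ := fun i => (Finset.univ.filter fun j => a i j ≠ 0).card with hn
  have hsum : Nat.card {p : I × J // a p.1 p.2 ≠ 0} = ∑ i, n i := by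
    rw [Nat.card_eq_fintype_card, Fintype.card_subtype, Finset.card_filter,
      Fintype.sum_prod_type]
    simp only [hn, Finset.card_filter]
  rw [hsum] at hc
  obtain ⟨i₀, hi₀⟩ : ∃ i, n i ≤ 1 := by
    by_contra hne
    push Not at hne
    have : ∑ _i : I, 2 ≤ ∑ i, n i := Finset.sum_le_sum fun i _ => hne i
    rw [Finset.sum_const, Finset.card_univ, smul_eq_mul] at this
    omega
  have : Nontrivial J := Fintype.one_lt_card_iff_nontrivial.1 (by omega)
  obtain ⟨j₀, hj₀⟩ : ∃ j₀, ∀ j, j ≠ j₀ → a i₀ j = 0 := by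
    obtain ⟨x, hx⟩ := Finset.card_le_one_iff_subset_singleton.1 hi₀
    refine ⟨x, fun j hj => ?_⟩
    by_contra hne
    exact hj (Finset.mem_singleton.1 (hx (by simp [hne])))
  obtain ⟨j₁, hj₁⟩ := exists_ne j₀
  have hx : ∀ i j, j ≠ j₀ → a i j = a i j₁ := fun i j hj => by
    have := h i i₀ j j₁
    rwa [hj₀ j₁ hj₁, hj₀ j hj, add_zero, add_zero] at this
  have hy : ∀ i, a i j₀ = a i j₁ + a i₀ j₀ := fun i => by
    have := h i i₀ j₀ j₁
    rwa [hj₀ j₁ hj₁, add_zero] at this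
  have hbig : ∀ i, a i j₁ ≠ 0 → Fintype.card J - 1 ≤ n i := fun i hi => by
    rw [← Finset.card_univ, ← Finset.card_erase_of_mem (Finset.mem_univ j₀)]
    refine Finset.card_le_card fun j hj => ?_
    simp only [Finset.mem_filter, Finset.mem_univ, true_and]
    rwa [hx i j (Finset.ne_of_mem_erase hj)]
  by_cases hall : ∀ i, a i j₁ = 0
  · right; left
    exact ⟨j₀, a i₀ j₀, fun i => by rw [hy, hall, zero_add], fun i j hj => by rw [hx i j hj, hall]⟩
  push Not at hall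
  obtain ⟨i₁, hi₁⟩ := hall
  have huniq : ∀ i, i ≠ i₁ → a i j₁ = 0 := fun i hi => by
    by_contra hne
    have h1 := hbig i hne
    have h2 := hbig i₁ hi₁
    have h3 : ∑ k ∈ {i, i₁}, n k ≤ ∑ k, n k :=
      Finset.sum_le_sum_of_subset (Finset.subset_univ _)
    rw [Finset.sum_pair hi] at h3
    omega
  by_cases hc0 : a i₀ j₀ = 0
  · right; right
    refine ⟨i₁, a i₁ j₁, fun j => ?_, fun i j hi => ?_⟩
    · by_cases hj : j = j₀
      · rw [hj, hy, hc0, add_zero]
      · exact hx i₁ j hj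
    · by_cases hj : j = j₀
      · rw [hj, hy, hc0, add_zero, huniq i hi]
      · rw [hx i j hj, huniq i hi]
  · exfalso
    have h1 : ∀ i ∈ Finset.univ.erase i₁, 1 ≤ n i := fun i hi => by
      refine Finset.card_pos.2 ⟨j₀, ?_⟩
      simp only [Finset.mem_filter, Finset.mem_univ, true_and]
      rwa [hy, huniq i (Finset.ne_of_mem_erase hi), zero_add]
    have h2 := Finset.sum_le_sum h1
    rw [Finset.sum_const, Finset.card_erase_of_mem (Finset.mem_univ _), Finset.card_univ,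
      smul_eq_mul, mul_one] at h2
    have h3 := Finset.add_sum_erase Finset.univ n (Finset.mem_univ i₁)
    have h4 := hbig i₁ hi₁
    have h5 : 0 < Fintype.card I := Fintype.card_pos_iff.2 ⟨i₁⟩
    omega

end Rect

/-! ### linear characters of `X₁ × X₂` -/

section Omega

variable {X₁ X₂ : Type*} [Group X₁] [Group X₂]

/-- The linear character `ω_{ij}` of `X₁ × X₂`. -/
def omegaF (i : X₁ →* ℂˣ) (j : X₂ →* ℂˣ) : X₁ × X₂ → ℂ := fun p => (i p.1 : ℂ) * (j p.2 : ℂ)

/-- The function `α_{ij} = (1 - ω_{i0}) (1 - ω_{0j})`. -/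
def alphaF (i : X₁ →* ℂˣ) (j : X₂ →* ℂˣ) : X₁ × X₂ → ℂ :=
  fun p => 1 - (i p.1 : ℂ) - (j p.2 : ℂ) + (i p.1 : ℂ) * (j p.2 : ℂ)

theorem omegaF_eq (i : X₁ →* ℂˣ) (j : X₂ →* ℂˣ) :
    omegaF i j = fun p => ((i.coprod j) p : ℂ) := by
  funext p; simp [omegaF]

theorem alphaF_eq (i : X₁ →* ℂˣ) (j : X₂ →* ℂˣ) :
    alphaF i j = omegaF 1 1 - omegaF i 1 - omegaF 1 j + omegaF i j := by
  funext p; simp [omegaF, alphaF]

theorem alphaF_of_fst {i : X₁ →* ℂˣ} {j : X₂ →* ℂˣ} {p : X₁ × X₂} (hp : p.1 = 1) :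
    alphaF i j p = 0 := by simp [alphaF, hp]

theorem alphaF_of_snd {i : X₁ →* ℂˣ} {j : X₂ →* ℂˣ} {p : X₁ × X₂} (hp : p.2 = 1) :
    alphaF i j p = 0 := by simp [alphaF, hp]

theorem irr_omegaF (i : X₁ →* ℂˣ) (j : X₂ →* ℂˣ) : IsIrrCharacter (X₁ × X₂) (omegaF i j) := by
  rw [omegaF_eq]; exact irr_unitsHom _

theorem gen_omegaF (i : X₁ →* ℂˣ) (j : X₂ →* ℂˣ) :
    IsGeneralizedCharacter (X₁ × X₂) (omegaF i j) := gen_of_irr (irr_omegaF i j)

theorem gen_alphaF (i : X₁ →* ℂˣ) (j : X₂ →* ℂˣ) :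
    IsGeneralizedCharacter (X₁ × X₂) (alphaF i j) := by
  rw [alphaF_eq]
  exact gen_add (gen_sub (gen_sub (gen_omegaF _ _) (gen_omegaF _ _)) (gen_omegaF _ _))
    (gen_omegaF _ _)

/-- The linear characters of a direct product. -/
def dualProdEquiv (X₁ X₂ : Type*) [Group X₁] [Group X₂] :
    (X₁ →* ℂˣ) × (X₂ →* ℂˣ) ≃ (X₁ × X₂ →* ℂˣ) where
  toFun p := p.1.coprod p.2
  invFun f := (f.comp (MonoidHom.inl X₁ X₂), f.comp (MonoidHom.inr X₁ X₂))
  left_inv p := by simp
  right_inv f := MonoidHom.coprod_unique f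

theorem omegaF_inj {i i' : X₁ →* ℂˣ} {j j' : X₂ →* ℂˣ} (h : omegaF i j = omegaF i' j') :
    i = i' ∧ j = j' := by
  rw [omegaF_eq, omegaF_eq, linear_inj] at h
  exact Prod.mk.inj ((dualProdEquiv X₁ X₂).injective (a₁ := (i, j)) (a₂ := (i', j')) h)

variable [Fintype X₁] [Fintype X₂]

theorem inner_omegaF (i i' : X₁ →* ℂˣ) (j j' : X₂ →* ℂˣ) [Decidable (i = i')]
    [Decidable (j = j')] : classInner (omegaF i j) (omegaF i' j') =
      (if i = i' then 1 else 0) * (if j = j' then 1 else 0) := by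
  by_cases h : i = i' ∧ j = j'
  · obtain ⟨rfl, rfl⟩ := h
    simp [irr_inner_self (irr_omegaF i j)]
  · rw [irr_inner_of_ne (irr_omegaF _ _) (irr_omegaF _ _) (fun e => h (omegaF_inj e))]
    rw [not_and_or] at h
    rcases h with h | h <;> simp [h]

theorem inner_alphaF {i i' : X₁ →* ℂˣ} {j j' : X₂ →* ℂˣ} (hi : i ≠ 1) (hi' : i' ≠ 1)
    (hj : j ≠ 1) (hj' : j' ≠ 1) [Decidable (i = i')] [Decidable (j = j')] :
    classInner (alphaF i j) (alphaF i' j') =
      (1 + if i = i' then 1 else 0) * (1 + if j = j' then 1 else 0) := by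
  classical
  simp only [alphaF_eq, classInner_add_left, classInner_add_right, classInner_sub_left,
    classInner_sub_right, inner_omegaF, hi, hj, hi'.symm, hj'.symm,
    if_true, if_false]
  split_ifs <;> ring

theorem inner_alphaF_one {i : X₁ →* ℂˣ} {j : X₂ →* ℂˣ} (hi : i ≠ 1) (hj : j ≠ 1) :
    classInner (alphaF i j) (fun _ => 1) = 1 := by
  classical
  have : (fun _ => 1 : X₁ × X₂ → ℂ) = omegaF 1 1 := by funext p; simp [omegaF]
  rw [this]
  simp only [alphaF_eq, classInner_add_left, classInner_sub_left, inner_omegaF, hi, hj,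
    if_true, if_false]
  ring

/-- Fourier expansion on `X₁ × X₂`. -/
theorem fourier_prod (h₁ : ∀ a b : X₁, a * b = b * a) (h₂ : ∀ a b : X₂, a * b = b * a)
    (f : X₁ × X₂ → ℂ) (x : X₁) (y : X₂) :
    f (x, y) = ∑ i : X₁ →* ℂˣ, ∑ j : X₂ →* ℂˣ,
      classInner f (omegaF i j) * ((i x : ℂ) * (j y : ℂ)) := by
  have h := congrFun (eq_sum_linear_of_comm (A := X₁ × X₂)
    (fun a b => Prod.ext (h₁ _ _) (h₂ _ _)) f) (x, y)
  rw [h, Finset.sum_apply, ← Fintype.sum_prod_type']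
  refine (Fintype.sum_equiv (dualProdEquiv X₁ X₂) _ _ fun p => ?_).symm
  simp [dualProdEquiv, omegaF_eq]

omit [Fintype X₁] [Fintype X₂] in
theorem sum_dual_eq_zero [Finite X₁] (h₁ : ∀ a b : X₁, a * b = b * a) {x : X₁} (hx : x ≠ 1) :
    ∑ i : X₁ →* ℂˣ, (i x : ℂ) = 0 := by
  rw [sum_over_linear_of_comm h₁, if_neg hx]

omit [Fintype X₁] [Fintype X₂] in
theorem card_dual [Finite X₁] (h₁ : ∀ a b : X₁, a * b = b * a) :
    Fintype.card (X₁ →* ℂˣ) = Nat.card X₁ := by
  rw [← Nat.card_eq_fintype_card, card_linear_of_comm h₁]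

omit [Fintype X₁] [Fintype X₂] in
theorem RectRule.sum_eq_zero [Finite X₁] [Finite X₂] (h₁ : ∀ a b : X₁, a * b = b * a)
    (h₂ : ∀ a b : X₂, a * b = b * a) {c : (X₁ →* ℂˣ) → (X₂ →* ℂˣ) → ℂ} (hc : RectRule c)
    {x : X₁} {y : X₂} (hx : x ≠ 1) (hy : y ≠ 1) :
    ∑ i : X₁ →* ℂˣ, ∑ j : X₂ →* ℂˣ, c i j * ((i x : ℂ) * (j y : ℂ)) = 0 := by
  have h' : ∀ i j, c i j = c i 1 + (c 1 j - c 1 1) := fun i j => by
    have := hc i 1 j 1
    linear_combination this
  have e1 : ∀ i : X₁ →* ℂˣ, ∑ j : X₂ →* ℂˣ, c i j * ((i x : ℂ) * (j y : ℂ)) =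
      (i x : ℂ) * ∑ j : X₂ →* ℂˣ, (c 1 j - c 1 1) * (j y : ℂ) := fun i => by
    have : ∑ j : X₂ →* ℂˣ, c i j * ((i x : ℂ) * (j y : ℂ)) =
        c i 1 * (i x : ℂ) * ∑ j : X₂ →* ℂˣ, (j y : ℂ) +
        (i x : ℂ) * ∑ j : X₂ →* ℂˣ, (c 1 j - c 1 1) * (j y : ℂ) := by
      rw [Finset.mul_sum, Finset.mul_sum, ← Finset.sum_add_distrib]
      exact Finset.sum_congr rfl fun j _ => by rw [h' i j]; ring
    rw [this, sum_dual_eq_zero h₂ hy, mul_zero, zero_add]
  simp only [e1]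
  rw [← Finset.sum_mul, sum_dual_eq_zero h₁ hx, zero_mul]

end Omega

/-! ### induction from `W` -/

section IndW

variable {G X₁ X₂ : Type*} [Group G] [Fintype G] [Group X₁] [Group X₂]
  {f₁ : X₁ →* G} {f₂ : X₂ →* G}

theorem TIPair.indHom_apply (h : TIPair f₁ f₂) (α : X₁ × X₂ → ℂ) {x : X₁} {y : X₂} (hx : x ≠ 1)
    (hy : y ≠ 1) : indHom h.iota α (f₁ x * f₂ y) = α (x, y) :=
  indHom_apply_of_ti h.iota_injective (isClassFunction_of_comm h.comm_prod α) (x, y)
    fun _ w' e _ => h.iota_range ▸ h.mem_of_conj_mem (mem_cycV hx hy)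
      (h.iota_range ▸ ⟨w', e.symm⟩)

theorem TIPair.indHom_eq_zero (h : TIPair f₁ f₂) {α : X₁ × X₂ → ℂ}
    (hα : ∀ p : X₁ × X₂, p.1 = 1 ∨ p.2 = 1 → α p = 0) {g : G} (hg : g ∉ cycVConj f₁ f₂) :
    indHom h.iota α g = 0 := by
  refine CL.PF.indHom_eq_zero h.iota_injective α fun x w e => hα w ?_
  by_contra hne
  push Not at hne
  refine hg (mem_cycVConj_of_conj (m := x) ?_)
  rw [e]
  exact cycV_subset_cycVConj (mem_cycV hne.1 hne.2)

/-- Induction from `W` is an isometry on the functions supported on `V`. -/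
theorem TIPair.inner_indHom [Fintype X₁] [Fintype X₂] (h : TIPair f₁ f₂) {α : X₁ × X₂ → ℂ}
    (hα : ∀ p : X₁ × X₂, p.1 = 1 ∨ p.2 = 1 → α p = 0) (β : X₁ × X₂ → ℂ) :
    classInner (indHom h.iota α) (indHom h.iota β) = classInner α β := by
  rw [classInner_indHom_left h.iota_injective α (indHom_isClassFunction _ _)]
  refine classInner_congr_right fun p hp => ?_
  have : ¬ (p.1 = 1 ∨ p.2 = 1) := fun e => hp (hα p e)
  push Not at this
  exact h.indHom_apply β this.1 this.2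

theorem alphaF_supp (i : X₁ →* ℂˣ) (j : X₂ →* ℂˣ) (p : X₁ × X₂) (hp : p.1 = 1 ∨ p.2 = 1) :
    alphaF i j p = 0 := hp.elim alphaF_of_fst alphaF_of_snd

/-- The family of (3.5). -/
structure EtaFam (h : TIPair f₁ f₂) (η : (X₁ →* ℂˣ) → (X₂ →* ℂˣ) → G → ℂ) : Prop where
  signed : ∀ i j, IsSignedIrr G (η i j)
  orth : ∀ i j i' j', i ≠ i' ∨ j ≠ j' → classInner (η i j) (η i' j') = 0
  one : η 1 1 = fun _ => 1
  ind : ∀ i j, i ≠ 1 → j ≠ 1 → indHom h.iota (alphaF i j) = η 1 1 - η i 1 - η 1 j + η i j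

/-- Peterfalvi (3.5). -/
theorem CycTI.exists_etaFam (hc : CycTI f₁ f₂) : ∃ η, EtaFam hc.tiPair η := by
  classical
  set h := hc.tiPair
  have := h.finite₁
  have := h.finite₂
  have := Fintype.ofFinite X₁
  have := Fintype.ofFinite X₂
  set β : (X₁ →* ℂˣ) → (X₂ →* ℂˣ) → G → ℂ :=
    fun i j => indHom h.iota (alphaF i j) - fun _ => 1 with hβ
  have gβ : ∀ i j, IsGeneralizedCharacter G (β i j) := fun i j =>
    gen_sub (gen_indHom h.iota_injective (gen_alphaF i j)) gen_one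
  choose c hc1 hc2 using fun i j => gen_exists_eq_sum (gβ i j)
  set Φ : (IrrCharacter G → ℤ) → G → ℂ := fun v => ∑ χ : IrrCharacter G, (v χ : ℂ) • (χ : G → ℂ)
    with hΦ
  have gΦ : ∀ v, IsGeneralizedCharacter G (Φ v) := gen_sum_irr
  have iΦ : ∀ v w, classInner (Φ v) (Φ w) = ((v ⬝ᵥ w : ℤ) : ℂ) := fun v w => by
    rw [classInner_eq_sum (gen_isClassFunction (gΦ v))]
    simp only [hΦ, classInner_sum_irr, dotProduct, map_intCast]
    push_cast; rfl
  have βΦ : ∀ i j, β i j = Φ (c i j) := hc2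
  have Φ1 : ∀ v, Φ v 1 = ((v ⬝ᵥ (fun χ => (deg (χ : G → ℂ) : ℤ)) : ℤ) : ℂ) := fun v => by
    simp only [hΦ, Finset.sum_apply, Pi.smul_apply, smul_eq_mul, dotProduct]
    push_cast
    exact Finset.sum_congr rfl fun χ _ => by rw [irr_cast_deg χ.2]
  have iβ1 : ∀ i j, i ≠ 1 → j ≠ 1 → classInner (β i j) (fun _ => 1) = 0 := fun i j hi hj => by
    rw [hβ]
    simp only
    rw [classInner_sub_left, classInner_indHom_left h.iota_injective _ (isClassFunction_const 1),
      inner_alphaF_one hi hj, classInner_one_one, sub_self]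
  have iβ : ∀ i j i' j', i ≠ 1 → j ≠ 1 → i' ≠ 1 → j' ≠ 1 → classInner (β i j) (β i' j') =
      (1 + if i = i' then 1 else 0) * (1 + if j = j' then 1 else 0) - 1 := by
    intro i j i' j' hi hj hi' hj'
    have e : β i' j' = indHom h.iota (alphaF i' j') - fun _ => 1 := rfl
    rw [e, classInner_sub_right, iβ1 i j hi hj, sub_zero]
    have e : β i j = indHom h.iota (alphaF i j) - fun _ => 1 := rfl
    rw [e, classInner_sub_left, h.inner_indHom (alphaF_supp i j), inner_alphaF hi hi' hj hj',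
      ← conj_classInner, classInner_indHom_left h.iota_injective _ (isClassFunction_const 1),
      inner_alphaF_one hi' hj', map_one]
  have cI : Fintype.card {i : X₁ →* ℂˣ // i ≠ 1} = Nat.card X₁ - 1 := by
    rw [Fintype.card_subtype_compl, card_dual h.comm₁, Fintype.card_unique]
  have cJ : Fintype.card {i : X₂ →* ℂˣ // i ≠ 1} = Nat.card X₂ - 1 := by
    rw [Fintype.card_subtype_compl, card_dual h.comm₂, Fintype.card_unique]
  have t1 := hc.three_le₁
  have t2 := hc.three_le₂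
  have t3 := hc.card_cases
  obtain ⟨a, ha⟩ := hc.odd₁
  obtain ⟨b, hb⟩ := hc.odd₂
  obtain ⟨y, z, hy1, hz1, hy2, hz2⟩ := Grid.grid_exists
    (I := {i : X₁ →* ℂˣ // i ≠ 1}) (J := {j : X₂ →* ℂˣ // j ≠ 1}) (fun i j => c i j)
    (fun χ => (deg (χ : G → ℂ) : ℤ)) (fun χ => by exact_mod_cast (irr_deg_pos χ.2).ne') (-1)
    (fun i j => by
      have := Φ1 (c i j)
      rw [← βΦ, hβ] at this
      simp only [Pi.sub_apply, indHom_one h.iota_injective, alphaF_of_fst Prod.fst_one] at this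
      exact_mod_cast (by rw [← this]; simp : ((c i j ⬝ᵥ _ : ℤ) : ℂ) = -1))
    (fun i j i' j' => by
      have := iΦ (c i j) (c i' j')
      rw [← βΦ, ← βΦ, iβ _ _ _ _ i.2 j.2 i'.2 j'.2] at this
      simp only [Subtype.val_inj] at this
      have e : (((c i j ⬝ᵥ c i' j' : ℤ) : ℤ) : ℂ) = (((1 + if i = i' then 1 else 0) *
        (1 + if j = j' then 1 else 0) - 1 : ℤ) : ℂ) := by
        rw [← this]; split_ifs <;> norm_num
      exact_mod_cast e)
    (by omega) (by omega) (by omega)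
  -- the family
  set Y : {j : X₂ →* ℂˣ // j ≠ 1} → G → ℂ := fun j => Φ (y j) with hY
  set Z : {i : X₁ →* ℂˣ // i ≠ 1} → G → ℂ := fun i => Φ (z i) with hZ
  have sY : ∀ j, IsSignedIrr G (Y j) := fun j =>
    isSignedIrr_of_norm_one (gΦ _) (by rw [iΦ, hy1]; simp)
  have sZ : ∀ i, IsSignedIrr G (Z i) := fun i =>
    isSignedIrr_of_norm_one (gΦ _) (by rw [iΦ, hz1]; simp)
  have s1 : IsSignedIrr G (fun _ => 1) := Or.inl irr_one
  have βY : ∀ (i : {i : X₁ →* ℂˣ // i ≠ 1}) (j j' : {j : X₂ →* ℂˣ // j ≠ 1}),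
      classInner (β i j) (Y j') = if j = j' then 1 else 0 := fun i j j' => by
    rw [βΦ, hY, iΦ, hy2]; split_ifs <;> simp
  have βZ : ∀ (i : {i : X₁ →* ℂˣ // i ≠ 1}) (j : {j : X₂ →* ℂˣ // j ≠ 1}) i',
      classInner (β i j) (Z i') = if i = i' then 1 else 0 := fun i j i' => by
    rw [βΦ, hZ, iΦ, hz2]; split_ifs <;> simp
  have sep : ∀ {x y : G → ℂ} (v : G → ℂ), IsSignedIrr G x → IsSignedIrr G y →
      classInner v x = 1 → classInner v y = 0 → classInner x y = 0 := by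
    intro x y v hx hy h1 h0
    rcases hx.eq_or_eq_neg_or_orth hy with e | e | e
    · rw [e, h0] at h1; norm_num at h1
    · rw [e, classInner_neg_right, h0] at h1; norm_num at h1
    · exact e
  have : Nontrivial {i : X₁ →* ℂˣ // i ≠ 1} := Fintype.one_lt_card_iff_nontrivial.1 (by omega)
  have : Nontrivial {i : X₂ →* ℂˣ // i ≠ 1} := Fintype.one_lt_card_iff_nontrivial.1 (by omega)
  have YZ : ∀ j i, classInner (Y j) (Z i) = 0 := fun j i => by
    obtain ⟨k, hk⟩ := exists_ne i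
    exact sep (β k j) (sY j) (sZ i) (by rw [βY, if_pos rfl]) (by rw [βZ, if_neg hk])
  have ZY : ∀ i j, classInner (Z i) (Y j) = 0 := fun i j => classInner_eq_zero_comm.1 (YZ j i)
  set Xf : {i : X₁ →* ℂˣ // i ≠ 1} → {j : X₂ →* ℂˣ // j ≠ 1} → G → ℂ :=
    fun i j => β i j - Y j - Z i with hX
  have βX : ∀ (i : {i : X₁ →* ℂˣ // i ≠ 1}) (j : {j : X₂ →* ℂˣ // j ≠ 1}) i' j',
      classInner (β i j) (Xf i' j') = (if i = i' then 1 else 0) * (if j = j' then 1 else 0) := by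
    intro i j i' j'
    simp only [hX, classInner_sub_right, βY, βZ, iβ _ _ _ _ i.2 j.2 i'.2 j'.2, Subtype.val_inj]
    split_ifs <;> ring
  have gX : ∀ i j, IsGeneralizedCharacter G (Xf i j) := fun i j =>
    gen_sub (gen_sub (gβ _ _) (gΦ _)) (gΦ _)
  have sX : ∀ i j, IsSignedIrr G (Xf i j) := fun i j => by
    refine isSignedIrr_of_norm_one (gX i j) ?_
    have e1 := βX i j i j
    have e2 : classInner (Y j) (Xf i j) = 0 := by
      simp only [hX, classInner_sub_right, YZ, (sY j).inner_self]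
      rw [← conj_classInner, βY]; simp
    have e3 : classInner (Z i) (Xf i j) = 0 := by
      simp only [hX, classInner_sub_right, ZY, (sZ i).inner_self]
      rw [← conj_classInner, βZ]; simp
    conv_lhs => rw [show Xf i j = β i j - Y j - Z i from rfl]
    rw [classInner_sub_left, classInner_sub_left]
    change classInner (β i j) (Xf i j) - classInner (Y j) (Xf i j) - classInner (Z i) (Xf i j) = 1
    rw [e1, e2, e3]; simp
  -- a uniform description: `u i j` and its table of coefficients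
  set u : (X₁ →* ℂˣ) → (X₂ →* ℂˣ) → G → ℂ := fun i j =>
    if hi : i = 1 then (if hj : j = 1 then (fun _ => 1) else Y ⟨j, hj⟩)
    else (if hj : j = 1 then Z ⟨i, hi⟩ else Xf ⟨i, hi⟩ ⟨j, hj⟩) with hu
  have su : ∀ i j, IsSignedIrr G (u i j) := fun i j => by
    simp only [hu]; split_ifs
    exacts [s1, sY _, sZ _, sX _ _]
  have βu : ∀ (k : {i : X₁ →* ℂˣ // i ≠ 1}) (l : {j : X₂ →* ℂˣ // j ≠ 1}) i j,
      classInner (β k l) (u i j) =
        if (i = 1 ∨ i = k) ∧ (j = 1 ∨ j = l) ∧ ¬ (i = 1 ∧ j = 1) then 1 else 0 := by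
    intro k l i j
    simp only [hu]
    by_cases hi : i = 1 <;> by_cases hj : j = 1
    · simp [hi, hj, iβ1 _ _ k.2 l.2]
    · simp [hi, hj, βY, Subtype.ext_iff, eq_comm]
    · simp [hi, hj, βZ, Subtype.ext_iff, eq_comm]
    · simp only [hi, hj, βX, Subtype.ext_iff, dif_neg, not_false_eq_true, false_or, false_and,
        and_true, eq_comm (a := i), eq_comm (a := j)]
      by_cases h1 : k.1 = i <;> by_cases h2 : l.1 = j <;> simp [h1, h2]
  have pick₁ : ∀ i i' : X₁ →* ℂˣ, ∃ k : {i : X₁ →* ℂˣ // i ≠ 1}, (i = 1 ∨ i = k) ∧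
      (i ≠ i' → i' ≠ 1 → i' ≠ k) := fun i i' => by
    by_cases hi : i = 1
    · by_cases hi' : i' = 1
      · obtain ⟨k, -⟩ := exists_ne (Classical.arbitrary {i : X₁ →* ℂˣ // i ≠ 1})
        exact ⟨k, Or.inl hi, fun _ h => absurd hi' h⟩
      · obtain ⟨k, hk⟩ := exists_ne (⟨i', hi'⟩ : {i : X₁ →* ℂˣ // i ≠ 1})
        exact ⟨k, Or.inl hi, fun _ _ e => hk (Subtype.ext e.symm)⟩
    · exact ⟨⟨i, hi⟩, Or.inr rfl, fun h _ => h.symm⟩
  have pick₂ : ∀ i i' : X₂ →* ℂˣ, ∃ k : {i : X₂ →* ℂˣ // i ≠ 1}, (i = 1 ∨ i = k) ∧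
      (i ≠ i' → i' ≠ 1 → i' ≠ k) := fun i i' => by
    by_cases hi : i = 1
    · by_cases hi' : i' = 1
      · obtain ⟨k, -⟩ := exists_ne (Classical.arbitrary {i : X₂ →* ℂˣ // i ≠ 1})
        exact ⟨k, Or.inl hi, fun _ h => absurd hi' h⟩
      · obtain ⟨k, hk⟩ := exists_ne (⟨i', hi'⟩ : {i : X₂ →* ℂˣ // i ≠ 1})
        exact ⟨k, Or.inl hi, fun _ _ e => hk (Subtype.ext e.symm)⟩
    · exact ⟨⟨i, hi⟩, Or.inr rfl, fun h _ => h.symm⟩
  have ou' : ∀ i j i' j', ¬ (i = 1 ∧ j = 1) →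
      ((i' = 1 ∧ j' = 1) ∨ (i ≠ i' ∧ i' ≠ 1) ∨ (j ≠ j' ∧ j' ≠ 1)) →
      classInner (u i j) (u i' j') = 0 := by
    intro i j i' j' h0 h1
    obtain ⟨k, hk1, hk2⟩ := pick₁ i i'
    obtain ⟨l, hl1, hl2⟩ := pick₂ j j'
    refine sep (β k l) (su _ _) (su _ _) (by rw [βu, if_pos ⟨hk1, hl1, h0⟩]) ?_
    rw [βu, if_neg]
    rintro ⟨a1, a2, a3⟩
    rcases h1 with h1 | h1 | h1
    · exact a3 h1
    · exact a1.elim h1.2 (hk2 h1.1 h1.2)
    · exact a2.elim h1.2 (hl2 h1.1 h1.2)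
  have ou : ∀ i j i' j', i ≠ i' ∨ j ≠ j' → classInner (u i j) (u i' j') = 0 := by
    intro i j i' j' hne
    by_cases h0 : i = 1 ∧ j = 1
    · refine classInner_eq_zero_comm.1 (ou' _ _ _ _ ?_ (Or.inl h0))
      rintro ⟨rfl, rfl⟩
      exact hne.elim (fun e => e h0.1) (fun e => e h0.2)
    by_cases h0' : i' = 1 ∧ j' = 1
    · exact ou' _ _ _ _ h0 (Or.inl h0')
    rcases hne with hne | hne
    · by_cases hi' : i' = 1
      · exact classInner_eq_zero_comm.1 (ou' _ _ _ _ h0'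
          (Or.inr (Or.inl ⟨hne.symm, hi' ▸ hne⟩)))
      · exact ou' _ _ _ _ h0 (Or.inr (Or.inl ⟨hne, hi'⟩))
    · by_cases hj' : j' = 1
      · exact classInner_eq_zero_comm.1 (ou' _ _ _ _ h0'
          (Or.inr (Or.inr ⟨hne.symm, hj' ▸ hne⟩)))
      · exact ou' _ _ _ _ h0 (Or.inr (Or.inr ⟨hne, hj'⟩))
  refine ⟨fun i j => (if (i = 1 ↔ j = 1) then (1 : ℂ) else -1) • u i j,
    fun i j => (su i j).sign_smul' (by split_ifs <;> simp), fun i j i' j' hne => ?_, ?_,
    fun i j hi hj => ?_⟩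
  · rw [classInner_smul_left, classInner_smul_right, ou _ _ _ _ hne]; simp
  · simp [hu]
  · have e : β i j = indHom h.iota (alphaF i j) - fun _ => 1 := rfl
    simp only [hu, hi, hj, hX, e, dif_neg, dif_pos, not_false_eq_true, if_true, iff_true,
      true_iff, if_false, one_smul, neg_smul]
    abel

namespace EtaFam

variable {h : TIPair f₁ f₂} {η : (X₁ →* ℂˣ) → (X₂ →* ℂˣ) → G → ℂ}

theorem gen (hη : EtaFam h η) (i j) : IsGeneralizedCharacter G (η i j) := (hη.signed i j).gen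

theorem inner_self (hη : EtaFam h η) (i j) : classInner (η i j) (η i j) = 1 :=
  (hη.signed i j).inner_self

theorem inner (hη : EtaFam h η) (i j i' j') [Decidable (i = i')] [Decidable (j = j')] :
    classInner (η i j) (η i' j') = (if i = i' then 1 else 0) * (if j = j' then 1 else 0) := by
  by_cases e : i = i' ∧ j = j'
  · obtain ⟨rfl, rfl⟩ := e
    simp [hη.inner_self]
  · rw [not_and_or] at e
    rw [hη.orth _ _ _ _ e]
    rcases e with e | e <;> simp [e]

theorem ind' (hη : EtaFam h η) (i j) :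
    indHom h.iota (alphaF i j) = η 1 1 - η i 1 - η 1 j + η i j := by
  by_cases hi : i = 1
  · subst hi
    have : alphaF (1 : X₁ →* ℂˣ) j = 0 - 0 := by funext p; simp [alphaF]
    rw [this, indHom_sub h.iota_injective]; abel
  by_cases hj : j = 1
  · subst hj
    have : alphaF i (1 : X₂ →* ℂˣ) = 0 - 0 := by funext p; simp [alphaF]
    rw [this, indHom_sub h.iota_injective]; abel
  exact hη.ind i j hi hj

/-- Peterfalvi (3.7). -/
theorem rect (hη : EtaFam h η) {θ : G → ℂ} (hθ : IsClassFunction G θ)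
    (hV : ∀ x y, x ≠ 1 → y ≠ 1 → θ (f₁ x * f₂ y) = 0) :
    RectRule (fun i j => classInner θ (η i j)) := by
  have := h.finite₁
  have := h.finite₂
  have := Fintype.ofFinite X₁
  have := Fintype.ofFinite X₂
  refine rectRule_of_base 1 1 fun i j _ _ => ?_
  have e := classInner_indHom_right h.iota_injective (alphaF i j) hθ
  have e0 : classInner (fun w => θ (h.iota w)) (alphaF i j) = 0 := by
    rw [classInner_congr_left (φ' := 0), classInner_zero_left]
    intro p hp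
    have : ¬ (p.1 = 1 ∨ p.2 = 1) := fun e => hp (alphaF_supp i j p e)
    push Not at this
    exact hV _ _ this.1 this.2
  rw [hη.ind', e0] at e
  simp only [classInner_add_right, classInner_sub_right] at e
  linear_combination e

/-- The values of a class function on `V` are determined by its inner products with the
family; this contains (3.2.c) and (3.2.d). -/
theorem apply_eq_sum [Finite X₁] [Finite X₂] (hη : EtaFam h η) {θ : G → ℂ}
    (hθ : IsClassFunction G θ) {x : X₁} {y : X₂} (hx : x ≠ 1) (hy : y ≠ 1) :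
    θ (f₁ x * f₂ y) = ∑ i : X₁ →* ℂˣ, ∑ j : X₂ →* ℂˣ,
      classInner θ (η i j) * ((i x : ℂ) * (j y : ℂ)) := by
  have := Fintype.ofFinite X₁
  have := Fintype.ofFinite X₂
  have hr : RectRule (fun i j => classInner (fun w => θ (h.iota w)) (omegaF i j) -
      classInner θ (η i j)) := by
    refine rectRule_of_base 1 1 fun i j _ _ => ?_
    have e := classInner_indHom_right h.iota_injective (alphaF i j) hθ
    rw [hη.ind', alphaF_eq] at e
    simp only [classInner_add_right, classInner_sub_right] at e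
    linear_combination -e
  have e1 := hr.sum_eq_zero h.comm₁ h.comm₂ hx hy
  have e2 := fourier_prod h.comm₁ h.comm₂ (fun w => θ (h.iota w)) x y
  simp only [sub_mul, Finset.sum_sub_distrib] at e1
  rw [← e2, sub_eq_zero] at e1
  exact e1

theorem apply_eq (hη : EtaFam h η) (i j) {x : X₁} {y : X₂} (hx : x ≠ 1) (hy : y ≠ 1) :
    η i j (f₁ x * f₂ y) = (i x : ℂ) * (j y : ℂ) := by
  classical
  have := h.finite₁
  have := h.finite₂
  rw [hη.apply_eq_sum (hη.signed i j).isClassFunction hx hy]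
  simp [hη.inner]

theorem vanish (hη : EtaFam h η) {θ : G → ℂ} (hθ : IsClassFunction G θ)
    (h0 : ∀ i j, classInner θ (η i j) = 0) {x : X₁} {y : X₂} (hx : x ≠ 1) (hy : y ≠ 1) :
    θ (f₁ x * f₂ y) = 0 := by
  have := h.finite₁
  have := h.finite₂
  rw [hη.apply_eq_sum hθ hx hy]
  simp [h0]

theorem bessel [Finite X₁] [Finite X₂] (hη : EtaFam h η) (θ : G → ℂ)
    (s : Finset ((X₁ →* ℂˣ) × (X₂ →* ℂˣ))) :
    ∑ p ∈ s, ‖classInner θ (η p.1 p.2)‖ ^ 2 ≤ (classInner θ θ).re :=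
  bessel_orthonormal_le s (fun p => η p.1 p.2) (fun p _ => hη.inner_self _ _)
    (fun p _ q _ hpq => hη.orth _ _ _ _ (by
      by_contra hne
      push Not at hne
      exact hpq (Prod.ext hne.1 hne.2))) θ

theorem card_le_norm (hη : EtaFam h η) {θ : G → ℂ} (hθ : IsGeneralizedCharacter G θ) :
    (Nat.card {p : (X₁ →* ℂˣ) × (X₂ →* ℂˣ) // classInner θ (η p.1 p.2) ≠ 0} : ℝ) ≤
      (classInner θ θ).re := by
  classical
  have := h.finite₁
  have := h.finite₂
  refine le_trans ?_ (hη.bessel θ (Finset.univ.filter fun p => classInner θ (η p.1 p.2) ≠ 0))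
  rw [Nat.card_eq_fintype_card, Fintype.card_subtype, Finset.card_eq_sum_ones, Nat.cast_sum]
  refine Finset.sum_le_sum fun p hp => ?_
  rw [Nat.cast_one]
  exact one_le_norm_sq_inner hθ (hη.gen _ _) (Finset.mem_filter.1 hp).2

/-- A virtual character of small norm vanishing on `V` is orthogonal to the family. -/
theorem orth_of_norm_lt (hη : EtaFam h η) {θ : G → ℂ} (hθ : IsGeneralizedCharacter G θ)
    (hV : ∀ x y, x ≠ 1 → y ≠ 1 → θ (f₁ x * f₂ y) = 0)
    (h1 : (classInner θ θ).re < Nat.card X₁) (h2 : (classInner θ θ).re < Nat.card X₂) (i j) :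
    classInner θ (η i j) = 0 := by
  have := h.finite₁
  have := h.finite₂
  by_contra hne
  have e1 := (hη.rect (gen_isClassFunction hθ) hV).min_le_card hne
  have e2 := hη.card_le_norm hθ
  rw [card_dual h.comm₁, card_dual h.comm₂] at e1
  have e3 : ((min (Nat.card X₁) (Nat.card X₂) : ℕ) : ℝ) ≤ (classInner θ θ).re :=
    le_trans (by exact_mod_cast e1) e2
  rw [Nat.cast_min, min_le_iff] at e3
  rcases e3 with e3 | e3 <;> linarith

/-- Peterfalvi (3.9.a). -/
theorem eq_of_eq_on (hη : EtaFam h η) (h1 : 3 ≤ Nat.card X₁) (h2 : 3 ≤ Nat.card X₂) {φ : G → ℂ}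
    (hφ : IsSignedIrr G φ) {i j}
    (hV : ∀ x y, x ≠ 1 → y ≠ 1 → φ (f₁ x * f₂ y) = (i x : ℂ) * (j y : ℂ)) : φ = η i j := by
  rcases hφ.eq_or_eq_neg_or_orth (hη.signed i j) with e | e | e
  · exact e
  · exfalso
    obtain ⟨_, x, y, hx, hy, rfl⟩ := h.cycV_nonempty
    have := hV x y hx hy
    rw [e, Pi.neg_apply, hη.apply_eq i j hx hy] at this
    have h0 : (i x : ℂ) * (j y : ℂ) = 0 := by linear_combination (-1 / 2 : ℂ) * this
    simp at h0
  · exfalso
    have n2 : (classInner (φ - η i j) (φ - η i j)).re = 2 := by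
      rw [classInner_sub_left, classInner_sub_right, classInner_sub_right, e,
        classInner_eq_zero_comm.1 e, hφ.inner_self, hη.inner_self]
      norm_num
    have h1' : (3 : ℝ) ≤ Nat.card X₁ := by exact_mod_cast h1
    have h2' : (3 : ℝ) ≤ Nat.card X₂ := by exact_mod_cast h2
    have := hη.orth_of_norm_lt (gen_sub hφ.gen (hη.gen i j))
      (fun x y hx hy => by rw [Pi.sub_apply, hV x y hx hy, hη.apply_eq i j hx hy, sub_self])
      (by linarith) (by linarith) i j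
    rw [classInner_sub_left, e, hη.inner_self] at this
    norm_num at this

end EtaFam

end IndW

end CL.PF
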