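import Cfsg.Agent.Base

/-! Counting the conjugates of a TI-subset. -/

set_option autoImplicit false

namespace CL.PF

open Cfsg

variable {G : Type*} [Group G]

/-- The union of the conjugates of a set `A`. -/
def conjSupport (A : Set G) : Set G := {g | ∃ x : G, x * g * x⁻¹ ∈ A}

theorem mem_conjSupport {A : Set G} {g : G} :
    g ∈ conjSupport A ↔ ∃ x : G, x * g * x⁻¹ ∈ A := Iff.rfl

theorem subset_conjSupport (A : Set G) : A ⊆ conjSupport A :=
  fun g hg => ⟨1, by simpa using hg⟩

theorem conj_mem_conjSupport {A : Set G} {g : G} (y : G) :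
    y * g * y⁻¹ ∈ conjSupport A ↔ g ∈ conjSupport A := by
  constructor
  · rintro ⟨x, hx⟩
    exact ⟨x * y, by simpa [mul_assoc] using hx⟩
  · rintro ⟨x, hx⟩
    exact ⟨x * y⁻¹, by simpa [mul_assoc] using hx⟩

/-- For a set `A` of non-identity elements such that `N` normalises `A` and every `g` that
conjugates an element of `A` into `A` lies in `N`: an element of the union of the conjugates of `A`
is conjugated into `A` by exactly `|N|` elements. -/
theorem card_conj_into_TI [Finite G] {A : Set G} {N : Subgroup G}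
    (hN : ∀ x ∈ N, ∀ a ∈ A, x * a * x⁻¹ ∈ A)
    (hTI : ∀ g : G, ∀ a ∈ A, g * a * g⁻¹ ∈ A → g ∈ N) {g : G} (hg : g ∈ conjSupport A) :
    Nat.card {x : G // x * g * x⁻¹ ∈ A} = Nat.card N := by
  obtain ⟨y, hy⟩ := hg
  refine Nat.card_congr
    { toFun := fun x => ⟨x.1 * y⁻¹, hTI _ _ hy (by simpa [mul_assoc] using x.2)⟩
      invFun := fun n => ⟨n.1 * y, by simpa [mul_assoc] using hN _ n.2 _ hy⟩
      left_inv := fun x => by simp
      right_inv := fun n => by simp }

open Classical in
/-- Summation of a class function over the union of the conjugates of a TI-subset. -/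
theorem sum_conjSupport_TI [Fintype G] {M : Type*} [AddCommMonoid M] {A : Set G} {N : Subgroup G}
    (hN : ∀ x ∈ N, ∀ a ∈ A, x * a * x⁻¹ ∈ A)
    (hTI : ∀ g : G, ∀ a ∈ A, g * a * g⁻¹ ∈ A → g ∈ N) (f : G → M)
    (hf : ∀ g x : G, f (x * g * x⁻¹) = f g) :
    ∑ g ∈ Finset.univ.filter (· ∈ conjSupport A), f g =
      N.index • ∑ a ∈ Finset.univ.filter (· ∈ A), f a := by
  -- fibre the union of the conjugates over the right cosets of `N`
  have key : ∀ g ∈ conjSupport A, ∃ q : G ⧸ N, (q.out)⁻¹ * g * q.out ∈ A ∧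
      ∀ q' : G ⧸ N, (q'.out)⁻¹ * g * q'.out ∈ A → q' = q := by
    rintro g ⟨y, hy⟩
    refine ⟨(y⁻¹ : G), ?_, ?_⟩
    · obtain ⟨n, hn⟩ := QuotientGroup.mk_out_eq_mul N y⁻¹
      rw [hn]
      have := hN _ (N.inv_mem n.2) _ hy
      simpa [mul_assoc] using this
    · intro q' hq'
      rw [← QuotientGroup.out_eq' q', QuotientGroup.eq]
      apply hTI _ _ hy
      simpa [mul_assoc] using hq'
  have h1 : ∑ g ∈ Finset.univ.filter (· ∈ conjSupport A), f g =
      ∑ g : G, ∑ q : G ⧸ N, if (q.out)⁻¹ * g * q.out ∈ A then f g else 0 := by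
    rw [Finset.sum_filter]
    refine Finset.sum_congr rfl fun g _ => ?_
    split_ifs with hg
    · obtain ⟨q, hq, hu⟩ := key g hg
      rw [Finset.sum_eq_single q]
      · rw [if_pos hq]
      · intro q' _ hne
        rw [if_neg (fun h => hne (hu q' h))]
      · simp
    · symm
      apply Finset.sum_eq_zero
      intro q _
      rw [if_neg]
      intro h
      exact hg ⟨(q.out)⁻¹, by simpa using h⟩
  rw [h1, Finset.sum_comm]
  have h2 : ∀ q : G ⧸ N, (∑ g : G, if (q.out)⁻¹ * g * q.out ∈ A then f g else 0) =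
      ∑ a ∈ Finset.univ.filter (· ∈ A), f a := by
    intro q
    rw [Finset.sum_filter]
    refine Fintype.sum_equiv (MulAut.conj (q.out)⁻¹).toEquiv _ _ fun g => ?_
    have := hf g (q.out)⁻¹
    simp only [inv_inv] at this
    simp [this]
  rw [Finset.sum_congr rfl fun q _ => h2 q, Finset.sum_const, Finset.card_univ,
    Subgroup.index_eq_card, Nat.card_eq_fintype_card]

/-- The union of the conjugates of a TI-subset `A` with normaliser `N` has `[G:N] |A|` elements. -/
theorem ncard_conjSupport_TI [Finite G] {A : Set G} {N : Subgroup G}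
    (hN : ∀ x ∈ N, ∀ a ∈ A, x * a * x⁻¹ ∈ A)
    (hTI : ∀ g : G, ∀ a ∈ A, g * a * g⁻¹ ∈ A → g ∈ N) :
    (conjSupport A).ncard = N.index * A.ncard := by
  classical
  have := Fintype.ofFinite G
  have h := sum_conjSupport_TI hN hTI (fun _ => (1 : ℕ)) (fun _ _ => rfl)
  simp only [Finset.sum_const, smul_eq_mul, mul_one] at h
  rw [Set.ncard_eq_toFinset_card', Set.ncard_eq_toFinset_card']
  convert h using 2
  · ext; simp
  · congr 1; ext; simp

/-- The non-identity elements of a TI-subgroup: the two facts used by the counting lemmas. -/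
theorem TI_sharp_of_isTISubset {H : Subgroup G} (hTI : IsTISubset (H : Set G)) :
    (∀ x ∈ Subgroup.normalizer (H : Set G), ∀ a ∈ (H : Set G) \ {1},
        x * a * x⁻¹ ∈ (H : Set G) \ {1}) ∧
      ∀ g : G, ∀ a ∈ (H : Set G) \ {1}, g * a * g⁻¹ ∈ (H : Set G) \ {1} →
        g ∈ Subgroup.normalizer (H : Set G) := by
  refine ⟨fun x hx a ha => ⟨(Subgroup.mem_normalizer_iff.mp hx a).mp ha.1, ?_⟩, ?_⟩
  · intro h
    apply ha.2
    simpa using h
  · intro g a ha hga
    by_contra hg
    exact ha.2 (hTI g hg a ha.1 hga.1)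

theorem ncard_sharp [Finite G] (H : Subgroup G) :
    ((H : Set G) \ {1}).ncard = Nat.card H - 1 := by
  rw [Set.ncard_sdiff_singleton_of_mem (by simp)]
  rfl

end CL.PF
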