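import Cfsg.Agent.Base
import Cfsg.Agent.PF.CycFam
import Cfsg.Agent.PF.TICount
import Cfsg.Agent.Char.Galois

/-! Exports of Peterfalvi section 3 (cyclic TI-subsets).  Owner: helper93.
`CycTI.symm`, `CycTI.odd₁`, `CycTI.odd₂`, `CycTI.three_le₁`, `CycTI.three_le₂`, `CycTI.card_cases`,
`CycTI.of_comp`, `cycTI_subtype` are in `PF/CycBasic`. -/

set_option autoImplicit false

namespace CL.PF

open Cfsg CL.Char
open scoped ComplexConjugate

section Group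

variable {G X₁ X₂ : Type*} [Group G] [Group X₁] [Group X₂] {f₁ : X₁ →* G} {f₂ : X₂ →* G}

theorem CycTI.comm (h : CycTI f₁ f₂) (x : X₁) (y : X₂) : f₁ x * f₂ y = f₂ y * f₁ x :=
  h.tiPair.comm x y

theorem CycTI.coprime (h : CycTI f₁ f₂) : Nat.Coprime (Nat.card X₁) (Nat.card X₂) :=
  h.tiPair.coprime

theorem CycTI.cyclic₁ (h : CycTI f₁ f₂) : IsCyclic X₁ := h.tiPair.isCyclic₁

theorem CycTI.cyclic₂ (h : CycTI f₁ f₂) : IsCyclic X₂ := h.tiPair.isCyclic₂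

theorem CycTI.comm₁ (h : CycTI f₁ f₂) (a b : X₁) : a * b = b * a := h.tiPair.comm₁ a b

theorem CycTI.comm₂ (h : CycTI f₁ f₂) (a b : X₂) : a * b = b * a := h.tiPair.comm₂ a b

theorem CycTI.card_dual₁ [Finite X₁] (h : CycTI f₁ f₂) : Nat.card (X₁ →* ℂˣ) = Nat.card X₁ :=
  card_linear_of_comm h.comm₁

theorem CycTI.card_dual₂ [Finite X₂] (h : CycTI f₁ f₂) : Nat.card (X₂ →* ℂˣ) = Nat.card X₂ :=
  card_linear_of_comm h.comm₂

theorem CycTI.fintype_card_dual₁ [Finite X₁] (h : CycTI f₁ f₂) :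
    Fintype.card (X₁ →* ℂˣ) = Nat.card X₁ := card_dual h.comm₁

theorem CycTI.fintype_card_dual₂ [Finite X₂] (h : CycTI f₁ f₂) :
    Fintype.card (X₂ →* ℂˣ) = Nat.card X₂ := card_dual h.comm₂

theorem CycTI.mem_cycV_iff (h : CycTI f₁ f₂) {g : G} :
    g ∈ cycV f₁ f₂ ↔ g ∈ f₁.range ⊔ f₂.range ∧ g ∉ f₁.range ∧ g ∉ f₂.range :=
  h.tiPair.mem_cycV_iff

theorem CycTI.cycV_symm (h : CycTI f₁ f₂) : cycV f₂ f₁ = cycV f₁ f₂ := h.tiPair.cycV_symm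

theorem CycTI.cycVConj_symm (h : CycTI f₁ f₂) : cycVConj f₂ f₁ = cycVConj f₁ f₂ :=
  h.tiPair.cycVConj_symm

theorem CycTI.one_not_mem_cycVConj (h : CycTI f₁ f₂) : (1 : G) ∉ cycVConj f₁ f₂ :=
  h.tiPair.one_not_mem_cycVConj

/-- In a group of odd order a linear character equal to its inverse is trivial. -/
theorem dual_eq_one_of_inv_eq [Finite X₁] (hodd : Odd (Nat.card X₁)) {i : X₁ →* ℂˣ}
    (hi : i⁻¹ = i) : i = 1 := by
  ext x
  have h2 : (i x) ^ 2 = 1 := by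
    have : (i⁻¹) x = i x := by rw [hi]
    rw [MonoidHom.inv_apply] at this
    rw [sq]; nth_rewrite 1 [← this]; simp
  have hn : (i x) ^ Nat.card X₁ = 1 := by rw [← map_pow, pow_card_eq_one', map_one]
  have h3 : orderOf (i x) ∣ Nat.gcd 2 (Nat.card X₁) :=
    Nat.dvd_gcd (orderOf_dvd_of_pow_eq_one h2) (orderOf_dvd_of_pow_eq_one hn)
  rw [(Nat.coprime_two_left.2 hodd : Nat.gcd 2 _ = 1), Nat.dvd_one, orderOf_eq_one_iff] at h3
  simp [h3]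

theorem CycTI.inv_ne₁ [Finite X₁] (h : CycTI f₁ f₂) {i : X₁ →* ℂˣ} (hi : i ≠ 1) : i⁻¹ ≠ i :=
  fun e => hi (dual_eq_one_of_inv_eq h.odd₁ e)

theorem CycTI.inv_ne₂ [Finite X₂] (h : CycTI f₁ f₂) {j : X₂ →* ℂˣ} (hj : j ≠ 1) : j⁻¹ ≠ j :=
  fun e => hj (dual_eq_one_of_inv_eq h.odd₂ e)

theorem CycTI.exists_dual_ne_one₁ [Finite X₁] (h : CycTI f₁ f₂) : ∃ i : X₁ →* ℂˣ, i ≠ 1 := by
  have : Nontrivial (X₁ →* ℂˣ) := by
    rw [← Finite.one_lt_card_iff_nontrivial, h.card_dual₁]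
    have := h.three_le₁; omega
  exact exists_ne 1

theorem CycTI.exists_dual_ne_one₂ [Finite X₂] (h : CycTI f₁ f₂) : ∃ j : X₂ →* ℂˣ, j ≠ 1 :=
  h.symm.exists_dual_ne_one₁

/-- `V` is a TI-subset with normaliser `W` -/
theorem CycTI.mem_of_conj_mem [Finite G] (h : CycTI f₁ f₂) {v g : G} (hv : v ∈ cycV f₁ f₂)
    (hg : g * v * g⁻¹ ∈ cycV f₁ f₂) : g ∈ f₁.range ⊔ f₂.range :=
  h.tiPair.mem_of_conj_mem hv (h.mem_cycV_iff.1 hg).1

theorem TIPair.ncard_cycV (h : TIPair f₁ f₂) [Finite X₁] [Finite X₂] :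
    (cycV f₁ f₂).ncard = (Nat.card X₁ - 1) * (Nat.card X₂ - 1) := by
  have e : cycV f₁ f₂ = h.iota '' (({1}ᶜ : Set X₁) ×ˢ ({1}ᶜ : Set X₂)) := by
    ext g
    constructor
    · rintro ⟨x, y, hx, hy, rfl⟩; exact ⟨(x, y), ⟨hx, hy⟩, rfl⟩
    · rintro ⟨p, hp, rfl⟩; exact ⟨p.1, p.2, hp.1, hp.2, rfl⟩
  rw [e, Set.ncard_image_of_injective _ h.iota_injective, Set.ncard_prod, Set.ncard_compl,
    Set.ncard_compl, Set.ncard_singleton, Set.ncard_singleton]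

theorem cycVConj_eq_conjSupport : cycVConj f₁ f₂ = conjSupport (cycV f₁ f₂) := by
  ext g
  constructor
  · rintro ⟨m, v, hv, rfl⟩
    exact ⟨m⁻¹, by simpa [mul_assoc] using hv⟩
  · rintro ⟨m, hm⟩
    exact ⟨m⁻¹, _, hm, by simp [mul_assoc]⟩

/-- `|V^G| = |G : W| (w₁ - 1) (w₂ - 1)` -/
theorem CycTI.ncard_cycVConj [Finite G] (h : CycTI f₁ f₂) :
    (cycVConj f₁ f₂).ncard * (Nat.card X₁ * Nat.card X₂) =
      Nat.card G * ((Nat.card X₁ - 1) * (Nat.card X₂ - 1)) := by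
  have := h.tiPair.finite₁
  have := h.tiPair.finite₂
  rw [cycVConj_eq_conjSupport, ncard_conjSupport_TI (N := f₁.range ⊔ f₂.range)
    (fun x hx a ha => by
      rwa [h.tiPair.conj_eq_of_conj_mem ha (Subgroup.mul_mem _ (Subgroup.mul_mem _ hx
        (h.mem_cycV_iff.1 ha).1) (Subgroup.inv_mem _ hx))])
    (fun g a ha hg => h.mem_of_conj_mem ha hg), h.tiPair.ncard_cycV, ← h.tiPair.card_sup,
    ← (f₁.range ⊔ f₂.range).index_mul_card]
  ring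

end Group

section Eta

variable {G X₁ X₂ : Type*} [Group G] [Fintype G] [Group X₁] [Group X₂]
  {f₁ : X₁ →* G} {f₂ : X₂ →* G}

theorem CycTI.etaFam (h : CycTI f₁ f₂) : EtaFam h.tiPair (eta f₁ f₂) := by
  obtain ⟨η, hη⟩ := h.exists_etaFam
  have : eta f₁ f₂ = η := by
    funext i j
    have := Classical.epsilon_spec (p := fun χ : G → ℂ => IsSignedIrr G χ ∧
      ∀ x y, x ≠ 1 → y ≠ 1 → χ (f₁ x * f₂ y) = (i x : ℂ) * (j y : ℂ))
      ⟨η i j, hη.signed i j, fun x y hx hy => hη.apply_eq i j hx hy⟩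
    exact hη.eq_of_eq_on h.three_le₁ h.three_le₂ this.1 this.2
  rwa [this]

theorem CycTI.eta_signed (h : CycTI f₁ f₂) (i : X₁ →* ℂˣ) (j : X₂ →* ℂˣ) :
    IsSignedIrr G (eta f₁ f₂ i j) := h.etaFam.signed i j

theorem CycTI.eta_gen (h : CycTI f₁ f₂) (i : X₁ →* ℂˣ) (j : X₂ →* ℂˣ) :
    IsGeneralizedCharacter G (eta f₁ f₂ i j) := h.etaFam.gen i j

theorem CycTI.eta_classFun (h : CycTI f₁ f₂) (i : X₁ →* ℂˣ) (j : X₂ →* ℂˣ) :
    IsClassFunction G (eta f₁ f₂ i j) := gen_isClassFunction (h.eta_gen i j)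

/-- (3.2.c) -/
theorem CycTI.eta_apply (h : CycTI f₁ f₂) (i : X₁ →* ℂˣ) (j : X₂ →* ℂˣ) {x : X₁} {y : X₂}
    (hx : x ≠ 1) (hy : y ≠ 1) : eta f₁ f₂ i j (f₁ x * f₂ y) = (i x : ℂ) * (j y : ℂ) :=
  h.etaFam.apply_eq i j hx hy

/-- (3.2.b) -/
theorem CycTI.eta_one (h : CycTI f₁ f₂) : eta f₁ f₂ 1 1 = fun _ => 1 := h.etaFam.one

theorem CycTI.eta_inner_self (h : CycTI f₁ f₂) (i : X₁ →* ℂˣ) (j : X₂ →* ℂˣ) :
    classInner (eta f₁ f₂ i j) (eta f₁ f₂ i j) = 1 := h.etaFam.inner_self i j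

theorem CycTI.eta_inner_of_ne (h : CycTI f₁ f₂) {i i' : X₁ →* ℂˣ} {j j' : X₂ →* ℂˣ}
    (hne : i ≠ i' ∨ j ≠ j') : classInner (eta f₁ f₂ i j) (eta f₁ f₂ i' j') = 0 :=
  h.etaFam.orth _ _ _ _ hne

theorem CycTI.eta_inner_mul (h : CycTI f₁ f₂) (i i' : X₁ →* ℂˣ) (j j' : X₂ →* ℂˣ)
    [Decidable (i = i')] [Decidable (j = j')] :
    classInner (eta f₁ f₂ i j) (eta f₁ f₂ i' j') =
      (if i = i' then 1 else 0) * (if j = j' then 1 else 0) := h.etaFam.inner _ _ _ _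

theorem CycTI.eta_inner' (h : CycTI f₁ f₂) (i i' : X₁ →* ℂˣ) (j j' : X₂ →* ℂˣ)
    [Decidable (i = i' ∧ j = j')] :
    classInner (eta f₁ f₂ i j) (eta f₁ f₂ i' j') = if i = i' ∧ j = j' then 1 else 0 := by
  split_ifs with e
  · obtain ⟨rfl, rfl⟩ := e; exact h.eta_inner_self i j
  · exact h.eta_inner_of_ne (not_and_or.1 e)

open Classical in
theorem CycTI.eta_inner (h : CycTI f₁ f₂) (i i' : X₁ →* ℂˣ) (j j' : X₂ →* ℂˣ) :
    classInner (eta f₁ f₂ i j) (eta f₁ f₂ i' j') = if i = i' ∧ j = j' then 1 else 0 :=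
  h.eta_inner' i i' j j'

theorem CycTI.eta_inj (h : CycTI f₁ f₂) {i i' : X₁ →* ℂˣ} {j j' : X₂ →* ℂˣ}
    (he : eta f₁ f₂ i j = eta f₁ f₂ i' j') : i = i' ∧ j = j' := by
  by_contra hne
  have := h.eta_inner_of_ne (not_and_or.1 hne)
  rw [he, h.eta_inner_self] at this
  exact one_ne_zero this

theorem CycTI.eta_ne_neg (h : CycTI f₁ f₂) (i i' : X₁ →* ℂˣ) (j j' : X₂ →* ℂˣ) :
    eta f₁ f₂ i j ≠ -eta f₁ f₂ i' j' := by
  classical
  intro e
  have := h.eta_inner i i' j j'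
  rw [e, classInner_neg_left, h.eta_inner_self] at this
  split_ifs at this <;> norm_num at this

theorem CycTI.eta_inner_one (h : CycTI f₁ f₂) {i : X₁ →* ℂˣ} {j : X₂ →* ℂˣ}
    (hne : i ≠ 1 ∨ j ≠ 1) : classInner (eta f₁ f₂ i j) (fun _ => 1) = 0 := by
  rw [← h.eta_one]; exact h.eta_inner_of_ne hne

/-- (3.9.a) -/
theorem CycTI.eq_eta (h : CycTI f₁ f₂) {χ : G → ℂ} (hχ : IsSignedIrr G χ) (i : X₁ →* ℂˣ)
    (j : X₂ →* ℂˣ) (hV : ∀ x y, x ≠ 1 → y ≠ 1 → χ (f₁ x * f₂ y) = (i x : ℂ) * (j y : ℂ)) :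
    χ = eta f₁ f₂ i j := h.etaFam.eq_of_eq_on h.three_le₁ h.three_le₂ hχ hV

theorem CycTI.eta_swap (h : CycTI f₁ f₂) (i : X₁ →* ℂˣ) (j : X₂ →* ℂˣ) :
    eta f₂ f₁ j i = eta f₁ f₂ i j :=
  h.eq_eta (h.symm.eta_signed j i) i j fun x y hx hy => by
    rw [h.comm, h.symm.eta_apply j i hy hx, mul_comm]

theorem CycTI.etaCol_swap [Finite X₂] (h : CycTI f₁ f₂) (i : X₁ →* ℂˣ) :
    etaCol f₂ f₁ i = etaRow f₁ f₂ i :=
  Finset.sum_congr rfl fun j _ => h.eta_swap i j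

theorem CycTI.etaRow_swap [Finite X₁] (h : CycTI f₁ f₂) (j : X₂ →* ℂˣ) :
    etaRow f₂ f₁ j = etaCol f₁ f₂ j :=
  Finset.sum_congr rfl fun i _ => h.eta_swap i j

theorem CycTI.orthEta_swap (h : CycTI f₁ f₂) {ψ : G → ℂ} :
    OrthEta f₂ f₁ ψ ↔ OrthEta f₁ f₂ ψ :=
  ⟨fun ho i j => h.eta_swap i j ▸ ho j i, fun ho j i => (h.eta_swap i j).symm ▸ ho i j⟩

/-- (3.2.a), (3.5): `η_{ij} - η_{i0} - η_{0j} + 1` is induced from a function supported on `V` -/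
theorem CycTI.eta_bridge_eq_zero (h : CycTI f₁ f₂) (i : X₁ →* ℂˣ) (j : X₂ →* ℂˣ) {g : G}
    (hg : g ∉ cycVConj f₁ f₂) :
    eta f₁ f₂ i j g - eta f₁ f₂ i 1 g - eta f₁ f₂ 1 j g + 1 = 0 := by
  have e := h.tiPair.indHom_eq_zero (alphaF_supp i j) hg
  rw [h.etaFam.ind', h.eta_one] at e
  simp only [Pi.add_apply, Pi.sub_apply] at e
  linear_combination e

theorem CycTI.eta_rect_eq_zero (h : CycTI f₁ f₂) (i i' : X₁ →* ℂˣ) (j j' : X₂ →* ℂˣ) {g : G}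
    (hg : g ∉ cycVConj f₁ f₂) :
    eta f₁ f₂ i j g + eta f₁ f₂ i' j' g = eta f₁ f₂ i j' g + eta f₁ f₂ i' j g := by
  linear_combination h.eta_bridge_eq_zero i j hg + h.eta_bridge_eq_zero i' j' hg -
    h.eta_bridge_eq_zero i j' hg - h.eta_bridge_eq_zero i' j hg

/-- (3.2.d), (3.2.e) -/
theorem CycTI.eq_zero_of_orthEta (h : CycTI f₁ f₂) {ψ : G → ℂ} (hψ : IsClassFunction G ψ)
    (ho : OrthEta f₁ f₂ ψ) {v : G} (hv : v ∈ cycV f₁ f₂) : ψ v = 0 := by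
  obtain ⟨x, y, hx, hy, rfl⟩ := hv
  exact h.etaFam.vanish hψ ho hx hy

theorem CycTI.eq_zero_of_orthEta_conj (h : CycTI f₁ f₂) {ψ : G → ℂ} (hψ : IsClassFunction G ψ)
    (ho : OrthEta f₁ f₂ ψ) {g : G} (hg : g ∈ cycVConj f₁ f₂) : ψ g = 0 := by
  obtain ⟨m, v, hv, rfl⟩ := hg
  rw [hψ]; exact h.eq_zero_of_orthEta hψ ho hv

/-- A signed irreducible character is `± η_{ij}` or orthogonal to the image of `σ`. -/
theorem CycTI.signed_cases (h : CycTI f₁ f₂) {χ : G → ℂ} (hχ : IsSignedIrr G χ) :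
    (∃ i j, χ = eta f₁ f₂ i j ∨ χ = -eta f₁ f₂ i j) ∨ OrthEta f₁ f₂ χ := by
  by_cases ho : OrthEta f₁ f₂ χ
  · exact Or.inr ho
  · unfold OrthEta at ho
    push Not at ho
    obtain ⟨i, j, hij⟩ := ho
    exact Or.inl ⟨i, j, hχ.eq_or_eq_neg (h.eta_signed i j) hij⟩

/-- the value on `V` of a class function only depends on its projection on the image of `σ` -/
theorem CycTI.apply_eq_sum [Finite X₁] [Finite X₂] (h : CycTI f₁ f₂) {ψ : G → ℂ}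
    (hψ : IsClassFunction G ψ) {x : X₁} {y : X₂} (hx : x ≠ 1) (hy : y ≠ 1) :
    ψ (f₁ x * f₂ y) = ∑ i : X₁ →* ℂˣ, ∑ j : X₂ →* ℂˣ,
      classInner ψ (eta f₁ f₂ i j) * ((i x : ℂ) * (j y : ℂ)) := h.etaFam.apply_eq_sum hψ hx hy

theorem CycTI.rect (h : CycTI f₁ f₂) {ψ : G → ℂ} (hψ : IsClassFunction G ψ)
    (hV : ∀ v ∈ cycV f₁ f₂, ψ v = 0) : RectRule (fun i j => classInner ψ (eta f₁ f₂ i j)) :=
  h.etaFam.rect hψ fun _ _ hx hy => hV _ (mem_cycV hx hy)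

/-- (3.7) -/
theorem CycTI.t3_7 (h : CycTI f₁ f₂) {ψ : G → ℂ} (hψ : IsClassFunction G ψ)
    (hV : ∀ v ∈ cycV f₁ f₂, ψ v = 0) (i i' : X₁ →* ℂˣ) (j j' : X₂ →* ℂˣ) :
    classInner ψ (eta f₁ f₂ i j) + classInner ψ (eta f₁ f₂ i' j') =
      classInner ψ (eta f₁ f₂ i j') + classInner ψ (eta f₁ f₂ i' j) := h.rect hψ hV i i' j j'

/-- `NC(ψ)` of (3.6) -/
noncomputable def cycNC (f₁ : X₁ →* G) (f₂ : X₂ →* G) (ψ : G → ℂ) : ℕ :=
  Nat.card {p : (X₁ →* ℂˣ) × (X₂ →* ℂˣ) // classInner ψ (eta f₁ f₂ p.1 p.2) ≠ 0}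

theorem CycTI.cycNC_swap (h : CycTI f₁ f₂) (ψ : G → ℂ) : cycNC f₂ f₁ ψ = cycNC f₁ f₂ ψ :=
  Nat.card_congr ((Equiv.prodComm _ _).subtypeEquiv fun p => by
    simp only [Equiv.prodComm_apply, Prod.fst_swap, Prod.snd_swap, h.eta_swap])

open Classical in
theorem CycTI.t3_8_aux (h : CycTI f₁ f₂) {ψ : G → ℂ} (hψ : IsClassFunction G ψ)
    (hV : ∀ v ∈ cycV f₁ f₂, ψ v = 0) (hlt : Nat.card X₁ + 2 ≤ Nat.card X₂)
    (hNC : cycNC f₁ f₂ ψ < 2 * Nat.card X₁) :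
    OrthEta f₁ f₂ ψ ∨
      (∃ (j₀ : X₂ →* ℂˣ) (a : ℂ), a ≠ 0 ∧ cycNC f₁ f₂ ψ = Nat.card X₁ ∧
        ∀ i j, classInner ψ (eta f₁ f₂ i j) = if j = j₀ then a else 0) ∨
      (∃ (i₀ : X₁ →* ℂˣ) (a : ℂ), a ≠ 0 ∧ cycNC f₁ f₂ ψ = Nat.card X₂ ∧
        ∀ i j, classInner ψ (eta f₁ f₂ i j) = if i = i₀ then a else 0) := by
  have := h.tiPair.finite₁
  have := h.tiPair.finite₂
  rcases (h.rect hψ hV).trichotomy (by rwa [h.fintype_card_dual₁, h.fintype_card_dual₂])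
    (by rwa [h.fintype_card_dual₁]) with h0 | ⟨j₀, a, h1, h2⟩ | ⟨i₀, a, h1, h2⟩
  · exact Or.inl h0
  · by_cases ha : a = 0
    · left
      intro i j
      by_cases hj : j = j₀
      · rw [hj, h1, ha]
      · exact h2 i j hj
    · right; left
      refine ⟨j₀, a, ha, ?_, fun i j => ?_⟩
      · rw [← h.card_dual₁]
        refine Nat.card_congr ⟨fun p => p.1.1, fun i => ⟨(i, j₀), by rw [h1]; exact ha⟩, ?_,
          fun _ => rfl⟩
        rintro ⟨⟨i, j⟩, hp⟩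
        have : j = j₀ := by by_contra hj; exact hp (h2 i j hj)
        subst this; rfl
      · split_ifs with hj
        · rw [hj, h1]
        · exact h2 i j hj
  · by_cases ha : a = 0
    · left
      intro i j
      by_cases hi : i = i₀
      · rw [hi, h1, ha]
      · exact h2 i j hi
    · right; right
      refine ⟨i₀, a, ha, ?_, fun i j => ?_⟩
      · rw [← h.card_dual₂]
        refine Nat.card_congr ⟨fun p => p.1.2, fun j => ⟨(i₀, j), by rw [h1]; exact ha⟩, ?_,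
          fun _ => rfl⟩
        rintro ⟨⟨i, j⟩, hp⟩
        have : i = i₀ := by by_contra hi; exact hp (h2 i j hi)
        subst this; rfl
      · split_ifs with hi
        · rw [hi, h1]
        · exact h2 i j hi

open Classical in
/-- (3.8), symmetric form -/
theorem CycTI.t3_8 (h : CycTI f₁ f₂) {ψ : G → ℂ} (hψ : IsClassFunction G ψ)
    (hV : ∀ v ∈ cycV f₁ f₂, ψ v = 0)
    (hNC : cycNC f₁ f₂ ψ < 2 * min (Nat.card X₁) (Nat.card X₂)) :
    OrthEta f₁ f₂ ψ ∨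
      (∃ (j₀ : X₂ →* ℂˣ) (a : ℂ), a ≠ 0 ∧ cycNC f₁ f₂ ψ = Nat.card X₁ ∧
        ∀ i j, classInner ψ (eta f₁ f₂ i j) = if j = j₀ then a else 0) ∨
      (∃ (i₀ : X₁ →* ℂˣ) (a : ℂ), a ≠ 0 ∧ cycNC f₁ f₂ ψ = Nat.card X₂ ∧
        ∀ i j, classInner ψ (eta f₁ f₂ i j) = if i = i₀ then a else 0) := by
  rcases h.card_cases with hlt | hlt
  · exact h.t3_8_aux hψ hV hlt (by rwa [min_eq_left (by omega)] at hNC)
  · have := h.symm.t3_8_aux hψ (by rwa [h.cycV_symm]) hlt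
      (by rwa [h.cycNC_swap, ← min_eq_right (show Nat.card X₂ ≤ Nat.card X₁ by omega)])
    simp only [h.eta_swap, h.cycNC_swap, h.orthEta_swap] at this
    rcases this with h0 | ⟨i₀, a, h1, h2, h3⟩ | ⟨j₀, a, h1, h2, h3⟩
    · exact Or.inl h0
    · exact Or.inr (Or.inr ⟨i₀, a, h1, h2, fun i j => h3 j i⟩)
    · exact Or.inr (Or.inl ⟨j₀, a, h1, h2, fun i j => h3 j i⟩)

/-- `NC(ψ) ≤ ‖ψ‖²` for virtual characters -/
theorem CycTI.cycNC_le_re (h : CycTI f₁ f₂) {ψ : G → ℂ} (hψ : IsGeneralizedCharacter G ψ) :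
    (cycNC f₁ f₂ ψ : ℝ) ≤ (classInner ψ ψ).re := h.etaFam.card_le_norm hψ

/-- `NC(ψ) ≤ ‖ψ‖²` for virtual characters -/
theorem CycTI.cycNC_le (h : CycTI f₁ f₂) {ψ : G → ℂ} (hψ : IsGeneralizedCharacter G ψ) {n : ℕ}
    (hn : classInner ψ ψ = n) : cycNC f₁ f₂ ψ ≤ n := by
  have := h.cycNC_le_re hψ
  rw [hn] at this
  exact_mod_cast this

theorem cycNC_neg (ψ : G → ℂ) : cycNC f₁ f₂ (-ψ) = cycNC f₁ f₂ ψ := by
  simp only [cycNC, classInner_neg_left, ne_eq, neg_eq_zero]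

theorem cycNC_smul_le [Finite X₁] [Finite X₂] (c : ℂ) (ψ : G → ℂ) :
    cycNC f₁ f₂ (c • ψ) ≤ cycNC f₁ f₂ ψ :=
  Nat.card_le_card_of_injective
    (fun p => ⟨p.1, fun e => p.2 (by rw [classInner_smul_left, e, mul_zero])⟩)
    (fun _ _ e => Subtype.ext (by simpa using e))

theorem cycNC_add_le [Finite X₁] [Finite X₂] (φ ψ : G → ℂ) :
    cycNC f₁ f₂ (φ + ψ) ≤ cycNC f₁ f₂ φ + cycNC f₁ f₂ ψ := by
  unfold cycNC
  change Nat.card {p : (X₁ →* ℂˣ) × (X₂ →* ℂˣ) | classInner (φ + ψ) (eta f₁ f₂ p.1 p.2) ≠ 0} ≤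
    Nat.card {p : (X₁ →* ℂˣ) × (X₂ →* ℂˣ) | classInner φ (eta f₁ f₂ p.1 p.2) ≠ 0} +
    Nat.card {p : (X₁ →* ℂˣ) × (X₂ →* ℂˣ) | classInner ψ (eta f₁ f₂ p.1 p.2) ≠ 0}
  rw [Nat.card_coe_set_eq, Nat.card_coe_set_eq, Nat.card_coe_set_eq]
  refine le_trans (Set.ncard_le_ncard ?_) (Set.ncard_union_le _ _)
  intro p hp
  by_contra hn
  simp only [Set.mem_union, Set.mem_ofPred_eq, not_or, not_not] at hn hp
  exact hp (by rw [classInner_add_left, hn.1, hn.2, add_zero])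

theorem cycNC_sub_le [Finite X₁] [Finite X₂] (φ ψ : G → ℂ) :
    cycNC f₁ f₂ (φ - ψ) ≤ cycNC f₁ f₂ φ + cycNC f₁ f₂ ψ := by
  rw [sub_eq_add_neg, ← cycNC_neg ψ]; exact cycNC_add_le _ _

theorem cycNC_eq_zero_iff [Finite X₁] [Finite X₂] {ψ : G → ℂ} :
    cycNC f₁ f₂ ψ = 0 ↔ OrthEta f₁ f₂ ψ := by
  unfold cycNC OrthEta
  rw [Nat.card_eq_zero, or_iff_left (not_infinite_iff_finite.2 inferInstance), isEmpty_subtype]
  exact ⟨fun h i j => not_not.1 (h (i, j)), fun h p => not_not.2 (h p.1 p.2)⟩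

/-- a class function vanishing on `V` with fewer than `min w₁ w₂` nonzero coefficients is
orthogonal to the image of `σ` -/
theorem CycTI.orthEta_of_small (h : CycTI f₁ f₂) {ψ : G → ℂ} (hψ : IsClassFunction G ψ)
    (hV : ∀ v ∈ cycV f₁ f₂, ψ v = 0) (hNC : cycNC f₁ f₂ ψ < min (Nat.card X₁) (Nat.card X₂)) :
    OrthEta f₁ f₂ ψ := by
  have := h.tiPair.finite₁
  have := h.tiPair.finite₂
  intro i j
  by_contra hne
  have := (h.rect hψ hV).min_le_card hne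
  rw [h.fintype_card_dual₁, h.fintype_card_dual₂] at this
  exact absurd hNC (not_lt.2 this)

/-- a virtual character of norm at most two vanishing on `V` is orthogonal to the image of `σ` -/
theorem CycTI.orthEta_of_norm_le_two (h : CycTI f₁ f₂) {ψ : G → ℂ}
    (hψ : IsGeneralizedCharacter G ψ) (hV : ∀ v ∈ cycV f₁ f₂, ψ v = 0)
    (h2 : (classInner ψ ψ).re ≤ 2) : OrthEta f₁ f₂ ψ := by
  refine h.orthEta_of_small (gen_isClassFunction hψ) hV ?_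
  have h1 : cycNC f₁ f₂ ψ ≤ 2 := by exact_mod_cast (h.cycNC_le_re hψ).trans h2
  have := h.three_le₁
  have := h.three_le₂
  omega

theorem eq_signed_sub_arith (p q p' q' p'' q'' : ℤ)
    (hb : p ^ 2 + q ^ 2 + p' ^ 2 + q' ^ 2 + p'' ^ 2 + q'' ^ 2 ≤ 2)
    (h1 : p - 1 + q' = q + 1 + p') (h2 : p - 1 + q'' = q + 1 + p'') : p - q = 2 := by
  have a1 := Grid.natAbs_le_mul_self p
  have a2 := Grid.natAbs_le_mul_self q
  have a3 := Grid.natAbs_le_mul_self p'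
  have a4 := Grid.natAbs_le_mul_self q'
  have a5 := Grid.natAbs_le_mul_self p''
  have a6 := Grid.natAbs_le_mul_self q''
  have hs : (p.natAbs : ℤ) + q.natAbs + p'.natAbs + q'.natAbs + p''.natAbs + q''.natAbs ≤ 2 := by
    nlinarith
  clear a1 a2 a3 a4 a5 a6 hb
  omega

/-- `eq_signed_sub_cTIiso` -/
theorem CycTI.eq_signed_sub (h : CycTI f₁ f₂) {φ : G → ℂ} (hφ : IsGeneralizedCharacter G φ)
    (h2 : classInner φ φ = 2) {e : ℤ} (he : e = 1 ∨ e = -1) (i : X₁ →* ℂˣ) {j k : X₂ →* ℂˣ}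
    (hjk : j ≠ k)
    (hV : ∀ v ∈ cycV f₁ f₂, φ v = ((e : ℂ) • (eta f₁ f₂ i j - eta f₁ f₂ i k)) v) :
    φ = (e : ℂ) • (eta f₁ f₂ i j - eta f₁ f₂ i k) := by
  classical
  wlog he1 : e = 1 generalizing e j k
  · have he2 : e = -1 := he.resolve_left he1
    subst he2
    have := this (Or.inl rfl) hjk.symm (fun v hv => by rw [hV v hv]; simp) rfl
    rw [this]; simp
  subst he1
  simp only [Int.cast_one, one_smul] at hV ⊢
  have := h.tiPair.finite₁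
  have := h.tiPair.finite₂
  have hr := h.rect (classFun_sub (gen_isClassFunction hφ)
    (classFun_sub (h.eta_classFun i j) (h.eta_classFun i k)))
    (fun v hv => by rw [Pi.sub_apply, hV v hv, sub_self])
  obtain ⟨i', i'', h1, h3, h4⟩ : ∃ i' i'', i' ≠ i ∧ i'' ≠ i ∧ i' ≠ i'' := by
    have : 1 < (Finset.univ.erase i).card := by
      rw [Finset.card_erase_of_mem (Finset.mem_univ _), Finset.card_univ, h.fintype_card_dual₁]
      have := h.three_le₁; omega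
    obtain ⟨a, ha, b, hb, hab⟩ := Finset.one_lt_card.1 this
    exact ⟨a, b, Finset.ne_of_mem_erase ha, Finset.ne_of_mem_erase hb, hab⟩
  choose c hc using fun i j => gen_inner_int hφ (h.eta_gen i j)
  have r1 := hr i i' j k
  have r2 := hr i i'' j k
  simp only [classInner_sub_left, hc, h.eta_inner_mul, if_pos, hjk, hjk.symm, h1.symm, h3.symm,
    if_false] at r1 r2
  have hb := h.etaFam.bessel φ {(i, j), (i, k), (i', j), (i', k), (i'', j), (i'', k)}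
  rw [Finset.sum_insert (by simp [hjk, h1.symm, h3.symm]),
    Finset.sum_insert (by simp [h1.symm, h3.symm]), Finset.sum_insert (by simp [hjk, h4]),
    Finset.sum_insert (by simp [h4]), Finset.sum_pair (by simp [hjk]), h2] at hb
  simp only [hc, Complex.norm_intCast, sq_abs] at hb
  have key : c i j - c i k = 2 := by
    refine eq_signed_sub_arith (c i j) (c i k) (c i' j) (c i' k) (c i'' j) (c i'' k) ?_ ?_ ?_
    · have : ((c i j ^ 2 + c i k ^ 2 + c i' j ^ 2 + c i' k ^ 2 + c i'' j ^ 2 + c i'' k ^ 2 : ℤ) : ℝ)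
          ≤ 2 := by
        push_cast
        have e2 : (2 : ℂ).re = 2 := by simp
        linarith
      exact_mod_cast this
    · have : ((c i j - 1 + c i' k : ℤ) : ℂ) = (c i k + 1 + c i' j : ℤ) := by
        push_cast; linear_combination r1
      exact_mod_cast this
    · have : ((c i j - 1 + c i'' k : ℤ) : ℂ) = (c i k + 1 + c i'' j : ℤ) := by
        push_cast; linear_combination r2
      exact_mod_cast this
  have key' : (c i j : ℂ) - c i k = 2 := by exact_mod_cast key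
  rw [← sub_eq_zero, ← classInner_self_eq_zero]
  simp only [classInner_sub_left, classInner_sub_right, h2, hc, h.eta_inner_mul, if_pos, hjk,
    hjk.symm, if_false, ← gen_inner_comm hφ (h.eta_gen _ _)]
  linear_combination (-2 : ℂ) * key'

/-- `eq_signed_sub_cTIiso`, for two characters in the same column -/
theorem CycTI.eq_signed_sub' (h : CycTI f₁ f₂) {φ : G → ℂ} (hφ : IsGeneralizedCharacter G φ)
    (h2 : classInner φ φ = 2) {e : ℤ} (he : e = 1 ∨ e = -1) {i k : X₁ →* ℂˣ} (j : X₂ →* ℂˣ)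
    (hik : i ≠ k)
    (hV : ∀ v ∈ cycV f₁ f₂, φ v = ((e : ℂ) • (eta f₁ f₂ i j - eta f₁ f₂ k j)) v) :
    φ = (e : ℂ) • (eta f₁ f₂ i j - eta f₁ f₂ k j) := by
  have := h.symm.eq_signed_sub hφ h2 he j hik (by simpa only [h.cycV_symm, h.eta_swap] using hV)
  simpa only [h.eta_swap] using this

/-- (3.9.a) for complex conjugation -/
theorem CycTI.eta_conj (h : CycTI f₁ f₂) (i : X₁ →* ℂˣ) (j : X₂ →* ℂˣ) :
    conjFun (eta f₁ f₂ i j) = eta f₁ f₂ i⁻¹ j⁻¹ := by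
  have := h.tiPair.finite₁
  have := h.tiPair.finite₂
  refine h.eq_eta (h.eta_signed i j).conjFun _ _ fun x y hx hy => ?_
  rw [conjFun_apply, h.eta_apply i j hx hy, map_mul, conj_linear', conj_linear']

theorem IsSignedIrr.map (σ : ℂ ≃+* ℂ) {χ : G → ℂ} (hχ : IsSignedIrr G χ) :
    IsSignedIrr G (fun g => σ (χ g)) := by
  rcases hχ with h | h
  · exact Or.inl (irr_map σ h)
  · right
    have := irr_map σ h
    convert this using 1
    funext g; simp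

/-- (3.9.a) for field automorphisms -/
theorem CycTI.eta_aut (h : CycTI f₁ f₂) (σ : ℂ ≃+* ℂ) {i i' : X₁ →* ℂˣ} {j j' : X₂ →* ℂˣ}
    (hi : ∀ x, (i' x : ℂ) = σ (i x)) (hj : ∀ y, (j' y : ℂ) = σ (j y)) :
    eta f₁ f₂ i' j' = fun g => σ (eta f₁ f₂ i j g) :=
  (h.eq_eta ((h.eta_signed i j).map σ) _ _ fun x y hx hy => by
    rw [h.eta_apply i j hx hy, map_mul, hi, hj]).symm

/-- The image of a linear character under a field automorphism. -/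
def dualAut {X : Type*} [Group X] (σ : ℂ ≃+* ℂ) (i : X →* ℂˣ) : X →* ℂˣ :=
  (Units.map σ.toRingHom.toMonoidHom).comp i

theorem dualAut_apply {X : Type*} [Group X] (σ : ℂ ≃+* ℂ) (i : X →* ℂˣ) (x : X) :
    (dualAut σ i x : ℂ) = σ (i x) := rfl

theorem dualAut_symm_dualAut {X : Type*} [Group X] (σ : ℂ ≃+* ℂ) (i : X →* ℂˣ) :
    dualAut σ.symm (dualAut σ i) = i := by
  ext x; simp [dualAut_apply]

/-- The permutation of the linear characters induced by a field automorphism. -/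
def dualAutEquiv (X : Type*) [Group X] (σ : ℂ ≃+* ℂ) : (X →* ℂˣ) ≃ (X →* ℂˣ) where
  toFun := dualAut σ
  invFun := dualAut σ.symm
  left_inv := dualAut_symm_dualAut σ
  right_inv := dualAut_symm_dualAut σ.symm

theorem dualAut_one {X : Type*} [Group X] (σ : ℂ ≃+* ℂ) : dualAut σ (1 : X →* ℂˣ) = 1 := by
  ext x; simp [dualAut_apply]

theorem dualAut_eq_one_iff {X : Type*} [Group X] (σ : ℂ ≃+* ℂ) {i : X →* ℂˣ} :
    dualAut σ i = 1 ↔ i = 1 := by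
  rw [← dualAut_one σ]
  exact ((dualAutEquiv X σ).injective.eq_iff).trans (by rw [dualAut_one])

theorem exists_coprime_part (a N : ℕ) (hN : N ≠ 0) :
    ∃ b : ℕ, b ≠ 0 ∧ Nat.Coprime a b ∧ ∀ n, n ∣ N → Nat.Coprime n a → n ∣ b := by
  refine ⟨∏ n ∈ N.divisors.filter (fun n => Nat.Coprime n a), n, ?_, ?_, fun n hn hna => ?_⟩
  · exact Finset.prod_ne_zero_iff.2 fun n hn =>
      (Nat.pos_of_mem_divisors (Finset.mem_filter.1 hn).1).ne'
  · exact Nat.Coprime.prod_right fun n hn => (Finset.mem_filter.1 hn).2.symm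
  · exact Finset.dvd_prod_of_mem _ (Finset.mem_filter.2 ⟨Nat.mem_divisors.2 ⟨hn, hN⟩, hna⟩)

theorem exists_ringEquiv_pow_fix {a k : ℕ} (ha : a ≠ 0) (hk : Nat.Coprime k a) (N : ℕ)
    (hN : N ≠ 0) : ∃ σ : ℂ ≃+* ℂ, (∀ z : ℂ, z ^ a = 1 → σ z = z ^ k) ∧
      ∀ z : ℂ, ∀ n : ℕ, n ∣ N → Nat.Coprime n a → z ^ n = 1 → σ z = z := by
  obtain ⟨b, hb, hab, hb'⟩ := exists_coprime_part a N hN
  obtain ⟨σ, h1, h2⟩ := exists_ringEquiv_pow_of_coprime ha hb hab hk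
  refine ⟨σ, h1, fun z n hn hna hz => h2 z ?_⟩
  obtain ⟨c, rfl⟩ := hb' n hn hna
  rw [pow_mul, hz, one_pow]

theorem dual_apply_pow_orderOf {X : Type*} [Group X] (i : X →* ℂˣ) (x : X) :
    (i x : ℂ) ^ orderOf i = 1 := by
  have : (i ^ orderOf i) x = 1 := by rw [pow_orderOf_eq_one]; rfl
  rw [MonoidHom.pow_apply] at this
  rw [← Units.val_pow_eq_pow_val, this, Units.val_one]

/-- (3.9.b) -/
theorem CycTI.eta_pow (h : CycTI f₁ f₂) (i : X₁ →* ℂˣ) (j : X₂ →* ℂˣ) {k : ℕ}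
    (hk : Nat.Coprime k (orderOf i * orderOf j)) :
    (∃ σ : ℂ ≃+* ℂ, (∀ x, ((i ^ k) x : ℂ) = σ (i x)) ∧ (∀ y, ((j ^ k) y : ℂ) = σ (j y)) ∧
      ∀ z : ℂ, ∀ n : ℕ, n ∣ Nat.card G → Nat.Coprime n (orderOf i * orderOf j) → z ^ n = 1 →
        σ z = z) ∧
    ∀ g : G, Nat.Coprime (orderOf g) (orderOf i * orderOf j) →
      eta f₁ f₂ (i ^ k) (j ^ k) g = eta f₁ f₂ i j g := by
  have := h.tiPair.finite₁
  have := h.tiPair.finite₂
  obtain ⟨σ, h1, h2⟩ := exists_ringEquiv_pow_fix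
    (mul_ne_zero (orderOf_pos i).ne' (orderOf_pos j).ne') hk (Nat.card G) Nat.card_pos.ne'
  have hi : ∀ x, ((i ^ k) x : ℂ) = σ (i x) := fun x => by
    rw [h1 _ (by rw [pow_mul, dual_apply_pow_orderOf, one_pow]), MonoidHom.pow_apply,
      Units.val_pow_eq_pow_val]
  have hj : ∀ y, ((j ^ k) y : ℂ) = σ (j y) := fun y => by
    rw [h1 _ (by rw [mul_comm, pow_mul, dual_apply_pow_orderOf, one_pow]), MonoidHom.pow_apply,
      Units.val_pow_eq_pow_val]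
  refine ⟨⟨σ, hi, hj, h2⟩, fun g hg => ?_⟩
  rw [h.eta_aut σ hi hj]
  exact gen_map_apply_eq_self_of_dvd σ (h.eta_gen i j) dvd_rfl
    fun z hz => h2 z _ (orderOf_dvd_natCard g) hg hz

/-- The Galois action on `η` by power maps. -/
theorem CycTI.eta_apply_pow (h : CycTI f₁ f₂) (i : X₁ →* ℂˣ) (j : X₂ →* ℂˣ) {k : ℕ}
    (hk : Nat.Coprime k (Nat.card G)) (g : G) :
    eta f₁ f₂ i j (g ^ k) = eta f₁ f₂ (i ^ k) (j ^ k) g := by
  have := h.tiPair.finite₁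
  have := h.tiPair.finite₂
  obtain ⟨σ, h1, h2⟩ := exists_ringEquiv_gen_eq_pow (G := G) Nat.card_pos.ne' hk
  have hi : ∀ x, ((i ^ k) x : ℂ) = σ (i x) := fun x => by
    rw [h1, MonoidHom.pow_apply, Units.val_pow_eq_pow_val]
    obtain ⟨c, hc⟩ : orderOf x ∣ Nat.card G := orderOf_injective f₁ h.inj₁ x ▸ orderOf_dvd_natCard _
    rw [← Units.val_pow_eq_pow_val, ← map_pow, hc, pow_mul, pow_orderOf_eq_one]; simp
  have hj : ∀ x, ((j ^ k) x : ℂ) = σ (j x) := fun x => by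
    rw [h1, MonoidHom.pow_apply, Units.val_pow_eq_pow_val]
    obtain ⟨c, hc⟩ : orderOf x ∣ Nat.card G := orderOf_injective f₂ h.inj₂ x ▸ orderOf_dvd_natCard _
    rw [← Units.val_pow_eq_pow_val, ← map_pow, hc, pow_mul, pow_orderOf_eq_one]; simp
  rw [h.eta_aut σ hi hj]
  exact (h2 _ (h.eta_gen i j) g (orderOf_dvd_natCard g)).symm

theorem CycTI.orderOf_dual_dvd₁ (h : CycTI f₁ f₂) (i : X₁ →* ℂˣ) : orderOf i ∣ Nat.card X₁ := by
  have := h.tiPair.finite₁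
  exact h.card_dual₁ ▸ orderOf_dvd_natCard i

theorem CycTI.orderOf_dual_dvd₂ (h : CycTI f₁ f₂) (j : X₂ →* ℂˣ) : orderOf j ∣ Nat.card X₂ :=
  h.symm.orderOf_dual_dvd₁ j

/-- (3.9.c) -/
theorem CycTI.eta_int (h : CycTI f₁ f₂) (i : X₁ →* ℂˣ) (j : X₂ →* ℂˣ) {g : G}
    (hg : Nat.Coprime (orderOf g) (orderOf i * orderOf j)) : ∃ n : ℤ, eta f₁ f₂ i j g = n := by
  refine gen_exists_int_of_forall_pow (h.eta_gen i j) (n := Nat.card G) Nat.card_pos.ne'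
    (orderOf_dvd_natCard g) fun k hk => ?_
  rw [h.eta_apply_pow i j hk]
  refine (h.eta_pow i j (Nat.Coprime.coprime_dvd_right ?_ hk)).2 g hg
  refine (mul_dvd_mul (h.orderOf_dual_dvd₁ i) (h.orderOf_dual_dvd₂ j)).trans ?_
  rw [← h.tiPair.card_sup]
  exact Subgroup.card_subgroup_dvd_card _

end Eta

/-- nontrivial characters of a group of prime order are Galois conjugate, by an automorphism
fixing the roots of unity of order prime to `|X₁|` (and dividing any given `N`) -/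
theorem exists_aut_of_prime_card {X₁ : Type*} [Group X₁] [Finite X₁] (hp : (Nat.card X₁).Prime)
    {i i' : X₁ →* ℂˣ} (hi : i ≠ 1) (hi' : i' ≠ 1) (N : ℕ) (hN : N ≠ 0) :
    ∃ σ : ℂ ≃+* ℂ, (∀ x, (i' x : ℂ) = σ (i x)) ∧
      ∀ z : ℂ, ∀ n : ℕ, n ∣ N → Nat.Coprime n (Nat.card X₁) → z ^ n = 1 → σ z = z := by
  have : Fact (Nat.card X₁).Prime := ⟨hp⟩
  have hc : IsCyclic X₁ := isCyclic_of_prime_card rfl
  have hd : Nat.card (X₁ →* ℂˣ) = Nat.card X₁ :=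
    card_linear_of_comm IsCyclic.isMulCommutative.is_comm.comm
  obtain ⟨k, rfl⟩ : i' ∈ Submonoid.powers i := mem_powers_of_prime_card hd hi
  have hk : Nat.Coprime k (Nat.card X₁) := by
    rw [Nat.coprime_comm, hp.coprime_iff_not_dvd]
    rintro ⟨c, rfl⟩
    apply hi'
    change i ^ _ = 1
    rw [pow_mul, ← hd, pow_card_eq_one', one_pow]
  obtain ⟨σ, h1, h2⟩ := exists_ringEquiv_pow_fix hp.ne_zero hk N hN
  refine ⟨σ, fun x => ?_, h2⟩
  rw [h1 _ (by rw [← Units.val_pow_eq_pow_val, ← map_pow, pow_card_eq_one']; simp)]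
  simp

end CL.PF
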