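import Cfsg.Agent.PF.A13_Split
import Cfsg.Agent.PF.A13_Arith
import Cfsg.Agent.PF.CohIso
import Cfsg.Agent.PF.T3
import Cfsg.Agent.Char.TI
import Cfsg.Agent.Char.FS

/-!
# Peterfalvi (13.4) to (13.10), from an abstract form of (13.2) and (13.3)
-/

set_option autoImplicit false

open Cfsg CL.Char
open scoped ComplexConjugate

namespace CL.PF

section EtaCol
variable {G X₁ X₂ : Type*} [Group G] [Fintype G] [Group X₁] [Group X₂] [Finite X₁]
  {F₁ : X₁ →* G} {F₂ : X₂ →* G}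

theorem a13_etaCol_inner (h : CycTI F₁ F₂) (k : X₂ →* ℂˣ) (i : X₁ →* ℂˣ) (j : X₂ →* ℂˣ)
    [Decidable (k = j)] :
    classInner (etaCol F₁ F₂ k) (eta F₁ F₂ i j) = if k = j then 1 else 0 := by
  classical
  rw [etaCol, classInner_sum_left, Finset.sum_eq_single i]
  · rw [h.eta_inner_mul]; simp
  · intro b _ hb
    exact h.eta_inner_of_ne (Or.inl hb)
  · simp

theorem a13_etaCol_etaCol (h : CycTI F₁ F₂) (k j : X₂ →* ℂˣ) [Decidable (k = j)] :
    classInner (etaCol F₁ F₂ k) (etaCol F₁ F₂ j) = if k = j then (Nat.card X₁ : ℂ) else 0 := by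
  conv_lhs => rw [etaCol.eq_def F₁ F₂ j, classInner_sum_right]
  simp only [a13_etaCol_inner h]
  split_ifs
  · rw [Finset.sum_const, Finset.card_univ, h.fintype_card_dual₁, nsmul_eq_mul, mul_one]
  · simp

theorem a13_orth_etaCol {ψ : G → ℂ} (ho : OrthEta F₁ F₂ ψ) (j : X₂ →* ℂˣ) :
    classInner ψ (etaCol F₁ F₂ j) = 0 := by
  rw [etaCol, classInner_sum_right]
  exact Finset.sum_eq_zero fun i _ => ho i j

theorem a13_sign_mul_conj {e : ℤ} (he : e = 1 ∨ e = -1) : (e : ℂ) * conj (e : ℂ) = 1 := by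
  rcases he with rfl | rfl <;> simp

end EtaCol

/-- What (13.4) to (13.10) use about `S`, `P = S_F`, `H = F(S) = P C` and the coherent extension
`τ₁`: these are consequences of (13.2), (13.3). -/
structure Hyp13 {G X₁ X₂ : Type*} [Group G] [Fintype G] [Group X₁] [Group X₂] [Finite X₁]
    (F₁ : X₁ →* G) (F₂ : X₂ →* G) (S : Subgroup G) [Fintype S] (P H : Subgroup S)
    (τ₁ : (S → ℂ) → (G → ℂ)) (u c : ℕ) : Prop where
  cycTI : CycTI F₁ F₂
  prime₁ : (Nat.card X₁).Prime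
  prime₂ : (Nat.card X₂).Prime
  odd : Odd (Nat.card S)
  P_normal : P.Normal
  H_normal : H.Normal
  P_le : P ≤ H
  comm : ∀ a b : H, a * b = b * a
  mem₁ : ∀ x, F₁ x ∈ S
  mem₂ : ∀ y, ∃ a ∈ P, (a : G) = F₂ y
  not_mem : ∀ x, x ≠ 1 → ∀ a ∈ H, (a : G) ≠ F₁ x
  card_P : Nat.card P = Nat.card X₂ ^ Nat.card X₁
  card_H : Nat.card H = Nat.card X₂ ^ Nat.card X₁ * c
  index_H : H.index = Nat.card X₁ * u
  coprime : Nat.Coprime (c * u) (Nat.card X₁)
  u_le : u * (Nat.card X₂ - 1) ≤ Nat.card X₂ ^ Nat.card X₁ - 1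
  TI : ∀ g : G, ∀ a ∈ hsharp S H, g * a * g⁻¹ ∈ hsharp S H → g ∈ S
  coh : CoherentWith (seqIndD H P ⊥) (indFun S) τ₁
  red : ∃ ζ ∈ seqIndD H P ⊥, ∃ k, k ≠ 1 ∧ ∃ e : ℤ, (e = 1 ∨ e = -1) ∧
    τ₁ ζ = (e : ℂ) • etaCol F₁ F₂ k
  cases : ∀ ζ ∈ seqIndD H P ⊥, (∃ k, k ≠ 1 ∧ ∃ e : ℤ, (e = 1 ∨ e = -1) ∧
    τ₁ ζ = (e : ℂ) • etaCol F₁ F₂ k) ∨ OrthEta F₁ F₂ (τ₁ ζ)

namespace Hyp13

variable {G X₁ X₂ : Type*} [Group G] [Fintype G] [Group X₁] [Group X₂] [Finite X₁]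
  {F₁ : X₁ →* G} {F₂ : X₂ →* G} {S : Subgroup G} [Fintype S] {P H : Subgroup S}
  {τ₁ : (S → ℂ) → (G → ℂ)} {u c : ℕ}

theorem card_S (h : Hyp13 F₁ F₂ S P H τ₁ u c) :
    Nat.card S = Nat.card X₂ ^ Nat.card X₁ * c * (Nat.card X₁ * u) := by
  rw [← h.card_H, ← h.index_H, Subgroup.card_mul_index]

theorem gen (h : Hyp13 F₁ F₂ S P H τ₁ u c) {ζ : S → ℂ} (hζ : ζ ∈ seqIndD H P ⊥) :
    IsGeneralizedCharacter G (τ₁ ζ) := h.coh.gen (mem_zspan hζ)

theorem inner (h : Hyp13 F₁ F₂ S P H τ₁ u c) {ζ ζ' : S → ℂ} (hζ : ζ ∈ seqIndD H P ⊥)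
    (hζ' : ζ' ∈ seqIndD H P ⊥) : classInner (τ₁ ζ) (τ₁ ζ') = classInner ζ ζ' :=
  h.coh.inner (mem_zspan hζ) (mem_zspan hζ')

theorem inner_ne (h : Hyp13 F₁ F₂ S P H τ₁ u c) {ζ ζ' : S → ℂ} (hζ : ζ ∈ seqIndD H P ⊥)
    (hζ' : ζ' ∈ seqIndD H P ⊥) (hne : ζ ≠ ζ') : classInner (τ₁ ζ) (τ₁ ζ') = 0 := by
  have := h.H_normal
  rw [h.inner hζ hζ', a13_inner_ne hζ hζ' hne]

theorem ind_sub (h : Hyp13 F₁ F₂ S P H τ₁ u c) {ζ ζ' : S → ℂ} (hζ : ζ ∈ seqIndD H P ⊥)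
    (hζ' : ζ' ∈ seqIndD H P ⊥) : indFun S (ζ - ζ') = τ₁ ζ - τ₁ ζ' :=
  h.coh.sub (mem_zspan hζ) (mem_zspan hζ')
    (by rw [a13_apply_one h.comm hζ, a13_apply_one h.comm hζ'])

/-- `ζ^τ₁ - ζ'^τ₁` vanishes outside `(H^#)^G` -/
theorem apply_eq (h : Hyp13 F₁ F₂ S P H τ₁ u c) {ζ ζ' : S → ℂ} (hζ : ζ ∈ seqIndD H P ⊥)
    (hζ' : ζ' ∈ seqIndD H P ⊥) {g : G} (hg : g ∉ conjSupport (hsharp S H)) :
    (τ₁ ζ - τ₁ ζ') g = 0 := by
  have := h.H_normal
  rw [← h.ind_sub hζ hζ']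
  refine indFun_eq_zero_of_not_conj_mem S (hsharp S H) (fun x hx => ?_) fun x hx => hg ⟨x, hx⟩
  rw [coe_mem_hsharp, not_and_or, not_not] at hx
  rcases hx with hx | rfl
  · rw [Pi.sub_apply, a13_eq_zero hζ hx, a13_eq_zero hζ' hx, sub_zero]
  · rw [Pi.sub_apply, a13_apply_one h.comm hζ, a13_apply_one h.comm hζ', sub_self]

theorem norm_red (h : Hyp13 F₁ F₂ S P H τ₁ u c) {ζ : S → ℂ} (hζ : ζ ∈ seqIndD H P ⊥)
    {k : X₂ →* ℂˣ} {e : ℤ} (he : e = 1 ∨ e = -1) (hτ : τ₁ ζ = (e : ℂ) • etaCol F₁ F₂ k) :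
    classInner ζ ζ = Nat.card X₁ := by
  classical
  rw [← h.inner hζ hζ, hτ, classInner_smul_left, classInner_smul_right,
    a13_etaCol_etaCol h.cycTI, if_pos rfl, ← mul_assoc, a13_sign_mul_conj he, one_mul]

theorem orth_of_irr (h : Hyp13 F₁ F₂ S P H τ₁ u c) {ζ : S → ℂ} (hζ : ζ ∈ seqIndD H P ⊥)
    (hi : IsIrrCharacter S ζ) : OrthEta F₁ F₂ (τ₁ ζ) := by
  refine (h.cases ζ hζ).resolve_left ?_
  rintro ⟨k, -, e, he, hτ⟩
  have h1 := h.norm_red hζ he hτ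
  rw [irr_inner_self hi] at h1
  have h2 : Nat.card X₁ = 1 := by exact_mod_cast h1.symm
  exact h.prime₁.one_lt.ne' h2

theorem signed (h : Hyp13 F₁ F₂ S P H τ₁ u c) {ζ : S → ℂ} (hζ : ζ ∈ seqIndD H P ⊥)
    (hi : IsIrrCharacter S ζ) : IsSignedIrr G (τ₁ ζ) :=
  isSignedIrr_of_norm_one (h.gen hζ) (by rw [h.inner hζ hζ, irr_inner_self hi])

/-- (13.5) -/
theorem t13_5 (h : Hyp13 F₁ F₂ S P H τ₁ u c) {χ : G → ℂ} (hχ : IsGeneralizedCharacter G χ)
    {ζ₁ : S → ℂ} (hζ₁ : ζ₁ ∈ seqIndD H P ⊥) {a : ℤ} (h1 : classInner (τ₁ ζ₁) χ = a)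
    (h2 : ∀ ζ ∈ seqIndD H P ⊥, ζ ≠ ζ₁ → classInner (τ₁ ζ) χ = 0) {n : ℕ}
    (hn : classInner ζ₁ ζ₁ = n) :
    ∃ (α : H → ℂ) (m : ℤ), IsGeneralizedCharacter H α ∧ (∀ x : H, (x : S) ∈ P → α x = m) ∧
      (∀ x : H, x ≠ 1 → χ (x : S) = (a / n : ℂ) * ζ₁ x + α x) ∧
      sharpSq (fun x : H => χ (x : S)) =
        (a / n : ℝ) ^ 2 * (Nat.card S * n - (H.index : ℝ) ^ 2) - 2 * (a / n) * H.index * m +
          sharpSq α ∧
      ((Nat.card P : ℝ) - 1) * (m : ℝ) ^ 2 ≤ sharpSq α ∧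
      sharpSq α = Nat.card H * rip α α - (m : ℝ) ^ 2 := by
  have := h.H_normal
  have := h.P_normal
  have hψ : IsGeneralizedCharacter S (fun x : S => χ x) := gen_restrict hχ S
  obtain ⟨b, hb⟩ := gen_inner_int (a13_gen hζ₁) hψ
  refine split13_5 (c := b - a) h.P_le h.comm hψ hζ₁ (by rw [hb]; push_cast; ring)
    (fun ζ hζ hne => ?_) hn
  have e1 := classInner_indFun_left S (ζ - ζ₁) (gen_isClassFunction hχ)
  rw [h.ind_sub hζ hζ₁, classInner_sub_left, classInner_sub_left, h1, h2 ζ hζ hne, hb] at e1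
  push_cast
  linear_combination -e1

theorem two_mul_u_le (h : Hyp13 F₁ F₂ S P H τ₁ u c) : 2 * (u : ℝ) ≤ (Nat.card P : ℝ) - 1 := by
  have h1 := h.u_le
  have h3 := h.cycTI.three_le₂
  have h2 : u * 2 ≤ u * (Nat.card X₂ - 1) := Nat.mul_le_mul_left _ (by omega)
  have h4 : 0 < Nat.card X₂ ^ Nat.card X₁ := by positivity
  have h5 : 2 * u + 1 ≤ Nat.card P := by rw [h.card_P]; omega
  have h6 : ((2 * u + 1 : ℕ) : ℝ) ≤ Nat.card P := by exact_mod_cast h5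
  push_cast at h6
  linarith

theorem int_quad_nonneg {A B : ℝ} (hB : 0 ≤ B) (hAB : B ≤ A) (m : ℤ) {e : ℝ}
    (he : e = 1 ∨ e = -1) : e * B * m ≤ A * (m : ℝ) ^ 2 := by
  have h1 : |(m : ℝ)| ≤ (m : ℝ) ^ 2 := by
    have : |m| ≤ m ^ 2 := by rw [← sq_abs]; exact Int.le_self_sq _
    exact_mod_cast this
  have h2 : e * m ≤ |(m : ℝ)| := by
    rcases he with rfl | rfl
    · rw [one_mul]; exact le_abs_self _
    · rw [neg_one_mul]; exact neg_le_abs _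
  nlinarith [sq_nonneg (m : ℝ), abs_nonneg (m : ℝ)]

theorem exists_W (h : Hyp13 F₁ F₂ S P H τ₁ u c) :
    ∃ (x : X₁) (y : X₂) (a : S) (b : H), x ≠ 1 ∧ y ≠ 1 ∧ (a : G) = F₁ x ∧ ((b : S) : G) = F₂ y ∧
      (b : S) ∈ P ∧ b ≠ 1 ∧ a * b ∉ H ∧ a * b = b * a ∧ a ^ Nat.card X₁ = 1 := by
  have : Nontrivial X₁ := Finite.one_lt_card_iff_nontrivial.mp h.prime₁.one_lt
  have : Finite X₂ := Nat.finite_of_card_ne_zero h.prime₂.ne_zero
  have : Nontrivial X₂ := Finite.one_lt_card_iff_nontrivial.mp h.prime₂.one_lt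
  obtain ⟨x, hx⟩ := exists_ne (1 : X₁)
  obtain ⟨y, hy⟩ := exists_ne (1 : X₂)
  obtain ⟨b, hb, hby⟩ := h.mem₂ y
  refine ⟨x, y, ⟨F₁ x, h.mem₁ x⟩, ⟨b, h.P_le hb⟩, hx, hy, rfl, hby, hb, fun h1 => hy ?_,
    fun h1 => ?_, Subtype.ext ?_, Subtype.ext ?_⟩
  · apply h.cycTI.inj₂
    rw [← hby, map_one, show b = 1 from congrArg Subtype.val h1, OneMemClass.coe_one]
  · exact h.not_mem x hx _ ((H.mul_mem_cancel_right (h.P_le hb)).mp h1) rfl
  · simp only [Subgroup.coe_mul, hby]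
    exact h.cycTI.comm x y
  · simp only [SubmonoidClass.coe_pow, OneMemClass.coe_one]
    rw [← map_pow, pow_card_eq_one', map_one]

/-- (13.6) -/
theorem t13_6 (h : Hyp13 F₁ F₂ S P H τ₁ u c) {l : S → ℂ} (hl : l ∈ seqIndD H P ⊥)
    (hi : IsIrrCharacter S l) :
    (Nat.card S : ℝ) - (Nat.card X₁ * u : ℝ) ^ 2 ≤ sharpSq (fun x : H => τ₁ l (x : S)) := by
  have := h.H_normal
  obtain ⟨α, m, -, hαP, hdec, hs, hle, -⟩ := h.t13_5 (a := 1) (n := 1) (h.gen hl) hl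
    (by rw [h.inner hl hl, irr_inner_self hi, Int.cast_one])
    (fun ζ hζ hne => h.inner_ne hζ hl hne) (by rw [irr_inner_self hi, Nat.cast_one])
  obtain ⟨x, y, a, b, hx, hy, ha, hb, hbP, hb1, hab, hc, hq⟩ := h.exists_W
  have hdvd : (Nat.card X₁ : ℤ) ∣ m := by
    have hg : IsGeneralizedCharacter S ((fun x : S => τ₁ l x) - l) :=
      gen_sub (gen_restrict (h.gen hl) S) (gen_of_irr hi)
    have h0 : τ₁ l (a * b : S) = 0 := by
      refine h.cycTI.eq_zero_of_orthEta (gen_isClassFunction (h.gen hl)) (h.orth_of_irr hl hi)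
        ⟨x, y, hx, hy, ?_⟩
      rw [Subgroup.coe_mul, ha, hb]
    have h1 := gen_prime_dvd_of_sub_eq_int hg hc (a := 1) h.prime₁ (by rw [pow_one, hq])
      (m := -m) (by
        simp only [Pi.sub_apply]
        rw [h0, a13_eq_zero hl hab, hdec b hb1, hαP b hbP]
        push_cast
        ring)
    exact (Int.dvd_neg).mp h1
  obtain ⟨r, rfl⟩ := hdvd
  have h2 := int_quad_nonneg (by positivity) h.two_mul_u_le r (e := 1) (Or.inl rfl)
  rw [hs, h.index_H]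
  push_cast at hle ⊢
  have h3 : (0 : ℝ) ≤ (Nat.card X₁ : ℝ) ^ 2 := by positivity
  nlinarith

theorem orth_col_one (h : Hyp13 F₁ F₂ S P H τ₁ u c) {ζ : S → ℂ} (hζ : ζ ∈ seqIndD H P ⊥)
    (i : X₁ →* ℂˣ) : classInner (τ₁ ζ) (eta F₁ F₂ i 1) = 0 := by
  classical
  rcases h.cases ζ hζ with ⟨k, hk, e, -, hτ⟩ | ho
  · rw [hτ, classInner_smul_left, a13_etaCol_inner h.cycTI, if_neg hk, mul_zero]
  · exact ho i 1

/-- (13.7) -/
theorem t13_7 (h : Hyp13 F₁ F₂ S P H τ₁ u c) (i : X₁ →* ℂˣ) :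
    (Nat.card H : ℝ) - 1 ≤ sharpSq (fun x : H => eta F₁ F₂ i 1 (x : S)) := by
  obtain ⟨ζ₁, hζ₁, k, -, e, he, hτ⟩ := h.red
  obtain ⟨α, m, hα, hαP, hdec, hs, hle, hsα⟩ := h.t13_5 (a := 0) (h.cycTI.eta_gen i 1) hζ₁
    (by rw [h.orth_col_one hζ₁, Int.cast_zero])
    (fun ζ hζ _ => h.orth_col_one hζ i) (h.norm_red hζ₁ he hτ)
  obtain ⟨x, y, a, b, hx, hy, ha, hb, hbP, hb1, hab, hc, hq⟩ := h.exists_W
  have hm0 : m ≠ 0 := by
    rintro rfl
    have h0 : eta F₁ F₂ i 1 (F₂ y) = 0 := by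
      rw [← hb, hdec b hb1, hαP b hbP]; simp
    have hq0 : Nat.card X₁ ≠ 0 := h.prime₁.ne_zero
    have hε := Complex.isPrimitiveRoot_exp _ hq0
    obtain ⟨ω, hω, e1⟩ := gen_exists_sub_eq_one_sub_mul (h.cycTI.eta_gen i 1) (h.cycTI.comm x y)
      hq0 (by rw [← map_pow, pow_card_eq_one', map_one]) hε
    obtain ⟨ω', hω', e2⟩ := exists_sub_one_eq_one_sub_mul hq0 hε (z := (i x : ℂ))
      (by rw [← Units.val_pow_eq_pow_val, ← map_pow, pow_card_eq_one', map_one, Units.val_one])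
    rw [h0, h.cycTI.eta_apply i 1 hx hy] at e1
    have h3 := prime_dvd_of_eq_one_sub_mul (a := 1) h.prime₁ (by rw [pow_one, hε.pow_eq_one])
      (hω.sub hω') (m := 1) (by
        simp only [MonoidHom.one_apply, Units.val_one] at e1
        push_cast
        linear_combination e1 - e2)
    have h4 : Nat.card X₁ ∣ 1 := by exact_mod_cast h3
    exact h.prime₁.one_lt.ne' (Nat.dvd_one.mp h4)
  have hα1 : α 1 = m := hαP 1 P.one_mem
  have hαne : α ≠ 0 := by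
    rintro rfl
    rw [Pi.zero_apply] at hα1
    exact hm0 (by exact_mod_cast hα1.symm)
  rw [hs]
  simp only [Int.cast_zero, zero_div, mul_zero, zero_mul, ne_eq, OfNat.ofNat_ne_zero,
    not_false_eq_true, zero_pow, sub_self, zero_add]
  obtain ⟨N, hN⟩ := gen_inner_self_nat hα
  have hN' := rip_of_classInner_eq_nat hN
  have hN1 := gen_one_le_rip_self hα hαne
  have hH0 : (1 : ℝ) ≤ Nat.card H := by exact_mod_cast (Nat.card_pos : 0 < Nat.card H)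
  by_cases hN2 : N = 1
  · subst hN2
    have hm : (m : ℝ) ^ 2 = 1 := by
      have : (m : ℂ) = 1 ∨ (m : ℂ) = -1 := by
        rcases isSignedIrr_of_norm_one hα (by rw [hN, Nat.cast_one]) with h1 | h1
        · left; rw [← hα1, apply_one_eq_one_of_comm h.comm h1]
        · right
          have := apply_one_eq_one_of_comm h.comm h1
          rw [Pi.neg_apply, hα1] at this
          linear_combination -this
      have : m = 1 ∨ m = -1 := by exact_mod_cast this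
      rcases this with rfl | rfl <;> norm_num
    rw [hsα, hN', hm]
    simp
  · have hN3 : (2 : ℝ) ≤ N := by
      have : 1 ≤ N := by rw [hN'] at hN1; exact_mod_cast hN1
      exact_mod_cast (show 2 ≤ N by omega)
    have hP2 : (2 : ℝ) ≤ Nat.card P := by
      have : 1 < Nat.card P := by
        rw [h.card_P]; exact Nat.one_lt_pow h.prime₁.ne_zero h.prime₂.one_lt
      exact_mod_cast this
    rw [hN'] at hsα
    nlinarith [sq_nonneg (m : ℝ)]

/-- (13.8) -/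
theorem t13_8 (h : Hyp13 F₁ F₂ S P H τ₁ u c) : ∃ j, j ≠ 1 ∧
    (Nat.card S : ℝ) / Nat.card X₁ - (u : ℝ) ^ 2 ≤ sharpSq (fun x : H => eta F₁ F₂ 1 j (x : S)) := by
  classical
  obtain ⟨ζ₁, hζ₁, k, hk, e, he, hτ⟩ := h.red
  refine ⟨k, hk, ?_⟩
  have hq0 : (Nat.card X₁ : ℂ) ≠ 0 := Nat.cast_ne_zero.mpr h.prime₁.ne_zero
  obtain ⟨α, m, -, -, -, hs, hle, -⟩ := h.t13_5 (a := e) (h.cycTI.eta_gen 1 k) hζ₁
    (by rw [hτ, classInner_smul_left, a13_etaCol_inner h.cycTI, if_pos rfl, mul_one])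
    (fun ζ hζ hne => by
      rcases h.cases ζ hζ with ⟨k', -, e', he', hτ'⟩ | ho
      · rw [hτ', classInner_smul_left, a13_etaCol_inner h.cycTI, if_neg, mul_zero]
        rintro rfl
        have h0 := h.inner_ne hζ hζ₁ hne
        rw [hτ, hτ', classInner_smul_left, classInner_smul_right, a13_etaCol_etaCol h.cycTI,
          if_pos rfl] at h0
        rcases he with rfl | rfl <;> rcases he' with rfl | rfl <;> simp [hq0] at h0
      · exact ho 1 k) (h.norm_red hζ₁ he hτ)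
  have he' : (e : ℝ) = 1 ∨ (e : ℝ) = -1 := by rcases he with rfl | rfl <;> simp
  have h2 := int_quad_nonneg (by positivity) h.two_mul_u_le m he'
  have hq1 : (Nat.card X₁ : ℝ) ≠ 0 := Nat.cast_ne_zero.mpr h.prime₁.ne_zero
  have he2 : (e : ℝ) ^ 2 = 1 := by rcases he' with h1 | h1 <;> rw [h1] <;> norm_num
  have e1 : ((e : ℝ) / Nat.card X₁) ^ 2 * (Nat.card S * Nat.card X₁ - (H.index : ℝ) ^ 2) =
      (Nat.card S : ℝ) / Nat.card X₁ - (u : ℝ) ^ 2 := by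
    rw [h.index_H, div_pow, he2]
    push_cast
    field_simp
  have e2 : 2 * ((e : ℝ) / Nat.card X₁) * H.index * m = e * (2 * u) * m := by
    rw [h.index_H]
    push_cast
    field_simp
  rw [hs, e1, e2]
  linarith

/-- (13.9.a) -/
theorem t13_9a (h : Hyp13 F₁ F₂ S P H τ₁ u c) {l : S → ℂ} (hl : l ∈ seqIndD H P ⊥)
    {i : X₁ →* ℂˣ} (hi : i ≠ 1) {g : G} (hg : g ∉ conjSupport (hsharp S H)) :
    τ₁ l g ≠ 0 ∨ eta F₁ F₂ i 1 g ≠ 0 := by
  classical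
  by_contra hc
  push Not at hc
  obtain ⟨h1, h2⟩ := hc
  obtain ⟨ζ₁, hζ₁, k, hk, e, he, hτ⟩ := h.red
  have hV : g ∉ cycVConj F₁ F₂ := by
    rintro ⟨m, v, ⟨x, y, hx, hy, rfl⟩, rfl⟩
    rw [h.cycTI.eta_classFun i 1, h.cycTI.eta_apply i 1 hx hy] at h2
    simp at h2
  have h3 : ∀ i' : X₁ →* ℂˣ, i' ≠ 1 → eta F₁ F₂ i' 1 g = 0 := by
    intro i' hi'
    obtain ⟨σ, hσ, -⟩ := exists_aut_of_prime_card h.prime₁ hi hi' 1 one_ne_zero
    rw [h.cycTI.eta_aut σ (j := 1) (j' := 1) hσ (by simp)]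
    simp [h2]
  have h4 : etaCol F₁ F₂ k g = 0 := by
    have := h.apply_eq hζ₁ hl hg
    rw [Pi.sub_apply, h1, sub_zero, hτ, Pi.smul_apply, smul_eq_mul, mul_eq_zero] at this
    refine this.resolve_left ?_
    rcases he with rfl | rfl <;> simp
  have h5 : etaCol F₁ F₂ k g = Nat.card X₁ * (eta F₁ F₂ 1 k g - 1) + 1 := by
    rw [etaCol, Finset.sum_apply,
      Finset.sum_congr rfl (g := fun i' => (eta F₁ F₂ 1 k g - 1) + if i' = 1 then 1 else 0)]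
    · rw [Finset.sum_add_distrib, Finset.sum_const, Finset.card_univ, h.cycTI.fintype_card_dual₁,
        nsmul_eq_mul]
      simp
    · intro i' _
      split_ifs with h6
      · rw [h6]; ring
      · have := h.cycTI.eta_bridge_eq_zero i' k hV
        rw [h3 i' h6] at this
        linear_combination this
  have hq0 : (Nat.card X₁ : ℂ) ≠ 0 := Nat.cast_ne_zero.mpr h.prime₁.ne_zero
  have h6 : IsIntegral ℤ (((1 : ℕ) : ℂ) / (Nat.card X₁ : ℂ)) := by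
    have : ((1 : ℕ) : ℂ) / (Nat.card X₁ : ℂ) = 1 - eta F₁ F₂ 1 k g := by
      rw [h4] at h5
      field_simp
      push_cast
      linear_combination -h5
    rw [this]
    exact isIntegral_one.sub (gen_isIntegral (h.cycTI.eta_gen 1 k) g)
  exact h.prime₁.one_lt.ne' (Nat.dvd_one.mp (nat_dvd_of_isIntegral_div h.prime₁.ne_zero h6))

/-- (13.9.b) -/
theorem t13_9b (h : Hyp13 F₁ F₂ S P H τ₁ u c) {l : S → ℂ} (hl : l ∈ seqIndD H P ⊥)
    {i : X₁ →* ℂˣ} (hi : i ≠ 1) (T : Finset G)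
    (hT : ∀ k : ℕ, Nat.Coprime k (Nat.card G) → ∀ x ∈ T, x ^ k ∈ T)
    (hTH : ∀ x ∈ T, x ∉ conjSupport (hsharp S H)) :
    (T.card : ℝ) ≤ ∑ x ∈ T, ‖τ₁ l x‖ ^ 2 + ∑ x ∈ T, ‖eta F₁ F₂ i 1 x‖ ^ 2 := by
  classical
  have h1 := gen_card_ne_zero_le (h.gen hl) T hT
  have h2 := gen_card_ne_zero_le (h.cycTI.eta_gen i 1) T hT
  have h3 : T.card ≤ (T.filter fun x => τ₁ l x ≠ 0).card +
      (T.filter fun x => eta F₁ F₂ i 1 x ≠ 0).card := by
    refine le_trans (Finset.card_le_card fun x hx => ?_) (Finset.card_union_le _ _)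
    rw [Finset.mem_union, Finset.mem_filter, Finset.mem_filter]
    exact (h.t13_9a hl hi (hTH x hx)).imp (⟨hx, ·⟩) (⟨hx, ·⟩)
  have h4 : (T.card : ℝ) ≤ ((T.filter fun x => τ₁ l x ≠ 0).card : ℝ) +
      (T.filter fun x => eta F₁ F₂ i 1 x ≠ 0).card := by exact_mod_cast h3
  linarith

section Pair
variable [Finite X₂] {T : Subgroup G} [Fintype T] {Q K : Subgroup T}
  {τ₂ : (T → ℂ) → (G → ℂ)} {v d : ℕ}

theorem disjoint (hS : Hyp13 F₁ F₂ S P H τ₁ u c) (hT : Hyp13 F₂ F₁ T Q K τ₂ v d) {g : G}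
    (h1 : g ∈ conjSupport (hsharp S H)) (h2 : g ∈ conjSupport (hsharp T K)) : False := by
  obtain ⟨x, hx⟩ := h1
  obtain ⟨y, hy⟩ := h2
  obtain ⟨a, ha, -, hax⟩ := mem_hsharp.mp hx
  have hle : (P.map S.subtype).map (MulAut.conj (y * x⁻¹)).toMonoidHom ≤ T := by
    rintro _ ⟨_, ⟨r, hr, rfl⟩, rfl⟩
    refine hT.TI _ _ hy ?_
    have hc : (r : G) * a = a * r := by
      have := hS.comm ⟨r, hS.P_le hr⟩ ⟨a, ha⟩
      exact congrArg (fun z : H => ((z : S) : G)) this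
    have hg : g = x⁻¹ * a * x := by rw [hax]; group
    convert hy using 1
    rw [hg]
    simp only [MulEquiv.toMonoidHom_eq_coe, MonoidHom.coe_coe, MulAut.conj_apply,
      Subgroup.coe_subtype]
    calc y * x⁻¹ * r * (y * x⁻¹)⁻¹ * (y * (x⁻¹ * a * x) * y⁻¹) * (y * x⁻¹ * r * (y * x⁻¹)⁻¹)⁻¹
        = y * x⁻¹ * (r * a) * (r : G)⁻¹ * x * y⁻¹ := by group
      _ = y * (x⁻¹ * a * x) * y⁻¹ := by rw [hc]; group
  have hd := Subgroup.card_dvd_of_le hle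
  rw [Subgroup.card_map_of_injective (MulAut.conj (y * x⁻¹)).injective,
    Subgroup.card_map_of_injective S.subtype_injective, hS.card_P, hT.card_S] at hd
  have e : Nat.card X₁ ^ Nat.card X₂ * d * (Nat.card X₂ * v) =
      (Nat.card X₁ ^ Nat.card X₂ * (d * v)) * Nat.card X₂ := by ring
  rw [e] at hd
  have hc : Nat.Coprime (Nat.card X₂ ^ Nat.card X₁) (Nat.card X₁ ^ Nat.card X₂ * (d * v)) :=
    Nat.Coprime.pow_left _ (Nat.Coprime.mul_right (hS.cycTI.coprime.symm.pow_right _)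
      hT.coprime.symm)
  have h3 := Nat.le_of_dvd hS.prime₂.pos (hc.dvd_of_dvd_mul_left hd)
  have h4 : Nat.card X₂ ^ 1 < Nat.card X₂ ^ Nat.card X₁ :=
    Nat.pow_lt_pow_right hS.prime₂.one_lt hS.prime₁.one_lt
  rw [pow_one] at h4
  omega

/-- (13.4) -/
theorem t13_4 (hS : Hyp13 F₁ F₂ S P H τ₁ u c) (hT : Hyp13 F₂ F₁ T Q K τ₂ v d) {l : S → ℂ}
    (hl : l ∈ seqIndD H P ⊥) (hli : IsIrrCharacter S l) {θ : T → ℂ} (hθ : θ ∈ seqIndD K Q ⊥)
    (hθi : IsIrrCharacter T θ) : False := by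
  classical
  have := hS.H_normal
  have := hS.P_normal
  obtain ⟨ζ, hζ, k, -, e, he, hτ⟩ := hS.red
  obtain ⟨ξ, hξ, r, -, e', he', hτ'⟩ := hT.red
  have key : ∀ l ∈ seqIndD H P ⊥, IsIrrCharacter S l → classInner (τ₁ l) (τ₂ θ) ≠ 0 := by
    intro l hl hli h0
    have h1 : classInner (τ₁ l - τ₁ ζ) (τ₂ θ - τ₂ ξ) = 0 := by
      rw [classInner_def, Finset.sum_eq_zero, mul_zero]
      intro g _
      by_cases hg : g ∈ conjSupport (hsharp S H)
      · rw [hT.apply_eq hθ hξ fun hg' => hS.disjoint hT hg hg', map_zero, mul_zero]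
      · rw [hS.apply_eq hl hζ hg, zero_mul]
    have h2 : classInner (τ₁ l) (etaCol F₂ F₁ r) = 0 :=
      a13_orth_etaCol (hS.cycTI.orthEta_swap.mpr (hS.orth_of_irr hl hli)) r
    have h3 : classInner (etaCol F₁ F₂ k) (τ₂ θ) = 0 :=
      classInner_eq_zero_comm.mp
        (a13_orth_etaCol (hS.cycTI.orthEta_swap.mp (hT.orth_of_irr hθ hθi)) k)
    have h4 : classInner (etaCol F₁ F₂ k) (etaCol F₂ F₁ r) = 1 := by
      conv_lhs => rw [etaCol.eq_def F₂ F₁ r, classInner_sum_right]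
      simp only [hS.cycTI.eta_swap, a13_etaCol_inner hS.cycTI]
      simp
    rw [classInner_sub_left, classInner_sub_right, classInner_sub_right, h0, hτ, hτ',
      classInner_smul_left, classInner_smul_left, classInner_smul_right, classInner_smul_right,
      h2, h3, h4] at h1
    rcases he with rfl | rfl <;> rcases he' with rfl | rfl <;> simp at h1
  have hc := a13_conj_mem hl
  have hci := irr_conjFun hli
  have hne : conjFun l ≠ l := irr_conj_ne_of_odd hS.odd hli (a13_ne_one hl)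
  have h0 := hS.inner_ne hc hl hne
  have h1 := (hT.signed hθ hθi).inner_self
  rcases (hS.signed hl hli).eq_or_eq_neg (hT.signed hθ hθi) (key l hl hli) with h2 | h2 <;>
    rcases (hS.signed hc hci).eq_or_eq_neg (hT.signed hθ hθi) (key _ hc hci) with h3 | h3 <;>
    simp [h2, h3, classInner_neg_left, classInner_neg_right, h1] at h0

omit [Fintype G] in
theorem one_le_norm_sq {α : G → ℂ} (h : IsSignedIrr G α) : 1 ≤ ‖α 1‖ ^ 2 := by
  obtain ⟨n, hn⟩ := gen_apply_one h.gen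
  have h0 : n ≠ 0 := by
    rintro rfl
    exact h.apply_one_ne_zero (by rw [hn, Int.cast_zero])
  rw [hn, Complex.norm_intCast, sq_abs]
  have : 1 ≤ n ^ 2 := by nlinarith [Int.one_le_abs h0, sq_abs n]
  exact_mod_cast this

/-- (13.10), the main case -/
theorem t13_10 (hS : Hyp13 F₁ F₂ S P H τ₁ u c) (hT : Hyp13 F₂ F₁ T Q K τ₂ v 1)
    (hv : v * (Nat.card X₁ - 1) = Nat.card X₁ ^ Nat.card X₂ - 1) {l : S → ℂ}
    (hl : l ∈ seqIndD H P ⊥) (hli : IsIrrCharacter S l) :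
    m13 (Nat.card X₂) (Nat.card X₁) * (Nat.card X₂ : ℝ) ^ (Nat.card X₁ - 1) * c <
      u * Nat.card X₁ := by
  classical
  have := hS.H_normal
  have := hT.H_normal
  set A := Finset.univ.filter (· ∈ conjSupport (hsharp S H)) with hA
  set B := Finset.univ.filter (· ∈ conjSupport (hsharp T K)) with hB
  set G₀ := (insert 1 (A ∪ B))ᶜ with hG₀
  have hAB : Disjoint A B := by
    rw [Finset.disjoint_left]
    intro g h1 h2
    exact hS.disjoint hT (Finset.mem_filter.mp h1).2 (Finset.mem_filter.mp h2).2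
  have h1AB : (1 : G) ∉ A ∪ B := by
    simp only [hA, hB, Finset.mem_union, Finset.mem_filter, Finset.mem_univ, true_and, not_or]
    exact ⟨one_not_mem_conjSupport_hsharp, one_not_mem_conjSupport_hsharp⟩
  have hsplit : ∀ f : G → ℝ, ∑ g, f g = f 1 + (∑ g ∈ A, f g + ∑ g ∈ B, f g) + ∑ g ∈ G₀, f g := by
    intro f
    rw [← Finset.sum_union hAB, ← Finset.sum_insert h1AB, hG₀, Finset.sum_add_sum_compl]
  have hmem : ∀ g, g ∈ G₀ ↔ g ≠ 1 ∧ g ∉ conjSupport (hsharp S H) ∧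
      g ∉ conjSupport (hsharp T K) := by
    intro g
    simp [hG₀, hA, hB]
  obtain ⟨i, hi, h8⟩ := hT.t13_8
  simp only [hS.cycTI.eta_swap] at h8
  have h9 := hS.t13_9b hl hi G₀ (fun k hk x hx => by
    rw [hmem] at hx ⊢
    rw [conjSupport_hsharp_pow_mem hk, conjSupport_hsharp_pow_mem hk]
    refine ⟨fun h1 => hx.1 ?_, hx.2⟩
    rw [← Subgroup.zpowers_eq_bot, ← zpowers_pow_eq_of_coprime_card hk, h1,
      Subgroup.zpowers_one_eq_bot]) (fun x hx => ((hmem x).mp hx).2.1)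
  have h6 := hS.t13_6 hl hli
  have h7 := hS.t13_7 i
  have s1 := hsplit fun g => ‖τ₁ l g‖ ^ 2
  have s2 := hsplit fun g => ‖eta F₁ F₂ i 1 g‖ ^ 2
  have s3 := hsplit fun _ => 1
  have hsl := hS.signed hl hli
  have hse := hS.cycTI.eta_signed i 1
  rw [← card_mul_rip_self, rip_eq_one_of hsl.inner_self, hA,
    sum_conjSupport_hsharp hS.TI hsl.isClassFunction] at s1
  rw [← card_mul_rip_self, rip_eq_one_of hse.inner_self, hA, hB,
    sum_conjSupport_hsharp hS.TI hse.isClassFunction,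
    sum_conjSupport_hsharp hT.TI hse.isClassFunction] at s2
  simp only [Finset.sum_const, Finset.card_univ, nsmul_eq_mul, mul_one] at s3
  rw [hA, hB, card_conjSupport_hsharp hS.TI, card_conjSupport_hsharp hT.TI,
    ← Nat.card_eq_fintype_card] at s3
  have n1 := one_le_norm_sq hsl
  have n2 := one_le_norm_sq hse
  have n3 : 0 ≤ ∑ g ∈ B, ‖τ₁ l g‖ ^ 2 := Finset.sum_nonneg fun _ _ => by positivity
  have hNS : (S.index : ℝ) * Nat.card S = Nat.card G := by exact_mod_cast S.index_mul_card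
  have hNT : (T.index : ℝ) * Nat.card T = Nat.card G := by exact_mod_cast T.index_mul_card
  have ha : (0 : ℝ) < S.index := by exact_mod_cast Nat.pos_of_ne_zero S.index_ne_zero_of_finite
  have hb : (0 : ℝ) < T.index := by exact_mod_cast Nat.pos_of_ne_zero T.index_ne_zero_of_finite
  have m6 := mul_le_mul_of_nonneg_left h6 ha.le
  have m7 := mul_le_mul_of_nonneg_left h7 ha.le
  have m8 := mul_le_mul_of_nonneg_left h8 hb.le
  have main : (T.index : ℝ) * (Nat.card T / Nat.card X₂ - (v : ℝ) ^ 2 - (Nat.card K - 1)) <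
      S.index * (Nat.card X₁ * u : ℝ) ^ 2 := by linarith
  have hq3 : (3 : ℝ) ≤ Nat.card X₁ := by exact_mod_cast hS.cycTI.three_le₁
  have hp0 : (0 : ℝ) < Nat.card X₂ := by exact_mod_cast hS.prime₂.pos
  have hv' : (v : ℝ) * ((Nat.card X₁ : ℝ) - 1) = (Nat.card X₁ : ℝ) ^ Nat.card X₂ - 1 := by
    have h1 : 1 ≤ Nat.card X₁ := hS.prime₁.one_le
    have h2 : 1 ≤ Nat.card X₁ ^ Nat.card X₂ := Nat.one_le_pow _ _ h1
    have : ((v * (Nat.card X₁ - 1) : ℕ) : ℝ) = ((Nat.card X₁ ^ Nat.card X₂ - 1 : ℕ) : ℝ) := by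
      rw [hv]
    rw [Nat.cast_mul, Nat.cast_sub h1, Nat.cast_sub h2] at this
    exact_mod_cast this
  have hu0 : (0 : ℝ) < u := by
    have : H.index ≠ 0 := H.index_ne_zero_of_finite
    rw [hS.index_H] at this
    exact_mod_cast Nat.pos_of_ne_zero (right_ne_zero_of_mul this)
  have hcS := hS.card_S
  have hcT := hT.card_S
  have hcK := hT.card_H
  have hpq : Nat.card X₂ ^ Nat.card X₁ = Nat.card X₂ ^ (Nat.card X₁ - 1) * Nat.card X₂ := by
    rw [← pow_succ, Nat.sub_add_cancel hS.prime₁.one_le]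
  rw [hpq] at hcS
  rw [hcS] at hNS
  rw [hcT] at hNT main
  rw [hcK] at main
  push_cast at hNS hNT main
  have hm : m13 (Nat.card X₂) (Nat.card X₁) * ((Nat.card X₁ : ℝ) ^ Nat.card X₂ * v) =
      (Nat.card X₁ : ℝ) ^ Nat.card X₂ * v - v ^ 2 - ((Nat.card X₁ : ℝ) ^ Nat.card X₂ - 1) := by
    have hq1 : (Nat.card X₁ : ℝ) - 1 ≠ 0 := by linarith
    have hq2 : (Nat.card X₁ : ℝ) ≠ 0 := by linarith
    unfold m13
    field_simp
    linear_combination (v - ((Nat.card X₁ : ℝ) - 1)) * hv'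
  generalize m13 (Nat.card X₂) (Nat.card X₁) = m at hm ⊢
  generalize (Nat.card X₁ : ℝ) ^ Nat.card X₂ = Qp at *
  generalize (Nat.card X₂ : ℝ) ^ (Nat.card X₁ - 1) = Pq at *
  generalize (Nat.card X₂ : ℝ) = p at *
  generalize (Nat.card X₁ : ℝ) = q at *
  have e1 : S.index * (Pq * c * q * u) = T.index * (Qp * v) := by
    apply mul_left_cancel₀ hp0.ne'
    linear_combination hNS - hNT
  have e2 : Qp * 1 * (p * v) / p = Qp * v := by field_simp
  rw [e2, mul_one, ← hm] at main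
  have e3 : S.index * q * u * (m * Pq * c) < S.index * q * u * (u * q) := by
    have : S.index * q * u * (m * Pq * c) = T.index * (m * (Qp * v)) := by
      linear_combination m * e1
    rw [this]
    linarith
  exact lt_of_mul_lt_mul_left e3 (by positivity)

/-- (13.10), given (13.3.b) for `S` and `T` -/
theorem t13_10' (hS : Hyp13 F₁ F₂ S P H τ₁ u c) (hT : Hyp13 F₂ F₁ T Q K τ₂ v d)
    (bS : (∃ l ∈ seqIndD H P ⊥, IsIrrCharacter S l) ∨
      (c = 1 ∧ u * (Nat.card X₂ - 1) = Nat.card X₂ ^ Nat.card X₁ - 1))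
    (bT : (∃ l ∈ seqIndD K Q ⊥, IsIrrCharacter T l) ∨
      (d = 1 ∧ v * (Nat.card X₁ - 1) = Nat.card X₁ ^ Nat.card X₂ - 1)) :
    m13 (Nat.card X₂) (Nat.card X₁) * (Nat.card X₂ : ℝ) ^ (Nat.card X₁ - 1) * c <
      u * Nat.card X₁ := by
  rcases bS with ⟨l, hl, hli⟩ | ⟨rfl, hu⟩
  · rcases bT with ⟨θ, hθ, hθi⟩ | ⟨rfl, hv⟩
    · exact (hS.t13_4 hT hl hli hθ hθi).elim
    · exact hS.t13_10 hT hv hl hli
  · have hm := m13_lt_one (Nat.card X₂) hS.cycTI.three_le₁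
    have hp3 := hS.cycTI.three_le₂
    have hq3 := hS.cycTI.three_le₁
    have hpq : Nat.card X₂ ^ Nat.card X₁ = Nat.card X₂ ^ (Nat.card X₁ - 1) * Nat.card X₂ := by
      rw [← pow_succ, Nat.sub_add_cancel hS.prime₁.one_le]
    rw [hpq] at hu
    have h0 : 0 < Nat.card X₂ ^ (Nat.card X₁ - 1) := by positivity
    have h1 : Nat.card X₂ ^ (Nat.card X₁ - 1) ≤ u := by
      obtain ⟨r, hr⟩ : ∃ r, Nat.card X₂ = r + 1 := ⟨Nat.card X₂ - 1, by omega⟩
      generalize Nat.card X₂ ^ (Nat.card X₁ - 1) = N at hu h0 ⊢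
      rw [hr, Nat.add_sub_cancel, mul_add, mul_one] at hu
      refine Nat.le_of_mul_le_mul_right (c := r) ?_ (by omega)
      omega
    have h2 : (Nat.card X₂ : ℝ) ^ (Nat.card X₁ - 1) ≤ u := by exact_mod_cast h1
    have h3 : (0 : ℝ) < (Nat.card X₂ : ℝ) ^ (Nat.card X₁ - 1) := by exact_mod_cast h0
    have h4 : (3 : ℝ) ≤ Nat.card X₁ := by exact_mod_cast hq3
    push_cast
    nlinarith

end Pair

end Hyp13

end CL.PF
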