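import Cfsg.Agent.PF.T4
import Cfsg.Agent.PF.SeqInd
import Cfsg.Agent.PF.CohIrr

/-! Peterfalvi (5.3.b), (5.8): coherence and the prime Dade hypothesis.  Owner: helper93.
((5.9.a) is in `PF/T5_9.lean`.) -/

set_option autoImplicit false

namespace CL.PF

open Cfsg CL.Char
open scoped ComplexConjugate

variable {G X₁ X₂ : Type*} [Group G] [Fintype G] [Group X₁] [Group X₂] [Finite X₁] [Finite X₂]
  {L : Subgroup G} [Fintype L] {K H : Subgroup L} {f₁ : X₁ →* L} {f₂ : X₂ →* L} {A A₀ : Set G}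
  {R : G → Subgroup G}

/-- The extra information on the sets `R χ` given by (5.3.b). -/
structure IsPrDadeBase (S : Set (L → ℂ)) (f₁ : X₁ →* L) (f₂ : X₂ →* L)
    (B : (L → ℂ) → Finset (G → ℂ)) : Prop where
  irr : ∀ φ ∈ S, IsIrrCharacter L φ → ∀ α ∈ B φ,
    OrthEta (L.subtype.comp f₁) (L.subtype.comp f₂) α
  red : ∀ j, j ≠ 1 → muCol f₁ f₂ j ∈ S → ∀ α, α ∈ B (muCol f₁ f₂ j) ↔ ∃ i,
    α = (delta f₁ f₂ j : ℂ) • eta (L.subtype.comp f₁) (L.subtype.comp f₂) i j ∨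
    α = -((delta f₁ f₂ j : ℂ) • eta (L.subtype.comp f₁) (L.subtype.comp f₂) i j⁻¹)

theorem dual_inv_ne_one' {X : Type*} [Group X] {j : X →* ℂˣ} (hj : j ≠ 1) : j⁻¹ ≠ 1 :=
  fun e => hj (by ext x; simpa using DFunLike.congr_fun e x)

theorem eq_of_inner_eq_norm {X Y : G → ℂ} {n : ℕ} (hX : classInner X X = n)
    (hY : classInner Y Y = n) (h : classInner X Y = n) : X = Y := by
  rw [← sub_eq_zero, ← classInner_self_eq_zero, classInner_sub_left, classInner_sub_right,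
    classInner_sub_right, ← conj_classInner X Y, hX, hY, h, map_natCast]
  ring

omit [Finite X₁] [Finite X₂] in
/-- An orthonormal constituent of a function orthogonal to the image of `σ` is orthogonal to the
image of `σ`. -/
theorem CycTI.orthEta_of_inner_ne_zero {g₁ : X₁ →* G} {g₂ : X₂ →* G} (h : CycTI g₁ g₂)
    {ψ α : G → ℂ} (hψ : OrthEta g₁ g₂ ψ) (hα : IsSignedIrr G α) (hne : classInner ψ α ≠ 0) :
    OrthEta g₁ g₂ α := by
  refine (h.signed_cases hα).resolve_left ?_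
  rintro ⟨i, j, rfl | rfl⟩
  · exact hne (hψ i j)
  · exact hne (by rw [classInner_neg_right, hψ, neg_zero])

/-- The orthonormal family attached to `μ_j` in (5.3.b). -/
noncomputable def redFam (g₁ : X₁ →* G) (g₂ : X₂ →* G) (δ : ℤ) (j : X₂ →* ℂˣ) :
    (X₁ →* ℂˣ) × Bool → G → ℂ :=
  fun p => bif p.2 then (δ : ℂ) • eta g₁ g₂ p.1 j else -((δ : ℂ) • eta g₁ g₂ p.1 j⁻¹)

omit [Finite X₁] in
theorem CycTI.redFam_inner {g₁ : X₁ →* G} {g₂ : X₂ →* G} (h : CycTI g₁ g₂) {δ : ℤ}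
    (hδ : δ = 1 ∨ δ = -1) {j : X₂ →* ℂˣ} (hj : j ≠ 1) (p q : (X₁ →* ℂˣ) × Bool)
    [Decidable (p = q)] :
    classInner (redFam g₁ g₂ δ j p) (redFam g₁ g₂ δ j q) = if p = q then 1 else 0 := by
  classical
  obtain ⟨i, a⟩ := p
  obtain ⟨i', b⟩ := q
  have := h.inv_ne₂ hj
  rcases hδ with rfl | rfl <;> cases a <;> cases b <;>
    simp [redFam, classInner_neg_left, classInner_neg_right, h.eta_inner_mul, this, this.symm]

omit [Finite X₁] [Finite X₂] in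
theorem CycTI.redFam_inner_of_ne {g₁ : X₁ →* G} {g₂ : X₂ →* G} (h : CycTI g₁ g₂) (δ δ' : ℤ)
    {j k : X₂ →* ℂˣ} (h1 : k ≠ j) (h2 : k ≠ j⁻¹) (p q : (X₁ →* ℂˣ) × Bool) :
    classInner (redFam g₁ g₂ δ k p) (redFam g₁ g₂ δ' j q) = 0 := by
  obtain ⟨i, a⟩ := p
  obtain ⟨i', b⟩ := q
  have h3 : k⁻¹ ≠ j := fun e => h2 (by rw [← e]; ext; simp)
  have h4 : k⁻¹ ≠ j⁻¹ := fun e => h1 (inv_injective e)
  cases a <;> cases b <;>
    simp [redFam, classInner_neg_left, classInner_neg_right, classInner_smul_left,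
      classInner_smul_right, h.eta_inner_of_ne (Or.inr h1), h.eta_inner_of_ne (Or.inr h2),
      h.eta_inner_of_ne (Or.inr h3), h.eta_inner_of_ne (Or.inr h4)]

omit [Finite X₁] [Finite X₂] in
theorem CycTI.redFam_gen {g₁ : X₁ →* G} {g₂ : X₂ →* G} (h : CycTI g₁ g₂) (δ : ℤ)
    (j : X₂ →* ℂˣ) (p : (X₁ →* ℂˣ) × Bool) : IsGeneralizedCharacter G (redFam g₁ g₂ δ j p) := by
  obtain ⟨i, a⟩ := p
  cases a <;> simp only [redFam, cond_true, cond_false, Int.cast_smul_eq_zsmul]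
  exacts [gen_neg (gen_zsmul _ (h.eta_gen _ _)), gen_zsmul _ (h.eta_gen _ _)]

omit [Finite X₁] [Finite X₂] in
theorem OrthEta.inner_redFam {g₁ : X₁ →* G} {g₂ : X₂ →* G} {ψ : G → ℂ} (h : OrthEta g₁ g₂ ψ)
    (δ : ℤ) (j : X₂ →* ℂˣ) (p : (X₁ →* ℂˣ) × Bool) : classInner ψ (redFam g₁ g₂ δ j p) = 0 := by
  obtain ⟨i, a⟩ := p
  cases a <;> simp [redFam, classInner_neg_right, classInner_smul_right, h _ _]

omit [Fintype G] [Finite X₂] in
theorem sum_redFam (g₁ : X₁ →* G) (g₂ : X₂ →* G) (δ : ℤ) (j : X₂ →* ℂˣ) :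
    ∑ p, redFam g₁ g₂ δ j p = (δ : ℂ) • (etaCol g₁ g₂ j - etaCol g₁ g₂ j⁻¹) := by
  simp [Fintype.sum_prod_type, redFam, etaCol, Finset.smul_sum, sub_eq_add_neg,
    Finset.sum_add_distrib]

omit [Finite X₁] [Finite X₂] in
/-- for `φ, ψ ∈ S` irreducible of the same degree, `(φ - ψ)^τ` is orthogonal to the image of `σ` -/
theorem PrimeDade.dade_sub_orthEta' (h : PrimeDade L K H f₁ f₂ A A₀ R)
    {φ ψ : L → ℂ} (hφ : φ ∈ seqIndD K H ⊥) (hψ : ψ ∈ seqIndD K H ⊥) (hφi : IsIrrCharacter L φ)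
    (hψi : IsIrrCharacter L ψ) (hd : φ 1 = ψ 1) :
    OrthEta (L.subtype.comp f₁) (L.subtype.comp f₂) (dadeIsometry A₀ L R (φ - ψ)) := by
  by_cases e : φ = ψ
  · rw [e, sub_self, dade_zero]; exact orthEta_zero
  have hm := sub_mem_zspanOn_one (mem_zspan hφ) (mem_zspan hψ) hd
  have hi := h.iso subset_rfl
  refine h.cycTI.orthEta_of_norm_le_two (iso_gen hi hm)
    (fun v hv => h.dade_zspanOn_eq_zero_V subset_rfl hm hv) ?_
  rw [iso_inner hi hm hm, classInner_sub_left, classInner_sub_right, classInner_sub_right,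
    irr_inner_self hφi, irr_inner_self hψi, irr_inner_of_ne hφi hψi e,
    irr_inner_of_ne hψi hφi (Ne.symm e)]
  norm_num

/-- (5.3.b) for a group `L` of odd order and the full set `S` (use the subset lemma for coherence
systems to get it for conjugation-closed subsets). -/
theorem PrimeDade.t5_3b (h : PrimeDade L K H f₁ f₂ A A₀ R) (hodd : Odd (Nat.card L)) :
    ∃ B : (L → ℂ) → Finset (G → ℂ),
      IsCoherenceSystem (seqIndD K H ⊥) (dadeIsometry A₀ L R) B ∧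
        IsPrDadeBase (seqIndD K H ⊥) f₁ f₂ B := by
  classical
  have hK := h.primeTI.normal
  have hp := h.primeTI
  -- the irreducible members
  obtain ⟨R₀, hR₀⟩ : ∃ R₀ : (L → ℂ) → Finset (G → ℂ),
      (∃ φ ∈ seqIndD K H ⊥, IsIrrCharacter L φ) → IsCoherenceSystem
        {φ | φ ∈ seqIndD K H ⊥ ∧ IsIrrCharacter L φ} (dadeIsometry A₀ L R) R₀ := by
    by_cases hne : ∃ φ ∈ seqIndD K H ⊥, IsIrrCharacter L φ
    · obtain ⟨R₀, hR₀⟩ := irr_subcoherent (S := {φ | φ ∈ seqIndD K H ⊥ ∧ IsIrrCharacter L φ})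
        hne (fun _ hφ => hφ.2) (fun _ hφ => ⟨seqIndD_conjFun hφ.1, irr_conjFun hφ.2⟩)
        (fun _ hφ => seqIndD_conjFun_ne hodd hφ.1) (h.iso fun _ hφ => hφ.1)
        (fun α _ => Dade.apply_one h.dade α)
      exact ⟨R₀, fun _ => hR₀⟩
    · exact ⟨fun _ => ∅, fun e => absurd e hne⟩
  have hR₀' : ∀ φ ∈ seqIndD K H ⊥, IsIrrCharacter L φ → ∀ α ∈ R₀ φ,
      OrthEta (L.subtype.comp f₁) (L.subtype.comp f₂) α := by
    intro φ hφ hi α hα
    have hc := hR₀ ⟨φ, hφ, hi⟩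
    refine h.cycTI.orthEta_of_inner_ne_zero (h.dade_sub_orthEta' hφ (seqIndD_conjFun hφ) hi
      (irr_conjFun hi) (gen_conjFun_apply_one (gen_of_irr hi)).symm)
      (subcoh_isSignedIrr hc ⟨hφ, hi⟩ hα) ?_
    rw [hc.sum_eq φ ⟨hφ, hi⟩, (subcoh_isON hc ⟨hφ, hi⟩).inner_sum_of_mem subset_rfl hα]
    exact one_ne_zero
  set F : (X₂ →* ℂˣ) → Finset (G → ℂ) := fun j => Finset.univ.image
    (redFam (L.subtype.comp f₁) (L.subtype.comp f₂) (delta f₁ f₂ j) j) with hF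
  set B : (L → ℂ) → Finset (G → ℂ) := fun φ =>
    if e : ∃ j, φ = muCol f₁ f₂ j then F e.choose else R₀ φ with hB
  have B1 : ∀ j, B (muCol f₁ f₂ j) = F j := fun j => by
    have e : ∃ k, muCol f₁ f₂ j = muCol f₁ f₂ k := ⟨j, rfl⟩
    simp only [hB, dif_pos e, ← hp.muCol_inj e.choose_spec]
  have B2 : ∀ φ, IsIrrCharacter L φ → B φ = R₀ φ := fun φ hi =>
    dif_neg fun ⟨j, e⟩ => hp.muCol_not_irr j (e ▸ hi)
  have mF : ∀ j α, α ∈ F j ↔
      ∃ p, redFam (L.subtype.comp f₁) (L.subtype.comp f₂) (delta f₁ f₂ j) j p = α := by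
    simp [hF]
  have inj : ∀ j, j ≠ 1 → Function.Injective
      (redFam (L.subtype.comp f₁) (L.subtype.comp f₂) (delta f₁ f₂ j) j) := fun j hj p q e => by
    by_contra hne
    have := h.cycTI.redFam_inner (delta_eq (f₁ := f₁) (f₂ := f₂) j) hj p q
    rw [if_neg hne, e, h.cycTI.redFam_inner (delta_eq j) hj, if_pos rfl] at this
    exact one_ne_zero this
  refine ⟨B, ⟨?_, fun _ => seqIndD_char, fun _ => seqIndD_conjFun,
    fun _ => seqIndD_conjFun_ne hodd, h.iso subset_rfl, fun α _ => Dade.apply_one h.dade α,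
    fun _ hχ _ hφ => seqIndD_orth hχ hφ, fun χ hχ => ?_, fun χ hχ => ?_, fun χ hχ => ?_,
    fun χ hχ φ hφ h1 h2 => ?_⟩, fun φ hφ hi => ?_, fun j hj _ α => ?_⟩
  · obtain ⟨j, hj⟩ := h.cycTI.exists_dual_ne_one₂
    exact ⟨_, hp.muCol_mem h.le_H hj⟩
  · rcases hp.seqInd_cases hχ with ⟨j, hj, rfl⟩ | hi
    · rw [B1]
      intro α hα β hβ
      obtain ⟨p, rfl⟩ := (mF _ _).1 hα
      obtain ⟨q, rfl⟩ := (mF _ _).1 hβ
      rw [h.cycTI.redFam_inner (delta_eq j) hj]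
      simp only [(inj j hj).eq_iff]
    · rw [B2 χ hi]; exact (hR₀ ⟨χ, hχ, hi⟩).orthonormal χ ⟨hχ, hi⟩
  · rcases hp.seqInd_cases hχ with ⟨j, hj, rfl⟩ | hi
    · rw [B1]
      intro α hα
      obtain ⟨p, rfl⟩ := (mF _ _).1 hα
      exact h.cycTI.redFam_gen _ _ _
    · rw [B2 χ hi]; exact (hR₀ ⟨χ, hχ, hi⟩).virtual χ ⟨hχ, hi⟩
  · rcases hp.seqInd_cases hχ with ⟨j, hj, rfl⟩ | hi
    · rw [B1, hF, Finset.sum_image (inj j hj).injOn, sum_redFam, hp.muCol_conj,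
        h.t4_9a hj (dual_inv_ne_one' hj) (hp.muCol_apply_one_inv j).symm]
    · rw [B2 χ hi]; exact (hR₀ ⟨χ, hχ, hi⟩).sum_eq χ ⟨hχ, hi⟩
  · rcases hp.seqInd_cases hχ with ⟨j, hj, rfl⟩ | hi <;>
      rcases hp.seqInd_cases hφ with ⟨k, hk, rfl⟩ | hi'
    · rw [B1, B1]
      intro α hα β hβ
      obtain ⟨p, rfl⟩ := (mF _ _).1 hα
      obtain ⟨q, rfl⟩ := (mF _ _).1 hβ
      refine h.cycTI.redFam_inner_of_ne _ _ ?_ ?_ p q
      · rintro rfl
        exact natCard_cast_ne_zero X₁ (by rw [← hp.muCol_inner_self, h1])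
      · rintro rfl
        exact natCard_cast_ne_zero X₁ (by rw [← hp.muCol_inner_self j⁻¹, ← h2, hp.muCol_conj])
    · rw [B1, B2 φ hi']
      intro α hα β hβ
      obtain ⟨q, rfl⟩ := (mF _ _).1 hβ
      exact (hR₀' φ hφ hi' α hα).inner_redFam _ _ _
    · rw [B1, B2 χ hi]
      intro α hα β hβ
      obtain ⟨q, rfl⟩ := (mF _ _).1 hα
      exact classInner_eq_zero_comm.1 ((hR₀' χ hχ hi β hβ).inner_redFam _ _ _)
    · rw [B2 χ hi, B2 φ hi']
      exact (hR₀ ⟨χ, hχ, hi⟩).disjoint χ ⟨hχ, hi⟩ φ ⟨hφ, hi'⟩ h1 h2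
  · rw [B2 φ hi]; exact hR₀' φ hφ hi
  · rw [B1, mF]
    constructor
    · rintro ⟨⟨i, a⟩, rfl⟩
      cases a
      exacts [⟨i, Or.inr rfl⟩, ⟨i, Or.inl rfl⟩]
    · rintro ⟨i, rfl | rfl⟩
      exacts [⟨(i, true), rfl⟩, ⟨(i, false), rfl⟩]

/-- (5.3.b) with (5.5): the image of an irreducible member of a coherent set is orthogonal to the
image of `σ` (`coherent_ortho_cycTIiso`). -/
theorem PrimeDade.coherent_orthEta (h : PrimeDade L K H f₁ f₂ A A₀ R) (hodd : Odd (Nat.card L))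
    {S : Set (L → ℂ)} (hS : S ⊆ seqIndD K H ⊥) (hc : ∀ φ ∈ S, conjFun φ ∈ S)
    {τ₁ : (L → ℂ) → (G → ℂ)} (hτ : CoherentWith S (dadeIsometry A₀ L R) τ₁) {χ : L → ℂ}
    (hχ : χ ∈ S) (hirr : IsIrrCharacter L χ) :
    OrthEta (L.subtype.comp f₁) (L.subtype.comp f₂) (τ₁ χ) := by
  obtain ⟨B, hB, hB'⟩ := h.t5_3b hodd
  obtain ⟨E, hE, e⟩ := coherent_eq_sum_subset hB hτ (hS hχ) (mem_zspan hχ) (mem_zspan (hc χ hχ))
  rw [e]
  exact orthEta_sum _ fun α hα => hB'.irr χ (hS hχ) hirr α (hE hα)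

omit [Finite X₁] [Finite X₂] in
/-- for `φ, ψ ∈ S` irreducible of the same degree, `(φ - ψ)^τ` is orthogonal to the image of `σ` -/
theorem PrimeDade.dade_sub_orthEta (h : PrimeDade L K H f₁ f₂ A A₀ R) (_hodd : Odd (Nat.card L))
    {φ ψ : L → ℂ} (hφ : φ ∈ seqIndD K H ⊥) (hψ : ψ ∈ seqIndD K H ⊥) (hφi : IsIrrCharacter L φ)
    (hψi : IsIrrCharacter L ψ) (hd : φ 1 = ψ 1) :
    OrthEta (L.subtype.comp f₁) (L.subtype.comp f₂) (dadeIsometry A₀ L R (φ - ψ)) :=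
  h.dade_sub_orthEta' hφ hψ hφi hψi hd

/-- If a coherent set contains an irreducible character, the extension of `τ` maps `ℤ[S]` to
functions vanishing on `V`. -/
theorem PrimeDade.coherent_eq_zero_V (h : PrimeDade L K H f₁ f₂ A A₀ R) (hodd : Odd (Nat.card L))
    {S : Set (L → ℂ)} (hS : S ⊆ seqIndD K H ⊥) (hc : ∀ φ ∈ S, conjFun φ ∈ S)
    {τ₁ : (L → ℂ) → (G → ℂ)} (hτ : CoherentWith S (dadeIsometry A₀ L R) τ₁)
    (hirr : ∃ χ ∈ S, IsIrrCharacter L χ) {φ : L → ℂ} (hφ : φ ∈ S) {v : G}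
    (hv : v ∈ cycV (L.subtype.comp f₁) (L.subtype.comp f₂)) : τ₁ φ v = 0 := by
  obtain ⟨χ, hχ, hi⟩ := hirr
  obtain ⟨d, hd0, hd⟩ := irr_apply_one hi
  obtain ⟨e, he⟩ := char_apply_one (seqIndD_char (hS hφ))
  have hm := deg_comb_mem (mem_zspan hφ) (mem_zspan hχ) he hd
  have e1 := h.dade_zspanOn_eq_zero_V hS hm hv
  rw [← hτ.eq hm, iso_sub hτ.iso (zc_nsmul _ (mem_zspan hφ)) (zc_nsmul _ (mem_zspan hχ)),
    iso_nsmul hτ.iso _ (mem_zspan hφ), iso_nsmul hτ.iso _ (mem_zspan hχ), Pi.sub_apply,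
    Pi.smul_apply, Pi.smul_apply, h.cycTI.eq_zero_of_orthEta
      (gen_isClassFunction (hτ.gen (mem_zspan hχ))) (h.coherent_orthEta hodd hS hc hτ hχ hi) hv,
    smul_zero, sub_zero, smul_eq_zero] at e1
  exact e1.resolve_left hd0.ne'

/-- (5.8) -/
theorem PrimeDade.t5_8 (h : PrimeDade L K H f₁ f₂ A A₀ R) (hodd : Odd (Nat.card L))
    {S : Set (L → ℂ)} (hS : S ⊆ seqIndD K H ⊥) (hc : ∀ φ ∈ S, conjFun φ ∈ S)
    {τ₁ : (L → ℂ) → (G → ℂ)} (hτ : CoherentWith S (dadeIsometry A₀ L R) τ₁)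
    (hirr : ∃ χ ∈ S, IsIrrCharacter L χ) {k : X₂ →* ℂˣ} (hk : muCol f₁ f₂ k ∈ S) :
    τ₁ (muCol f₁ f₂ k) =
        (delta f₁ f₂ k : ℂ) • etaCol (L.subtype.comp f₁) (L.subtype.comp f₂) k ∨
      (τ₁ (muCol f₁ f₂ k) =
        -((delta f₁ f₂ k : ℂ) • etaCol (L.subtype.comp f₁) (L.subtype.comp f₂) k⁻¹) ∧
      ∀ j, muCol f₁ f₂ j ∈ S → muCol f₁ f₂ j 1 = muCol f₁ f₂ k 1 → j = k ∨ j = k⁻¹) := by
  classical
  have hp := h.primeTI
  have hk1 := hp.ne_one_of_muCol_mem (hS hk)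
  obtain ⟨B, hB, hB'⟩ := h.t5_3b hodd
  obtain ⟨E, hE, e⟩ := coherent_eq_sum_subset hB hτ (hS hk) (mem_zspan hk) (mem_zspan (hc _ hk))
  have hn : classInner (τ₁ (muCol f₁ f₂ k)) (τ₁ (muCol f₁ f₂ k)) = Nat.card X₁ := by
    rw [hτ.inner (mem_zspan hk) (mem_zspan hk), hp.muCol_inner_self]
  have hr := h.cycTI.rect (gen_isClassFunction (hτ.gen (mem_zspan hk)))
    (fun v hv => h.coherent_eq_zero_V hodd hS hc hτ hirr hk hv)
  have h0 : ∀ i, classInner (τ₁ (muCol f₁ f₂ k))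
      (eta (L.subtype.comp f₁) (L.subtype.comp f₂) i 1) = 0 := fun i => by
    rw [e, classInner_sum_left]
    refine Finset.sum_eq_zero fun α hα => ?_
    obtain ⟨i', rfl | rfl⟩ := (hB'.red k hk1 (hS hk) α).1 (hE hα)
    · rw [classInner_smul_left, h.cycTI.eta_inner_of_ne (Or.inr hk1), mul_zero]
    · rw [classInner_neg_left, classInner_smul_left,
        h.cycTI.eta_inner_of_ne (Or.inr (inv_ne_one.2 hk1)), mul_zero, neg_zero]
  have hcol : ∀ i j, classInner (τ₁ (muCol f₁ f₂ k))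
      (etaCol (L.subtype.comp f₁) (L.subtype.comp f₂) j) = Nat.card X₁ *
      classInner (τ₁ (muCol f₁ f₂ k)) (eta (L.subtype.comp f₁) (L.subtype.comp f₂) i j) := by
    intro i j
    rw [etaCol, classInner_sum_right, Finset.sum_congr rfl (fun i' _ => by
      have := hr i' i j 1
      simp only [h0, add_zero, zero_add] at this
      exact this), Finset.sum_const, Finset.card_univ, h.cycTI.fintype_card_dual₁, nsmul_eq_mul]
  have hnorm : ∀ j, classInner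
      ((delta f₁ f₂ k : ℂ) • etaCol (L.subtype.comp f₁) (L.subtype.comp f₂) j)
      ((delta f₁ f₂ k : ℂ) • etaCol (L.subtype.comp f₁) (L.subtype.comp f₂) j) = Nat.card X₁ := by
    intro j
    rw [classInner_smul_left, classInner_smul_right, conj_delta, ← mul_assoc, delta_mul_self,
      one_mul, h.cycTI.etaCol_inner, if_pos rfl]
  obtain ⟨α, hα⟩ : E.Nonempty := by
    rw [Finset.nonempty_iff_ne_empty]
    rintro rfl
    rw [e, Finset.sum_empty, classInner_zero_left] at hn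
    exact natCard_cast_ne_zero X₁ hn.symm
  have h1 := (subcoh_isON hB (hS hk)).inner_sum_of_mem hE hα
  rw [← e] at h1
  obtain ⟨i, rfl | rfl⟩ := (hB'.red k hk1 (hS hk) α).1 (hE hα)
  · left
    refine eq_of_inner_eq_norm hn (hnorm k) ?_
    rw [classInner_smul_right] at h1 ⊢
    rw [hcol i, mul_left_comm, h1, mul_one]
  · right
    have e2 : τ₁ (muCol f₁ f₂ k) =
        -((delta f₁ f₂ k : ℂ) • etaCol (L.subtype.comp f₁) (L.subtype.comp f₂) k⁻¹) := by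
      refine eq_of_inner_eq_norm hn
        (by rw [classInner_neg_left, classInner_neg_right, neg_neg, hnorm]) ?_
      rw [classInner_neg_right, classInner_smul_right] at h1 ⊢
      rw [hcol i, mul_left_comm, ← mul_neg, h1, mul_one]
    refine ⟨e2, fun j hj hd => ?_⟩
    by_contra hne
    push Not at hne
    have e3 := hτ.sub (mem_zspan hj) (mem_zspan hk) hd
    rw [h.t4_9a (hp.ne_one_of_muCol_mem (hS hj)) hk1 hd] at e3
    have e4 := congrArg (fun t => classInner t (τ₁ (muCol f₁ f₂ k))) e3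
    simp only [classInner_sub_left, hn, hτ.inner (mem_zspan hj) (mem_zspan hk),
      hp.muCol_inner_of_ne hne.1] at e4
    rw [e2, classInner_smul_left, classInner_neg_right, classInner_smul_right, classInner_sub_left,
      h.cycTI.etaCol_inner, h.cycTI.etaCol_inner, if_neg hne.2,
      if_neg (h.cycTI.inv_ne₂ hk1).symm] at e4
    simp [Nat.card_pos.ne'] at e4

end CL.PF
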