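import Cfsg.Agent.PF.A13_Core
import Cfsg.Agent.PF.SeqInd
import Cfsg.Agent.PF.T5

/-!
# Peterfalvi (13.3.c) and the passage from `S = {Ind_{S'}^S θ}` to `S₁ = {Ind_H^S θ}`
-/

set_option autoImplicit false

open Cfsg CL.Char
open scoped ComplexConjugate

namespace CL.PF

section Seq
variable {L : Type*} [Group L] [Fintype L] {K H P : Subgroup L}

theorem a13_mem_zspan [P.Normal] (hPH : P ≤ H) (hHK : H ≤ K) {ζ : L → ℂ}
    (hζ : ζ ∈ seqIndD H P ⊥) : ζ ∈ zspan (seqIndD K P ⊥) := by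
  obtain ⟨θ, hθ, hP, -, rfl⟩ := hζ
  obtain ⟨c, hc, e⟩ := char_exists_eq_sum (char_relInd hHK (irr_isCharacter hθ))
  rw [← indFun_relInd hHK, e, indFun_sum]
  refine zc_sum _ fun χ _ => ?_
  rw [indFun_smul]
  by_cases h0 : c χ = 0
  · rw [h0, Nat.cast_zero, zero_smul]; exact zc_zero
  refine zc_natCast_smul _ (mem_zspan (a13_mem_seqInd χ.2 fun hk => hP ?_))
  have hne : classInner (relRes hHK χ.1) θ ≠ 0 := by
    rw [← classInner_relInd_right hHK θ (irr_isClassFunction χ.2), ← conj_classInner, hc]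
    simpa using h0
  exact (inKer_iff_of_relOver hPH hHK (by rw [Subgroup.normalizer_eq_top]; exact le_top) hθ χ.2
    hne).2 hk

theorem a13_mem_of_indLin [P.Normal] (hPH : P ≤ H) (hPK : P ≤ K) {Y : Subgroup L} {χ : L → ℂ}
    (hχ : χ ∈ seqIndD K P Y) (hl : IsIndLin H χ) : χ ∈ seqIndD H P ⊥ := by
  obtain ⟨ξ, rfl⟩ := hl
  obtain ⟨x, hx, hne⟩ := seqIndD_exists_apply_ne hPK hχ
  exact a13_mem_seqInd (irr_unitsHom ξ) fun hk => hne (hk.indFun hPH hx)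

theorem IsIndLin.apply_one {χ : L → ℂ} (hl : IsIndLin H χ) : χ 1 = H.index := by
  obtain ⟨ξ, rfl⟩ := hl
  simp [indFun_one]

theorem a13_indLin (hH : ∀ a b : H, a * b = b * a) {Y : Subgroup L} {χ : L → ℂ}
    (hχ : χ ∈ seqIndD H P Y) : IsIndLin H χ := by
  obtain ⟨θ, hθ, -, -, rfl⟩ := hχ
  obtain ⟨ξ, rfl⟩ := irr_exists_unitsHom_of_comm hH hθ
  exact ⟨ξ, rfl⟩

theorem a13_mem_zspan_left {T₁ T₂ : Set (L → ℂ)}
    (ho : ∀ χ ∈ T₁, ∀ ψ ∈ T₂, classInner χ ψ = 0) {α : L → ℂ} (hα : α ∈ zspan (T₁ ∪ T₂))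
    (h : ∀ ψ ∈ T₂, classInner α ψ = 0) : α ∈ zspan T₁ := by
  obtain ⟨β, hβ, γ, hγ, rfl⟩ := mem_zspan_union.1 hα
  have h1 := classInner_zspan_right h hγ
  rw [classInner_add_left, classInner_zspan_zspan ho hβ hγ, zero_add,
    classInner_self_eq_zero] at h1
  rwa [h1, add_zero]

end Seq

variable {G X₁ X₂ : Type*} [Group G] [Fintype G] [Group X₁] [Group X₂] [Finite X₁] [Finite X₂]
  {L : Subgroup G} [Fintype L] {K H P : Subgroup L} {f₁ : X₁ →* L} {f₂ : X₂ →* L} {A A₀ : Set G}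
  {R : G → Subgroup G}

/-- (13.3.c) -/
theorem PrimeDade.a13_coh (h : PrimeDade L K P f₁ f₂ A A₀ R) (hodd : Odd (Nat.card L))
    (hdeg : ∀ j k, j ≠ 1 → k ≠ 1 → muCol f₁ f₂ j 1 = muCol f₁ f₂ k 1)
    (hδ : ∀ j, delta f₁ f₂ j = 1)
    (hc : IsCoherent (seqIndD K P ⊥) {1}ᶜ (dadeIsometry A₀ L R)) :
    ∃ τ₁ : (L → ℂ) → (G → ℂ), CoherentWith (seqIndD K P ⊥) (dadeIsometry A₀ L R) τ₁ ∧
      ((∀ j, j ≠ 1 → τ₁ (muCol f₁ f₂ j) = etaCol (L.subtype.comp f₁) (L.subtype.comp f₂) j) ∨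
        ∀ j, j ≠ 1 → τ₁ (muCol f₁ f₂ j) = -etaCol (L.subtype.comp f₁) (L.subtype.comp f₂) j⁻¹) := by
  classical
  have hmem : ∀ {j : X₂ →* ℂˣ}, j ≠ 1 → muCol f₁ f₂ j ∈ seqIndD K P ⊥ :=
    fun hj => h.primeTI.muCol_mem h.le_H hj
  by_cases hirr : ∃ χ ∈ seqIndD K P ⊥, IsIrrCharacter L χ
  · obtain ⟨τ₁, hτ⟩ := coherent_exists hc
    refine ⟨τ₁, hτ, ?_⟩
    have h58 := fun (j : X₂ →* ℂˣ) (hj : j ≠ 1) =>
      h.t5_8 hodd subset_rfl (fun _ => seqIndD_conjFun) hτ hirr (hmem hj)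
    simp only [hδ, Int.cast_one, one_smul] at h58
    by_cases hall : ∀ j, j ≠ 1 →
        τ₁ (muCol f₁ f₂ j) = etaCol (L.subtype.comp f₁) (L.subtype.comp f₂) j
    · exact Or.inl hall
    push Not at hall
    obtain ⟨j, hj, hne⟩ := hall
    obtain ⟨e1, e2⟩ := (h58 j hj).resolve_left hne
    refine Or.inr fun k hk => ?_
    rcases e2 k (hmem hk) (hdeg k j hk hj) with rfl | rfl
    · exact e1
    refine ((h58 _ hk).resolve_left fun e3 => ?_).1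
    have hjj : j ≠ j⁻¹ := fun e => hne (by rwa [← e] at e3)
    have h1 := hτ.inner (mem_zspan (hmem hj)) (mem_zspan (hmem hk))
    rw [e1, e3, h.primeTI.muCol_inner_of_ne hjj, classInner_neg_left, h.cycTI.etaCol_inner,
      if_pos rfl, neg_eq_zero, Nat.cast_eq_zero] at h1
    exact Nat.card_pos.ne' h1
  · obtain ⟨φ, hφ⟩ := coherent_nonempty hc
    obtain ⟨k, hk, -⟩ := (h.primeTI.seqInd_cases hφ).resolve_right fun hi => hirr ⟨φ, hφ, hi⟩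
    obtain ⟨τ₁, hτ, e⟩ := h.t4_9 hk
    refine ⟨τ₁, hτ.mono fun ψ hψ => ?_, Or.inl fun j hj => ?_⟩
    · obtain ⟨j, hj, rfl⟩ :=
        (h.primeTI.seqInd_cases hψ).resolve_right fun hi => hirr ⟨ψ, hψ, hi⟩
      exact ⟨j, hj, hdeg j k hj hk, rfl⟩
    · rw [e j hj (hdeg j k hj hk), hδ, Int.cast_one, one_smul]

theorem PrimeDade.a13_cases (h : PrimeDade L K P f₁ f₂ A A₀ R) (hodd : Odd (Nat.card L))
    [H.Normal] (hPH : P ≤ H) (hHK : H ≤ K) (hlin : ∀ j, j ≠ 1 → IsIndLin H (muCol f₁ f₂ j))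
    {τ₁ : (L → ℂ) → (G → ℂ)} (hτ : CoherentWith (seqIndD K P ⊥) (dadeIsometry A₀ L R) τ₁)
    {ζ : L → ℂ} (hζ : ζ ∈ seqIndD H P ⊥) :
    (∃ j, j ≠ 1 ∧ ζ = muCol f₁ f₂ j) ∨
      OrthEta (L.subtype.comp f₁) (L.subtype.comp f₂) (τ₁ ζ) := by
  have := h.H_normal
  have := h.primeTI.normal
  refine or_iff_not_imp_left.2 fun hne => ?_
  push Not at hne
  have hz : ζ ∈ zspan {χ | χ ∈ seqIndD K P ⊥ ∧ IsIrrCharacter L χ} := by
    refine a13_mem_zspan_left (T₂ := {φ | ∃ j, j ≠ 1 ∧ φ = muCol f₁ f₂ j}) ?_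
      (zspan_mono (fun φ hφ => ?_) (a13_mem_zspan hPH hHK hζ)) ?_
    · rintro χ ⟨hχ, hi⟩ ψ ⟨j, hj, rfl⟩
      refine seqIndD_orth hχ (h.primeTI.muCol_mem h.le_H hj) fun e => ?_
      exact h.primeTI.muCol_not_irr j (e ▸ hi)
    · rcases h.primeTI.seqInd_cases hφ with h1 | h1
      · exact Or.inr h1
      · exact Or.inl ⟨hφ, h1⟩
    · rintro ψ ⟨j, hj, rfl⟩
      exact a13_inner_ne hζ (a13_mem_of_indLin hPH h.H_le (h.primeTI.muCol_mem h.le_H hj)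
        (hlin j hj)) (hne j hj)
  intro i j
  refine iso_inner_eq_zero_left hτ.iso (fun χ hχ => mem_zspan hχ.1) (fun χ hχ => ?_) hz
  exact h.coherent_orthEta hodd subset_rfl (fun _ => seqIndD_conjFun) hτ hχ.1 hχ.2 i j

end CL.PF
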