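import Cfsg.Agent.PF.CohON
import Cfsg.Agent.PF.TICount
import Cfsg.Agent.Char.Clifford
import Cfsg.Agent.Char.Linear
import Cfsg.Agent.Char.Congr

/-!
# Peterfalvi (13.5), for an abstract group `L` with an abelian normal subgroup `H`
-/

set_option autoImplicit false

open Cfsg CL.Char
open scoped ComplexConjugate

namespace CL.PF

section Sharp
variable {X : Type*} [Group X] [Fintype X]

open Classical in
/-- `∑_{x ≠ 1} |f x|²` -/
noncomputable def sharpSq (f : X → ℂ) : ℝ := ∑ x ∈ Finset.univ.erase (1 : X), ‖f x‖ ^ 2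

theorem card_mul_rip_self (f : X → ℂ) : (Nat.card X : ℝ) * rip f f = ∑ x, ‖f x‖ ^ 2 := by
  rw [rip_def, classInner_self_re, ← mul_assoc, mul_inv_cancel₀, one_mul]
  exact Nat.cast_ne_zero.mpr Nat.card_pos.ne'

theorem sharpSq_eq (f : X → ℂ) : sharpSq f = Nat.card X * rip f f - ‖f 1‖ ^ 2 := by
  classical
  rw [card_mul_rip_self, sharpSq, ← Finset.add_sum_erase _ _ (Finset.mem_univ (1 : X))]
  convert (add_sub_cancel_left _ _).symm

theorem sharpSq_congr {f g : X → ℂ} (h : ∀ x, x ≠ 1 → ‖f x‖ = ‖g x‖) : sharpSq f = sharpSq g := by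
  classical
  unfold sharpSq
  refine Finset.sum_congr rfl fun x hx => ?_
  rw [h x (by simpa using hx)]

theorem sharpSq_nonneg (f : X → ℂ) : 0 ≤ sharpSq f :=
  Finset.sum_nonneg fun _ _ => by positivity

theorem le_sharpSq_of_const (f : X → ℂ) (Y : Subgroup X) {m : ℂ} (h : ∀ x ∈ Y, f x = m) :
    ((Nat.card Y : ℝ) - 1) * ‖m‖ ^ 2 ≤ sharpSq f := by
  classical
  have h1 : ((Nat.card Y : ℝ) - 1) * ‖m‖ ^ 2 =
      ∑ x ∈ (Finset.univ.filter (· ∈ Y)).erase (1 : X), ‖f x‖ ^ 2 := by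
    rw [Finset.sum_congr rfl (g := fun _ => ‖m‖ ^ 2) fun x hx => by
      rw [h x (by simpa using (Finset.mem_of_mem_erase hx))]]
    rw [Finset.sum_const, Finset.card_erase_of_mem (by simp), nsmul_eq_mul]
    have hc : (Finset.univ.filter (· ∈ Y)).card = Nat.card Y := by
      rw [Nat.card_eq_fintype_card, Fintype.card_subtype]
    rw [hc, Nat.cast_sub Nat.card_pos, Nat.cast_one]
  rw [h1, sharpSq]
  apply Finset.sum_le_sum_of_subset_of_nonneg
  · intro x hx
    simp only [Finset.mem_erase, Finset.mem_univ, and_true] at hx ⊢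
    exact hx.1
  · intros; positivity

end Sharp

section Seq
variable {L : Type*} [Group L] [Fintype L] {H P : Subgroup L}

omit [Fintype L] in
theorem a13_inKer_conjChar [H.Normal] [hP : P.Normal] {θ : H → ℂ} (h : InKer P θ) (g : L) :
    InKer P (conjChar H g θ) := fun a ha => by
  rw [conjChar_apply_one, conjChar_apply]
  exact h _ (hP.conj_mem _ ha g)

theorem a13_indFun_ne [H.Normal] [P.Normal] {θ : H → ℂ} (hθ : IsIrrCharacter H θ)
    (h : InKer P θ) {ζ : L → ℂ} (hζ : ζ ∈ seqIndD H P ⊥) : indFun H θ ≠ ζ := by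
  obtain ⟨φ, hφ, hn, -, rfl⟩ := hζ
  intro he
  obtain ⟨g, rfl⟩ := (mem_conjOrbit H).mp ((indFun_eq_iff_mem_conjOrbit H hθ hφ).mp he.symm)
  exact hn (a13_inKer_conjChar h g)

omit [Fintype L] in
theorem a13_inKer_bot {K : Subgroup L} (θ : K → ℂ) : InKer (⊥ : Subgroup L) θ := fun a ha => by
  have : a = 1 := Subtype.ext (by simpa using ha)
  rw [this]

theorem a13_mem_seqInd {K : Subgroup L} {θ : K → ℂ} (hθ : IsIrrCharacter K θ) (h : ¬ InKer P θ) :
    indFun K θ ∈ seqIndD K P ⊥ := ⟨θ, hθ, h, a13_inKer_bot θ, rfl⟩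

theorem a13_char {K Y : Subgroup L} {ζ : L → ℂ} (hζ : ζ ∈ seqIndD K P Y) : IsCharacter L ζ := by
  obtain ⟨φ, hφ, -, -, rfl⟩ := hζ
  exact char_indFun _ (irr_isCharacter hφ)

theorem a13_gen {K Y : Subgroup L} {ζ : L → ℂ} (hζ : ζ ∈ seqIndD K P Y) :
    IsGeneralizedCharacter L ζ := gen_of_char (a13_char hζ)

theorem a13_classFun {K Y : Subgroup L} {ζ : L → ℂ} (hζ : ζ ∈ seqIndD K P Y) :
    IsClassFunction L ζ := char_isClassFunction (a13_char hζ)

theorem a13_eq_zero [H.Normal] {Y : Subgroup L} {ζ : L → ℂ} (hζ : ζ ∈ seqIndD H P Y) {x : L}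
    (hx : x ∉ H) : ζ x = 0 := by
  obtain ⟨φ, -, -, -, rfl⟩ := hζ
  exact indFun_eq_zero_of_normal _ _ hx

theorem a13_inner_ne [H.Normal] {Y : Subgroup L} {ζ ζ' : L → ℂ} (hζ : ζ ∈ seqIndD H P Y)
    (hζ' : ζ' ∈ seqIndD H P Y) (hne : ζ ≠ ζ') : classInner ζ ζ' = 0 := by
  obtain ⟨φ, hφ, -, -, rfl⟩ := hζ
  obtain ⟨φ', hφ', -, -, rfl⟩ := hζ'
  exact classInner_indFun_eq_zero_of_ne H hφ' hφ hne

theorem a13_apply_one (hH : ∀ a b : H, a * b = b * a) {Y : Subgroup L} {ζ : L → ℂ}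
    (hζ : ζ ∈ seqIndD H P Y) : ζ 1 = H.index := by
  obtain ⟨φ, hφ, -, -, rfl⟩ := hζ
  rw [indFun_one, apply_one_eq_one_of_comm hH hφ, mul_one]

theorem a13_conj_mem {K Y : Subgroup L} {ζ : L → ℂ} (hζ : ζ ∈ seqIndD K P Y) :
    conjFun ζ ∈ seqIndD K P Y := by
  obtain ⟨φ, hφ, hn, hk, rfl⟩ := hζ
  refine ⟨conjFun φ, irr_conjFun hφ, fun h => hn fun a ha => ?_, fun a ha => ?_, ?_⟩
  · have := h a ha
    rw [conjFun_apply, conjFun_apply] at this
    exact (starRingEnd ℂ).injective this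
  · rw [conjFun_apply, conjFun_apply, hk a ha]
  · rw [conjFun_eq, conjFun_eq, indFun_conj]

theorem a13_ne_one [H.Normal] [P.Normal] {ζ : L → ℂ} (hζ : ζ ∈ seqIndD H P ⊥) :
    ζ ≠ fun _ => 1 := by
  intro he
  have h1 := a13_indFun_ne (P := P) (irr_one (G := H)) (fun _ _ => rfl) hζ
  have h2 : classInner (indFun H fun _ => 1) ζ = 0 := by
    obtain ⟨φ, hφ, -, -, rfl⟩ := hζ
    exact classInner_indFun_eq_zero_of_ne H hφ irr_one h1
  rw [he, classInner_indFun_left _ _ (isClassFunction_const 1), classInner_one_one] at h2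
  exact one_ne_zero h2

theorem a13_card_mul_rip_res [H.Normal] {ζ : L → ℂ} (h0 : ∀ x, x ∉ H → ζ x = 0) :
    (Nat.card H : ℝ) * rip (fun x : H => ζ x) (fun x : H => ζ x) = Nat.card L * rip ζ ζ := by
  classical
  rw [card_mul_rip_self, card_mul_rip_self,
    ← Finset.sum_subtype (Finset.univ.filter (· ∈ H)) (by simp) (fun x => ‖ζ x‖ ^ 2)]
  refine Finset.sum_subset (Finset.filter_subset _ _) fun x _ hx => ?_
  rw [h0 x (by simpa using hx)]
  simp

/-- (13.5) -/
theorem split13_5 [H.Normal] [P.Normal] (hPH : P ≤ H) (hH : ∀ a b : H, a * b = b * a)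
    {ψ : L → ℂ} (hψ : IsGeneralizedCharacter L ψ) {ζ₁ : L → ℂ} (hζ₁ : ζ₁ ∈ seqIndD H P ⊥)
    {a c : ℤ} (h1 : classInner ζ₁ ψ = c + a)
    (h2 : ∀ ζ ∈ seqIndD H P ⊥, ζ ≠ ζ₁ → classInner ζ ψ = c) {n : ℕ}
    (hn : classInner ζ₁ ζ₁ = n) :
    ∃ (α : H → ℂ) (m : ℤ), IsGeneralizedCharacter H α ∧ (∀ x : H, (x : L) ∈ P → α x = m) ∧
      (∀ x : H, x ≠ 1 → ψ x = (a / n : ℂ) * ζ₁ x + α x) ∧
      sharpSq (fun x : H => ψ x) =
        (a / n : ℝ) ^ 2 * (Nat.card L * n - (H.index : ℝ) ^ 2) - 2 * (a / n) * H.index * m +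
          sharpSq α ∧
      ((Nat.card P : ℝ) - 1) * (m : ℝ) ^ 2 ≤ sharpSq α ∧
      sharpSq α = Nat.card H * rip α α - (m : ℝ) ^ 2 := by
  classical
  have hζc := a13_char hζ₁
  have hn0 : (n : ℂ) ≠ 0 := by
    rw [← hn, Ne, classInner_self_eq_zero]
    intro h0
    have := a13_apply_one hH hζ₁
    rw [h0, Pi.zero_apply] at this
    exact Subgroup.FiniteIndex.index_ne_zero (H := H) (by exact_mod_cast this.symm)
  set ψH : H → ℂ := fun x => ψ x with hψH
  set ζH : H → ℂ := fun x => ζ₁ x with hζH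
  set α : H → ℂ := ψH - (c : ℂ) • regChar H - (a / n : ℂ) • ζH with hα
  have hψHg : IsGeneralizedCharacter H ψH := gen_restrict hψ H
  have hζHc : IsClassFunction H ζH := isClassFunction_of_comm hH _
  -- inner products with irreducible characters
  have hζθ : ∀ θ, IsIrrCharacter H θ → indFun H θ ≠ ζ₁ → classInner ζH θ = 0 := by
    intro θ hθ hne
    rw [hζH, ← classInner_indFun_right _ _ (char_isClassFunction hζc)]
    obtain ⟨φ, hφ, -, -, rfl⟩ := hζ₁
    exact classInner_indFun_eq_zero_of_ne H hθ hφ hne.symm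
  have hαθ : ∀ θ, IsIrrCharacter H θ → classInner α θ =
      classInner (indFun H θ) ψ - c - (a / n : ℂ) * classInner ζH θ := by
    intro θ hθ
    rw [hα, classInner_sub_left, classInner_sub_left, classInner_smul_left, classInner_smul_left,
      classInner_regChar_left, apply_one_eq_one_of_comm hH hθ, map_one, mul_one,
      gen_inner_comm hψHg (gen_of_irr hθ), hψH,
      ← classInner_indFun_left _ _ (gen_isClassFunction hψ)]
  have hα0 : ∀ θ, IsIrrCharacter H θ → ¬ InKer P θ → classInner α θ = 0 := by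
    intro θ hθ hk
    rw [hαθ θ hθ]
    by_cases he : indFun H θ = ζ₁
    · have : classInner ζH θ = n := by
        rw [hζH, ← classInner_indFun_right _ _ (char_isClassFunction hζc), he, hn]
      rw [this, he, h1]
      field_simp
      ring
    · rw [hζθ θ hθ he, h2 _ (a13_mem_seqInd hθ hk) he]
      ring
  have hαg : IsGeneralizedCharacter H α := by
    refine gen_of_inner_int (isClassFunction_of_comm hH _) fun θ hθ => ?_
    by_cases hk : InKer P θ
    · obtain ⟨b, hb⟩ := gen_inner_int (gen_indFun H (gen_of_irr hθ)) hψ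
      refine ⟨b - c, ?_⟩
      rw [hαθ θ hθ, hζθ θ hθ (a13_indFun_ne hθ hk hζ₁), hb]
      push_cast
      ring
    · exact ⟨0, by rw [hα0 θ hθ hk, Int.cast_zero]⟩
  have hαP : ∀ x : H, (x : L) ∈ P → α x = α 1 := by
    intro x hx
    rw [classFun_apply_eq_sum (gen_isClassFunction hαg) x,
      classFun_apply_eq_sum (gen_isClassFunction hαg) 1]
    refine Finset.sum_congr rfl fun θ _ => ?_
    by_cases hk : InKer P (θ : H → ℂ)
    · rw [hk x hx]
    · rw [hα0 θ θ.2 hk, zero_mul, zero_mul]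
  have horth : classInner ζH α = 0 := by
    rw [classInner_eq_sum hζHc]
    refine Finset.sum_eq_zero fun θ _ => ?_
    by_cases hk : InKer P (θ : H → ℂ)
    · rw [hζθ θ θ.2 (a13_indFun_ne θ.2 hk hζ₁), zero_mul]
    · rw [hα0 θ θ.2 hk, map_zero, mul_zero]
  obtain ⟨m, hm⟩ := gen_apply_one hαg
  have hdec : ∀ x : H, x ≠ 1 → ψ x = (a / n : ℂ) * ζ₁ x + α x := by
    intro x hx
    simp only [hα, Pi.sub_apply, Pi.smul_apply, regChar_of_ne hx, smul_eq_mul, hψH, hζH]
    ring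
  have hmn : ‖(m : ℂ)‖ ^ 2 = (m : ℝ) ^ 2 := by rw [Complex.norm_intCast, sq_abs]
  have hsα : sharpSq α = Nat.card H * rip α α - (m : ℝ) ^ 2 := by rw [sharpSq_eq, hm, hmn]
  refine ⟨α, m, hαg, fun x hx => by rw [hαP x hx, hm], hdec, ?_, ?_, hsα⟩
  · have e1 : sharpSq ψH = sharpSq ((((a / n : ℝ) : ℂ)) • ζH + α) :=
      sharpSq_congr fun x hx => by
        rw [hψH]; beta_reduce; rw [hdec x hx]; simp [hζH]
    have e2 : rip ζH α = 0 := rip_eq_zero_of horth
    have e3 : (Nat.card H : ℝ) * rip ζH ζH = Nat.card L * n := by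
      rw [hζH, a13_card_mul_rip_res fun x hx => a13_eq_zero hζ₁ hx, rip_of_classInner_eq_nat hn]
    have e4 : ((((a / n : ℝ) : ℂ)) • ζH + α) 1 = ((a / n * H.index + m : ℝ) : ℂ) := by
      simp only [Pi.add_apply, Pi.smul_apply, hm, hζH, OneMemClass.coe_one, a13_apply_one hH hζ₁,
        smul_eq_mul]
      push_cast
      ring
    rw [e1, sharpSq_eq, e4, Complex.norm_real, Real.norm_eq_abs, sq_abs, rip_add_self,
      rip_ofReal_smul_left, rip_ofReal_smul_left, rip_ofReal_smul_right, e2, hsα]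
    linear_combination (a / n : ℝ) ^ 2 * e3
  · have hc : Nat.card (P.subgroupOf H) = Nat.card P :=
      Nat.card_congr (Subgroup.subgroupOfEquivOfLe hPH).toEquiv
    rw [← hc, ← hmn]
    exact le_sharpSq_of_const α _ fun x hx => by rw [hαP x hx, hm]

end Seq

section Count
variable {G : Type*} [Group G] [Fintype G] {S : Subgroup G} {H : Subgroup S}

/-- `H^#` as a subset of `G` -/
def hsharp (S : Subgroup G) (H : Subgroup S) : Set G := (H.map S.subtype : Set G) \ {1}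

omit [Fintype G] in
theorem mem_hsharp {g : G} : g ∈ hsharp S H ↔ ∃ a : S, a ∈ H ∧ a ≠ 1 ∧ (a : G) = g := by
  constructor
  · rintro ⟨⟨a, ha, rfl⟩, h1⟩
    exact ⟨a, ha, fun h => h1 (by simp [h]), rfl⟩
  · rintro ⟨a, ha, h1, rfl⟩
    exact ⟨⟨a, ha, rfl⟩, fun h => h1 (Subtype.ext h)⟩

omit [Fintype G] in
theorem coe_mem_hsharp {a : S} : (a : G) ∈ hsharp S H ↔ a ∈ H ∧ a ≠ 1 := by
  rw [mem_hsharp]
  constructor
  · rintro ⟨b, hb, h1, he⟩
    rw [← Subtype.ext he]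
    exact ⟨hb, h1⟩
  · exact fun h => ⟨a, h.1, h.2, rfl⟩

omit [Fintype G] in
theorem hsharp_conj_mem [hH : H.Normal] : ∀ x ∈ S, ∀ a ∈ hsharp S H, x * a * x⁻¹ ∈ hsharp S H := by
  intro x hx a ha
  obtain ⟨b, hb, h1, rfl⟩ := mem_hsharp.mp ha
  exact mem_hsharp.mpr ⟨⟨x, hx⟩ * b * ⟨x, hx⟩⁻¹, hH.conj_mem _ hb _, by simpa using h1, rfl⟩

omit [Fintype G] in
theorem hsharp_pow_mem [Finite G] {k : ℕ} (hk : Nat.Coprime k (Nat.card G)) {g : G} :
    g ^ k ∈ hsharp S H ↔ g ∈ hsharp S H := by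
  have hz : Subgroup.zpowers (g ^ k) = Subgroup.zpowers g := zpowers_pow_eq_of_coprime_card hk
  have h1 : g ^ k ∈ H.map S.subtype ↔ g ∈ H.map S.subtype := by
    rw [← Subgroup.zpowers_le, hz, Subgroup.zpowers_le]
  have h2 : g ^ k = 1 ↔ g = 1 := by
    rw [← Subgroup.zpowers_eq_bot, hz, Subgroup.zpowers_eq_bot]
  simp only [hsharp, Set.mem_sdiff, SetLike.mem_coe, Set.mem_singleton_iff, h1, h2]

omit [Fintype G] in
theorem conjSupport_hsharp_pow_mem [Finite G] {k : ℕ} (hk : Nat.Coprime k (Nat.card G)) {g : G} :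
    g ^ k ∈ conjSupport (hsharp S H) ↔ g ∈ conjSupport (hsharp S H) := by
  simp only [mem_conjSupport, ← conj_pow, hsharp_pow_mem hk]

omit [Fintype G] in
theorem one_not_mem_conjSupport_hsharp : (1 : G) ∉ conjSupport (hsharp S H) := by
  rintro ⟨x, hx⟩
  exact hx.2 (by simp)

open Classical in
theorem sum_hsharp (f : G → ℂ) :
    ∑ a ∈ Finset.univ.filter (· ∈ hsharp S H), ‖f a‖ ^ 2 = sharpSq (fun x : H => f (x : S)) := by
  unfold sharpSq
  symm
  refine Finset.sum_bij (fun x _ => ((x : S) : G)) ?_ ?_ ?_ ?_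
  · intro x hx
    simp only [Finset.mem_erase, Finset.mem_univ, and_true] at hx
    simp only [Finset.mem_filter, Finset.mem_univ, true_and]
    exact coe_mem_hsharp.mpr ⟨x.2, fun h => hx (Subtype.ext h)⟩
  · intro x _ y _ h
    exact Subtype.ext (Subtype.ext h)
  · intro g hg
    simp only [Finset.mem_filter, Finset.mem_univ, true_and] at hg
    obtain ⟨a, ha, h1, rfl⟩ := mem_hsharp.mp hg
    exact ⟨⟨a, ha⟩, by simpa using h1, rfl⟩
  · intros; rfl

open Classical in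
theorem sum_conjSupport_hsharp [H.Normal]
    (hTI : ∀ g : G, ∀ a ∈ hsharp S H, g * a * g⁻¹ ∈ hsharp S H → g ∈ S) {f : G → ℂ}
    (hf : IsClassFunction G f) :
    ∑ g ∈ Finset.univ.filter (· ∈ conjSupport (hsharp S H)), ‖f g‖ ^ 2 =
      S.index * sharpSq (fun x : H => f (x : S)) := by
  rw [sum_conjSupport_TI hsharp_conj_mem hTI (fun g => ‖f g‖ ^ 2) (fun g x => by rw [hf g x]),
    sum_hsharp, nsmul_eq_mul]

open Classical in
theorem card_conjSupport_hsharp [H.Normal]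
    (hTI : ∀ g : G, ∀ a ∈ hsharp S H, g * a * g⁻¹ ∈ hsharp S H → g ∈ S) :
    ((Finset.univ.filter (· ∈ conjSupport (hsharp S H))).card : ℝ) =
      S.index * ((Nat.card H : ℝ) - 1) := by
  have h := sum_conjSupport_hsharp hTI (isClassFunction_const (G := G) 1)
  rw [sharpSq_eq, rip_eq_one_of classInner_one_one] at h
  simpa using h

end Count

end CL.PF
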