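import Cfsg.Agent.PF.DadeNorm
import Cfsg.Agent.PF.CohON

/-!
# Peterfalvi (7.5): the cover inequality
-/

set_option autoImplicit false

namespace CL.PF

open Cfsg CL.Char
open scoped ComplexConjugate

/-! ### (7.5) -/

section Cover
variable {G : Type*} [Group G] [Fintype G]

open Classical in
/-- the combinatorial content of (7.5) -/
theorem cover_inequality {ι : Type*} [Fintype ι] (D : ι → Set G)
    (hdisj : ∀ i j, i ≠ j → Disjoint (D i) (D j)) {χ : G → ℂ} (h1 : classInner χ χ = 1)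
    {r c : ι → ℝ}
    (hr : ∀ i, r i ≤ (Nat.card G : ℝ)⁻¹ * ∑ g : G, if g ∈ D i then ‖χ g‖ ^ 2 else 0)
    (hc : ∀ i, c i = (Nat.card (D i) : ℝ) / Nat.card G) :
    (Nat.card G : ℝ)⁻¹ * (∑ g : G, if ∀ i, g ∉ D i then ‖χ g‖ ^ 2 - 1 else 0) +
      ∑ i, (r i - c i) ≤ 0 := by
  have hG : (0 : ℝ) < Nat.card G := by exact_mod_cast Nat.card_pos
  have hn : (Nat.card G : ℝ)⁻¹ * ∑ g : G, ‖χ g‖ ^ 2 = 1 := by
    rw [← classInner_self_re, h1]; simp
  have hc' : ∀ i, c i = (Nat.card G : ℝ)⁻¹ * ∑ g : G, if g ∈ D i then (1 : ℝ) else 0 := by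
    intro i
    rw [hc i, Finset.sum_boole, div_eq_inv_mul, Nat.card_eq_fintype_card (α := D i),
      Fintype.card_subtype]
  have key : ∀ g : G, ((if ∀ i, g ∉ D i then ‖χ g‖ ^ 2 - 1 else 0) +
      ∑ i, ((if g ∈ D i then ‖χ g‖ ^ 2 else 0) - if g ∈ D i then (1 : ℝ) else 0)) =
      ‖χ g‖ ^ 2 - 1 := by
    intro g
    by_cases hg : ∀ i, g ∉ D i
    · simp [hg]
    · rw [if_neg hg]
      push Not at hg
      obtain ⟨i, hi⟩ := hg
      rw [Finset.sum_eq_single i]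
      · simp [hi]
      · intro j _ hj
        have : g ∉ D j := fun h => Set.disjoint_left.1 (hdisj j i hj) h hi
        simp [this]
      · simp
  have hsum : ∑ g : G, (‖χ g‖ ^ 2 - 1) = 0 := by
    rw [Finset.sum_sub_distrib]
    have : ∑ g : G, ‖χ g‖ ^ 2 = Nat.card G := by
      field_simp at hn; linarith
    simp [this]
  rw [← Finset.sum_congr rfl fun g _ => key g, Finset.sum_add_distrib] at hsum
  calc _ ≤ (Nat.card G : ℝ)⁻¹ * (∑ g : G, if ∀ i, g ∉ D i then ‖χ g‖ ^ 2 - 1 else 0) +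
        ∑ i, ((Nat.card G : ℝ)⁻¹ * (∑ g : G, if g ∈ D i then ‖χ g‖ ^ 2 else 0) -
          (Nat.card G : ℝ)⁻¹ * ∑ g : G, if g ∈ D i then (1 : ℝ) else 0) := by
        gcongr with i
        · exact hr i
        · exact (hc' i).ge
    _ = (Nat.card G : ℝ)⁻¹ * ((∑ g : G, if ∀ i, g ∉ D i then ‖χ g‖ ^ 2 - 1 else 0) +
        ∑ i, ∑ g : G, ((if g ∈ D i then ‖χ g‖ ^ 2 else 0) - if g ∈ D i then (1 : ℝ) else 0)) := by
        rw [mul_add, Finset.mul_sum Finset.univ (fun i => ∑ g : G,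
          ((if g ∈ D i then ‖χ g‖ ^ 2 else 0) - if g ∈ D i then (1 : ℝ) else 0))]
        congr 1
        refine Finset.sum_congr rfl fun i _ => ?_
        rw [Finset.sum_sub_distrib, mul_sub]
    _ = 0 := by rw [Finset.sum_comm, hsum, mul_zero]

theorem Dade.card_supp_div {A : Set G} {L : Subgroup G} [Fintype L] {R : G → Subgroup G}
    (hD : DadeHypothesis A L R) :
    (Nat.card A : ℝ) / Nat.card L = (Nat.card (dadeSupp A R) : ℝ) / Nat.card G := by
  have hG : (0 : ℝ) < Nat.card G := by exact_mod_cast Nat.card_pos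
  have hL : (0 : ℝ) < Nat.card L := by exact_mod_cast Nat.card_pos
  have := congrArg (Nat.cast : ℕ → ℝ) (Dade.card_supp hD)
  push_cast at this
  field_simp
  linarith

open Classical in
/-- (7.5) -/
theorem dade_cover_inequality {ι : Type*} [Fintype ι] {A : ι → Set G} {L : ι → Subgroup G}
    [∀ i, Fintype (L i)] {R : ι → G → Subgroup G} (hD : ∀ i, DadeHypothesis (A i) (L i) (R i))
    (hdisj : ∀ i j, i ≠ j → Disjoint (dadeSupp (A i) (R i)) (dadeSupp (A j) (R j)))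
    {χ : G → ℂ} (hχ : IsClassFunction G χ) (h1 : classInner χ χ = 1) :
    (Nat.card G : ℝ)⁻¹ *
        (∑ g : G, if ∀ i, g ∉ dadeSupp (A i) (R i) then ‖χ g‖ ^ 2 - 1 else 0) +
      ∑ i, (rip (invDade (A i) (L i) (R i) χ) (invDade (A i) (L i) (R i) χ) -
        (Nat.card (A i) : ℝ) / Nat.card (L i)) ≤ 0 :=
  cover_inequality _ hdisj h1 (fun i => Dade.norm_invDade_le_supp (hD i) hχ)
    (fun i => Dade.card_supp_div (hD i))

open Classical in
/-- (7.5) for one set -/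
theorem dade_cover_inequality₁ {A : Set G} {L : Subgroup G} [Fintype L] {R : G → Subgroup G}
    (hD : DadeHypothesis A L R) {χ : G → ℂ} (hχ : IsClassFunction G χ)
    (h1 : classInner χ χ = 1) :
    (Nat.card G : ℝ)⁻¹ * (∑ g : G, if g ∉ dadeSupp A R then ‖χ g‖ ^ 2 - 1 else 0) +
      (rip (invDade A L R χ) (invDade A L R χ) - (Nat.card A : ℝ) / Nat.card L) ≤ 0 := by
  have := cover_inequality (ι := Unit) (fun _ => dadeSupp A R) (fun i j h => (h rfl).elim) h1
    (r := fun _ => rip (invDade A L R χ) (invDade A L R χ))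
    (c := fun _ => (Nat.card A : ℝ) / Nat.card L)
    (fun _ => Dade.norm_invDade_le_supp hD hχ) (fun _ => Dade.card_supp_div hD)
  simpa using this

open Classical in
/-- (7.5) for two sets -/
theorem dade_cover_inequality₂ {A₁ A₂ : Set G} {L₁ L₂ : Subgroup G} [Fintype L₁] [Fintype L₂]
    {R₁ R₂ : G → Subgroup G} (hD₁ : DadeHypothesis A₁ L₁ R₁) (hD₂ : DadeHypothesis A₂ L₂ R₂)
    (hdisj : Disjoint (dadeSupp A₁ R₁) (dadeSupp A₂ R₂)) {χ : G → ℂ} (hχ : IsClassFunction G χ)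
    (h1 : classInner χ χ = 1) :
    (Nat.card G : ℝ)⁻¹ *
        (∑ g : G, if g ∉ dadeSupp A₁ R₁ ∧ g ∉ dadeSupp A₂ R₂ then ‖χ g‖ ^ 2 - 1 else 0) +
      (rip (invDade A₁ L₁ R₁ χ) (invDade A₁ L₁ R₁ χ) - (Nat.card A₁ : ℝ) / Nat.card L₁) +
      (rip (invDade A₂ L₂ R₂ χ) (invDade A₂ L₂ R₂ χ) - (Nat.card A₂ : ℝ) / Nat.card L₂) ≤ 0 := by
  have := cover_inequality (ι := Bool) (fun b => cond b (dadeSupp A₁ R₁) (dadeSupp A₂ R₂))
    (by
      rintro (_ | _) (_ | _) h
      · exact (h rfl).elim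
      · exact hdisj.symm
      · exact hdisj
      · exact (h rfl).elim) h1
    (r := fun b => cond b (rip (invDade A₁ L₁ R₁ χ) (invDade A₁ L₁ R₁ χ))
      (rip (invDade A₂ L₂ R₂ χ) (invDade A₂ L₂ R₂ χ)))
    (c := fun b => cond b ((Nat.card A₁ : ℝ) / Nat.card L₁) ((Nat.card A₂ : ℝ) / Nat.card L₂))
    (by
      rintro (_ | _)
      · exact Dade.norm_invDade_le_supp hD₂ hχ
      · exact Dade.norm_invDade_le_supp hD₁ hχ)
    (by
      rintro (_ | _)
      · exact Dade.card_supp_div hD₂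
      · exact Dade.card_supp_div hD₁)
  simp only [Bool.forall_bool, cond_true, cond_false, Fintype.sum_bool, and_comm] at this
  linarith

end Cover

end CL.PF
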