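import Cfsg.Agent.PF.SevenC
import Cfsg.Agent.PF.SevenCover
import Cfsg.Agent.PF.T3

/-! The character-theoretic computations of Peterfalvi, section 14, in abstract form. -/

set_option autoImplicit false

namespace CL.PF

open Cfsg CL.Char

section
variable {G X₁ X₂ : Type*} [Group G] [Fintype G] [Group X₁] [Group X₂]
  {f₁ : X₁ →* G} {f₂ : X₂ →* G}

/-- a class function vanishing on `V` with odd coefficients in the first row and column has odd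
coefficients everywhere -/
theorem CycTI.odd_inner (hc : CycTI f₁ f₂) {β : G → ℂ} (hβ : IsClassFunction G β)
    (hV : ∀ v ∈ cycV f₁ f₂, β v = 0) (h1 : classInner β (fun _ => 1) = 1)
    (hj : ∀ j, j ≠ 1 → ∃ n : ℤ, classInner β (eta f₁ f₂ 1 j) = 2 * n + 1)
    (hi : ∀ i, i ≠ 1 → ∃ n : ℤ, classInner β (eta f₁ f₂ i 1) = 2 * n + 1) (i : X₁ →* ℂˣ)
    (j : X₂ →* ℂˣ) : ∃ n : ℤ, classInner β (eta f₁ f₂ i j) = 2 * n + 1 := by
  have h00 : classInner β (eta f₁ f₂ 1 1) = 1 := by rw [hc.eta_one, h1]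
  by_cases hi1 : i = 1
  · subst hi1
    by_cases hj1 : j = 1
    · subst hj1; exact ⟨0, by rw [h00]; simp⟩
    · exact hj j hj1
  by_cases hj1 : j = 1
  · subst hj1; exact hi i hi1
  obtain ⟨a, ha⟩ := hi i hi1
  obtain ⟨b, hb⟩ := hj j hj1
  have h := hc.t3_7 hβ hV i 1 j 1
  rw [h00, ha, hb] at h
  exact ⟨a + b, by push_cast; linear_combination h⟩

variable [Finite X₁] [Finite X₂]

/-- the projection on the image of `σ` -/
noncomputable def etaProj (f₁ : X₁ →* G) (f₂ : X₂ →* G) (β : G → ℂ) : G → ℂ :=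
  ∑ p : (X₁ →* ℂˣ) × (X₂ →* ℂˣ), classInner β (eta f₁ f₂ p.1 p.2) • eta f₁ f₂ p.1 p.2

theorem etaProj_inner_of_orth (β : G → ℂ) {φ : G → ℂ} (h : OrthEta f₁ f₂ φ) :
    classInner (etaProj f₁ f₂ β) φ = 0 := by
  unfold etaProj
  rw [classInner_sum_left]
  refine Finset.sum_eq_zero fun p _ => ?_
  rw [classInner_smul_left, classInner_eq_zero_comm.1 (h p.1 p.2), mul_zero]

theorem CycTI.gen_etaProj (hc : CycTI f₁ f₂) {β : G → ℂ} (hβ : IsGeneralizedCharacter G β) :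
    IsGeneralizedCharacter G (etaProj f₁ f₂ β) := by
  refine zc_sum (E := {θ : G → ℂ | IsGeneralizedCharacter G θ}) _ fun p _ => ?_
  obtain ⟨n, hn⟩ := gen_inner_int hβ (hc.eta_gen p.1 p.2)
  rw [hn]
  exact zc_intCast_smul (E := {θ : G → ℂ | IsGeneralizedCharacter G θ}) n (hc.eta_gen p.1 p.2)

theorem CycTI.rip_sub_etaProj (hc : CycTI f₁ f₂) (β : G → ℂ) :
    rip (β - etaProj f₁ f₂ β) (β - etaProj f₁ f₂ β) +
      ∑ p : (X₁ →* ℂˣ) × (X₂ →* ℂˣ), ‖classInner β (eta f₁ f₂ p.1 p.2)‖ ^ 2 = rip β β :=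
  bessel_orthonormal Finset.univ (fun p : (X₁ →* ℂˣ) × (X₂ →* ℂˣ) => eta f₁ f₂ p.1 p.2)
    (fun p _ => hc.eta_inner_self p.1 p.2)
    (fun p _ q _ hpq => hc.eta_inner_of_ne (by
      by_contra hh
      push Not at hh
      exact hpq (Prod.ext hh.1 hh.2))) β

theorem one_le_norm_sq_odd (n : ℤ) : 1 ≤ ‖(2 * n + 1 : ℂ)‖ ^ 2 := by
  have : (2 * n + 1 : ℂ) = ((2 * n + 1 : ℤ) : ℂ) := by push_cast; ring
  rw [this, Complex.norm_intCast, sq_abs]
  have h : (2 * n + 1 : ℤ) ≠ 0 := by omega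
  have : (1 : ℤ) ≤ (2 * n + 1) ^ 2 := by
    have := sq_pos_of_ne_zero h
    omega
  exact_mod_cast this

theorem odd_sum_of_involution {ι : Type*} [Fintype ι] (σ : ι → ι) (hσ : ∀ i, σ (σ i) = i) (o : ι)
    (hfix : ∀ i, σ i = i ↔ i = o) (b : ι → ℤ) (hb : ∀ i, b (σ i) = b i) (ho : Odd (b o)) :
    Odd (∑ i, b i) := by
  classical
  rw [← ZMod.intCast_eq_one_iff_odd] at ho ⊢
  rw [← Finset.add_sum_erase _ _ (Finset.mem_univ o)]
  push_cast
  rw [Finset.sum_involution (fun p _ => σ p), ho, add_zero]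
  · intro p _
    rw [hb]
    exact CharTwo.add_self_eq_zero _
  · intro p hp _ hpp
    exact Finset.ne_of_mem_erase hp ((hfix p).1 hpp)
  · intro p hp
    refine Finset.mem_erase.2 ⟨fun h => Finset.ne_of_mem_erase hp ?_, Finset.mem_univ _⟩
    rw [← hσ p, h, (hfix o).2 rfl]
  · intro p _
    exact hσ p

/-- the value of a sum `∑ a_{ij} η_{ij}` with odd coefficients at an element of order prime
to `|W|` is odd -/
theorem CycTI.etaProj_apply_odd (hc : CycTI f₁ f₂) {β : G → ℂ}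
    (hodd : ∀ i j, ∃ n : ℤ, classInner β (eta f₁ f₂ i j) = 2 * n + 1) {g : G}
    (hg : Nat.Coprime (orderOf g) (Nat.card X₁ * Nat.card X₂)) :
    ∃ n : ℤ, etaProj f₁ f₂ β g = 2 * n + 1 := by
  classical
  choose a ha using hodd
  have hint : ∀ i j, ∃ n : ℤ, eta f₁ f₂ i j g = n := fun i j =>
    hc.eta_int i j (hg.coprime_dvd_right
      (mul_dvd_mul (hc.orderOf_dual_dvd₁ i) (hc.orderOf_dual_dvd₂ j)))
  choose b hb using hint
  have hbinv : ∀ i j, b i⁻¹ j⁻¹ = b i j := fun i j => by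
    have h := congrFun (hc.eta_conj i j) g
    rw [conjFun_apply, hb, hb, map_intCast] at h
    exact_mod_cast h.symm
  have hb1 : b 1 1 = 1 := by
    have h := hb 1 1
    rw [hc.eta_one] at h
    have h' : (1 : ℂ) = b 1 1 := h
    exact_mod_cast h'.symm
  obtain ⟨m, hm⟩ : Odd (∑ p : (X₁ →* ℂˣ) × (X₂ →* ℂˣ), b p.1 p.2 : ℤ) := by
    refine odd_sum_of_involution (fun p => (p.1⁻¹, p.2⁻¹))
      (fun p => Prod.ext (by ext x; simp) (by ext x; simp)) (1, 1)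
      (fun p => ?_) (fun p => b p.1 p.2) (fun p => hbinv p.1 p.2) (by simp [hb1])
    constructor
    · intro hpp
      have h1 : p.1⁻¹ = p.1 := congrArg Prod.fst hpp
      have h2 : p.2⁻¹ = p.2 := congrArg Prod.snd hpp
      exact Prod.ext (by_contra fun h => hc.inv_ne₁ h h1) (by_contra fun h => hc.inv_ne₂ h h2)
    · rintro rfl
      exact Prod.ext (by ext x; simp) (by ext x; simp)
  refine ⟨∑ p : (X₁ →* ℂˣ) × (X₂ →* ℂˣ), a p.1 p.2 * b p.1 p.2 + m, ?_⟩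
  have hm' : (∑ p : (X₁ →* ℂˣ) × (X₂ →* ℂˣ), (b p.1 p.2 : ℂ)) = 2 * m + 1 := by
    exact_mod_cast hm
  unfold etaProj
  rw [Finset.sum_apply]
  simp only [Pi.smul_apply, smul_eq_mul, ha, hb, add_mul, one_mul, Finset.sum_add_distrib, hm']
  push_cast
  rw [mul_add, Finset.mul_sum]
  simp only [mul_assoc]
  ring

variable {L : Subgroup G} [Fintype L] {H : Subgroup L} {A A₀ : Set G} {R : G → Subgroup G}
  {ν : (L → ℂ) → (G → ℂ)} {ζ : L → ℂ}

/-- (14.11.2) -/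
theorem Hyp78.supp_coherence (h : Hyp78 L H A A₀ R ν ζ) (hc : CycTI f₁ f₂)
    (hη : OrthEta f₁ f₂ (ν ζ)) (hη' : OrthEta f₁ f₂ (ν (conjFun ζ)))
    (hodd : ∀ i j, ∃ n : ℤ, classInner (beta78 L H A₀ R ζ) (eta f₁ f₂ i j) = 2 * n + 1)
    (he : H.index ≤ Nat.card X₁ * Nat.card X₂) :
    H.index = Nat.card X₁ * Nat.card X₂ ∧
      (beta78 L H A₀ R ζ = etaProj f₁ f₂ (beta78 L H A₀ R ζ) - ν ζ ∨
        beta78 L H A₀ R ζ = etaProj f₁ f₂ (beta78 L H A₀ R ζ) + ν (conjFun ζ)) := by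
  set β := beta78 L H A₀ R ζ with hβ
  set Y := β - etaProj f₁ f₂ β with hY
  have hYgen : IsGeneralizedCharacter G Y := gen_sub h.beta_gen (hc.gen_etaProj h.beta_gen)
  obtain ⟨a, ha⟩ := h.exists_a
  have hζ' := SeqSelf.conj_mem h.mem
  have ha' : classInner β (ν (conjFun ζ)) = a := by
    have hne : ζ ≠ conjFun ζ := (SeqSelf.conj_ne h.odd h.mem h.irr).symm
    have := h.normal
    rw [h.beta_inner_nu ha (mem_zspan hζ'), SeqSelf.inner_of_ne h.mem hζ' hne,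
      char_conjFun_apply_one (SeqSelf.char h.mem), h.deg, div_self h.index_ne_zero]
    ring
  have hY1 : classInner Y (ν ζ) = a - 1 := by
    rw [hY, classInner_sub_left, etaProj_inner_of_orth β hη, ha, sub_zero]
  have hY2 : classInner Y (ν (conjFun ζ)) = a := by
    rw [hY, classInner_sub_left, etaProj_inner_of_orth β hη', ha', sub_zero]
  have hY0 : Y ≠ 0 := by
    intro h0
    rw [h0, classInner_zero_left] at hY1 hY2
    rw [← hY2] at hY1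
    norm_num at hY1
  have h1 := gen_one_le_rip_self hYgen hY0
  have h2 := hc.rip_sub_etaProj β
  have h3 : rip β β = H.index + 1 := rip_of_classInner_eq (by rw [h.beta_norm]; push_cast; rfl)
  have h4 : ((Nat.card X₁ * Nat.card X₂ : ℕ) : ℝ) ≤
      ∑ p : (X₁ →* ℂˣ) × (X₂ →* ℂˣ), ‖classInner β (eta f₁ f₂ p.1 p.2)‖ ^ 2 := by
    have := Finset.card_nsmul_le_sum Finset.univ
      (fun p : (X₁ →* ℂˣ) × (X₂ →* ℂˣ) => ‖classInner β (eta f₁ f₂ p.1 p.2)‖ ^ 2) 1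
      (fun p _ => by
        obtain ⟨n, hn⟩ := hodd p.1 p.2
        simp only [hn]
        exact one_le_norm_sq_odd n)
    rwa [Finset.card_univ, Fintype.card_prod, hc.fintype_card_dual₁, hc.fintype_card_dual₂,
      nsmul_eq_mul, mul_one] at this
  have he' : (H.index : ℝ) ≤ ((Nat.card X₁ * Nat.card X₂ : ℕ) : ℝ) := by exact_mod_cast he
  rw [← hY] at h2
  have h5 : rip Y Y = 1 := by linarith
  refine ⟨by exact_mod_cast (show (H.index : ℝ) = ((Nat.card X₁ * Nat.card X₂ : ℕ) : ℝ) by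
    linarith), ?_⟩
  have hYs : IsSignedIrr G Y := isSignedIrr_of_norm_one hYgen (by
    rw [← ofReal_rip_self, h5]; rfl)
  have hs1 := h.nu_zeta_signed
  have hs2 : IsSignedIrr G (ν (conjFun ζ)) :=
    Hyp76.nu_signed subset_rfl h.coh hζ' (irr_conjFun h.irr)
  have hc1 := hYs.inner_cases hs1
  have hc2 := hYs.inner_cases hs2
  rw [hY1] at hc1
  rw [hY2] at hc2
  have hc1' : a - 1 = 1 ∨ a - 1 = -1 ∨ a - 1 = 0 := by exact_mod_cast hc1
  have hc2' : a = 1 ∨ a = -1 ∨ a = 0 := by exact_mod_cast hc2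
  have ha01 : a = 0 ∨ a = 1 := by omega
  rcases ha01 with rfl | rfl
  · left
    have : Y = -ν ζ := hYs.eq_of_inner_eq_one hs1.neg (by
      rw [classInner_neg_right, hY1]; simp)
    rw [sub_eq_add_neg, ← this, hY]; abel
  · right
    have : Y = ν (conjFun ζ) := hYs.eq_of_inner_eq_one hs2 (by rw [hY2]; simp)
    rw [← this, hY]; abel

/-- (14.11.3) -/
theorem Hyp78.one_le_norm_nu (h : Hyp78 L H A A₀ R ν ζ) (hG : Odd (Nat.card G))
    (hc : CycTI f₁ f₂)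
    (hodd : ∀ i j, ∃ n : ℤ, classInner (beta78 L H A₀ R ζ) (eta f₁ f₂ i j) = 2 * n + 1)
    (hβ : beta78 L H A₀ R ζ = etaProj f₁ f₂ (beta78 L H A₀ R ζ) - ν ζ ∨
        beta78 L H A₀ R ζ = etaProj f₁ f₂ (beta78 L H A₀ R ζ) + ν (conjFun ζ))
    {g : G} (hg : g ∉ dadeSupp A R)
    (hcop : Nat.Coprime (orderOf g) (Nat.card X₁ * Nat.card X₂)) : 1 ≤ ‖ν ζ g‖ ^ 2 := by
  obtain ⟨n, hn⟩ := hc.etaProj_apply_odd hodd hcop
  have h0 := h.beta_eq_zero hg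
  have h1 := one_le_norm_sq_odd n
  rcases hβ with e | e
  · have := congrFun e g
    rw [h0, Pi.sub_apply, hn] at this
    rwa [show ν ζ g = 2 * n + 1 by linear_combination this]
  · have := congrFun e g
    rw [h0, Pi.add_apply, hn, h.toHyp76.nu_conjFun hG subset_rfl h.coh h.mem
      (SeqSelf.conj_mem h.mem) h.irr, conjFun_apply] at this
    rw [← Complex.norm_conj, show (starRingEnd ℂ) (ν ζ g) = -(2 * n + 1) by
      linear_combination -this, norm_neg]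
    exact h1

/-- the last step of (14.16) -/
theorem Hyp78.beta_inner_eq_zero (h : Hyp78 L H A A₀ R ν ζ)
    (hβ : beta78 L H A₀ R ζ = etaProj f₁ f₂ (beta78 L H A₀ R ζ) - ν ζ ∨
        beta78 L H A₀ R ζ = etaProj f₁ f₂ (beta78 L H A₀ R ζ) + ν (conjFun ζ))
    {χ : G → ℂ} (hη : OrthEta f₁ f₂ χ) (ho : ∀ φ ∈ seqIndD H H ⊥, classInner (ν φ) χ = 0) :
    classInner (beta78 L H A₀ R ζ) χ = 0 := by
  rcases hβ with e | e
  · rw [e, classInner_sub_left, etaProj_inner_of_orth _ hη, ho _ h.mem, sub_zero]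
  · rw [e, classInner_add_left, etaProj_inner_of_orth _ hη, ho _ (SeqSelf.conj_mem h.mem),
      add_zero]

end

section
variable {G : Type*} [Group G] [Fintype G] {L₁ L₂ : Subgroup G} [Fintype L₁] [Fintype L₂]
  {H₁ : Subgroup L₁} {H₂ : Subgroup L₂} {A₁ A₂ B₁ B₂ : Set G} {R₁ R₂ : G → Subgroup G}
  {ν₁ : (L₁ → ℂ) → (G → ℂ)} {ν₂ : (L₂ → ℂ) → (G → ℂ)} {ζ₁ : L₁ → ℂ} {ζ₂ : L₂ → ℂ}

theorem Hyp78.nu_ortho_frob (h₁ : Hyp78 L₁ H₁ A₁ B₁ R₁ ν₁ ζ₁) (h₂ : Hyp78 L₂ H₂ A₂ B₂ R₂ ν₂ ζ₂)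
    (hF₁ : FrobKer H₁) (hF₂ : FrobKer H₂) (hd : Disjoint (dadeSupp A₁ R₁) (dadeSupp A₂ R₂))
    {χ₁ : L₁ → ℂ} {χ₂ : L₂ → ℂ} (hχ₁ : χ₁ ∈ seqIndD H₁ H₁ ⊥)
    (hχ₂ : χ₂ ∈ zspan (seqIndD H₂ H₂ ⊥)) : classInner (ν₁ χ₁) (ν₂ χ₂) = 0 :=
  iso_inner_eq_zero_right h₂.coh.iso subset_zspan
    (fun _ hφ => h₁.nu_ortho h₂ hd hχ₁ (hF₁.irr_of_mem hχ₁) hφ (hF₂.irr_of_mem hφ)) hχ₂

/-- the inequality used twice in (14.14) -/
theorem Hyp78.core_le (h₁ : Hyp78 L₁ H₁ A₁ B₁ R₁ ν₁ ζ₁) (h₂ : Hyp78 L₂ H₂ A₂ B₂ R₂ ν₂ ζ₂)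
    (hF₁ : FrobKer H₁) (hF₂ : FrobKer H₂) (hd : Disjoint (dadeSupp A₁ R₁) (dadeSupp A₂ R₂))
    (hne : classInner (beta78 L₁ H₁ B₁ R₁ ζ₁) (ν₂ ζ₂) ≠ 0) :
    Nat.card H₂ - 1 ≤ H₂.index * (H₁.index - 1) := by
  have := h₂.normal
  obtain ⟨a, ha⟩ := h₁.exists_a
  obtain ⟨c, hc⟩ := gen_inner_int h₁.beta_gen h₂.nu_zeta_signed.gen
  have hc0 : c ≠ 0 := by rintro rfl; exact hne (by simpa using hc)
  have hΓ := h₁.gamma_norm_le ha (hF₁.two_mul_index_lt h₁.odd)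
  have hσ := sumSeq_mem H₂
  have h1 : classInner (h₁.gamma a) (ν₂ (sumSeq H₂)) = ((Nat.card H₂ : ℝ) - 1) * c := by
    rw [h₁.gamma_inner_of_orth a (h₂.one_inner_nu hσ)
      (fun φ hφ => h₁.nu_ortho_frob h₂ hF₁ hF₂ hd hφ hσ), h₁.beta_inner_nu_of_disjoint h₂ hd hσ,
      sumSeq_apply_one, hc, mul_div_cancel_left₀ _ h₂.index_ne_zero]
    push_cast; rfl
  have h2 : rip (ν₂ (sumSeq H₂)) (ν₂ (sumSeq H₂)) = H₂.index * ((Nat.card H₂ : ℝ) - 1) :=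
    rip_of_classInner_eq (by rw [h₂.coh.inner hσ hσ, classInner_sumSeq_self]; push_cast; rfl)
  have h3 : rip (h₁.gamma a) (ν₂ (sumSeq H₂)) = ((Nat.card H₂ : ℝ) - 1) * c :=
    rip_of_classInner_eq (by rw [h1]; push_cast; rfl)
  have h4 := rip_sq_le (h₁.gamma a) (ν₂ (sumSeq H₂))
  rw [h2, h3] at h4
  have hk : (1 : ℝ) < Nat.card H₂ := by exact_mod_cast hF₂.one_lt_card
  have he : (0 : ℝ) < H₂.index := by exact_mod_cast lt_trans zero_lt_one hF₂.one_lt_index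
  have hc1 : (1 : ℝ) ≤ (c : ℝ) ^ 2 := by
    have : (1 : ℤ) ≤ c ^ 2 := by have := sq_pos_of_ne_zero hc0; omega
    exact_mod_cast this
  have h5 : ((Nat.card H₂ : ℝ) - 1) * ((Nat.card H₂ : ℝ) - 1) ≤
      (H₂.index * ((H₁.index : ℝ) - 1)) * ((Nat.card H₂ : ℝ) - 1) := by
    have h6 : rip (h₁.gamma a) (h₁.gamma a) * (H₂.index * ((Nat.card H₂ : ℝ) - 1)) ≤
        ((H₁.index : ℝ) - 1) * (H₂.index * ((Nat.card H₂ : ℝ) - 1)) :=
      mul_le_mul_of_nonneg_right hΓ (by positivity)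
    nlinarith [sq_nonneg ((Nat.card H₂ : ℝ) - 1)]
  have h7 := le_of_mul_le_mul_right h5 (by linarith)
  have h8 : ((Nat.card H₂ - 1 : ℕ) : ℝ) ≤ ((H₂.index * (H₁.index - 1) : ℕ) : ℝ) := by
    rw [Nat.cast_mul, Nat.cast_sub hF₂.one_lt_card.le, Nat.cast_sub hF₁.one_lt_index.le]
    simpa using h7
  exact_mod_cast h8

open Classical in
/-- (14.11.4) -/
theorem Hyp78.cover_bound (h₁ : Hyp78 L₁ H₁ A₁ B₁ R₁ ν₁ ζ₁) (hF₁ : FrobKer H₁) {D : Set G}
    (hD : ∀ g, g ∉ dadeSupp A₁ R₁ → g ∉ D → 1 ≤ ‖ν₁ ζ₁ g‖ ^ 2) :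
    1 - (H₁.index : ℝ) / Nat.card H₁ - 1 / H₁.index ≤ (D.ncard : ℝ) / Nat.card G := by
  have h1 := dade_cover_inequality₁ h₁.dade h₁.nu_zeta_signed.isClassFunction h₁.nu_zeta_norm
  have h2 := h₁.norm_invDade_nu_zeta_ge (hF₁.two_mul_index_lt h₁.odd)
  have hk : (1 : ℝ) < Nat.card H₁ := by exact_mod_cast hF₁.one_lt_card
  have he : (0 : ℝ) < H₁.index := by exact_mod_cast lt_trans zero_lt_one hF₁.one_lt_index
  have h3 : (Nat.card A₁ : ℝ) / Nat.card L₁ ≤ 1 / H₁.index := by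
    rw [h₁.card_A_div, div_le_div_iff₀ (by positivity) he]
    nlinarith
  have h4 : -(D.ncard : ℝ) ≤ ∑ g : G, if g ∉ dadeSupp A₁ R₁ then ‖ν₁ ζ₁ g‖ ^ 2 - 1 else 0 := by
    have : (D.ncard : ℝ) = ∑ g : G, if g ∈ D then (1 : ℝ) else 0 := by
      rw [Finset.sum_boole, Set.ncard_eq_toFinset_card' D]
      congr 2
      ext g; simp
    rw [this, ← Finset.sum_neg_distrib]
    refine Finset.sum_le_sum fun g _ => ?_
    have h0 := sq_nonneg ‖ν₁ ζ₁ g‖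
    by_cases hg : g ∈ dadeSupp A₁ R₁
    · rw [if_neg (not_not.2 hg)]
      split_ifs <;> norm_num
    · rw [if_pos hg]
      by_cases hgD : g ∈ D
      · rw [if_pos hgD]; linarith
      · rw [if_neg hgD]; linarith [hD g hg hgD]
  have hG : (0 : ℝ) < Nat.card G := by exact_mod_cast Nat.card_pos
  have h5 : (Nat.card G : ℝ)⁻¹ * -(D.ncard : ℝ) ≤ (Nat.card G : ℝ)⁻¹ *
      ∑ g : G, if g ∉ dadeSupp A₁ R₁ then ‖ν₁ ζ₁ g‖ ^ 2 - 1 else 0 :=
    mul_le_mul_of_nonneg_left h4 (by positivity)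
  rw [div_eq_inv_mul (D.ncard : ℝ)]
  linarith

end

section
variable {G : Type*} [Group G] [Fintype G] {L : Subgroup G} [Fintype L] {H : Subgroup L}
  {A A₀ : Set G} {R : G → Subgroup G} {ν : (L → ℂ) → (G → ℂ)} {S : Set (L → ℂ)} {ζ : L → ℂ}

omit [Fintype G] in
theorem Hyp76.beta_eq_zero' (h : Hyp76 L H A A₀ R) (hζ : ζ ∈ seqIndD H H ⊥) (hd : ζ 1 = H.index)
    {g : G} (hg : g ∉ dadeSupp A R) : beta78 L H A₀ R ζ g = 0 :=
  h.tau_eq_zero (Char.classFun_sub (indFun_isClassFunction H _) (SeqSelf.classFun hζ))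
    (h.supp_indOne_sub hζ hd) hg

/-- the parity computation of (14.9) -/
theorem Hyp76.gamma_inner_odd (h : Hyp76 L H A A₀ R) (hG : Odd (Nat.card G))
    (hS : S ⊆ seqIndD H H ⊥)
    (hc : CoherentWith S (dadeIsometry A₀ L R) ν) (hζ : ζ ∈ S) (hζ' : conjFun ζ ∈ S)
    (hi : IsIrrCharacter L ζ) (hd : ζ 1 = H.index) {Γ η : G → ℂ}
    (hΓ : IsGeneralizedCharacter G Γ) (hΓr : conjFun Γ = Γ)
    (hΓ1 : classInner Γ (fun _ => 1) = 0) (hηβ : classInner η (beta78 L H A₀ R ζ) = 0)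
    (hβ : classInner ((fun _ => 1) - η + Γ) (beta78 L H A₀ R ζ) = 0) :
    ∃ n : ℤ, classInner Γ (ν ζ) = 2 * n + 1 := by
  have hcl : IsClassFunction L (indFun H (fun _ => 1) - ζ) :=
    Char.classFun_sub (indFun_isClassFunction H _) (SeqSelf.classFun (hS hζ))
  have hsupp := h.supp₀ (h.supp_indOne_sub (hS hζ) hd)
  have hgen : IsGeneralizedCharacter G (beta78 L H A₀ R ζ) :=
    Dade.gen h.dade₀ (gen_sub (gen_of_char (char_indFun_one H)) (SeqSelf.gen (hS hζ))) hsupp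
  have h1 : classInner (beta78 L H A₀ R ζ) (fun _ => 1) = 1 := by
    rw [beta78, Dade.classInner_one h.dade₀ hcl hsupp, classInner_sub_left,
      classInner_indOne_one, SeqSelf.inner_one (hS hζ), sub_zero]
  have h1' : classInner (fun _ => 1) (beta78 L H A₀ R ζ) = 1 := by
    rw [← conj_classInner, h1, map_one]
  have hconj : conjFun (beta78 L H A₀ R ζ) = beta78 L H A₀ R ζ + (ν ζ - ν (conjFun ζ)) := by
    rw [← Hyp76.nu_sub_conj hS hc hζ hζ', beta78, ← dade_conjFun, ← dade_add, conjFun_sub,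
      conjFun_indOne]
    congr 1; abel
  have hreal : conjFun (beta78 L H A₀ R ζ + ν ζ) = beta78 L H A₀ R ζ + ν ζ := by
    rw [conjFun_add, hconj, ← h.nu_conjFun hG hS hc hζ hζ' hi]
    abel
  obtain ⟨n, hn⟩ := gen_real_inner_even hG hΓ (gen_add hgen (hc.gen (mem_zspan hζ))) hΓr hreal hΓ1
  rw [classInner_add_left, classInner_sub_left, h1', hηβ] at hβ
  rw [classInner_add_right] at hn
  exact ⟨n, by linear_combination hn - hβ⟩

/-- the counting argument of (14.9) -/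
theorem card_le_of_inner_odd {T : Finset (L → ℂ)} (hT : ↑T ⊆ S) (hν : IsLinearIsometryOn (zspan S) ν)
    (hirr : ∀ φ ∈ T, IsIrrCharacter L φ) {Γ : G → ℂ}
    (hodd : ∀ φ ∈ T, ∃ n : ℤ, classInner Γ (ν φ) = 2 * n + 1) :
    ∃ X Y : G → ℂ, Γ = X + Y ∧ classInner X Y = 0 ∧ (T.card : ℝ) ≤ rip Y Y ∧
      ∀ χ : G → ℂ, (∀ φ ∈ T, classInner (ν φ) χ = 0) → classInner Y χ = 0 := by
  have h1 : ∀ φ ∈ T, classInner (ν φ) (ν φ) = 1 := fun φ hφ => by
    rw [iso_inner hν (mem_zspan (hT hφ)) (mem_zspan (hT hφ)), irr_inner_self (hirr φ hφ)]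
  have h0 : ∀ φ ∈ T, ∀ ψ ∈ T, φ ≠ ψ → classInner (ν φ) (ν ψ) = 0 := fun φ hφ ψ hψ hne => by
    rw [iso_inner hν (mem_zspan (hT hφ)) (mem_zspan (hT hψ)),
      irr_inner_of_ne (hirr φ hφ) (hirr ψ hψ) hne]
  set Y := ∑ φ ∈ T, classInner Γ (ν φ) • ν φ with hY
  have hYφ : ∀ ψ ∈ T, classInner Y (ν ψ) = classInner Γ (ν ψ) := fun ψ hψ => by
    rw [hY, classInner_sum_left, Finset.sum_eq_single ψ]
    · rw [classInner_smul_left, h1 ψ hψ, mul_one]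
    · intro φ hφ hne
      rw [classInner_smul_left, h0 φ hφ ψ hψ hne, mul_zero]
    · intro h; exact absurd hψ h
  have hXY : classInner (Γ - Y) Y = 0 := by
    conv_lhs => rw [hY, classInner_sum_right, ← hY]
    refine Finset.sum_eq_zero fun φ hφ => ?_
    rw [classInner_smul_right, classInner_sub_left, hYφ φ hφ, sub_self, mul_zero]
  refine ⟨Γ - Y, Y, by abel, hXY, ?_, fun χ hχ => ?_⟩
  · have hb := bessel_orthonormal_le T ν h1 h0 Y
    refine le_trans ?_ hb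
    have := Finset.card_nsmul_le_sum T (fun φ => ‖classInner Y (ν φ)‖ ^ 2) 1 (fun φ hφ => by
      obtain ⟨n, hn⟩ := hodd φ hφ
      simp only [hYφ φ hφ, hn]
      exact one_le_norm_sq_odd n)
    rwa [nsmul_eq_mul, mul_one] at this
  · rw [hY, classInner_sum_left]
    exact Finset.sum_eq_zero fun φ hφ => by rw [classInner_smul_left, hχ φ hφ, mul_zero]

end

end CL.PF
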