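import Cfsg.Agent.Base

/-! Arithmetic used in Peterfalvi, section 14. -/

set_option autoImplicit false

namespace CL.PF.N14

open Finset

theorem succ_pow_lt (n : ℕ) (hn : 0 < n) : (n + 1) ^ n < 3 * n ^ n := by
  have hn' : (0 : ℝ) < n := by exact_mod_cast hn
  have h1 : ((n : ℝ) + 1) = n * (1 + (n : ℝ)⁻¹) := by field_simp
  have h2 : (1 + (n : ℝ)⁻¹) ^ n ≤ Real.exp 1 := by
    calc (1 + (n : ℝ)⁻¹) ^ n ≤ (Real.exp ((n : ℝ)⁻¹)) ^ n := by
          apply pow_le_pow_left₀ (by positivity)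
          rw [add_comm]; exact Real.add_one_le_exp _
      _ = Real.exp 1 := by rw [← Real.exp_nat_mul]; congr 1; field_simp
  have h3 : Real.exp 1 < 3 := lt_trans Real.exp_one_lt_d9 (by norm_num)
  have h4 : ((n : ℝ) + 1) ^ n < 3 * (n : ℝ) ^ n := by
    rw [h1, mul_pow, mul_comm]
    exact mul_lt_mul_of_pos_right (lt_of_le_of_lt h2 h3) (by positivity)
  exact_mod_cast h4

theorem succ_pow_lt' {p k : ℕ} (hp : 0 < p) (hk : k ≤ p) : (p + 1) ^ k < 3 * p ^ k := by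
  obtain ⟨d, rfl⟩ := Nat.exists_eq_add_of_le hk
  have h := succ_pow_lt (k + d) hp
  have h1 : (k + d + 1) ^ k * (k + d) ^ d ≤ (k + d + 1) ^ (k + d) := by
    rw [pow_add]; exact Nat.mul_le_mul_left _ (Nat.pow_le_pow_left (Nat.le_succ _) _)
  have h2 : (k + d + 1) ^ k * (k + d) ^ d < 3 * (k + d) ^ k * (k + d) ^ d := by
    rw [mul_assoc, ← pow_add]; exact lt_of_le_of_lt h1 h
  exact lt_of_mul_lt_mul_right h2 (Nat.zero_le _)

theorem step8 {p q : ℕ} (hq : 3 ≤ q) (hp : q + 1 ≤ p) (h : p ^ (q + 1) < q ^ (p + 1)) :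
    (p + 1) ^ (q + 1) < q ^ (p + 1 + 1) := by
  calc (p + 1) ^ (q + 1) < 3 * p ^ (q + 1) := succ_pow_lt' (by omega) hp
    _ ≤ q * q ^ (p + 1) := Nat.mul_le_mul hq h.le
    _ = q ^ (p + 1 + 1) := by ring

/-- (14.8.a) -/
theorem t14_8a {p q : ℕ} (hq : 3 ≤ q) (hp : q + 2 ≤ p) : p ^ (q + 1) < q ^ (p + 1) := by
  have base : (q + 2) ^ (q + 1) < q ^ (q + 2 + 1) := by
    rcases hq.eq_or_lt with h | h
    · subst h; norm_num
    · apply step8 (p := q + 1) hq le_rfl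
      calc (q + 1) ^ (q + 1) = (q + 1) * (q + 1) ^ q := by ring
        _ < (q + 1) * (3 * q ^ q) :=
          Nat.mul_lt_mul_of_pos_left (succ_pow_lt q (by omega)) (by omega) |> fun h => h
        _ = (3 * (q + 1)) * q ^ q := by ring
        _ ≤ (q * q) * q ^ q := Nat.mul_le_mul_right _ (by nlinarith)
        _ = q ^ (q + 1 + 1) := by ring
  induction p, hp using Nat.le_induction with
  | base => exact base
  | succ p hp ih => exact step8 hq (by omega) ih

theorem geom_mul (p q : ℕ) : (p ^ q - 1) / (p - 1) * (p - 1) = p ^ q - 1 :=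
  Nat.div_mul_cancel (by simpa using Nat.sub_dvd_pow_sub_pow p 1 q)

theorem geom_mul' {p : ℕ} (hp : 2 ≤ p) (q : ℕ) :
    (p ^ q - 1) / (p - 1) * p + 1 = p ^ q + (p ^ q - 1) / (p - 1) := by
  have h := geom_mul p q
  have h1 : 1 ≤ p ^ q := Nat.one_le_pow _ _ (by omega)
  obtain ⟨k, rfl⟩ : ∃ k, p = k + 1 := ⟨p - 1, by omega⟩
  simp only [Nat.add_sub_cancel] at h ⊢
  rw [mul_add, h]; omega

theorem geom_modEq {p : ℕ} (hp : 2 ≤ p) {q : ℕ} (hq : 0 < q) :
    (p ^ q - 1) / (p - 1) ≡ 1 [MOD p] := by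
  have h := geom_mul' hp q
  have h1 : (p ^ q - 1) / (p - 1) * p + 1 ≡ 0 + 1 [MOD p] :=
    Nat.ModEq.add_right _ ((Nat.modEq_zero_iff_dvd).2 (dvd_mul_left _ _))
  have h2 : p ^ q + (p ^ q - 1) / (p - 1) ≡ 0 + (p ^ q - 1) / (p - 1) [MOD p] :=
    Nat.ModEq.add_right _ ((Nat.modEq_zero_iff_dvd).2 (dvd_pow_self _ hq.ne'))
  rw [h] at h1
  simpa using h2.symm.trans h1

theorem pow_pred_lt_geom {p : ℕ} (hp : 2 ≤ p) {q : ℕ} (hq : 2 ≤ q) :
    p ^ (q - 1) < (p ^ q - 1) / (p - 1) := by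
  have h := geom_mul p q
  obtain ⟨k, rfl⟩ : ∃ k, q = k + 1 := ⟨q - 1, by omega⟩
  obtain ⟨r, rfl⟩ : ∃ r, p = r + 1 := ⟨p - 1, by omega⟩
  simp only [Nat.add_sub_cancel] at h ⊢
  by_contra hc
  push Not at hc
  have h1 : ((r + 1) ^ (k + 1) - 1) / r * r ≤ (r + 1) ^ k * r := Nat.mul_le_mul_right _ hc
  have h2 : 1 < (r + 1) ^ k := Nat.one_lt_pow (by omega) (by omega)
  rw [h, pow_succ] at h1
  have : (r + 1) ^ k * (r + 1) = (r + 1) ^ k * r + (r + 1) ^ k := by ring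
  omega

/-- (14.8.b) -/
theorem t14_8b {p q u v : ℕ} (hq : 3 ≤ q) (hp : q + 2 ≤ p) (hu : u ≤ (p ^ q - 1) / (p - 1))
    (hv : v = (q ^ p - 1) / (q - 1)) : (u - 1) * p < (v - 1) * q := by
  have h8 := t14_8a hq hp
  have hU := geom_mul' (p := p) (by omega) q
  have hV := geom_mul' (p := q) (by omega) p
  have hU1 : 1 < (p ^ q - 1) / (p - 1) :=
    lt_of_le_of_lt (Nat.one_le_pow _ _ (by omega)) (pow_pred_lt_geom (by omega) (by omega))
  have hV1 : 1 < (q ^ p - 1) / (q - 1) :=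
    lt_of_le_of_lt (Nat.one_le_pow _ _ (by omega)) (pow_pred_lt_geom (by omega) (by omega))
  rw [← hv] at hV hV1
  set N := (p ^ q - 1) / (p - 1)
  have hle : (u - 1) * p ≤ (N - 1) * p := Nat.mul_le_mul_right _ (by omega)
  refine lt_of_le_of_lt hle ?_
  obtain ⟨N', hN'⟩ : ∃ N', N = N' + 1 := ⟨N - 1, by omega⟩
  obtain ⟨v', rfl⟩ : ∃ v', v = v' + 1 := ⟨v - 1, by omega⟩
  rw [hN'] at hU ⊢
  simp only [Nat.add_sub_cancel]
  rw [pow_succ, pow_succ] at h8
  -- N' (p - 1) = p ^ q - p, v' (q - 1) = q ^ p - q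
  by_contra hc
  push Not at hc
  zify at hU hV h8 hc hq hp
  have e1 : (N' : ℤ) * p * (p - 1) = p ^ q * p - p * p := by linear_combination p * hU
  have e2 : (v' : ℤ) * q * (q - 1) = q ^ p * q - q * q := by linear_combination q * hV
  have h3 : (v' : ℤ) * q * (q - 1) ≤ N' * p * (p - 1) := by
    apply mul_le_mul hc (by omega) (by omega) (by positivity)
  nlinarith

theorem lower_of_modEq {n x : ℕ} (hn : Odd n) (hx : Odd x) (h1 : x ≠ 1) (h : x ≡ 1 [MOD n]) :
    2 * n + 1 ≤ x := by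
  have hx0 : 1 ≤ x := hx.pos
  obtain ⟨k, hk⟩ := (Nat.modEq_iff_dvd' hx0).1 h.symm
  obtain ⟨a, rfl⟩ := hx
  obtain ⟨b, rfl⟩ := hn
  rcases k with _ | _ | k
  · omega
  · omega
  · simp only [Nat.add_sub_cancel] at hk
    nlinarith

theorem modEq_one_of_mul {n u x : ℕ} (hu : u ≡ 1 [MOD n]) (h : u * x ≡ 1 [MOD n]) :
    x ≡ 1 [MOD n] := by
  have := (hu.mul_right x).symm.trans h
  rwa [one_mul] at this

/-- (14.6) -/
theorem num14_6 {p r m : ℕ} (hp : p.Prime) (hr : r.Prime) (hp5 : 5 ≤ p) (hd : r ∣ (p - 1) / 2)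
    (hm : m = 1 ∨ m = 2) (h : p ∣ r ^ m - 1) : False := by
  have h1 : r ≤ (p - 1) / 2 := Nat.le_of_dvd (by omega) hd
  have h2 := hr.two_le
  rcases hm with rfl | rfl
  · have := Nat.le_of_dvd (by simp; omega) h
    simp at this; omega
  · have : r ^ 2 - 1 = (r + 1) * (r - 1) := by simpa using Nat.sq_sub_sq r 1
    rw [this] at h
    rcases (Nat.Prime.dvd_mul hp).1 h with h | h
    · have := Nat.le_of_dvd (by omega) h; omega
    · have := Nat.le_of_dvd (by omega) h; omega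

/-- (14.7) -/
theorem num14_7 {p q u : ℕ} (hq : 3 ≤ q) (hp : q + 2 ≤ p) (hu : u * q = (p ^ q - 1) / (p - 1))
    (h : u ≡ 1 [MOD p]) : False := by
  have h1 := geom_modEq (p := p) (by omega) (q := q) (by omega)
  rw [← hu] at h1
  have h2 := modEq_one_of_mul h h1
  unfold Nat.ModEq at h2
  rw [Nat.mod_eq_of_lt (by omega), Nat.mod_eq_of_lt (by omega)] at h2
  omega

/-- (14.11.1) -/
theorem num14_11_1 {p q u v k e : ℕ} (hp : q + 2 ≤ p) (huv : (u - 1) * p < (v - 1) * q)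
    (hk : 2 * p * v < k) (he : e ≤ p * q) :
    (v - 1) * e < (k - 1) * p ∧ (u - 1) * e < (k - 1) * q := by
  have hv : 0 < v - 1 := by
    rcases Nat.eq_zero_or_pos (v - 1) with h | h
    · rw [h] at huv; omega
    · exact h
  have h1 : (v - 1) * (p * q) < (k - 1) * p := by
    have : (v - 1) * q < k - 1 := by
      have : (v - 1) * q < 2 * p * v := by
        calc (v - 1) * q ≤ v * q := Nat.mul_le_mul_right _ (by omega)
          _ < v * (2 * p) := Nat.mul_lt_mul_of_pos_left (by omega) (by omega)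
          _ = 2 * p * v := by ring
      omega
    calc (v - 1) * (p * q) = ((v - 1) * q) * p := by ring
      _ < (k - 1) * p := Nat.mul_lt_mul_of_pos_right this (by omega)
  refine ⟨lt_of_le_of_lt (Nat.mul_le_mul_left _ he) h1, ?_⟩
  have hq : 0 < q := by
    rcases Nat.eq_zero_or_pos q with h | h
    · rw [h] at huv; omega
    · exact h
  refine lt_of_le_of_lt (Nat.mul_le_mul_left _ he) ?_
  refine lt_of_mul_lt_mul_right (a := p) ?_ (Nat.zero_le _)
  calc (u - 1) * (p * q) * p = ((u - 1) * p) * (p * q) := by ring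
    _ ≤ ((v - 1) * q) * (p * q) := Nat.mul_le_mul_right _ huv.le
    _ = ((v - 1) * (p * q)) * q := by ring
    _ < ((k - 1) * p) * q := Nat.mul_lt_mul_of_pos_right h1 hq
    _ = (k - 1) * q * p := by ring

/-- (14.11.4) -/
theorem num14_11_4 {p q u v k : ℕ} (hq : 3 ≤ q) (hp : q + 2 ≤ p) (hu : 2 * q + 1 ≤ u)
    (hv : q ^ (p - 1) < v) (hk : 2 * p * v < k)
    (h : 1 - ((p * q : ℕ) : ℝ) / k - 1 / ((p * q : ℕ) : ℝ) ≤
      ((p : ℝ) - 1) * (q - 1) / (p * q) + 1 / (u * q) + 1 / (v * p)) : False := by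
  have hv4 : q ^ 4 < v := lt_of_le_of_lt (Nat.pow_le_pow_right (by omega) (by omega)) hv
  have hq' : (3 : ℝ) ≤ q := by exact_mod_cast hq
  have hp' : (q : ℝ) + 2 ≤ p := by exact_mod_cast hp
  have hu' : 2 * (q : ℝ) + 1 ≤ u := by exact_mod_cast hu
  have hv' : (q : ℝ) ^ 4 < v := by exact_mod_cast hv4
  have hk' : 2 * (p : ℝ) * v < k := by exact_mod_cast hk
  push_cast at h
  have hq0 : (0 : ℝ) < q := by linarith
  have hp0 : (0 : ℝ) < p := by linarith
  have hq2 : (9 : ℝ) ≤ q ^ 2 := by nlinarith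
  have hv9 : 9 * (q : ℝ) ^ 2 < v := by nlinarith
  have hv0 : (0 : ℝ) < v := by nlinarith
  have hk0 : (0 : ℝ) < k := lt_trans (by positivity) hk'
  have e1 : ((p : ℝ) - 1) * (q - 1) / (p * q) = 1 - 1 / p - 1 / q + 1 / (p * q) := by
    field_simp; ring
  have h1 : (p : ℝ) * q / k ≤ 1 / 18 * (1 / q) := by
    rw [div_le_iff₀ hk0, show 1 / 18 * (1 / (q : ℝ)) * k = k / (18 * q) by field_simp,
      le_div_iff₀ (by positivity)]
    nlinarith
  have h2 : 1 / ((p : ℝ) * q) ≤ 1 / 3 * (1 / p) := by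
    rw [show 1 / 3 * (1 / (p : ℝ)) = 1 / (p * 3) by field_simp]
    exact one_div_le_one_div_of_le (by positivity) (by nlinarith)
  have h3 : 1 / ((u : ℝ) * q) ≤ 1 / 7 * (1 / q) := by
    rw [show 1 / 7 * (1 / (q : ℝ)) = 1 / (7 * q) by field_simp]
    exact one_div_le_one_div_of_le (by positivity) (by nlinarith)
  have h4 : 1 / ((v : ℝ) * p) ≤ 1 / 3 * (1 / p) := by
    rw [show 1 / 3 * (1 / (p : ℝ)) = 1 / (3 * p) by field_simp]
    exact one_div_le_one_div_of_le (by positivity) (by nlinarith)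
  have h5 : (0 : ℝ) < 1 / q := by positivity
  rw [e1] at h
  linarith

theorem sq_lt_three_pow {n : ℕ} : (n + 7) ^ 2 < 3 ^ (n + 4) := by
  induction n with
  | zero => norm_num
  | succ n ih => rw [show n + 1 + 4 = n + 4 + 1 by ring, pow_succ 3]; nlinarith

/-- (14.14), case (b) -/
theorem num14_14 {p q v : ℕ} (hq : 3 ≤ q) (hp : q + 2 ≤ p) (hqo : Odd q) (hpo : Odd p)
    (hv : q ^ (p - 1) < v) (h : v - 1 ≤ p * q * (p * q - 1)) : q = 3 ∧ p = 5 := by
  have hp6 : p < 7 := by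
    by_contra hc
    obtain ⟨n, rfl⟩ : ∃ n, p = n + 7 := ⟨p - 7, by omega⟩
    have h1 : (n + 7) ^ 2 < q ^ (n + 4) :=
      lt_of_lt_of_le sq_lt_three_pow (Nat.pow_le_pow_left hq _)
    have h2 : q ^ (n + 7 - 1) = q ^ (n + 4) * q ^ 2 := by rw [← pow_add]; congr 1
    have h3 : (n + 7) * q * ((n + 7) * q - 1) ≤ (n + 7) ^ 2 * q ^ 2 := by
      calc (n + 7) * q * ((n + 7) * q - 1) ≤ (n + 7) * q * ((n + 7) * q) :=
            Nat.mul_le_mul_left _ (Nat.sub_le _ _)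
        _ = (n + 7) ^ 2 * q ^ 2 := by ring
    have h4 : (n + 7) ^ 2 * q ^ 2 < q ^ (n + 4) * q ^ 2 :=
      Nat.mul_lt_mul_of_pos_right h1 (by positivity)
    omega
  obtain ⟨a, ha⟩ := hqo
  obtain ⟨b, hb⟩ := hpo
  omega

/-- (14.15) -/
theorem num14_15 {p q u x : ℕ} (hq : 3 ≤ q) (hp : q + 2 ≤ p) (hqo : Odd q) (hpo : Odd p)
    (hxo : Odd x) (hpq : p ≡ 1 [MOD q]) (hu : u * q = (p ^ q - 1) / (p - 1))
    (huq : u ≡ 1 [MOD q]) (hp1 : u * x ≡ 1 [MOD p]) (hq1 : u * x ≡ 1 [MOD q])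
    (h : u * x - 1 ≤ p * q * (p * q - 1)) : False := by
  have h1 := geom_modEq (p := p) (by omega) (q := q) (by omega)
  have h2 := pow_pred_lt_geom (p := p) (by omega) (q := q) (by omega)
  have h2' := geom_mul' (p := p) (by omega) q
  rw [← hu] at h1 h2 h2'
  have hxq := modEq_one_of_mul huq hq1
  have hxp : x ≡ q [MOD p] := by
    have a1 : u * q * x ≡ 1 * x [MOD p] := h1.mul_right x
    have a2 : u * x * q ≡ 1 * q [MOD p] := hp1.mul_right q
    rw [show u * q * x = u * x * q by ring] at a1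
    simpa using a1.symm.trans a2
  have hx : x = p * (x / p) + q := by
    unfold Nat.ModEq at hxp
    rw [Nat.mod_eq_of_lt (show q < p by omega)] at hxp
    rw [← hxp, Nat.div_add_mod]
  set n := x / p
  have hn : n ≡ 1 [MOD q] := by
    apply modEq_one_of_mul hpq
    have : p * n + q ≡ p * n [MOD q] := by simp [Nat.ModEq]
    rw [← hx] at this
    exact this.symm.trans hxq
  have hne : Even n := by
    have : Even (p * n) := by
      obtain ⟨a, ha⟩ := hxo
      obtain ⟨b, hb⟩ := hqo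
      exact ⟨a - b, by omega⟩
    exact (Nat.even_mul.1 this).resolve_left (Nat.not_even_iff_odd.2 hpo)
  have hn1 : q + 1 ≤ n := by
    by_contra hc
    unfold Nat.ModEq at hn
    rw [Nat.mod_eq_of_lt (show 1 < q by omega)] at hn
    obtain ⟨a, ha⟩ := hne
    obtain ⟨b, hb⟩ := hqo
    rcases (show n < q ∨ n = q by omega) with h | h
    · rw [Nat.mod_eq_of_lt h] at hn; omega
    · omega
  have hx1 : p * (q + 1) + q ≤ x := by rw [hx]; nlinarith
  have hpq1 : 1 ≤ p * q := Nat.mul_pos (by omega) (by omega)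
  have hux : 1 ≤ u * x := by
    have : 0 < u := by
      rcases Nat.eq_zero_or_pos u with h | h
      · rw [h] at h2; simp at h2
      · exact h
    exact Nat.mul_pos this (by nlinarith)
  have hb : u * x + p * q ≤ p * q * (p * q) + 1 := by
    obtain ⟨t, ht⟩ : ∃ t, p * q = t + 1 := ⟨p * q - 1, by omega⟩
    rw [ht] at h ⊢
    simp only [Nat.add_sub_cancel] at h
    nlinarith [Nat.sub_add_cancel hux]
  rcases hq.eq_or_lt with h3 | h3
  · subst h3
    have hu' : u * 3 = p * p + p + 1 := by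
      obtain ⟨r, rfl⟩ : ∃ r, p = r + 1 := ⟨p - 1, by omega⟩
      have : (u * 3) * r = ((r + 1) * (r + 1) + (r + 1) + 1) * r := by nlinarith
      exact Nat.eq_of_mul_eq_mul_right (by omega) this
    have : (p * p + p + 1) * (p * 4 + 3) ≤ 3 * (u * x) := by
      rw [← hu']; nlinarith
    nlinarith
  · have hq5 : 5 ≤ q := by obtain ⟨b, hb⟩ := hqo; omega
    have h4 : p ^ 4 ≤ p ^ (q - 1) := Nat.pow_le_pow_right (by omega) (by omega)
    have h5 : p ^ 4 * (p * q) ≤ (u * q) * x := Nat.mul_le_mul (by omega) (by nlinarith)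
    have h6 : (u * q) * x = (u * x) * q := by ring
    have h7 : (u * x) * q ≤ (p * q * (p * q)) * q := Nat.mul_le_mul_right _ (by omega)
    have h8 : p ^ 4 * (p * q) ≤ (p * q * q) * (p * q) := by nlinarith
    have h9 := Nat.le_of_mul_le_mul_right h8 (by omega)
    have h10 : p * q * q < p * p * p := by
      calc p * q * q ≤ p * p * q := Nat.mul_le_mul_right _ (Nat.mul_le_mul_left _ (by omega))
        _ < p * p * p := Nat.mul_lt_mul_of_pos_left (by omega) (Nat.mul_pos (by omega) (by omega))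
    have h11 : p * p * p ≤ p ^ 4 := by
      calc p * p * p = p ^ 3 := by ring
        _ ≤ p ^ 4 := Nat.pow_le_pow_right (by omega) (by omega)
    omega

/-- (14.16), case (a) -/
theorem num14_16a {p q u x : ℕ} (hq : 3 ≤ q) (hp : q + 2 ≤ p) (hu : p ^ (q - 1) < u)
    (hx : 2 * (p * q) + 1 ≤ x) (h : u * x - 1 ≤ p * q * (p * q - 1)) : False := by
  have h1 : p ^ 2 ≤ p ^ (q - 1) := Nat.pow_le_pow_right (by omega) (by omega)
  have h2 : p * q < u := by nlinarith
  have h3 : p * q * (p * q - 1) ≤ p * q * (p * q) := Nat.mul_le_mul_left _ (Nat.sub_le _ _)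
  have h4 : (p * q + 1) * (2 * (p * q) + 1) ≤ u * x := Nat.mul_le_mul h2 hx
  have h5 : 1 ≤ p * q := Nat.mul_pos (by omega) (by omega)
  have h6 : 1 ≤ u * x := by nlinarith
  nlinarith [Nat.sub_add_cancel h6]

end CL.PF.N14
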