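import Cfsg.Agent.PF.CohExt

/-! The abstract part of Peterfalvi (9.11.6) - (9.11.8), and the existence of maximal coherent
subsets. -/

set_option autoImplicit false

namespace CL.PF

open Cfsg CL.Char

variable {L : Type*} [Group L] [Fintype L] {G : Type*} [Group G] [Fintype G]
  {S S₁ S₃ : Set (L → ℂ)} {τ : (L → ℂ) → (G → ℂ)} {R : (L → ℂ) → Finset (G → ℂ)}

/-- To prove that `S` is coherent it is enough to extend every proper coherent subset containing a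
given one. -/
theorem coherent_of_forall_extend (hS : IsCoherenceSystem S τ R) (h1 : ConjSub S₁ S)
    (hc : IsCoherent S₁ {1}ᶜ τ)
    (h : ∀ T, ConjSub T S → S₁ ⊆ T → IsCoherent T {1}ᶜ τ → (∃ χ ∈ S, χ ∉ T) →
      ∃ χ ∈ S, χ ∉ T ∧ IsCoherent (T ∪ {χ, conjFun χ}) {1}ᶜ τ) : IsCoherent S {1}ᶜ τ := by
  have hfin : {T | ConjSub T S ∧ S₁ ⊆ T ∧ IsCoherent T {1}ᶜ τ}.Finite :=
    (subcoh_finite hS).finite_subsets.subset fun T hT => hT.1.subset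
  obtain ⟨T, hT⟩ := hfin.exists_maximal ⟨S₁, h1, subset_rfl, hc⟩
  obtain ⟨hT1, hT2, hT3⟩ := hT.prop
  by_cases hex : ∃ χ ∈ S, χ ∉ T
  · obtain ⟨χ, hχ, hχT, hcoh⟩ := h T hT1 hT2 hT3 hex
    have := hT.le_of_ge (y := T ∪ {χ, conjFun χ})
      ⟨hT1.union (subcoh_pair hS hχ), hT2.trans Set.subset_union_left, hcoh⟩ Set.subset_union_left
    exact (hχT (this (Or.inr (Or.inl rfl)))).elim
  · push Not at hex
    rwa [← Set.Subset.antisymm hT1.subset hex]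

/-- (9.11.6) - (9.11.8). -/
theorem exists_extend_of_small_norm (hS : IsCoherenceSystem S τ R) {E : Set (L → ℂ)} [ZClosed E]
    (hE : zspanOn S {1}ᶜ ⊆ E) (hτ : IsLinearIsometryOn E τ) (T₁ T₄ : Finset (L → ℂ))
    (h1 : ConjSub (T₁ : Set (L → ℂ)) S) (h3 : ConjSub S₃ S)
    (hd : Disjoint (T₁ : Set (L → ℂ)) S₃) (hc : IsCoherent (T₁ : Set (L → ℂ)) {1}ᶜ τ)
    {m : ℕ} (hm : m ≠ 1) (hcard : T₁.card = 2 * m) (hirr : ∀ φ ∈ T₁, IsIrrCharacter L φ)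
    {ψ : L → ℂ} (hψ : ψ ∈ T₁) (hdeg₁ : ∀ φ ∈ T₁, φ 1 = ψ 1) (hdeg₃ : ∀ χ ∈ S₃, χ 1 = m * ψ 1)
    (h4 : ↑T₄ ⊆ S₃) (hirr₄ : ∀ φ ∈ T₄, IsIrrCharacter L φ) {α : L → ℂ} (hα : α ∈ E)
    (hαS : ∀ χ ∈ S, classInner α χ = -classInner ψ χ) (hlt : rip α α < T₄.card) :
    ∃ χ ∈ S₃, IsCoherent (↑T₁ ∪ {χ, conjFun χ}) {1}ᶜ τ := by
  classical
  have hT₄ : T₄.Nonempty := by
    rw [← Finset.card_pos]
    exact_mod_cast (rip_self_nonneg α).trans_lt hlt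
  obtain ⟨lam, hlam⟩ := hT₄
  have hlam3 : lam ∈ S₃ := h4 hlam
  have hlamS := h3.subset hlam3
  have hlam1 : lam ∉ (T₁ : Set (L → ℂ)) := fun h => Set.disjoint_left.1 hd h hlam3
  have hψS : ψ ∈ S := h1.subset hψ
  obtain ⟨ν₁, hν₁⟩ := coherent_exists hc
  obtain ⟨ν₃, hν₃⟩ := coherent_exists (uniform_degree_coherence_sub hS h3 ⟨lam, hlam3⟩
    (fun φ hφ χ hχ => by rw [hdeg₃ φ hφ, hdeg₃ χ hχ]))
  have hWg := iso_gen hτ hα
  have hripα : ∀ χ ∈ S, rip α χ = -rip ψ χ := fun χ hχ => by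
    rw [rip_def, hαS χ hχ, Complex.neg_re, rip_def]
  have hψ3 : ∀ χ ∈ S₃, rip ψ χ = 0 := fun χ hχ => rip_eq_zero_of
    (hS.orthogonal ψ hψS χ (h3.subset hχ) fun h => Set.disjoint_left.1 hd hψ (h ▸ hχ))
  have h13 : ∀ φ ∈ T₁, ∀ χ ∈ S₃, rip (ν₁ φ) (ν₃ χ) = 0 := fun φ hφ χ hχ => rip_eq_zero_of
    (coherent_ortho hS h1 h3 hν₁ hν₃ hd (mem_zspan hφ) (mem_zspan hχ))
  have hnorm1 : ∀ φ ∈ T₁, rip φ φ = 1 := fun φ hφ => rip_eq_one_of (irr_inner_self (hirr φ hφ))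
  have hne1 : ∀ φ ∈ T₁, ∀ φ' ∈ T₁, φ ≠ φ' → rip φ φ' = 0 := fun φ hφ φ' hφ' h =>
    rip_eq_zero_of (irr_inner_of_ne (hirr φ hφ) (hirr φ' hφ') h)
  have hν₁rip : ∀ φ ∈ T₁, ∀ φ' ∈ T₁, rip (ν₁ φ) (ν₁ φ') = rip φ φ' := fun φ hφ φ' hφ' =>
    iso_rip hν₁.iso (mem_zspan hφ) (mem_zspan hφ')
  -- differences of members of the same degree
  have hsub : ∀ {T : Set (L → ℂ)} {ν : (L → ℂ) → (G → ℂ)}, T ⊆ S → CoherentWith T τ ν →
      ∀ φ ∈ T, ∀ φ' ∈ T, φ 1 = φ' 1 → ∀ γ ∈ E,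
        rip (τ γ) (ν φ) - rip (τ γ) (ν φ') = rip γ φ - rip γ φ' := by
    intro T ν hT hν φ hφ φ' hφ' hdeg γ hγ
    rw [← rip_sub_right, ← rip_sub_right, ← hν.sub (mem_zspan hφ) (mem_zspan hφ') hdeg]
    exact iso_rip hτ hγ (hE (sub_mem_zspanOn_one (mem_zspan (hT hφ)) (mem_zspan (hT hφ')) hdeg))
  -- (9.11.6)
  have hW3 : ∀ χ ∈ S₃, rip (τ α) (ν₃ χ) = 0 := by
    have hconst : ∀ χ ∈ S₃, rip (τ α) (ν₃ χ) = rip (τ α) (ν₃ lam) := fun χ hχ => by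
      have := hsub h3.subset hν₃ χ hχ lam hlam3 (by rw [hdeg₃ χ hχ, hdeg₃ lam hlam3]) α hα
      rw [hripα χ (h3.subset hχ), hripα lam hlamS, hψ3 χ hχ, hψ3 lam hlam3] at this
      linarith
    obtain ⟨t, ht⟩ := gen_rip_int hWg (hν₃.gen (mem_zspan hlam3))
    have hb := coherent_bessel hν₃.iso T₄ h4 (fun φ hφ => irr_ne_zero (hirr₄ φ hφ))
      (fun φ hφ φ' hφ' h => irr_inner_of_ne (hirr₄ φ hφ) (hirr₄ φ' hφ') h) (W := τ α) (t := t)
      (fun _ => 1) (fun φ hφ => by rw [hconst φ (h4 hφ), ht, mul_one])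
    rw [Finset.sum_congr rfl (fun φ hφ => by
      rw [rip_eq_one_of (irr_inner_self (hirr₄ φ hφ)), one_pow, div_one]), Finset.sum_const,
      nsmul_eq_mul, mul_one, iso_rip hτ hα hα] at hb
    have ht0 : t = 0 := by
      by_contra h0
      have h2 : (1 : ℝ) ≤ (t : ℝ) ^ 2 := by
        have : 1 ≤ t ^ 2 := by nlinarith [Int.one_le_abs h0, sq_abs t]
        exact_mod_cast this
      have h3 : (0 : ℝ) ≤ T₄.card := Nat.cast_nonneg _
      nlinarith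
    intro χ hχ
    rw [hconst χ hχ, ht, ht0, Int.cast_zero]
  -- (9.11.7)
  have hdeglam : lam 1 = ((m : ℤ) • ψ) 1 := by simp [hdeg₃ lam hlam3]
  have hmψ : (m : ℤ) • ψ ∈ zspan (T₁ : Set (L → ℂ)) := zc_zsmul _ (mem_zspan hψ)
  have hβ : lam - (m : ℤ) • ψ ∈ E :=
    hE (sub_mem_zspanOn_one (mem_zspan hlamS) (zspan_mono h1.subset hmψ) hdeglam)
  have hlamφ : ∀ φ ∈ T₁, rip lam φ = 0 := fun φ hφ => rip_eq_zero_of
    (hS.orthogonal lam hlamS φ (h1.subset hφ) fun h => hlam1 (h ▸ hφ))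
  have hlamlam : rip lam lam = 1 := rip_eq_one_of (irr_inner_self (hirr₄ lam hlam))
  obtain ⟨X, hX⟩ : ∃ X, X = τ (lam - (m : ℤ) • ψ) + (m : ℤ) • ν₁ ψ := ⟨_, rfl⟩
  have hXg : IsGeneralizedCharacter G X :=
    hX ▸ gen_add (iso_gen hτ hβ) (gen_zsmul _ (hν₁.gen (mem_zspan hψ)))
  obtain ⟨b, hb⟩ := gen_rip_int hXg (hν₁.gen (mem_zspan hψ))
  have hXφ : ∀ φ ∈ T₁, rip X (ν₁ φ) = b := by
    intro φ hφ
    have h2 := hsub h1.subset hν₁ φ hφ ψ hψ (hdeg₁ φ hφ) _ hβ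
    rw [rip_sub_left, rip_sub_left, rip_zsmul_left, rip_zsmul_left, hlamφ φ hφ, hlamφ ψ hψ] at h2
    rw [← hb, hX, rip_add_left, rip_add_left, rip_zsmul_left, rip_zsmul_left, hν₁rip ψ hψ φ hφ,
      hν₁rip ψ hψ ψ hψ]
    linarith
  have hXX : rip X X = 1 + 2 * m * b := by
    have h2 : rip (τ (lam - (m : ℤ) • ψ)) (τ (lam - (m : ℤ) • ψ)) = 1 + (m : ℝ) ^ 2 := by
      rw [iso_rip hτ hβ hβ, rip_sub_self, rip_zsmul_left, rip_zsmul_right, rip_zsmul_right,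
        hlamlam, hlamφ ψ hψ, hnorm1 ψ hψ]
      push_cast; ring
    have h3 : τ (lam - (m : ℤ) • ψ) = X - (m : ℤ) • ν₁ ψ := by rw [hX]; abel
    rw [h3, rip_sub_self, rip_zsmul_left, rip_zsmul_right, rip_zsmul_right, hb,
      hν₁rip ψ hψ ψ hψ, hnorm1 ψ hψ] at h2
    push_cast at h2
    linarith
  obtain ⟨σ, hσ⟩ : ∃ σ, σ = ∑ φ ∈ T₁, ν₁ φ := ⟨_, rfl⟩
  have hσg : IsGeneralizedCharacter G σ := hσ ▸ gen_sum _ fun φ hφ => hν₁.gen (mem_zspan hφ)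
  have hcardR : (T₁.card : ℝ) = 2 * m := by exact_mod_cast hcard
  have hσσ : rip σ σ = 2 * m := by
    have : ∀ φ ∈ T₁, rip (ν₁ φ) σ = 1 := fun φ hφ => by
      rw [hσ, rip_sum_right, Finset.sum_eq_single_of_mem φ hφ (fun φ' hφ' h => by
        rw [hν₁rip φ hφ φ' hφ', hne1 φ hφ φ' hφ' h.symm]), hν₁rip φ hφ φ hφ, hnorm1 φ hφ]
    conv_lhs => lhs; rw [hσ]
    rw [rip_sum_left, Finset.sum_congr rfl this, Finset.sum_const, nsmul_eq_mul, mul_one, hcardR]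
  have hXσ : rip X σ = 2 * m * b := by
    rw [hσ, rip_sum_right, Finset.sum_congr rfl hXφ, Finset.sum_const, nsmul_eq_mul, hcardR]
  have hYg : IsGeneralizedCharacter G (X - b • σ) := gen_sub hXg (gen_zsmul _ hσg)
  have hYY : rip (X - b • σ) (X - b • σ) = 1 + 2 * m * b - 2 * m * b ^ 2 := by
    rw [rip_sub_self, rip_zsmul_left, rip_zsmul_right, rip_zsmul_right, hXX, hXσ, hσσ]; ring
  have hlamc : conjFun lam ∈ S₃ := h3.conj_mem lam hlam3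
  have hY3 : rip (X - b • σ) (ν₃ lam) - rip (X - b • σ) (ν₃ (conjFun lam)) = 1 := by
    have h2 := hsub h3.subset hν₃ lam hlam3 _ hlamc (subcoh_conj_apply_one hS hlamS).symm _ hβ
    have h4 : ∀ χ ∈ S₃, rip (X - b • σ) (ν₃ χ) = rip (τ (lam - (m : ℤ) • ψ)) (ν₃ χ) := by
      intro χ hχ
      rw [rip_sub_left, rip_zsmul_left, hσ, rip_sum_left,
        Finset.sum_eq_zero (fun φ hφ => h13 φ hφ χ hχ), hX, rip_add_left, rip_zsmul_left,
        h13 ψ hψ χ hχ]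
      ring
    rw [h4 _ hlam3, h4 _ hlamc, h2, rip_sub_left, rip_sub_left, rip_zsmul_left, rip_zsmul_left,
      hψ3 _ hlam3, hψ3 _ hlamc, hlamlam, rip_eq_zero_of (subcoh_inner_conj hS hlamS)]
    ring
  have hY0 : X - b • σ ≠ 0 := fun h => by
    rw [h, rip_zero_left, rip_zero_left] at hY3
    norm_num at hY3
  have hm0 : (0 : ℝ) < m := by
    have : 0 < T₁.card := Finset.card_pos.2 ⟨ψ, hψ⟩
    have : 0 < m := by omega
    exact_mod_cast this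
  have hb01 : b = 0 ∨ b = 1 := by
    have h2 := gen_one_le_rip_self hYg hY0
    rw [hYY] at h2
    have h3 : (b : ℝ) ^ 2 ≤ b := by nlinarith
    have h4 : b ^ 2 ≤ b := by exact_mod_cast h3
    have h5 : 0 ≤ b := by nlinarith
    have h6 : b ≤ 1 := by nlinarith
    omega
  rcases hb01 with rfl | rfl
  · refine ⟨lam, hlam3, extend_coherent_with hS h1 hν₁ hmψ hlamS hlam1 hdeglam (X := X) ?_ ?_⟩
    · refine gen_classInner_eq_zero_of_rip hXg (hν₁.gen hmψ) ?_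
      rw [iso_zsmul hν₁.iso _ (mem_zspan hψ), rip_zsmul_right, hb]
      simp
    · rw [iso_zsmul hν₁.iso _ (mem_zspan hψ), hX]; abel
  · -- (9.11.8)
    exfalso
    have hYs : IsSignedIrr G (X - (1 : ℤ) • σ) := isSignedIrr_of_norm_one hYg (by
      rw [← ofReal_rip_self, hYY]; simp)
    have hWY : rip (τ α) (X - (1 : ℤ) • σ) = 0 := by
      have key : ∀ χ ∈ S₃, rip χ χ = 1 → rip (X - (1 : ℤ) • σ) (ν₃ χ) ≠ 0 →
          rip (τ α) (X - (1 : ℤ) • σ) = 0 := by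
        intro χ hχ hχ1 hne
        have hs : IsSignedIrr G (ν₃ χ) := isSignedIrr_of_norm_one (hν₃.gen (mem_zspan hχ)) (by
          rw [hν₃.inner (mem_zspan hχ) (mem_zspan hχ), ← ofReal_rip_self, hχ1]; simp)
        rcases hYs.eq_or_eq_neg_or_orth hs with h | h | h
        · rw [h, hW3 χ hχ]
        · rw [h, rip_neg_right, hW3 χ hχ, neg_zero]
        · exact (hne (rip_eq_zero_of h)).elim
      by_cases h : rip (X - (1 : ℤ) • σ) (ν₃ lam) = 0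
      · refine key _ hlamc (by rw [rip_conjFun, hlamlam]) fun h' => ?_
        rw [h, h'] at hY3
        norm_num at hY3
      · exact key _ hlam3 hlamlam h
    obtain ⟨x, hx⟩ := gen_rip_int hWg (hν₁.gen (mem_zspan hψ))
    have hWφ : ∀ φ ∈ T₁, rip (τ α) (ν₁ φ) = x + 1 - rip ψ φ := by
      intro φ hφ
      have h2 := hsub h1.subset hν₁ φ hφ ψ hψ (hdeg₁ φ hφ) α hα
      rw [hripα φ (h1.subset hφ), hripα ψ hψS, hnorm1 ψ hψ, hx] at h2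
      linarith
    have hWσ : rip (τ α) σ = 2 * m * (x + 1) - 1 := by
      rw [hσ, rip_sum_right, Finset.sum_congr rfl hWφ, Finset.sum_sub_distrib, Finset.sum_const,
        nsmul_eq_mul, hcardR, Finset.sum_eq_single_of_mem ψ hψ
          (fun φ hφ h => hne1 ψ hψ φ hφ h.symm), hnorm1 ψ hψ]
    have hWZ : rip (τ α) (τ (lam - (m : ℤ) • ψ)) = m := by
      rw [iso_rip hτ hα hβ, rip_sub_right, rip_zsmul_right, hripα lam hlamS, hripα ψ hψS,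
        hψ3 lam hlam3, hnorm1 ψ hψ]
      simp
    rw [rip_sub_right, rip_zsmul_right, hX, rip_add_right, rip_zsmul_right, hWZ, hx, hWσ] at hWY
    push_cast at hWY
    have h2 : (m : ℝ) * (x + 1) = 1 := by linarith
    have h3 : (m : ℤ) * (x + 1) = 1 := by exact_mod_cast h2
    have h4 := Int.eq_one_of_mul_eq_one_right (Int.natCast_nonneg m) h3
    exact hm (by exact_mod_cast h4)

end CL.PF
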