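import Cfsg.Agent.PF.A9_Lin
import Cfsg.Agent.PF.T4
import Cfsg.Agent.PF.SeqInd

/-! Peterfalvi (9.11.2) - (9.11.5).  Owner: helper54. -/

set_option autoImplicit false
set_option linter.unusedSectionVars false

namespace CL.PF

open Cfsg Subgroup BG CL.Char

section general
variable {L : Type*} [Group L] [Fintype L]

theorem card_sq_mul_inner_indFun_one (T : Subgroup L) :
    (Nat.card T : ℂ) ^ 2 * classInner (indFun T fun _ => 1) (indFun T fun _ => 1) =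
      ∑ x : L, (Nat.card ↥(T ⊓ cj x T) : ℂ) := by
  classical
  have h0 : (Nat.card T : ℂ) ≠ 0 := natCard_cast_ne_zero T
  rw [classInner_indFun_right T _ (indFun_isClassFunction T _), classInner_one_right]
  simp only [indFun_apply, ← Finset.mul_sum]
  rw [Finset.sum_comm, sq, mul_assoc, mul_inv_cancel_left₀ h0, mul_inv_cancel_left₀ h0]
  refine Finset.sum_congr rfl fun x _ => ?_
  simp only [extendByZero_apply, dite_eq_ite, Finset.sum_boole]
  rw [← card_subgroupOf_of_le (inf_le_left : T ⊓ cj x T ≤ T), Nat.card_eq_fintype_card,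
    Fintype.card_subtype]
  congr 2
  ext t
  simp [mem_subgroupOf, mem_cj]

theorem inner_indFun_one_seqIndD {K H T Y : Subgroup L} [K.Normal] [H.Normal] (hHT : H ≤ T)
    (hHK : H ≤ K) {χ : L → ℂ} (hχ : χ ∈ seqIndD K H Y) :
    classInner (indFun T fun _ => 1) χ = 0 := by
  by_contra h0
  obtain ⟨φ, hφ, h1, h2⟩ := exists_irr_of_inner_ne_zero (indFun_isClassFunction T _) h0
  obtain ⟨θ, hθ, hH, -, rfl⟩ := hχ
  rw [classInner_indFun_left K _ (irr_isClassFunction hφ), ne_eq, classInner_eq_zero_comm] at h2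
  exact hH ((inKer_iff_of_over hHK hθ hφ h2).2 fun a ha =>
    char_apply_eq_of_inner_ne_zero (char_indFun_one T) hφ h1 ((inKer_const H 1).indFun hHT ha))

theorem seqIndD_eq_zero_of_cent {K H Y : Subgroup L} [H.Normal] {χ : L → ℂ}
    (hχ : χ ∈ seqIndD K H Y) {g : L} (hg : ∀ x ∈ H, g * x = x * g → x = 1) : χ g = 0 := by
  obtain ⟨θ, hθ, hH, -, rfl⟩ := hχ
  refine indFun_eq_zero_of_forall K θ fun y hy => irr_eq_zero_of_cent (H.subgroupOf K) hθ
    (fun e => hH (inKer_iff_subgroupOf.2 e)) fun z hz e => Subtype.ext ?_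
  have e' : (z : L) * (y * g * y⁻¹) = y * g * y⁻¹ * z := congrArg Subtype.val e
  have := hg _ (Normal.conj_mem' inferInstance (z : L) hz y) (by
    calc g * (y⁻¹ * z * y) = y⁻¹ * (y * g * y⁻¹ * z) * y := by group
      _ = y⁻¹ * z * y * g := by rw [← e']; group)
  simpa [mul_assoc] using congrArg (fun t => y * t * y⁻¹) this

theorem card_finset_le_natCard {α : Type*} (s : Finset α) (P : α → Prop) [Finite {x // P x}]
    (h : ∀ x ∈ s, P x) : s.card ≤ Nat.card {x // P x} := by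
  rw [← Nat.card_eq_finsetCard]
  exact Nat.card_le_card_of_injective (fun x : s => (⟨x, h x x.2⟩ : {x // P x}))
    fun x y e => Subtype.ext (congrArg (fun t : {x // P x} => t.1) e)

theorem t9_11_arith {q a : ℕ} (hq : 3 ≤ q) (ha : 0 < a) :
    1 + 2 * q * a + q ^ 2 * a ^ 2 + (q + 2) * a ^ 3 < (2 * a + 1) ^ q := by
  induction q, hq using Nat.le_induction with
  | base => have := pow_pos ha 3; nlinarith
  | succ q hq ih =>
    have h1 := Nat.mul_lt_mul_of_pos_right ih (by omega : 0 < 2 * a + 1)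
    rw [pow_succ (2 * a + 1)]
    refine lt_of_le_of_lt ?_ h1
    have h2 : a ^ 2 ≤ q * a ^ 2 := Nat.le_mul_of_pos_left _ (by omega)
    have h3 : a ^ 3 ≤ q ^ 2 * a ^ 3 := Nat.le_mul_of_pos_left _ (by positivity)
    nlinarith [Nat.zero_le ((q + 2) * a ^ 4)]

end general

variable {M X₁ X₂ : Type*} [Group M] [Fintype M] [Group X₁] [Group X₂] [Finite X₁] [Finite X₂]
  {H U H₀ : Subgroup M} [H₀.Normal] {f₁ : X₁ →* M} {f₂ : X₂ →* M}

theorem Hyp92.zspanOn_subset_genOn (h : Hyp92 H U f₁ f₂) :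
    zspanOn (seqIndD (commutator M) H ⊥) {1}ᶜ ⊆
      genOn M {g | g ≠ 1 ∧ g ∈ commutator M ∧ ∃ x ∈ H, x ≠ 1 ∧ g * x = x * g} := by
  have := h.H_normal
  rw [zspanOn_one_eq (A := {g | g ≠ 1 ∧ g ∈ commutator M ∧ ∃ x ∈ H, x ≠ 1 ∧ g * x = x * g})
    (fun e => e.1 rfl) fun χ hχ g hg hA => ?_]
  · exact PF.zspanOn_subset_genOn (fun χ hχ => seqIndD_gen hχ) _
  · by_cases hK : g ∈ commutator M
    · exact seqIndD_eq_zero_of_cent hχ fun x hx e => by_contra fun hx1 => hA ⟨hg, hK, x, hx, hx1, e⟩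
    · exact seqIndD_apply_eq_zero hχ hK

theorem Hyp95.der_H_sup_le (h : Hyp95 H U H₀ f₁ f₂) {V : Subgroup M} (hV : V ≤ centMod H H₀)
    [hN : (H₀ ⊔ ⁅V, V⁆).Normal] : ⁅H ⊔ V, H ⊔ V⁆ ≤ H₀ ⊔ ⁅V, V⁆ := by
  have h1 : ⁅H ⊔ V, H⁆ ≤ H₀ ⊔ ⁅V, V⁆ :=
    (le_centMod_iff.1 (sup_le h.H_le_centMod hV)).trans le_sup_left
  have h2 : ⁅H ⊔ V, V⁆ ≤ H₀ ⊔ ⁅V, V⁆ := le_centMod_iff.1 (sup_le (le_centMod_iff.2 (by
    rw [commutator_comm]; exact (le_centMod_iff.1 hV).trans le_sup_left))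
    (le_centMod_iff.2 le_sup_right))
  rw [commutator_comm] at h1 h2
  exact le_centMod_iff.1 (sup_le (le_centMod_iff.2 h1) (le_centMod_iff.2 h2))

theorem Hyp95.deg_le (h : Hyp95 H U H₀ f₁ f₂) {χ : M → ℂ}
    (hχ : χ ∈ seqIndD (commutator M) H (H₀ ⊔ ⁅cOf H U H₀, cOf H U H₀⁆)) :
    (χ 1).re ≤ ((Nat.card X₁ * uOf H U H₀ : ℕ) : ℝ) := by
  have := h.normal_H₀C'
  have h1 := seqIndD_deg_sq_le (C := H ⊔ cOf H U H₀) (D := H ⊔ cOf H U H₀)
    (sup_le h.H_le (inf_le_left.trans h.U_le))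
    (fun d hd c hc => h.der_H_sup_le inf_le_right (commutator_mem_commutator hd hc)) hχ
  rw [relIndex_self, h.index_HC.1, Nat.cast_one, mul_one] at h1
  exact (abs_le_of_sq_le_sq' h1 (Nat.cast_nonneg _)).2

variable {H₁ : Subgroup M}

theorem NonGalois9.sup_eq (h : Hyp95 H U H₀ f₁ f₂) (h₁ : NonGalois9 H U H₀ f₁ H₁) :
    H ⊔ cOf H₁ U H₀ = commutator M ⊓ centMod H₁ H₀ := by
  have := h.H_normal
  rw [← h.sup_eq, sup_inf_dedekind (h.H_le_centMod.trans (centMod_anti h₁.le))]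

/-- A member of `S(H₀ C')` of degree `q |U : U₁ ∩ U₁ ^ w|`. -/
theorem NonGalois9.exists_mem_deg (h : Hyp95 H U H₀ f₁ f₂) (h₁ : NonGalois9 H U H₀ f₁ H₁)
    (w : X₁) : ∃ χ ∈ seqIndD (commutator M) H (H₀ ⊔ ⁅cOf H U H₀, cOf H U H₀⁆),
      χ 1 = ((Nat.card X₁ * (cOf H₁ U H₀ ⊓ centMod (cj (f₁ w) H₁) H₀).relIndex U : ℕ) : ℂ) := by
  have := h.H_normal
  have := h.normal_H₀C'
  obtain ⟨θ, hθ, hS, hS'⟩ := h₁.exists_lin_supp h {1, w}
  set V := cOf H₁ U H₀ ⊓ centMod (cj (f₁ w) H₁) H₀ with hV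
  have hVU : V ≤ U := inf_le_left.trans inf_le_left
  have hstab : ∀ u ∈ U, (∀ y : H, θ ⟨u * y * u⁻¹, h.H_normal.conj_mem _ y.2 u⟩ = θ y) ↔ u ∈ V := by
    intro u hu
    rw [h₁.stab_iff h hθ hS hS' (h.U_le hu)]
    simp [hV, hu, cj_one]
  obtain ⟨ξ, hξH, hξV⟩ := exists_hom_sup_of_sd (H := H) (V := V) le_normalizer_of_normal
    (eq_bot_iff.2 (h.inf_eq ▸ inf_le_inf_left _ hVU)) θ
    (fun v hv => (hstab v (hVU hv)).2 hv) 1
  have hTK : H ⊔ V ≤ commutator M := sup_le h.H_le (hVU.trans h.U_le)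
  have hirr := irr_relInd_linear le_sup_left hTK ξ fun k hk hfix => by
    obtain ⟨a, ha, u, hu, rfl⟩ := h.mem_der_iff.1 hk
    refine mul_mem (mem_sup_left ha) (mem_sup_right ((hstab u hu).1 fun y => ?_))
    have h1 := hfix y y.2
    have h2 : (⟨a * u * y * (a * u)⁻¹, mem_sup_left (h.H_normal.conj_mem _ y.2 _)⟩ : ↥(H ⊔ V)) =
        ⟨a, mem_sup_left ha⟩ * ⟨u * y * u⁻¹, mem_sup_left (h.H_normal.conj_mem _ y.2 _)⟩ *
          ⟨a, mem_sup_left ha⟩⁻¹ := by ext; simp [mul_assoc]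
    rw [h2, map_mul, map_mul, map_inv, mul_inv_cancel_comm, hξH y] at h1
    rw [← h1, ← hξH]
  have hCV : cOf H U H₀ ≤ V := le_inf (inf_le_inf_left _ (centMod_anti h₁.le))
    (inf_le_right.trans (centMod_anti (h.cj_le_H h₁.le _)))
  refine ⟨_, indFun_mem_seqIndD hirr ?_ ?_, ?_⟩
  · rw [inKer_relInd_iff le_sup_left hTK le_normalizer_of_normal (isCharacter_linear ξ)]
    intro e
    refine h₁.not_le h fun y hy => hS 1 (Or.inl rfl) ⟨y, h₁.le hy⟩ (by simpa [cj_one] using hy) ?_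
    have := e ⟨y, mem_sup_left (h₁.le hy)⟩ (h₁.le hy)
    rw [← hξH]
    exact Units.ext (by simpa using this)
  · rw [inKer_relInd_iff (sup_le_sup h.H₀_le (h.der_cOf_le.trans hCV)) hTK
      le_normalizer_of_normal (isCharacter_linear ξ)]
    refine InKer.sup (isCharacter_linear ξ) (h.H₀_le.trans le_sup_left)
      ((h.der_cOf_le.trans hCV).trans le_sup_right) (fun y hy => ?_) fun y hy => ?_
    · have := hξH ⟨y, h.H₀_le hy⟩
      rw [hθ _ hy] at this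
      simp [show ξ y = 1 from this]
    · have := hξV ⟨y, hCV (h.der_cOf_le hy)⟩
      simp [show ξ y = 1 from this]
  · rw [indFun_relInd hTK, indFun_one, h.index_H_sup hVU]; simp

/-- (9.11.2) -/
theorem NonGalois9.inf_cj_eq (h : Hyp95 H U H₀ f₁ f₂) (h₁ : NonGalois9 H U H₀ f₁ H₁)
    (hne : uOf H U H₀ ≠ uOf H₁ U H₀)
    (hdeg : ∀ χ ∈ seqIndD (commutator M) H (H₀ ⊔ ⁅cOf H U H₀, cOf H U H₀⁆),
      χ 1 = ((Nat.card X₁ * uOf H₁ U H₀ : ℕ) : ℂ) ∨ χ 1 = ((Nat.card X₁ * uOf H U H₀ : ℕ) : ℂ))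
    {w : X₁} (hw : w ≠ 1) : cOf H₁ U H₀ ⊓ centMod (cj (f₁ w) H₁) H₀ = cOf H U H₀ := by
  obtain ⟨χ, hχ, hχ1⟩ := h₁.exists_mem_deg h w
  set V := cOf H₁ U H₀ ⊓ centMod (cj (f₁ w) H₁) H₀ with hV
  have hCV : cOf H U H₀ ≤ V := le_inf (inf_le_inf_left _ (centMod_anti h₁.le))
    (inf_le_right.trans (centMod_anti (h.cj_le_H h₁.le _)))
  have key : ∀ A B : Subgroup M, A ≤ B → B ≤ U → A.relIndex U = B.relIndex U → B ≤ A := by
    intro A B hAB hB e
    have h1 := relIndex_mul_relIndex A B U hAB hB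
    rw [e] at h1
    exact relIndex_eq_one.1 (Nat.eq_of_mul_eq_mul_right
      (Nat.pos_of_ne_zero (index_ne_zero_of_finite (H := B.subgroupOf U)))
      (h1.trans (one_mul _).symm))
  rcases hdeg χ hχ with e | e
  · exfalso
    rw [hχ1, Nat.cast_inj] at e
    have h2 := (key _ _ inf_le_left inf_le_left
      (Nat.eq_of_mul_eq_mul_left h.prime.pos e)).trans inf_le_right
    have h3 : f₁ w ∈ normalizer (cOf H₁ U H₀ : Set M) := by
      rw [← inv_mem_iff]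
      refine mem_norm_of_cj_le (cj_le_iff.2 fun x hx => ⟨?_, ?_⟩)
      · simpa using h.conj_inv_mem_U w hx.1
      · simpa using mem_centMod_cj.1 (h2 hx)
    have h4 : cOf H₁ U H₀ ≤ cOf H U H₀ := fun x hx => ⟨hx.1, (h₁.mem_centMod_iff h).2 fun y => by
      obtain ⟨n, rfl⟩ := h.exists_pow_eq hw y
      rw [mem_centMod_cj, map_pow]
      exact (conj_mem_of_mem_norm' (pow_mem h3 n) hx).2⟩
    exact hne (congrArg (relIndex · U)
      (le_antisymm (inf_le_inf_left _ (centMod_anti h₁.le)) h4))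
  · rw [hχ1, Nat.cast_inj] at e
    exact le_antisymm (key _ _ hCV (inf_le_left.trans inf_le_left)
      (Nat.eq_of_mul_eq_mul_left h.prime.pos e).symm) hCV

theorem Hyp92.sum_eq_sum_der (h : Hyp92 H U f₁ f₂) [Fintype X₁] (F : M → ℂ) (F' : X₁ → ℂ)
    (hF : ∀ k ∈ commutator M, ∀ x, F (k * f₁ x) = F' x) :
    ∑ g, F g = Nat.card (commutator M) * ∑ x, F' x := by
  have hb : Function.Bijective fun p : commutator M × X₁ => (p.1 : M) * f₁ p.2 := by
    refine Function.Surjective.bijective_of_nat_card_le (fun g => ?_) ?_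
    · obtain ⟨k, hk, x, rfl⟩ := h.exists_der_mul g
      exact ⟨(⟨k, hk⟩, x), rfl⟩
    · rw [Nat.card_prod, h.card_M, h.card_der]
  rw [← hb.sum_comp F, Fintype.sum_prod_type]
  simp only [fun (k : commutator M) x => hF k k.2 x, Finset.sum_const, Finset.card_univ,
    nsmul_eq_mul, Nat.card_eq_fintype_card]

/-- (9.11.4), the norm of `γ` -/
theorem NonGalois9.norm_gamma (h : Hyp95 H U H₀ f₁ f₂) (h₁ : NonGalois9 H U H₀ f₁ H₁)
    (h2 : ∀ w : X₁, w ≠ 1 → cOf H₁ U H₀ ⊓ centMod (cj (f₁ w) H₁) H₀ = cOf H U H₀) :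
    (uOf H U H₀ : ℂ) * classInner (indFun (H ⊔ cOf H₁ U H₀) fun _ => 1)
        (indFun (H ⊔ cOf H₁ U H₀) fun _ => 1) =
      uOf H U H₀ * uOf H₁ U H₀ + (Nat.card X₁ - 1) * uOf H₁ U H₀ ^ 2 := by
  classical
  have := h.H_normal
  have := Fintype.ofFinite X₁
  set T := H ⊔ cOf H₁ U H₀ with hT
  have h0 : (Nat.card T : ℂ) ≠ 0 := natCard_cast_ne_zero T
  have h3 := card_sq_mul_inner_indFun_one T
  rw [h.sum_eq_sum_der _ (fun x => if x = 1 then (Nat.card T : ℂ) else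
    Nat.card ↥(H ⊔ cOf H U H₀)) (fun k hk x => ?_)] at h3
  · rw [← Finset.add_sum_erase _ _ (Finset.mem_univ (1 : X₁)), if_pos rfl,
      Finset.sum_congr rfl fun x hx => if_neg (Finset.ne_of_mem_erase hx), Finset.sum_const,
      Finset.card_erase_of_mem (Finset.mem_univ _), Finset.card_univ, ← Nat.card_eq_fintype_card,
      nsmul_eq_mul, Nat.cast_sub h.prime.one_le, Nat.cast_one] at h3
    have h4 := card_eq_card_mul_relIndex (sup_le h.H_le (inf_le_left.trans h.U_le) :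
      T ≤ commutator M)
    have h5 := card_eq_card_mul_relIndex (sup_le h.H_le (inf_le_left.trans h.U_le) :
      H ⊔ cOf H U H₀ ≤ commutator M)
    rw [h.relIndex_H_sup inf_le_left] at h4 h5
    have h4' : (Nat.card (commutator M) : ℂ) = Nat.card T * uOf H₁ U H₀ := by exact_mod_cast h4
    have h5' : (Nat.card (commutator M) : ℂ) = Nat.card ↥(H ⊔ cOf H U H₀) * uOf H U H₀ := by
      exact_mod_cast h5
    apply mul_left_cancel₀ (pow_ne_zero 2 h0)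
    linear_combination (uOf H U H₀ : ℂ) * h3 + ((uOf H U H₀ : ℂ) * Nat.card T +
      (Nat.card X₁ - 1) * (Nat.card (commutator M) + Nat.card T * uOf H₁ U H₀)) * h4' -
      (Nat.card X₁ - 1) * (Nat.card (commutator M) : ℂ) * h5'
  · have e : cj (k * f₁ x) T = commutator M ⊓ centMod (cj (f₁ x) H₁) H₀ := by
      rw [hT, h₁.sup_eq h, cj_inf, cj_of_normal, cj_centMod, cj_mul,
        cj_eq_of_mem_norm (h₁.der_norm_cj h x hk)]
    simp only [e]
    split_ifs with hx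
    · rw [hx, map_one, cj_one, ← h₁.sup_eq h, inf_idem]
    · rw [← inf_assoc, inf_eq_left.2 (sup_le h.H_le (inf_le_left.trans h.U_le) :
        H ⊔ cOf H₁ U H₀ ≤ commutator M), sup_inf_dedekind (h.H_le_centMod.trans
        (centMod_anti (h.cj_le_H h₁.le _))), h2 x hx]

/-- elements centralising a section `H₁ / H₀` of `H` have a non-trivial centraliser in `H` -/
theorem exists_cent_of_mem_centMod (hle : H₁ ≤ H) (h0 : H₀ ≤ H) (hne : ¬ H₁ ≤ H₀) {g : M}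
    (hg : g ∈ centMod H₁ H₀) : ∃ x ∈ H, x ≠ 1 ∧ g * x = x * g := by
  by_contra! hc
  obtain ⟨s, hs, hs₀⟩ := not_forall₂.1 hne
  obtain ⟨m, hm, e⟩ := exists_conj_eq_mul_of_cent H₀ (g := g)
    (fun x hx e => by_contra fun hx1 => hc x (h0 hx) hx1 e.symm)
    (inv_mem (mem_centMod.1 hg s hs))
  have h1 : m⁻¹ * s = 1 := by
    by_contra h1
    refine hc _ (mul_mem (inv_mem (h0 hm)) (hle hs)) h1 ?_
    calc g * (m⁻¹ * s) = m⁻¹ * (m * g * m⁻¹) * s := by group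
      _ = m⁻¹ * s * g := by rw [e]; group
  exact hs₀ (inv_mul_eq_one.1 h1 ▸ hm)

/-- the reducible members of `S(H₀)` -/
theorem Hyp95.card_red_le (h : Hyp95 H U H₀ f₁ f₂) (s : Finset (M → ℂ))
    (hs : ∀ φ ∈ s, φ ∈ seqIndD (commutator M) H H₀ ∧ ¬ IsIrrCharacter M φ) :
    s.card ≤ pOf H H₀ - 1 := by
  classical
  have h1 := h.primeTI.card_inKer_chiRes H₀ (h.H₀_le.trans h.H_le)
  rw [h.relIndex_W₂, Nat.card_eq_fintype_card, Fintype.card_subtype] at h1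
  have h2 : (1 : X₂ →* ℂˣ) ∈ Finset.univ.filter
      fun j : X₂ →* ℂˣ => InKer H₀ (chiRes (commutator M) f₁ f₂ j) := by
    simp [h.primeTI.chiRes_one, inKer_const]
  rw [← h1, ← Finset.card_erase_of_mem h2]
  refine le_trans (Finset.card_le_card fun φ hφ => ?_) (Finset.card_image_le (f := muCol f₁ f₂))
  obtain ⟨⟨θ, hθ, hH, hH₀, rfl⟩, hn⟩ := hs φ hφ
  obtain ⟨j, rfl⟩ := (h.primeTI.irr_cases hθ).resolve_right fun e => hn e.1
  refine Finset.mem_image.2 ⟨j, ?_, (h.primeTI.indFun_chiRes j).symm⟩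
  simp only [Finset.mem_erase, Finset.mem_filter, Finset.mem_univ, true_and]
  exact ⟨fun e => hH (by rw [e, h.primeTI.chiRes_one]; exact inKer_const _ _), hH₀⟩

theorem Hyp92.rip_of_not_irr (h : Hyp92 H U f₁ f₂) {Y : Subgroup M} {φ : M → ℂ}
    (hφ : φ ∈ seqIndD (commutator M) H Y) (hn : ¬ IsIrrCharacter M φ) :
    rip φ φ = Nat.card X₁ := by
  obtain ⟨θ, hθ, -, -, rfl⟩ := hφ
  obtain ⟨j, rfl⟩ := (h.primeTI.irr_cases hθ).resolve_right fun e => hn e.1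
  rw [h.primeTI.indFun_chiRes, rip_def, h.primeTI.muCol_inner_self, Complex.natCast_re]

/-- (9.11.2) - (9.11.5) -/
theorem Hyp95.t9_11_key (h : Hyp95 H U H₀ f₁ f₂) (h₁ : NonGalois9 H U H₀ f₁ H₁)
    (h2a : pOf H H₀ - 1 = 2 * uOf H₁ U H₀) (hne : uOf H U H₀ ≠ uOf H₁ U H₀)
    (hdeg : ∀ χ ∈ seqIndD (commutator M) H (H₀ ⊔ ⁅cOf H U H₀, cOf H U H₀⁆),
      χ 1 = ((Nat.card X₁ * uOf H₁ U H₀ : ℕ) : ℂ) ∨ χ 1 = ((Nat.card X₁ * uOf H U H₀ : ℕ) : ℂ))
    (hS1 : uOf H₁ U H₀ * Nat.card {χ : M → ℂ //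
      χ ∈ seqIndD (commutator M) H (H₀ ⊔ ⁅cOf H U H₀, cOf H U H₀⁆) ∧
        χ 1 = ((Nat.card X₁ * uOf H₁ U H₀ : ℕ) : ℂ)} ≤ 2 * uOf H U H₀)
    (hirr : ∀ χ ∈ seqIndD (commutator M) H (H₀ ⊔ ⁅cOf H U H₀, cOf H U H₀⁆),
      χ 1 = ((Nat.card X₁ * uOf H₁ U H₀ : ℕ) : ℂ) → IsIrrCharacter M χ)
    {ψ : M → ℂ} (hψ : ψ ∈ seqIndD (commutator M) H (H₀ ⊔ ⁅cOf H U H₀, cOf H U H₀⁆))
    (hψ1 : ψ 1 = ((Nat.card X₁ * uOf H₁ U H₀ : ℕ) : ℂ)) :
    ∃ α ∈ genOn M {g | g ≠ 1 ∧ g ∈ commutator M ∧ ∃ x ∈ H, x ≠ 1 ∧ g * x = x * g},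
      (∀ χ ∈ seqIndD (commutator M) H ⊥, classInner α χ = -classInner ψ χ) ∧
      (classInner α α).re < Nat.card {χ : M → ℂ //
        χ ∈ seqIndD (commutator M) H (H₀ ⊔ ⁅cOf H U H₀, cOf H U H₀⁆) ∧ IsIrrCharacter M χ ∧
          χ 1 = ((Nat.card X₁ * uOf H U H₀ : ℕ) : ℂ)} := by
  classical
  have := h.H_normal
  have := h.normal_H₀C
  have h2 := fun w hw => h₁.inf_cj_eq h hne hdeg (w := w) hw
  have hγ := h₁.norm_gamma h h2
  have hTK : H ⊔ cOf H₁ U H₀ ≤ commutator M := sup_le h.H_le (inf_le_left.trans h.U_le)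
  have ho : ∀ {Y : Subgroup M} {χ : M → ℂ}, χ ∈ seqIndD (commutator M) H Y →
      classInner (indFun (H ⊔ cOf H₁ U H₀) fun _ => 1) χ = 0 := fun hχ =>
    inner_indFun_one_seqIndD le_sup_left h.H_le hχ
  refine ⟨indFun (H ⊔ cOf H₁ U H₀) (fun _ => 1) - ψ,
    ⟨gen_sub (gen_of_char (char_indFun_one _)) (seqIndD_gen hψ), fun g hg => ?_⟩,
    fun χ hχ => by rw [classInner_sub_left, ho hχ, zero_sub], ?_⟩
  · rw [Pi.sub_apply, sub_eq_zero]
    by_cases hg1 : g = 1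
    · rw [hg1, hψ1, indFun_one, h.index_H_sup inf_le_left, mul_one]
    by_cases hK : g ∈ commutator M
    · rw [seqIndD_eq_zero_of_cent hψ fun x hx e => by_contra fun hx1 => hg ⟨hg1, hK, x, hx, hx1, e⟩]
      refine indFun_eq_zero_of_not_conj _ _ fun y hy => ?_
      rw [h₁.sup_eq h] at hy
      obtain ⟨x, hx, hx1, e⟩ := exists_cent_of_mem_centMod h₁.le h.H₀_le (h₁.not_le h) hy.2
      refine hg ⟨hg1, hK, _, Normal.conj_mem' inferInstance _ hx y, fun e => hx1 ?_, ?_⟩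
      · simpa [mul_assoc] using congrArg (fun t => y * t * y⁻¹) e
      · calc g * (y⁻¹ * x * y) = y⁻¹ * (y * g * y⁻¹ * x) * y := by group
          _ = y⁻¹ * x * y * g := by rw [e]; group
    · rw [seqIndD_apply_eq_zero hψ hK, indFun_eq_zero_of_le_normal _ hTK _ hK]
  rw [classInner_sub_left, classInner_sub_right, classInner_sub_right, ho hψ,
    classInner_eq_zero_comm.1 (ho hψ), irr_inner_self (hirr ψ hψ hψ1)]
  have hγ' := congrArg Complex.re hγ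
  simp only [Complex.mul_re, Complex.natCast_re, Complex.natCast_im, zero_mul, sub_zero,
    Complex.add_re, mul_zero, Complex.sub_re, Complex.one_re, Complex.sub_im, Complex.one_im,
    ← Nat.cast_pow] at hγ'
  simp only [sub_zero, zero_sub, sub_neg_eq_add, Complex.add_re, Complex.one_re]
  generalize (classInner (indFun (H ⊔ cOf H₁ U H₀) fun _ => 1)
    (indFun (H ⊔ cOf H₁ U H₀) fun _ => 1)).re = N at hγ'
  have hsub : seqIndD (commutator M) H (H₀ ⊔ cOf H U H₀) ⊆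
      seqIndD (commutator M) H (H₀ ⊔ ⁅cOf H U H₀, cOf H U H₀⁆) :=
    seqIndD_mono le_rfl (sup_le_sup_left h.der_cOf_le _)
  have hua : uOf H U H₀ ≤ uOf H₁ U H₀ ^ 2 := by
    have := Finite.one_lt_card_iff_nontrivial.1 h.prime.one_lt
    obtain ⟨w, hw⟩ := exists_ne (1 : X₁)
    have h3 := relIndex_inf_le (H := cOf H₁ U H₀) (K := centMod (cj (f₁ w) H₁) H₀) (L := U)
    rw [h2 w hw, ← inf_relIndex_left U (centMod (cj (f₁ w) H₁) H₀)] at h3
    rw [sq]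
    exact h3.trans (Nat.mul_le_mul_left _ (uOf_cj (h.f₁_mem_norm w)).le)
  obtain ⟨T, hT⟩ := (seqIndD_finite (commutator M) H (H₀ ⊔ cOf H U H₀)).exists_finset_coe
  have hTm : ∀ φ ∈ T, φ ∈ seqIndD (commutator M) H (H₀ ⊔ cOf H U H₀) := fun φ hφ => hT ▸ hφ
  have hYK : H₀ ⊔ cOf H U H₀ ≤ H ⊔ cOf H U H₀ := sup_le_sup_right h.H₀_le _
  have hCK : H ⊔ cOf H U H₀ ≤ commutator M := sup_le h.H_le (inf_le_left.trans h.U_le)
  have hsum := sum_seqIndD_deg_sq' h.H_le (hYK.trans hCK) T hT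
  rw [← sup_assoc, sup_eq_left.2 h.H₀_le, ← relIndex_mul_relIndex _ _ _ hYK hCK, h.index_HC.2.1,
    h.index_HC.2.2, h.index_der] at hsum
  have hf : ∀ P : (M → ℂ) → Prop, Finite {χ : M → ℂ //
      χ ∈ seqIndD (commutator M) H (H₀ ⊔ ⁅cOf H U H₀, cOf H U H₀⁆) ∧ P χ} := fun P =>
    ((seqIndD_finite _ _ _).subset fun _ hx => hx.1).to_subtype
  have hf1 := hf fun χ => χ 1 = ((Nat.card X₁ * uOf H₁ U H₀ : ℕ) : ℂ)
  have hf4 := hf fun χ => IsIrrCharacter M χ ∧ χ 1 = ((Nat.card X₁ * uOf H U H₀ : ℕ) : ℂ)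
  have c1 := card_finset_le_natCard
    (T.filter fun χ => χ 1 = ((Nat.card X₁ * uOf H₁ U H₀ : ℕ) : ℂ))
    (fun χ => χ ∈ seqIndD (commutator M) H (H₀ ⊔ ⁅cOf H U H₀, cOf H U H₀⁆) ∧
      χ 1 = ((Nat.card X₁ * uOf H₁ U H₀ : ℕ) : ℂ))
    fun χ hχ => ⟨hsub (hTm _ (Finset.mem_filter.1 hχ).1), (Finset.mem_filter.1 hχ).2⟩
  have c4 := card_finset_le_natCard
    (T.filter fun χ => IsIrrCharacter M χ ∧ χ 1 = ((Nat.card X₁ * uOf H U H₀ : ℕ) : ℂ))
    (fun χ => χ ∈ seqIndD (commutator M) H (H₀ ⊔ ⁅cOf H U H₀, cOf H U H₀⁆) ∧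
      IsIrrCharacter M χ ∧ χ 1 = ((Nat.card X₁ * uOf H U H₀ : ℕ) : ℂ))
    fun χ hχ => ⟨hsub (hTm _ (Finset.mem_filter.1 hχ).1), (Finset.mem_filter.1 hχ).2⟩
  have cr := h.card_red_le (T.filter fun χ => ¬ IsIrrCharacter M χ) fun χ hχ =>
    ⟨seqIndD_mono le_rfl le_sup_left (hTm _ (Finset.mem_filter.1 hχ).1),
      (Finset.mem_filter.1 hχ).2⟩
  have hq0 : (0 : ℝ) < Nat.card X₁ := by exact_mod_cast h.prime.pos
  have hle : ∑ φ ∈ T, (φ 1).re ^ 2 / rip φ φ ≤ ∑ φ ∈ T,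
      ((if φ 1 = ((Nat.card X₁ * uOf H₁ U H₀ : ℕ) : ℂ) then
        ((Nat.card X₁ : ℝ) * uOf H₁ U H₀) ^ 2 else 0) +
      (if IsIrrCharacter M φ ∧ φ 1 = ((Nat.card X₁ * uOf H U H₀ : ℕ) : ℂ) then
        ((Nat.card X₁ : ℝ) * uOf H U H₀) ^ 2 else 0) +
      (if ¬ IsIrrCharacter M φ then (Nat.card X₁ : ℝ) * uOf H U H₀ ^ 2 else 0)) := by
    refine Finset.sum_le_sum fun φ hφ => ?_
    have hφ' := hsub (hTm φ hφ)
    by_cases hi : IsIrrCharacter M φ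
    · rw [rip_def, irr_inner_self hi, Complex.one_re, div_one, if_neg (not_not.2 hi), add_zero]
      rcases hdeg φ hφ' with e | e
      · rw [if_pos e, e, Complex.natCast_re, Nat.cast_mul]
        exact le_add_of_nonneg_right (by positivity)
      · rw [if_pos (And.intro hi e), e, Complex.natCast_re, Nat.cast_mul]
        exact le_add_of_nonneg_left (by positivity)
    · rw [h.rip_of_not_irr hφ' hi, if_pos hi,
        (hdeg φ hφ').resolve_left fun e => hi (hirr φ hφ' e), Complex.natCast_re, Nat.cast_mul]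
      refine le_trans (le_of_eq ?_) (le_add_of_nonneg_left (by positivity))
      field_simp
  simp only [Finset.sum_add_distrib, ← Finset.sum_filter, Finset.sum_const, nsmul_eq_mul] at hle
  rw [hsum] at hle
  have c1' := (Nat.mul_le_mul_left _ c1).trans hS1
  rw [h2a] at cr
  have hp : pOf H H₀ = 2 * uOf H₁ U H₀ + 1 := by have := h.three_le_p; omega
  have har := t9_11_arith h.three_le_q (zero_lt_one.trans h₁.one_lt)
  rw [← hp] at har
  have hu0 : (0 : ℝ) < uOf H U H₀ := by exact_mod_cast zero_lt_one.trans h.uOf_facts.1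
  by_contra! hc
  generalize Nat.card {χ : M → ℂ //
    χ ∈ seqIndD (commutator M) H (H₀ ⊔ ⁅cOf H U H₀, cOf H U H₀⁆) ∧ IsIrrCharacter M χ ∧
      χ 1 = ((Nat.card X₁ * uOf H U H₀ : ℕ) : ℂ)} = n4 at c4 hc
  generalize (T.filter fun χ => χ 1 = ((Nat.card X₁ * uOf H₁ U H₀ : ℕ) : ℂ)).card = t1 at c1' hle
  generalize (T.filter fun χ => IsIrrCharacter M χ ∧
    χ 1 = ((Nat.card X₁ * uOf H U H₀ : ℕ) : ℂ)).card = t4 at c4 hle
  generalize (T.filter fun χ => ¬ IsIrrCharacter M χ).card = tr at cr hle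
  generalize pOf H H₀ ^ Nat.card X₁ = P at har hle
  generalize uOf H U H₀ = u at *
  generalize uOf H₁ U H₀ = a at *
  generalize Nat.card X₁ = q at *
  have c1r : (a : ℝ) * t1 ≤ 2 * u := by exact_mod_cast c1'
  have c4r : (t4 : ℝ) ≤ N + 1 := le_trans (by exact_mod_cast c4) hc
  have crr : (tr : ℝ) ≤ 2 * a := by exact_mod_cast cr
  have huar : (u : ℝ) ≤ a ^ 2 := by exact_mod_cast hua
  have harr : (1 : ℝ) + 2 * q * a + q ^ 2 * a ^ 2 + (q + 2) * a ^ 3 < P := by exact_mod_cast har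
  push_cast at hle hγ'
  have ha0 : (0 : ℝ) ≤ a := Nat.cast_nonneg _
  have e1 : (t1 : ℝ) * (q * a) ^ 2 ≤ q * u * (2 * q * a) := by
    have := mul_le_mul_of_nonneg_left c1r (by positivity : (0 : ℝ) ≤ q ^ 2 * a)
    linarith
  have e4 : (t4 : ℝ) * (q * u) ^ 2 ≤ q * u * (q * (u * a + (q - 1) * a ^ 2 + u)) := by
    have := mul_le_mul_of_nonneg_left c4r (by positivity : (0 : ℝ) ≤ (q * u) ^ 2)
    rw [← hγ']
    linarith
  have er : (tr : ℝ) * (q * u ^ 2) ≤ q * u * (2 * a * u) := by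
    have := mul_le_mul_of_nonneg_left crr (by positivity : (0 : ℝ) ≤ q * u ^ 2)
    linarith
  have e5 : (q : ℝ) * u * (P - 1) ≤
      q * u * (2 * q * a + q * (u * a + (q - 1) * a ^ 2 + u) + 2 * a * u) := by linarith
  have e6 := le_of_mul_le_mul_left e5 (by positivity)
  have e7 := mul_le_mul_of_nonneg_left huar (by positivity : (0 : ℝ) ≤ q * a + q + 2 * a)
  linarith

end CL.PF
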