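import Cfsg.Agent.Base
import Cfsg.Agent.PF.SeqInd
import Cfsg.Agent.PF.CohExt
import Cfsg.Agent.PF.CohIrr
import Cfsg.Agent.PGrp.ClassBound

/-!
# Peterfalvi (6.2), (6.3), (6.5), (6.6)

The descent theorems are proved for every set `S` with the extension property (5.6)
(`CohExtendable`): coherence systems, and sets of irreducible characters.
-/

set_option autoImplicit false

open Cfsg CL.Char
open scoped ComplexConjugate

namespace CL.PF

/-! ### group-theoretic preliminaries -/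

section Groups
variable {L : Type*} [Group L] {K H M A N : Subgroup L}

theorem isNilpotent_map_mk_of_quot [M.Normal] [(M.subgroupOf H).Normal]
    (h : Group.IsNilpotent (H ⧸ M.subgroupOf H)) :
    Group.IsNilpotent (H.map (QuotientGroup.mk' M)) := by
  let f := (QuotientGroup.mk' M).subgroupMap H
  refine Group.nilpotent_of_surjective (QuotientGroup.lift (M.subgroupOf H) f fun x hx => ?_) ?_
  · exact Subtype.ext ((QuotientGroup.eq_one_iff (x : L)).2 hx)
  · intro y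
    obtain ⟨x, rfl⟩ := (QuotientGroup.mk' M).subgroupMap_surjective H y
    exact ⟨x, rfl⟩

theorem isNilpotent_map_of_nilpotent {Q : Type*} [Group Q] (f : L →* Q)
    (h : Group.IsNilpotent H) : Group.IsNilpotent (H.map f) :=
  Group.nilpotent_of_surjective (f.subgroupMap H) (f.subgroupMap_surjective H)

theorem le_bot_of_le_commutator (hnil : Group.IsNilpotent H) (hAH : A ≤ H) (h : A ≤ ⁅A, H⁆) :
    A = ⊥ := by
  obtain ⟨n, hn⟩ := (Subgroup.isNilpotent_iff_lowerCentralSeries H).1 hnil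
  have : ∀ m, A ≤ H.lowerCentralSeries m := by
    intro m
    induction m with
    | zero => exact hAH
    | succ m ih => exact h.trans (Subgroup.commutator_mono ih le_rfl)
  exact le_bot_iff.1 (hn ▸ this n)

theorem commutator_sup_lt_of_nilpotent [M.Normal] [A.Normal]
    (hnil : Group.IsNilpotent (H.map (QuotientGroup.mk' M))) (hAH : A ≤ H) (hMA : M < A) :
    ⁅A, H⁆ ⊔ M < A := by
  refine lt_of_le_of_ne (sup_le (Subgroup.commutator_le_left A H) hMA.le) fun h => hMA.not_ge ?_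
  have h1 : A.map (QuotientGroup.mk' M) = ⊥ := by
    refine le_bot_of_le_commutator hnil (Subgroup.map_mono hAH) (le_of_eq ?_)
    conv_lhs => rw [← h]
    rw [Subgroup.map_sup, Subgroup.map_commutator,
      (Subgroup.map_eq_bot_iff M).2 (QuotientGroup.ker_mk' M).ge, sup_bot_eq]
  rwa [Subgroup.map_eq_bot_iff, QuotientGroup.ker_mk'] at h1

theorem comap_map_mk [M.Normal] (h : M ≤ K) :
    (K.map (QuotientGroup.mk' M)).comap (QuotientGroup.mk' M) = K :=
  Subgroup.comap_map_eq_self (by rwa [QuotientGroup.ker_mk'])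

theorem card_map_mk [M.Normal] : Nat.card (K.map (QuotientGroup.mk' M)) = M.relIndex K := by
  rw [← Subgroup.relIndex_ker, QuotientGroup.ker_mk']

theorem comap_commutator_map_mk [M.Normal] :
    ⁅K.map (QuotientGroup.mk' M), K.map (QuotientGroup.mk' M)⁆.comap (QuotientGroup.mk' M) =
      ⁅K, K⁆ ⊔ M := by
  rw [← Subgroup.map_commutator, Subgroup.comap_map_eq, QuotientGroup.ker_mk']

theorem relIndex_commutator_eq (K : Subgroup L) : ⁅K, K⁆.relIndex K = (commutator K).index := by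
  rw [← Subgroup.map_subtype_commutator, Subgroup.relIndex, Subgroup.subgroupOf,
    Subgroup.comap_map_eq_self_of_injective K.subtype_injective]

theorem relIndex_commutator_sup_eq [M.Normal] :
    (⁅K, K⁆ ⊔ M).relIndex K = (commutator (K.map (QuotientGroup.mk' M))).index := by
  rw [← relIndex_commutator_eq, ← comap_commutator_map_mk, Subgroup.relIndex_comap]

variable [Finite L]

/-- A nilpotent normal subgroup whose order is not a prime power is not a chief factor modulo its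
derived subgroup. -/
theorem exists_normal_between_commutator [K.Normal] (hnil : Group.IsNilpotent K)
    (h : ¬ ∃ p m : ℕ, p.Prime ∧ Nat.card K = p ^ m) :
    ∃ N : Subgroup L, N.Normal ∧ ⁅K, K⁆ < N ∧ N < K := by
  have hK : ⊥ < K := bot_lt_iff_ne_bot.2 fun h0 => h ⟨2, 0, Nat.prime_two, by simp [h0]⟩
  have hsolv : Group.IsSolvable K := inferInstance
  have h1 : ⁅K, K⁆ < K := by simpa using commutator_sup_lt hsolv hK
  have h2 : ⁅K, K⁆.relIndex K ≠ 1 := fun h2 => h1.not_ge (Subgroup.relIndex_eq_one.1 h2)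
  obtain ⟨p, hp, hpd⟩ := Nat.exists_prime_and_dvd h2
  have : Fact p.Prime := ⟨hp⟩
  obtain ⟨P⟩ : Nonempty (Sylow p K) := inferInstance
  have : (P : Subgroup K).Characteristic := Sylow.characteristic_of_normal P inferInstance
  let P' : Subgroup L := (P : Subgroup K).map K.subtype
  have hP' : P' < K := by
    refine lt_of_le_of_ne (Subgroup.map_subtype_le _) fun he => h ?_
    obtain ⟨m, hm⟩ := IsPGroup.iff_card.1 (P.isPGroup'.map K.subtype)
    exact ⟨p, m, hp, by rw [← hm]; exact congrArg (fun X : Subgroup L => Nat.card X) he.symm⟩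
  refine ⟨⁅K, K⁆ ⊔ P', inferInstance, left_lt_sup.2 fun hle => ?_, commutator_sup_lt hsolv hP'⟩
  refine P.not_dvd_index (hpd.trans (Subgroup.index_dvd_of_le fun x hx => ?_))
  exact hle (Subgroup.mem_map_of_mem _ hx)

theorem exists_normal_between_commutator_sup [K.Normal] [M.Normal] (hMK : M ≤ K)
    (hnil : Group.IsNilpotent (K.map (QuotientGroup.mk' M)))
    (h : ¬ ∃ p m : ℕ, p.Prime ∧ M.relIndex K = p ^ m) :
    ∃ N : Subgroup L, N.Normal ∧ ⁅K, K⁆ ⊔ M < N ∧ N < K := by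
  have hs := QuotientGroup.mk'_surjective M
  have : (K.map (QuotientGroup.mk' M)).Normal := Subgroup.Normal.map inferInstance _ hs
  obtain ⟨N, h1, h2, h3⟩ := exists_normal_between_commutator hnil (by rwa [card_map_mk])
  refine ⟨N.comap (QuotientGroup.mk' M), h1.comap _, ?_, ?_⟩
  · rw [← comap_commutator_map_mk]
    exact (Subgroup.comap_lt_comap_of_surjective hs).2 h2
  · rw [← comap_map_mk hMK]
    exact (Subgroup.comap_lt_comap_of_surjective hs).2 h3

theorem sq_le_relIndex_commutator_sup [M.Normal] {p m : ℕ} (hp : p.Prime)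
    (h : M.relIndex K = p ^ m) (hna : ¬ ⁅K, K⁆ ≤ M) : p ^ 2 ≤ (⁅K, K⁆ ⊔ M).relIndex K := by
  have : Fact p.Prime := ⟨hp⟩
  have hP : IsPGroup p (K.map (QuotientGroup.mk' M)) := IsPGroup.of_card (card_map_mk.trans h)
  have hnc : ¬ IsCyclic (K.map (QuotientGroup.mk' M)) := fun hc => hna (by
    rw [← QuotientGroup.ker_mk' M, ← Subgroup.map_eq_bot_iff, Subgroup.map_commutator,
      ← Subgroup.map_subtype_commutator, commutator_eq_bot_of_comm, Subgroup.map_bot]
    intro a b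
    obtain ⟨g, hg⟩ := hc.exists_generator
    obtain ⟨i, rfl⟩ := hg a
    obtain ⟨j, rfl⟩ := hg b
    exact (Commute.zpow_zpow_self g i j).eq)
  have h1 := CL.PGrp.Chain.sq_mul_card_commutator_le hP hnc
  rw [relIndex_commutator_sup_eq]
  rw [← (commutator (K.map (QuotientGroup.mk' M))).index_mul_card] at h1
  exact Nat.le_of_mul_le_mul_right h1 Nat.card_pos

omit [Finite L] in
theorem add_one_le_of_modEq_one {x e : ℕ} (h : x ≡ 1 [MOD e]) (h0 : x ≠ 0) (h1 : x ≠ 1) :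
    e + 1 ≤ x := by
  obtain ⟨y, rfl⟩ := Nat.exists_eq_add_one_of_ne_zero h0
  have hd : e ∣ y := (Nat.modEq_zero_iff_dvd).1 (Nat.ModEq.add_right_cancel' 1 (by simpa using h))
  have := Nat.le_of_dvd (by omega) hd
  omega

omit [Finite L] in
theorem two_mul_add_one_le_of_modEq_one {x e : ℕ} (h : x ≡ 1 [MOD e]) (hx : Odd x) (he : Odd e)
    (h1 : x ≠ 1) : 2 * e + 1 ≤ x := by
  obtain ⟨y, rfl⟩ := hx
  have hd : e ∣ 2 * y :=
    (Nat.modEq_zero_iff_dvd).1 (Nat.ModEq.add_right_cancel' 1 (by simpa using h))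
  have hd' : e ∣ y := (Nat.coprime_two_right.2 he).dvd_of_dvd_mul_left hd
  have := Nat.le_of_dvd (by omega) hd'
  omega

omit [Finite L] in
theorem odd_relIndex (hodd : Odd (Nat.card L)) (A K : Subgroup L) : Odd (A.relIndex K) :=
  hodd.of_dvd_nat ((Subgroup.index_dvd_card _).trans (Subgroup.card_subgroup_dvd_card K))

omit [Finite L] in
theorem odd_index (hodd : Odd (Nat.card L)) (K : Subgroup L) : Odd K.index :=
  hodd.of_dvd_nat (Subgroup.index_dvd_card K)

theorem FpfMod.add_one_le_relIndex {Z : Subgroup L} [Z.Normal] [N.Normal] (h : FpfMod K Z N)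
    (hNK : N ≤ K) (hne : ¬ Z ≤ N) : K.index + 1 ≤ N.relIndex Z :=
  add_one_le_of_modEq_one (h.relIndex_modEq_one hNK) Subgroup.FiniteIndex.index_ne_zero
    fun h1 => hne (Subgroup.relIndex_eq_one.1 h1)

theorem FpfMod.two_mul_add_one_le_relIndex (hodd : Odd (Nat.card L)) {Z : Subgroup L} [Z.Normal]
    [N.Normal] (h : FpfMod K Z N) (hNK : N ≤ K) (hne : ¬ Z ≤ N) :
    2 * K.index + 1 ≤ N.relIndex Z :=
  two_mul_add_one_le_of_modEq_one (h.relIndex_modEq_one hNK) (odd_relIndex hodd _ _)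
    (odd_index hodd _) fun h1 => hne (Subgroup.relIndex_eq_one.1 h1)

/-- If `L` acts Frobeniusly on a non-trivial section `Z / N` of `p`-power order then `p` does not
divide `|L : K|`. -/
theorem FpfMod.coprime_of_pow {Z : Subgroup L} [Z.Normal] [N.Normal] (h : FpfMod K Z N)
    (hNK : N ≤ K) (hne : ¬ Z ≤ N) {p m : ℕ} (hp : p.Prime) (hd : N.relIndex Z ∣ p ^ m) :
    Nat.Coprime K.index p := by
  obtain ⟨j, -, hj⟩ := (Nat.dvd_prime_pow hp).1 hd
  have h1 := h.relIndex_modEq_one hNK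
  have hj0 : j ≠ 0 := fun h0 => hne (Subgroup.relIndex_eq_one.1 (by rw [hj, h0, pow_zero]))
  rw [hj] at h1
  have : Nat.Coprime (p ^ j) K.index := by
    rw [Nat.Coprime, h1.gcd_eq, Nat.gcd_one_left]
  exact ((Nat.coprime_pow_left_iff (Nat.pos_of_ne_zero hj0) _ _).1 this).symm

end Groups

variable {L : Type*} [Group L] [Fintype L] {G : Type*} [Group G] [Fintype G]
variable {S : Set (L → ℂ)} {τ : (L → ℂ) → (G → ℂ)} {R : (L → ℂ) → Finset (G → ℂ)}

/-- The extension property (5.6) for the subsets of `S`. -/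
def CohExtendable (S : Set (L → ℂ)) (τ : (L → ℂ) → (G → ℂ)) : Prop :=
  ∀ S₁ S₂ : Set (L → ℂ), ConjSub S₁ S → ConjSub S₂ S → IsCoherent S₁ {1}ᶜ τ →
    (∀ χ ∈ S₂, χ ∉ S₁ → ∃ χ₁ ∈ S₁, ∃ a : ℤ, χ 1 = a * χ₁ 1 ∧ ∃ T : Finset (L → ℂ), ↑T ⊆ S₁ ∧
      2 * (χ 1).re * (χ₁ 1).re < ∑ φ ∈ T, (φ 1).re ^ 2 / rip φ φ) →
    IsCoherent (S₁ ∪ S₂) {1}ᶜ τ

theorem subcoh_extendable (hS : IsCoherenceSystem S τ R) : CohExtendable S τ :=
  fun _ _ h1 h2 hc h => extend_coherent_union hS h1 h2 hc h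

theorem irr_extendable (hτ : IsLinearIsometryOn (zspanOn S {1}ᶜ) τ)
    (hτ1 : ∀ α ∈ zspanOn S {1}ᶜ, τ α 1 = 0) (hirr : ∀ φ ∈ S, IsIrrCharacter L φ) :
    CohExtendable S τ := by
  intro S₁ S₂ h1 h2 hc h
  refine feit_extend_coherent_union hτ hτ1 hirr h1.subset h2.subset hc fun χ hχ hχ1 => ?_
  obtain ⟨χ₁, h₁, a, ha, T, hT, hlt⟩ := h χ hχ hχ1
  refine ⟨χ₁, h₁, a, ha, T, hT, hlt.trans_eq (Finset.sum_congr rfl fun φ hφ => ?_)⟩
  rw [rip_eq_one_of (irr_inner_self (hirr φ (h1.subset (hT hφ)))), div_one]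

variable {K : Subgroup L} [hK : K.Normal]

/-- (6.2) for a set with the extension property. -/
theorem CohExtendable.union_of_bound (hE : CohExtendable S τ) (hsolv : Group.IsSolvable K)
    {A B C D : Subgroup L} [A.Normal] (hAK : A < K) (hCK : C ≤ K)
    (hcent : ∀ x ∈ D, ∀ y ∈ C, x * y * x⁻¹ * y⁻¹ ∈ B) (hSA : inducedIrrAbove K A ⊆ S)
    (hSB : inducedIrrAbove K B ⊆ S) (hA : IsCoherent (inducedIrrAbove K A) {1}ᶜ τ)
    (hlt : 4 * C.index ^ 2 * D.relIndex C < (A.relIndex K - 1) ^ 2) :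
    IsCoherent (inducedIrrAbove K A ∪ inducedIrrAbove K B) {1}ᶜ τ := by
  refine hE _ _ (inducedIrrAbove_conjSub hSA) (inducedIrrAbove_conjSub hSB) hA fun χ hχ _ => ?_
  obtain ⟨χ₁, hχ₁, h1⟩ := exists_mem_inducedIrrAbove_apply_one hsolv hAK
  rw [inducedIrrAbove_eq] at hχ
  obtain ⟨d, -, hd⟩ := seqIndD_deg hχ
  refine ⟨χ₁, hχ₁, d, by rw [hd, h1, mul_comm, Int.cast_natCast],
    (inducedIrrAbove_finite K A).toFinset, by simp, ?_⟩
  rw [sum_inducedIrrAbove_deg_sq hAK.le _ (by simp), h1, Complex.natCast_re, mul_comm]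
  refine mul_lt_mul_of_pos_left ?_
    (Nat.cast_pos.2 (Nat.pos_of_ne_zero Subgroup.FiniteIndex.index_ne_zero))
  have h2 := seqIndD_deg_sq_le hCK hcent hχ
  have h3 : 1 ≤ A.relIndex K := Nat.pos_of_ne_zero Subgroup.FiniteIndex.index_ne_zero
  have h4 : 4 * (C.index : ℝ) ^ 2 * D.relIndex C < ((A.relIndex K : ℝ) - 1) ^ 2 := by
    have : ((4 * C.index ^ 2 * D.relIndex C : ℕ) : ℝ) < ((A.relIndex K - 1) ^ 2 : ℕ) :=
      Nat.cast_lt.2 hlt
    push_cast [Nat.cast_sub h3] at this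
    exact this
  have h5 : (1 : ℝ) ≤ A.relIndex K := by exact_mod_cast h3
  exact lt_of_pow_lt_pow_left₀ 2 (by linarith) (by nlinarith)

omit hK in
/-- Descent along normal subgroups: the common induction of (6.3) and of Feit's theorem. -/
theorem coherent_descent {M H₁ : Subgroup L} (hMH₁ : M ≤ H₁) [H₁.Normal]
    (hcoh : IsCoherent (inducedIrrAbove K H₁) {1}ᶜ τ)
    (hstep : ∀ A : Subgroup L, A.Normal → M < A → A ≤ H₁ →
      IsCoherent (inducedIrrAbove K A) {1}ᶜ τ → ∃ B : Subgroup L, B.Normal ∧ M ≤ B ∧ B < A ∧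
        IsCoherent (inducedIrrAbove K B) {1}ᶜ τ) :
    IsCoherent (inducedIrrAbove K M) {1}ᶜ τ := by
  have key : ∀ A : Subgroup L, A.Normal → M ≤ A → A ≤ H₁ →
      IsCoherent (inducedIrrAbove K A) {1}ᶜ τ → IsCoherent (inducedIrrAbove K M) {1}ᶜ τ := by
    intro A
    induction A using WellFoundedLT.induction with
    | ind A ih =>
      intro hA h1 h2 h3
      rcases h1.eq_or_lt with rfl | h1
      · exact h3
      · obtain ⟨B, hB, b1, b2, b3⟩ := hstep A hA h1 h2 h3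
        exact ih B b2 hB b1 (b2.le.trans h2) b3
  exact key H₁ inferInstance hMH₁ le_rfl hcoh

/-- (6.3) for a set with the extension property. -/
theorem CohExtendable.bounded (hE : CohExtendable S τ) (hsolv : Group.IsSolvable K)
    {M H₁ H : Subgroup L} [M.Normal] [H₁.Normal] [H.Normal] (hMH₁ : M ≤ H₁) (hH₁H : H₁ ≤ H)
    (hHK : H ≤ K) (hnil : Group.IsNilpotent (H.map (QuotientGroup.mk' M)))
    (hSM : inducedIrrAbove K M ⊆ S) (hcoh : IsCoherent (inducedIrrAbove K H₁) {1}ᶜ τ)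
    (hbig : 4 * K.index ^ 2 + 1 < H₁.relIndex H) : IsCoherent (inducedIrrAbove K M) {1}ᶜ τ := by
  refine coherent_descent hMH₁ hcoh fun A hA hMA hAH₁ hc => ?_
  have hAH := hAH₁.trans hH₁H
  have hlt := commutator_sup_lt_of_nilpotent hnil hAH hMA
  refine ⟨⁅A, H⁆ ⊔ M, inferInstance, le_sup_right, hlt, ?_⟩
  have hx : H₁.relIndex H ≤ A.relIndex H :=
    Subgroup.relIndex_le_of_le_left hAH₁ Subgroup.FiniteIndex.index_ne_zero
  have hAK : A < K := lt_of_lt_of_le (lt_of_le_of_ne hAH fun h => by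
    rw [h, Subgroup.relIndex_self] at hx; omega) hHK
  have := hE.union_of_bound hsolv (B := ⁅A, H⁆ ⊔ M) (C := H) (D := A) hAK hHK
    (fun x hx y hy => Subgroup.mem_sup_left (Subgroup.commutator_mem_commutator hx hy))
    ((inducedIrrAbove_mono hMA.le).trans hSM) ((inducedIrrAbove_mono le_sup_right).trans hSM) hc ?_
  · rwa [Set.union_eq_right.2 (inducedIrrAbove_mono hlt.le)] at this
  · rw [← Subgroup.relIndex_mul_index hHK, ← Subgroup.relIndex_mul_relIndex A H K hAH hHK]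
    have hk : 1 ≤ H.relIndex K := Nat.pos_of_ne_zero Subgroup.FiniteIndex.index_ne_zero
    generalize H.relIndex K = k at *
    generalize A.relIndex H = x at *
    generalize K.index = e at *
    have h1 : 4 * e ^ 2 + 2 ≤ x := by omega
    have h2 : 1 ≤ x * k := Nat.mul_pos (by omega) hk
    zify [h2]
    have h1' : 4 * (e : ℤ) ^ 2 + 2 ≤ x := by exact_mod_cast h1
    have hk' : (1 : ℤ) ≤ k := by exact_mod_cast hk
    have hx' : (0 : ℤ) ≤ x := by positivity
    have h3 : (x : ℤ) * k ≤ x * k * k := le_mul_of_one_le_right (by positivity) hk'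
    have h4 : (x : ℤ) * k * k * (4 * e ^ 2 + 2) ≤ x * k * k * x :=
      mul_le_mul_of_nonneg_left h1' (by positivity)
    nlinarith

section System
variable (hsolv : Group.IsSolvable K) (hS : IsCoherenceSystem (inducedIrrAbove K ⊥) τ R)
include hsolv hS

/-- (6.2) -/
theorem t6_2 {A B C D : Subgroup L} [A.Normal] [B.Normal] (hAK : A < K) (hBK : ¬ K ≤ B)
    (hCK : C ≤ K) (hcent : ∀ x ∈ D, ∀ y ∈ C, x * y * x⁻¹ * y⁻¹ ∈ B)
    (hA : IsCoherent (inducedIrrAbove K A) {1}ᶜ τ)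
    (hlt : 4 * C.index ^ 2 * D.relIndex C < (A.relIndex K - 1) ^ 2) :
    IsCoherent (inducedIrrAbove K B) {1}ᶜ τ :=
  subcoh_coherent_mono hS (inducedIrrAbove_conjSub_bot K B) (inducedIrrAbove_nonempty hBK)
    Set.subset_union_right ((subcoh_extendable hS).union_of_bound hsolv hAK hCK hcent
      (inducedIrrAbove_mono bot_le) (inducedIrrAbove_mono bot_le) hA hlt)

/-- (6.3) -/
theorem t6_3 {M H₁ H : Subgroup L} [M.Normal] [H₁.Normal] [H.Normal] (hMH₁ : M ≤ H₁)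
    (hH₁H : H₁ ≤ H) (hHK : H ≤ K) (hnil : Group.IsNilpotent (H.map (QuotientGroup.mk' M)))
    (hcoh : IsCoherent (inducedIrrAbove K H₁) {1}ᶜ τ)
    (hbig : 4 * K.index ^ 2 + 1 < H₁.relIndex H) : IsCoherent (inducedIrrAbove K M) {1}ᶜ τ :=
  (subcoh_extendable hS).bounded hsolv hMH₁ hH₁H hHK hnil (inducedIrrAbove_mono bot_le) hcoh hbig

omit hsolv hK in
theorem coherent_of_commutator_le {A : Subgroup L} [A.Normal] (hA : ⁅K, K⁆ ≤ A) (hAK : ¬ K ≤ A) :
    IsCoherent (inducedIrrAbove K A) {1}ᶜ τ := by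
  refine uniform_degree_coherence_sub hS (inducedIrrAbove_conjSub_bot K A)
    (inducedIrrAbove_nonempty hAK) fun φ hφ ψ hψ => ?_
  rw [inducedIrrAbove_eq] at hφ hψ
  rw [seqIndD_apply_one_of_commutator_le hA hφ, seqIndD_apply_one_of_commutator_le hA hψ]

/-- (6.5) -/
theorem t6_5 (hodd : Odd (Nat.card L)) {M : Subgroup L} [M.Normal] (hMK : M ≤ K)
    (hnil : Group.IsNilpotent (K.map (QuotientGroup.mk' M))) (hH₁K : ¬ K ≤ ⁅K, K⁆ ⊔ M)
    (hfrob : FpfMod K K (⁅K, K⁆ ⊔ M))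
    (hgood : (∃ N : Subgroup L, N.Normal ∧ ⁅K, K⁆ ⊔ M < N ∧ N < K) ∨
      4 * K.index ^ 2 + 1 < (⁅K, K⁆ ⊔ M).relIndex K ∨
      (¬ ∃ p m : ℕ, p.Prime ∧ M.relIndex K = p ^ m) ∨ ⁅K, K⁆ ≤ M ∨
      (∃ p m : ℕ, p.Prime ∧ M.relIndex K = p ^ m ∧ K.index ∣ p - 1)) :
    IsCoherent (inducedIrrAbove K M) {1}ᶜ τ := by
  have hle : ⁅K, K⁆ ⊔ M ≤ K := sup_le (Subgroup.commutator_le_left K K) hMK
  have he : 1 ≤ K.index := Nat.pos_of_ne_zero Subgroup.FiniteIndex.index_ne_zero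
  have hb : 4 * K.index ^ 2 + 1 < (⁅K, K⁆ ⊔ M).relIndex K →
      IsCoherent (inducedIrrAbove K M) {1}ᶜ τ :=
    t6_3 hsolv hS le_sup_right hle le_rfl hnil (coherent_of_commutator_le hS le_sup_left hH₁K)
  have ha : (∃ N : Subgroup L, N.Normal ∧ ⁅K, K⁆ ⊔ M < N ∧ N < K) →
      IsCoherent (inducedIrrAbove K M) {1}ᶜ τ := by
    rintro ⟨N, hN, h1, h2⟩
    apply hb
    have a1 := (hfrob.mono h2.le).two_mul_add_one_le_relIndex hodd hle h1.not_ge
    have a2 := (hfrob.of_le h1.le h2.le).two_mul_add_one_le_relIndex hodd h2.le h2.not_ge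
    rw [← Subgroup.relIndex_mul_relIndex _ N K h1.le h2.le]
    have := Nat.mul_le_mul a1 a2
    nlinarith
  by_cases hd : ⁅K, K⁆ ≤ M
  · exact coherent_of_commutator_le hS hd fun h => hH₁K (h.trans le_sup_right)
  rcases hgood with h | h | h | h | ⟨p, m, hp, h, hdvd⟩
  · exact ha h
  · exact hb h
  · exact ha (exists_normal_between_commutator_sup hMK hnil h)
  · exact absurd h hd
  · apply hb
    have a1 := sq_le_relIndex_commutator_sup hp h hd
    have hm : m ≠ 0 := fun h0 => hH₁K (le_sup_of_le_right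
      (Subgroup.relIndex_eq_one.1 (by rw [h, h0, pow_zero])))
    have hpo : Odd p := (h ▸ odd_relIndex hodd M K).of_dvd_nat (dvd_pow_self p hm)
    have a2 := two_mul_add_one_le_of_modEq_one ((Nat.modEq_iff_dvd' hp.one_le).2 hdvd).symm hpo
      (odd_index hodd K) hp.ne_one
    nlinarith

end System

/-- (6.6) for a `p`-group `K`. -/
theorem t6_6_pgroup (hS : IsCoherenceSystem S τ R) {p : ℕ} (hp : p.Prime) (hp2 : p ≠ 2)
    (hP : IsPGroup p K) (hcop : Nat.Coprime K.index p) {Z : Subgroup L} [Z.Normal] (hZ1 : Z ≠ ⊥)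
    (hZK : Z ≤ K) (hZc : ∀ z ∈ Z, ∀ k ∈ K, z * k = k * z) (hXS : seqIndD K Z ⊥ ⊆ S)
    (hirr : ∀ χ ∈ seqIndD K Z ⊥, IsIrrCharacter L χ) : IsCoherent (seqIndD K Z ⊥) {1}ᶜ τ := by
  classical
  have : Fact p.Prime := ⟨hp⟩
  set X := seqIndD K Z ⊥ with hX
  have he : 0 < K.index := Nat.pos_of_ne_zero Subgroup.FiniteIndex.index_ne_zero
  have hdeg : ∀ χ ∈ X, ∃ k, deg χ = K.index * p ^ k ∧ p ^ (2 * k) ∣ Z.relIndex K := by
    rintro _ ⟨θ, h1, -, -, rfl⟩
    obtain ⟨k, hk⟩ := irr_deg_eq_pow_of_isPGroup hP h1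
    refine ⟨k, by rw [deg_indFun K (irr_isCharacter h1), hk], ?_⟩
    have h2 : deg θ ^ 2 ≤ Z.relIndex K := irr_deg_sq_le_index h1 _ fun z hz =>
      irr_center_le_charCenter h1 (Subgroup.mem_center_iff.2 fun k =>
        Subtype.ext (hZc z hz k k.2).symm)
    obtain ⟨m, hm⟩ := hP.index (Z.subgroupOf K)
    rw [Subgroup.relIndex, hm] at h2 ⊢
    rw [hk, ← pow_mul, mul_comm] at h2
    exact pow_dvd_pow p ((Nat.pow_le_pow_iff_right hp.one_lt).1 h2)
  have hre : ∀ χ ∈ X, (χ 1).re = deg χ := fun χ hχ => by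
    rw [← irr_cast_deg (hirr χ hχ), Complex.natCast_re]
  let F := (seqIndD_finite K Z ⊥).toFinset
  have hF : ∀ χ, χ ∈ F ↔ χ ∈ X := fun χ => Set.Finite.mem_toFinset _
  have hsum : ∑ χ ∈ F, deg χ ^ 2 + Z.index = Nat.card L := by
    have := sum_seqIndD_deg_sq hZK bot_le F (Set.Finite.coe_toFinset _)
    rw [sup_bot_eq, Subgroup.index_bot, Finset.sum_congr rfl (fun χ hχ => by
      rw [rip_eq_one_of (irr_inner_self (hirr χ ((hF χ).1 hχ))), div_one,
        hre χ ((hF χ).1 hχ)])] at this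
    have h2 : ((∑ χ ∈ F, deg χ ^ 2 + Z.index : ℕ) : ℝ) = Nat.card L := by
      push_cast
      linarith
    exact_mod_cast h2
  have hcs : ∀ n, ConjSub {χ | χ ∈ X ∧ deg χ ≤ n} S := fun n =>
    ⟨fun χ hχ => hXS hχ.1, fun χ hχ => ⟨seqIndD_conjFun hχ.1, by
      have : deg (conjFun χ) = deg χ := by
        rw [deg, char_conjFun_apply_one (seqIndD_char hχ.1), deg]
      rw [this]; exact hχ.2⟩⟩
  have key : ∀ n, {χ | χ ∈ X ∧ deg χ ≤ n}.Nonempty → IsCoherent {χ | χ ∈ X ∧ deg χ ≤ n} {1}ᶜ τ := by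
    intro n
    induction n with
    | zero =>
      rintro ⟨χ, h1, h2⟩
      exact absurd (irr_deg_pos (hirr χ h1)) (by omega)
    | succ n ih =>
      intro hne
      by_cases hn : {χ | χ ∈ X ∧ deg χ ≤ n}.Nonempty
      · have := extend_coherent_union hS (hcs n) (hcs (n + 1)) (ih hn) fun χ hχ hχ1 => ?_
        · have hsub : {χ | χ ∈ X ∧ deg χ ≤ n} ⊆ {χ | χ ∈ X ∧ deg χ ≤ n + 1} :=
            fun χ hχ => ⟨hχ.1, hχ.2.trans n.le_succ⟩
          rwa [Set.union_eq_right.2 hsub] at this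
        obtain ⟨χ₁, hχ₁⟩ := hn
        have hχn : deg χ = n + 1 := by
          have : ¬ deg χ ≤ n := fun h => hχ1 ⟨hχ.1, h⟩
          have := hχ.2
          omega
        obtain ⟨k, hk, hkd⟩ := hdeg χ hχ.1
        obtain ⟨j, hj, -⟩ := hdeg χ₁ hχ₁.1
        have hjk : j < k := by
          have : K.index * p ^ j < K.index * p ^ k := by
            have := hχ₁.2
            omega
          exact (Nat.pow_lt_pow_iff_right hp.one_lt).1 (Nat.lt_of_mul_lt_mul_left this)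
        obtain ⟨i, rfl⟩ := Nat.exists_eq_add_of_lt hjk
        let T := F.filter (fun φ => deg φ ≤ n)
        have hT : ∀ φ, φ ∈ T ↔ φ ∈ X ∧ deg φ ≤ n := fun φ => by rw [Finset.mem_filter, hF]
        refine ⟨χ₁, hχ₁, (p ^ (i + 1) : ℕ), ?_, T, fun φ hφ => (hT φ).1 hφ, ?_⟩
        · rw [← irr_cast_deg (hirr χ hχ.1), ← irr_cast_deg (hirr χ₁ hχ₁.1), hk, hj]
          push_cast
          ring
        have d1 : p ^ (2 * (j + i + 1)) ∣ ∑ φ ∈ T, deg φ ^ 2 := by
          have d2 : p ^ (2 * (j + i + 1)) ∣ ∑ φ ∈ F.filter (fun φ => ¬ deg φ ≤ n), deg φ ^ 2 := by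
            refine Finset.dvd_sum fun φ hφ => ?_
            obtain ⟨hφ1, hφ2⟩ := Finset.mem_filter.1 hφ
            obtain ⟨l, hl, -⟩ := hdeg φ ((hF φ).1 hφ1)
            have : K.index * p ^ (j + i + 1) ≤ K.index * p ^ l := by omega
            have hl' := (Nat.pow_le_pow_iff_right hp.one_lt).1 (Nat.le_of_mul_le_mul_left this he)
            rw [hl, mul_pow, ← pow_mul, mul_comm l]
            exact Dvd.dvd.mul_left (pow_dvd_pow p (by omega)) _
          have d3 : p ^ (2 * (j + i + 1)) ∣ Z.index :=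
            hkd.trans (Subgroup.relIndex_dvd_index_of_le hZK)
          have d4 : p ^ (2 * (j + i + 1)) ∣ Nat.card L := d3.trans (Subgroup.index_dvd_card Z)
          rw [← hsum, ← Finset.sum_filter_add_sum_filter_not F (fun φ => deg φ ≤ n),
            add_assoc (∑ φ ∈ T, deg φ ^ 2)] at d4
          exact (Nat.dvd_add_left (dvd_add d2 d3)).1 d4
        have d5 : K.index ^ 2 ∣ ∑ φ ∈ T, deg φ ^ 2 := by
          refine Finset.dvd_sum fun φ hφ => ?_
          obtain ⟨l, hl, -⟩ := hdeg φ ((hT φ).1 hφ).1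
          rw [hl, mul_pow]
          exact dvd_mul_right _ _
        have d6 : deg χ ^ 2 ∣ ∑ φ ∈ T, deg φ ^ 2 := by
          rw [hk, mul_pow, ← pow_mul, mul_comm (j + i + 1)]
          exact Nat.Coprime.mul_dvd_of_dvd_of_dvd (Nat.Coprime.pow _ _ hcop) d5 d1
        have d7 : 0 < ∑ φ ∈ T, deg φ ^ 2 :=
          Finset.sum_pos (fun φ hφ => pow_pos (irr_deg_pos (hirr φ ((hT φ).1 hφ).1)) 2)
            ⟨χ₁, (hT χ₁).2 hχ₁⟩
        have d8 : 2 * deg χ * deg χ₁ < ∑ φ ∈ T, deg φ ^ 2 := by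
          refine lt_of_lt_of_le ?_ (Nat.le_of_dvd d7 d6)
          have h3 : 3 ≤ p ^ (i + 1) := le_trans (by have := hp.two_le; omega)
            (Nat.le_self_pow (by omega) p)
          have h4 : deg χ = deg χ₁ * p ^ (i + 1) := by rw [hk, hj]; ring
          have h5 := irr_deg_pos (hirr χ hχ.1)
          have h6 := irr_deg_pos (hirr χ₁ hχ₁.1)
          have h7 : deg χ₁ * 3 ≤ deg χ := h4 ▸ Nat.mul_le_mul_left _ h3
          nlinarith
        rw [hre χ hχ.1, hre χ₁ hχ₁.1, Finset.sum_congr rfl (fun φ hφ => by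
          rw [rip_eq_one_of (irr_inner_self (hirr φ ((hT φ).1 hφ).1)), div_one,
            hre φ ((hT φ).1 hφ).1])]
        exact_mod_cast d8
      · refine uniform_degree_coherence_sub hS (hcs (n + 1)) hne fun φ hφ ψ hψ => ?_
        have h1 : ¬ deg φ ≤ n := fun h => hn ⟨φ, hφ.1, h⟩
        have h2 : ¬ deg ψ ≤ n := fun h => hn ⟨ψ, hψ.1, h⟩
        have h3 := hφ.2
        have h4 := hψ.2
        rw [← irr_cast_deg (hirr φ hφ.1), ← irr_cast_deg (hirr ψ hψ.1),
          show deg φ = deg ψ by omega]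
  have hall : {χ | χ ∈ X ∧ deg χ ≤ Nat.card L} = X := by
    ext χ
    exact ⟨fun h => h.1, fun h => ⟨h, Nat.le_of_dvd Nat.card_pos (irr_deg_dvd_card (hirr χ h))⟩⟩
  have := key (Nat.card L)
  rw [hall] at this
  exact this (seqIndD_nonempty hZK fun h => hZ1 (le_bot_iff.1 h))

/-- (6.6) -/
theorem t6_6 (hS : IsCoherenceSystem (inducedIrrAbove K ⊥) τ R) (hodd : Odd (Nat.card L))
    (hnil : Group.IsNilpotent K) (hfrob : FpfMod K K ⁅K, K⁆) {Z : Subgroup L} [Z.Normal]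
    (hZ1 : Z ≠ ⊥) (hZK : Z ≤ K) (hZc : ∀ z ∈ Z, ∀ k ∈ K, z * k = k * z)
    (hirr : ∀ χ ∈ seqIndD K Z ⊥, IsIrrCharacter L χ) : IsCoherent (seqIndD K Z ⊥) {1}ᶜ τ := by
  have hsolv : Group.IsSolvable K := inferInstance
  have hK1 : ⊥ < K := lt_of_lt_of_le (bot_lt_iff_ne_bot.2 hZ1) hZK
  have hlt : ⁅K, K⁆ ⊔ ⊥ < K := commutator_sup_lt hsolv hK1
  by_cases h : ∃ p m : ℕ, p.Prime ∧ (⊥ : Subgroup L).relIndex K = p ^ m
  · obtain ⟨p, m, hp, h⟩ := h
    rw [Subgroup.relIndex_bot_left] at h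
    have hm : m ≠ 0 := fun h0 => hK1.ne' (Subgroup.card_eq_one.1 (by rw [h, h0, pow_zero]))
    have hpo : Odd p :=
      (h ▸ hodd.of_dvd_nat (Subgroup.card_subgroup_dvd_card K)).of_dvd_nat (dvd_pow_self p hm)
    rw [sup_bot_eq] at hlt
    refine t6_6_pgroup hS hp (fun h2 => absurd (h2 ▸ hpo) (by decide)) (IsPGroup.of_card h)
      (hfrob.coprime_of_pow hlt.le hlt.not_ge hp (m := m) ?_) hZ1 hZK hZc
      (seqIndD_subset_inducedIrrAbove K Z ⊥) hirr
    rw [← h]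
    exact Subgroup.index_dvd_card _
  · refine subcoh_coherent_mono hS (seqIndD_conjSub (seqIndD_subset_inducedIrrAbove K Z ⊥))
      (seqIndD_nonempty hZK fun h => hZ1 (le_bot_iff.1 h)) (seqIndD_subset_inducedIrrAbove K Z ⊥)
      (t6_5 hsolv hS hodd bot_le (isNilpotent_map_of_nilpotent _ hnil) hlt.not_ge
        (by rwa [sup_bot_eq]) (Or.inr (Or.inr (Or.inl h))))

end CL.PF
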