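import Cfsg.Agent.Base

/-!
# Peterfalvi (2.1) and elementary facts on coprime parts of elements
-/

set_option autoImplicit false

namespace CL.PF

open Subgroup

variable {G : Type*} [Group G]

theorem mul_pow_eq_left_of_modEq {a u : G} (hc : Commute a u) {m n k : ℕ}
    (ha : orderOf a ∣ m) (hu : orderOf u ∣ n) (hk1 : k ≡ 1 [MOD m]) (hk0 : k ≡ 0 [MOD n]) :
    (a * u) ^ k = a := by
  rw [hc.mul_pow]
  have h1 : a ^ k = a ^ 1 := pow_eq_pow_iff_modEq.2 (hk1.of_dvd ha)
  have h2 : u ^ k = u ^ 0 := pow_eq_pow_iff_modEq.2 (hk0.of_dvd hu)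
  rw [h1, h2]; simp

/-- If `a u` is conjugate to `b v` by `g`, with `a, u` commuting, `b, v` commuting, the orders of
`a, b` dividing `m`, those of `u, v` dividing `n` and `m, n` coprime, then `g` conjugates `a` to `b`
and `u` to `v`. -/
theorem conj_parts {a u b v g : G} (hau : Commute a u) (hbv : Commute b v) {m n : ℕ}
    (hmn : Nat.Coprime m n) (ha : orderOf a ∣ m) (hb : orderOf b ∣ m) (hu : orderOf u ∣ n)
    (hv : orderOf v ∣ n) (h : g * (a * u) * g⁻¹ = b * v) :
    g * a * g⁻¹ = b ∧ g * u * g⁻¹ = v := by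
  obtain ⟨k, hk1, hk0⟩ := Nat.chineseRemainder hmn 1 0
  have e1 := mul_pow_eq_left_of_modEq hau ha hu hk1 hk0
  have e2 := mul_pow_eq_left_of_modEq hbv hb hv hk1 hk0
  have e3 : g * a * g⁻¹ = b := by
    rw [← e1, ← e2, ← h, conj_pow]
  refine ⟨e3, ?_⟩
  have : b * (g * u * g⁻¹) = b * v := by
    rw [← h, ← e3]; group
  exact mul_left_cancel this

/-- Equality version of `conj_parts`. -/
theorem eq_parts {a u b v : G} (hau : Commute a u) (hbv : Commute b v) {m n : ℕ}
    (hmn : Nat.Coprime m n) (ha : orderOf a ∣ m) (hb : orderOf b ∣ m) (hu : orderOf u ∣ n)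
    (hv : orderOf v ∣ n) (h : a * u = b * v) : a = b ∧ u = v := by
  have := conj_parts (g := 1) hau hbv hmn ha hb hu hv (by simpa using h)
  simpa using this

/-- An element of order coprime to `n` whose `n`-th power lies in a subgroup lies in it. -/
theorem mem_of_pow_mem_of_coprime [Finite G] {K : Subgroup G} {c : G} {n : ℕ}
    (hcop : Nat.Coprime (orderOf c) n) (h : c ^ n ∈ K) : c ∈ K := by
  obtain ⟨m, hm⟩ := exists_pow_eq_self_of_coprime (x := c) hcop.symm
  rw [← hm]; exact K.pow_mem h m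

/-- `(h l)^n ∈ K l^n` when `l` normalises `K` and `h ∈ K`. -/
theorem mul_pow_mul_inv_mem {K : Subgroup G} {h l : G} (hh : h ∈ K)
    (hl : ∀ k ∈ K, l * k * l⁻¹ ∈ K) (n : ℕ) : (h * l) ^ n * (l ^ n)⁻¹ ∈ K := by
  induction n with
  | zero => simp
  | succ n ih =>
    have : (h * l) ^ (n + 1) * (l ^ (n + 1))⁻¹ = h * (l * ((h * l) ^ n * (l ^ n)⁻¹) * l⁻¹) := by
      rw [pow_succ', pow_succ']; group
    rw [this]
    exact K.mul_mem hh (hl _ ih)

section TwoOne

variable [Finite G] (H : Subgroup G) (g : G)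

/-- The map behind Peterfalvi (2.1). -/
noncomputable def cosetConjMap (hg : g ∈ normalizer (H : Set G))
    (p : (H ⧸ (centralizer ({g} : Set G)).subgroupOf H) × ↥(H ⊓ centralizer ({g} : Set G))) : H :=
  ⟨(p.1.out : G) * ((p.2 : G) * g) * (p.1.out : G)⁻¹ * g⁻¹, by
    have h1 : g * (p.1.out : G)⁻¹ * g⁻¹ ∈ H :=
      (mem_normalizer_iff.1 hg _).1 (H.inv_mem p.1.out.2)
    have : (p.1.out : G) * ((p.2 : G) * g) * (p.1.out : G)⁻¹ * g⁻¹ =
        (p.1.out : G) * (p.2 : G) * (g * (p.1.out : G)⁻¹ * g⁻¹) := by group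
    rw [this]
    exact H.mul_mem (H.mul_mem p.1.out.2 p.2.2.1) h1⟩

theorem cosetConjMap_bijective (hg : g ∈ normalizer (H : Set G))
    (hcop : Nat.Coprime (orderOf g) (Nat.card H)) : Function.Bijective (cosetConjMap H g hg) := by
  classical
  have hinj : Function.Injective (cosetConjMap H g hg) := by
    rintro ⟨q, c⟩ ⟨q', c'⟩ h
    have h1 : (q.out : G) * ((c : G) * g) * (q.out : G)⁻¹ =
        (q'.out : G) * ((c' : G) * g) * (q'.out : G)⁻¹ := by
      have := congrArg Subtype.val h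
      simp only [cosetConjMap] at this
      exact mul_right_cancel this
    have hc : Commute g (c : G) := (mem_centralizer_iff.1 c.2.2 g rfl)
    have hc' : Commute g (c' : G) := (mem_centralizer_iff.1 c'.2.2 g rfl)
    have h2 : ((q'.out : G)⁻¹ * q.out) * (g * c) * ((q'.out : G)⁻¹ * q.out)⁻¹ = g * c' := by
      rw [hc.eq, hc'.eq]
      calc ((q'.out : G)⁻¹ * q.out) * (c * g) * ((q'.out : G)⁻¹ * q.out)⁻¹
          = (q'.out : G)⁻¹ * ((q.out : G) * ((c : G) * g) * (q.out : G)⁻¹) * q'.out := by group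
        _ = c' * g := by rw [h1]; group
    have h3 := conj_parts hc hc' hcop dvd_rfl dvd_rfl
      (H.orderOf_dvd_natCard c.2.1) (H.orderOf_dvd_natCard c'.2.1) h2
    have hq : q' = q := by
      rw [← q.out_eq', ← q'.out_eq', QuotientGroup.eq, mem_subgroupOf, mem_centralizer_iff]
      rintro _ rfl
      have := h3.1
      simp only [coe_mul, coe_inv]
      rw [mul_inv_eq_iff_eq_mul] at this
      exact this.symm
    subst hq
    have : (c : G) = c' := by simpa using h3.2
    rw [Subtype.ext this]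
  have := Fintype.ofFinite G
  refine (Nat.bijective_iff_injective_and_card _).2 ⟨hinj, ?_⟩
  rw [Nat.card_prod, card_eq_card_quotient_mul_card_subgroup
    ((centralizer ({g} : Set G)).subgroupOf H)]
  congr 1
  rw [← inf_subgroupOf_left]
  exact (Nat.card_congr (subgroupOfEquivOfLe inf_le_left).toEquiv).symm

/-- Peterfalvi (2.1): every element of `H g` is `H`-conjugate into `C_H(g) g`. -/
theorem exists_conj_mem_cent_coset (hg : g ∈ normalizer (H : Set G))
    (hcop : Nat.Coprime (orderOf g) (Nat.card H)) (h : G) (hh : h ∈ H) :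
    ∃ x ∈ H, ∃ c ∈ H, c * g = g * c ∧ x * (h * g) * x⁻¹ = c * g := by
  obtain ⟨⟨q, c⟩, e⟩ := (cosetConjMap_bijective H g hg hcop).2 ⟨h, hh⟩
  have e' : (q.out : G) * ((c : G) * g) * (q.out : G)⁻¹ * g⁻¹ = h := congrArg Subtype.val e
  refine ⟨(q.out : G)⁻¹, H.inv_mem q.out.2, c, c.2.1,
    (mem_centralizer_iff.1 c.2.2 g rfl).symm, ?_⟩
  rw [← e']; group

/-- Peterfalvi (2.1), averaged form: for `F` invariant under `H`-conjugation, the sum of `F` over
`H g` is `[H : C_H(g)]` times the sum over `C_H(g) g`. -/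
theorem sum_coset_eq_cent {M : Type*} [AddCommMonoid M] (hg : g ∈ normalizer (H : Set G))
    (hcop : Nat.Coprime (orderOf g) (Nat.card H)) [Fintype H]
    [Fintype ↥(H ⊓ centralizer ({g} : Set G))] (F : G → M)
    (hF : ∀ x ∈ H, ∀ y, F (x * y * x⁻¹) = F y) :
    ∑ h : H, F (h * g) = ((centralizer ({g} : Set G)).relIndex H) •
      ∑ c : ↥(H ⊓ centralizer ({g} : Set G)), F (c * g) := by
  classical
  have := Fintype.ofFinite (H ⧸ (centralizer ({g} : Set G)).subgroupOf H)
  rw [← (cosetConjMap_bijective H g hg hcop).sum_comp (fun h : H => F (h * g)),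
    Fintype.sum_prod_type]
  have : ∀ (q : H ⧸ (centralizer ({g} : Set G)).subgroupOf H)
      (c : ↥(H ⊓ centralizer ({g} : Set G))),
      F ((cosetConjMap H g hg (q, c) : G) * g) = F (c * g) := by
    intro q c
    simp only [cosetConjMap, inv_mul_cancel_right]
    exact hF _ q.out.2 _
  simp_rw [this]
  rw [Finset.sum_const, Finset.card_univ, relIndex, index, Nat.card_eq_fintype_card]

/-- Peterfalvi (2.1), as an equality of averages. -/
theorem avg_coset_eq_cent (hg : g ∈ normalizer (H : Set G))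
    (hcop : Nat.Coprime (orderOf g) (Nat.card H)) (F : G → ℂ)
    (hF : ∀ x ∈ H, ∀ y, F (x * y * x⁻¹) = F y) :
    (Nat.card H : ℂ)⁻¹ * ∑ᶠ h ∈ (H : Set G), F (h * g) =
      (Nat.card ↥(H ⊓ centralizer ({g} : Set G)) : ℂ)⁻¹ *
        ∑ᶠ c ∈ ((H ⊓ centralizer ({g} : Set G) : Subgroup G) : Set G), F (c * g) := by
  classical
  have := Fintype.ofFinite H
  have := Fintype.ofFinite ↥(H ⊓ centralizer ({g} : Set G))
  rw [← finsum_set_coe_eq_finsum_mem, ← finsum_set_coe_eq_finsum_mem, finsum_eq_sum_of_fintype,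
    finsum_eq_sum_of_fintype]
  have h1 := sum_coset_eq_cent H g hg hcop F hF
  have h2 : Nat.card H = (centralizer ({g} : Set G)).relIndex H *
      Nat.card ↥(H ⊓ centralizer ({g} : Set G)) := by
    rw [relIndex, ← index_mul_card ((centralizer ({g} : Set G)).subgroupOf H)]
    congr 1
    rw [← inf_subgroupOf_left]
    exact (Nat.card_congr (subgroupOfEquivOfLe inf_le_left).toEquiv)
  have h3 : ((centralizer ({g} : Set G)).relIndex H : ℂ) ≠ 0 := by
    have : (centralizer ({g} : Set G)).relIndex H ≠ 0 := index_ne_zero_of_finite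
    exact_mod_cast this
  have h4 : (Nat.card ↥(H ⊓ centralizer ({g} : Set G)) : ℂ) ≠ 0 := by
    exact_mod_cast Nat.card_pos.ne'
  erw [h1]
  rw [h2, nsmul_eq_mul]
  push_cast
  field_simp
  rfl

end TwoOne

end CL.PF
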