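import Cfsg.Agent.PF.PrimeMu

/-! # Linear characters of `W = W₁ ⊔ W₂` as pairs of characters of `W₁` and `W₂` -/

set_option autoImplicit false

namespace CL.PF

open Cfsg CL.Char

variable {G : Type*} [Group G] {W₁ W₂ : Subgroup G}

theorem dual_mul_one {X : Type*} [Group X] (i : X →* ℂˣ) : i * 1 = i := mul_one i

theorem dual_one_mul {X : Type*} [Group X] (i : X →* ℂˣ) : 1 * i = i := one_mul i

/-- restriction to `W₁` -/
abbrev dualL (ω : ↥(W₁ ⊔ W₂) →* ℂˣ) : W₁ →* ℂˣ := ω.comp (Subgroup.inclusion le_sup_left)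

/-- restriction to `W₂` -/
abbrev dualR (ω : ↥(W₁ ⊔ W₂) →* ℂˣ) : W₂ →* ℂˣ := ω.comp (Subgroup.inclusion le_sup_right)

theorem dualL_eq_iff {ω ω' : ↥(W₁ ⊔ W₂) →* ℂˣ} :
    dualL ω = dualL ω' ↔ ∀ w : ↥(W₁ ⊔ W₂), (w : G) ∈ W₁ → ω w = ω' w :=
  ⟨fun h w hw => DFunLike.congr_fun h ⟨w, hw⟩, fun h => MonoidHom.ext fun x => h _ x.2⟩

theorem dualR_eq_iff {ω ω' : ↥(W₁ ⊔ W₂) →* ℂˣ} :
    dualR ω = dualR ω' ↔ ∀ w : ↥(W₁ ⊔ W₂), (w : G) ∈ W₂ → ω w = ω' w :=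
  ⟨fun h w hw => DFunLike.congr_fun h ⟨w, hw⟩, fun h => MonoidHom.ext fun x => h _ x.2⟩

theorem dualL_eq_one_iff {ω : ↥(W₁ ⊔ W₂) →* ℂˣ} :
    dualL ω = 1 ↔ ∀ w : ↥(W₁ ⊔ W₂), (w : G) ∈ W₁ → ω w = 1 := dualL_eq_iff (ω' := 1)

theorem dualR_eq_one_iff {ω : ↥(W₁ ⊔ W₂) →* ℂˣ} :
    dualR ω = 1 ↔ ∀ w : ↥(W₁ ⊔ W₂), (w : G) ∈ W₂ → ω w = 1 := dualR_eq_iff (ω' := 1)

theorem dualL_mul (ω ω' : ↥(W₁ ⊔ W₂) →* ℂˣ) : dualL (ω * ω') = dualL ω * dualL ω' := rfl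

theorem dualR_mul (ω ω' : ↥(W₁ ⊔ W₂) →* ℂˣ) : dualR (ω * ω') = dualR ω * dualR ω' := rfl

namespace TIPair

/-- The isomorphism `W₁ × W₂ ≃ W₁ ⊔ W₂`. -/
noncomputable def wEquiv (h : TIPair W₁.subtype W₂.subtype) : W₁ × W₂ ≃* ↥(W₁ ⊔ W₂) :=
  (MonoidHom.ofInjective h.iota_injective).trans (MulEquiv.subgroupCongr (by
    rw [h.iota_range, Subgroup.range_subtype, Subgroup.range_subtype]))

theorem coe_wEquiv (h : TIPair W₁.subtype W₂.subtype) (p : W₁ × W₂) :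
    (h.wEquiv p : G) = p.1 * p.2 := rfl

theorem wEquiv_eq (h : TIPair W₁.subtype W₂.subtype) (p : W₁ × W₂) :
    h.wEquiv p = Subgroup.inclusion le_sup_left p.1 * Subgroup.inclusion le_sup_right p.2 := rfl

theorem apply_wEquiv (h : TIPair W₁.subtype W₂.subtype) (ω : ↥(W₁ ⊔ W₂) →* ℂˣ) (p : W₁ × W₂) :
    ω (h.wEquiv p) = dualL ω p.1 * dualR ω p.2 := by
  rw [h.wEquiv_eq, map_mul]; rfl

theorem wEquiv_mem₁ (h : TIPair W₁.subtype W₂.subtype) {p : W₁ × W₂} :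
    (h.wEquiv p : G) ∈ W₁ ↔ p.2 = 1 := by
  have := h.mul_mem_range₁_iff (x := p.1) (y := p.2)
  rwa [Subgroup.range_subtype] at this

theorem wEquiv_mem₂ (h : TIPair W₁.subtype W₂.subtype) {p : W₁ × W₂} :
    (h.wEquiv p : G) ∈ W₂ ↔ p.1 = 1 := by
  have := h.mul_mem_range₂_iff (x := p.1) (y := p.2)
  rwa [Subgroup.range_subtype] at this

/-- The character `ω_{ij}` of `W₁ ⊔ W₂`. -/
noncomputable def dualMk (h : TIPair W₁.subtype W₂.subtype) (i : W₁ →* ℂˣ) (j : W₂ →* ℂˣ) :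
    ↥(W₁ ⊔ W₂) →* ℂˣ := (i.coprod j).comp h.wEquiv.symm.toMonoidHom

theorem dualMk_wEquiv (h : TIPair W₁.subtype W₂.subtype) (i : W₁ →* ℂˣ) (j : W₂ →* ℂˣ)
    (p : W₁ × W₂) : h.dualMk i j (h.wEquiv p) = i p.1 * j p.2 := by
  simp [dualMk]

theorem dualL_dualMk (h : TIPair W₁.subtype W₂.subtype) (i : W₁ →* ℂˣ) (j : W₂ →* ℂˣ) :
    dualL (h.dualMk i j) = i := by
  refine MonoidHom.ext fun x => ?_
  have := h.dualMk_wEquiv i j (x, 1)
  rw [h.wEquiv_eq] at this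
  simpa using this

theorem dualR_dualMk (h : TIPair W₁.subtype W₂.subtype) (i : W₁ →* ℂˣ) (j : W₂ →* ℂˣ) :
    dualR (h.dualMk i j) = j := by
  refine MonoidHom.ext fun y => ?_
  have := h.dualMk_wEquiv i j (1, y)
  rw [h.wEquiv_eq] at this
  simpa using this

theorem dual_ext (h : TIPair W₁.subtype W₂.subtype) {ω ω' : ↥(W₁ ⊔ W₂) →* ℂˣ}
    (h1 : dualL ω = dualL ω') (h2 : dualR ω = dualR ω') : ω = ω' := by
  refine MonoidHom.ext fun w => ?_
  obtain ⟨p, rfl⟩ := h.wEquiv.surjective w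
  rw [h.apply_wEquiv, h.apply_wEquiv, h1, h2]

theorem dualMk_dual (h : TIPair W₁.subtype W₂.subtype) (ω : ↥(W₁ ⊔ W₂) →* ℂˣ) :
    h.dualMk (dualL ω) (dualR ω) = ω := h.dual_ext (h.dualL_dualMk _ _) (h.dualR_dualMk _ _)

/-- The linear characters of `W₁ ⊔ W₂`. -/
noncomputable def dualEquiv (h : TIPair W₁.subtype W₂.subtype) :
    (↥(W₁ ⊔ W₂) →* ℂˣ) ≃ (W₁ →* ℂˣ) × (W₂ →* ℂˣ) where
  toFun ω := (dualL ω, dualR ω)
  invFun p := h.dualMk p.1 p.2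
  left_inv := h.dualMk_dual
  right_inv _ := Prod.ext (h.dualL_dualMk _ _) (h.dualR_dualMk _ _)

theorem dualL_ne_one (h : TIPair W₁.subtype W₂.subtype) {φ : ↥(W₁ ⊔ W₂) →* ℂˣ} (h1 : φ ≠ 1)
    (h2 : dualR φ = 1) : dualL φ ≠ 1 := fun e => h1 (h.dual_ext e h2)

theorem dualR_ne_one (h : TIPair W₁.subtype W₂.subtype) {φ : ↥(W₁ ⊔ W₂) →* ℂˣ} (h1 : φ ≠ 1)
    (h2 : dualL φ = 1) : dualR φ ≠ 1 := fun e => h1 (h.dual_ext h2 e)

variable [Fintype G]

theorem indFun_eq_indHom (h : TIPair W₁.subtype W₂.subtype) (θ : ↥(W₁ ⊔ W₂) → ℂ) :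
    indFun (W₁ ⊔ W₂) θ = indHom h.iota (fun p => θ (h.wEquiv p)) :=
  (indHom_eq_indFun h.iota_injective (by
    rw [h.iota_range, Subgroup.range_subtype, Subgroup.range_subtype]) _ θ fun _ => rfl).symm

theorem indFun_alpha (h : TIPair W₁.subtype W₂.subtype) {φ ψ : ↥(W₁ ⊔ W₂) →* ℂˣ}
    (hφ : dualR φ = 1) (hψ : dualL ψ = 1) :
    indFun (W₁ ⊔ W₂) (fun w => 1 - (φ w : ℂ) - (ψ w : ℂ) + (φ w : ℂ) * (ψ w : ℂ)) =
      indHom h.iota (alphaF (dualL φ) (dualR ψ)) := by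
  rw [h.indFun_eq_indHom]
  congr 1
  funext p
  simp only [h.apply_wEquiv, hφ, hψ, alphaF, MonoidHom.one_apply, mul_one, one_mul]

theorem family_of_etaFam (h : TIPair W₁.subtype W₂.subtype)
    {η : (W₁ →* ℂˣ) → (W₂ →* ℂˣ) → G → ℂ} (hη : EtaFam h η) :
    IsCyclicTIFamily W₁ W₂ (fun ω => η (dualL ω) (dualR ω)) where
  irr_or_neg ω := hη.signed _ _
  orthonormal ω ω' := by
    split_ifs with e
    · rw [e, hη.inner_self]
    · refine hη.orth _ _ _ _ ?_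
      by_contra hne
      push Not at hne
      exact e (h.dual_ext hne.1 hne.2)
  map_one := hη.one
  eq_on ω w h1 h2 := by
    obtain ⟨p, rfl⟩ := h.wEquiv.surjective w
    rw [h.apply_wEquiv, Units.val_mul]
    exact hη.apply_eq _ _ (mt h.wEquiv_mem₂.2 h2) (mt h.wEquiv_mem₁.2 h1)
  induced_eq φ ψ _ _ h3 h4 := by
    have h3' := dualR_eq_one_iff.2 h3
    have h4' := dualL_eq_one_iff.2 h4
    rw [h.indFun_alpha h3' h4', hη.ind', hη.one, dualL_mul, dualR_mul, h3', h4', dual_mul_one,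
      dual_one_mul]
    rfl

theorem etaFam_of_family (h : TIPair W₁.subtype W₂.subtype) {χ : (↥(W₁ ⊔ W₂) →* ℂˣ) → G → ℂ}
    (hχ : IsCyclicTIFamily W₁ W₂ χ) : EtaFam h (fun i j => χ (h.dualMk i j)) where
  signed i j := hχ.irr_or_neg _
  orth i j i' j' hne := by
    rw [hχ.orthonormal, if_neg]
    intro e
    have := h.dualEquiv.symm.injective (a₁ := (i, j)) (a₂ := (i', j')) e
    exact not_and_or.2 hne (Prod.mk.inj this)
  one := by
    have : h.dualMk 1 1 = 1 := h.dualMk_dual 1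
    simp only [this, hχ.map_one]
  ind i j hi hj := by
    have e1 : h.dualMk 1 1 = 1 := h.dualMk_dual 1
    have e2 : h.dualMk i 1 * h.dualMk 1 j = h.dualMk i j := h.dual_ext
      (by simp only [dualL_mul, h.dualL_dualMk, dual_mul_one])
      (by simp only [dualR_mul, h.dualR_dualMk, dual_one_mul])
    have := hχ.induced_eq (h.dualMk i 1) (h.dualMk 1 j)
      (fun e => hi (by rw [← h.dualL_dualMk i 1, e]; rfl))
      (fun e => hj (by rw [← h.dualR_dualMk 1 j, e]; rfl))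
      (dualR_eq_one_iff.1 (h.dualR_dualMk _ _)) (dualL_eq_one_iff.1 (h.dualL_dualMk _ _))
    rw [h.indFun_alpha (h.dualR_dualMk _ _) (h.dualL_dualMk _ _), h.dualL_dualMk, h.dualR_dualMk,
      e2] at this
    simp only [this, e1, hχ.map_one]
    rfl

omit [Fintype G] in
theorem vanish_of (h : TIPair W₁.subtype W₂.subtype) {θ : G → ℂ}
    (hθ : ∀ w : ↥(W₁ ⊔ W₂), (w : G) ∉ W₁ → (w : G) ∉ W₂ → θ w = 0) (x : W₁) (y : W₂) (hx : x ≠ 1)
    (hy : y ≠ 1) : θ (W₁.subtype x * W₂.subtype y) = 0 :=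
  hθ (h.wEquiv (x, y)) (mt h.wEquiv_mem₁.1 hy) (mt h.wEquiv_mem₂.1 hx)

end TIPair

/-- Peterfalvi (4.1) -/
theorem t4_1 [Fintype G] {α β γ δ : G → ℂ} (hα : IsSignedIrr G α) (hβ : IsSignedIrr G β)
    (hγ : IsSignedIrr G γ) (hδ : IsSignedIrr G δ) {u v : ℝ} (hu : u ≠ 0) (hv : v ≠ 0)
    (hab : classInner α β = 0) (hcd : classInner γ δ = 0)
    (hmix : classInner (α - β) ((u : ℂ) • γ - (v : ℂ) • δ) = 0) (h1 : α 1 = β 1)
    (h2 : (u : ℂ) * γ 1 = (v : ℂ) * δ 1) : classInner α γ = 0 := by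
  have hu' : (u : ℂ) ≠ 0 := by exact_mod_cast hu
  have hv' : (v : ℂ) ≠ 0 := by exact_mod_cast hv
  by_contra hne
  simp only [classInner_sub_left, classInner_sub_right, classInner_smul_right,
    Complex.conj_ofReal] at hmix
  have g1 := hγ.apply_one_ne_zero
  rcases hα.eq_or_eq_neg hγ hne with rfl | rfl
  · rw [hγ.inner_self, hcd, classInner_eq_zero_comm.1 hab] at hmix
    rcases hβ.eq_or_eq_neg_or_orth hδ with rfl | rfl | e
    · rw [hδ.inner_self] at hmix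
      rw [← h1] at h2
      have e1 : (u : ℂ) = v := mul_right_cancel₀ g1 h2
      exact hu' (by linear_combination (hmix + e1) / 2)
    · rw [classInner_neg_left, hδ.inner_self] at hmix
      rw [Pi.neg_apply] at h1
      have e1 : (u : ℂ) = -v := mul_right_cancel₀ g1 (by rw [h2, h1]; ring)
      exact hu' (by linear_combination (hmix + e1) / 2)
    · rw [e] at hmix
      exact hu' (by linear_combination hmix)
  · rw [classInner_neg_left, neg_eq_zero] at hab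
    rw [classInner_neg_left, classInner_neg_left, hγ.inner_self, hcd,
      classInner_eq_zero_comm.1 hab] at hmix
    rw [Pi.neg_apply] at h1
    rcases hβ.eq_or_eq_neg_or_orth hδ with rfl | rfl | e
    · rw [hδ.inner_self] at hmix
      have e1 : (u : ℂ) = -v := mul_right_cancel₀ g1 (by rw [h2, ← h1]; ring)
      exact hu' (by linear_combination (e1 - hmix) / 2)
    · rw [classInner_neg_left, hδ.inner_self] at hmix
      rw [Pi.neg_apply, neg_inj] at h1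
      have e1 : (u : ℂ) = v := mul_right_cancel₀ g1 (by rw [h2, h1])
      exact hu' (by linear_combination (e1 - hmix) / 2)
    · rw [e] at hmix
      exact hu' (by linear_combination -hmix)

end CL.PF
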