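import Cfsg.Agent.PF.CosetConj
import Cfsg.Agent.PF.Defs

/-!
# Peterfalvi (2.2)-(2.4): the group theory of the Dade hypothesis
-/

set_option autoImplicit false

namespace CL.PF

open Subgroup Cfsg

variable {G : Type*} [Group G] {A : Set G} {L : Subgroup G} {H : G → Subgroup G}

theorem mem_centralizer_of_commute {a c : G} (h : Commute a c) : c ∈ centralizer ({a} : Set G) := by
  rw [mem_centralizer_iff]; rintro _ rfl; exact h

theorem commute_of_mem_centralizer {a c : G} (h : c ∈ centralizer ({a} : Set G)) : Commute a c :=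
  mem_centralizer_iff.1 h a rfl

namespace Dade

theorem mem_L (hD : DadeHypothesis A L H) {a : G} (ha : a ∈ A) : a ∈ L := hD.subset ha

theorem ne_one (hD : DadeHypothesis A L H) {a : G} (ha : a ∈ A) : a ≠ 1 := by
  rintro rfl; exact hD.one_not_mem ha

theorem commute (hD : DadeHypothesis A L H) {a u : G} (ha : a ∈ A) (hu : u ∈ H a) :
    Commute a u := mem_centralizer_iff.1 (hD.le_centralizer a ha hu) a rfl

theorem conj_mem_iff (hD : DadeHypothesis A L H) {x : G} (hx : x ∈ L) {a : G} :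
    x * a * x⁻¹ ∈ A ↔ a ∈ A := by
  refine ⟨fun h => ?_, hD.conj_mem x hx a⟩
  have := hD.conj_mem x⁻¹ (L.inv_mem hx) _ h
  simpa [mul_assoc] using this

theorem le_normalizer (hD : DadeHypothesis A L H) : L ≤ normalizer A := by
  intro x hx
  rw [mem_set_normalizer_iff]
  intro h
  exact (conj_mem_iff hD hx).symm

theorem eq_one_of_mem_L (hD : DadeHypothesis A L H) {a u : G} (ha : a ∈ A) (hu : u ∈ H a)
    (huL : u ∈ L) : u = 1 := by
  have : u ∈ H a ⊓ (L ⊓ centralizer ({a} : Set G)) := ⟨hu, huL, hD.le_centralizer a ha hu⟩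
  rw [hD.inf_eq_bot a ha] at this
  exact this

theorem inf_L_eq_bot (hD : DadeHypothesis A L H) {a : G} (ha : a ∈ A) : H a ⊓ L = ⊥ :=
  (eq_bot_iff_forall _).2 fun _ hu => eq_one_of_mem_L hD ha hu.1 hu.2

/-- Every element centralising `a ∈ A` is a product `h * l`, `h ∈ H a`, `l ∈ C_L(a)`. -/
theorem exists_mul (hD : DadeHypothesis A L H) {a c : G} (ha : a ∈ A) (hc : Commute a c) :
    ∃ h ∈ H a, ∃ l ∈ L, Commute a l ∧ c = h * l := by
  have hc' : c ∈ centralizer ({a} : Set G) := by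
    rw [mem_centralizer_iff]; rintro _ rfl; exact hc
  rw [← hD.sup_eq a ha] at hc'
  have hn : (L ⊓ centralizer ({a} : Set G)) ≤ normalizer (H a : Set G) := by
    intro l hl
    rw [mem_normalizer_iff]
    intro h
    refine ⟨hD.conj_mem_H a ha l hl.2 h, fun hh => ?_⟩
    have := hD.conj_mem_H a ha l⁻¹ (inv_mem hl.2) _ hh
    simpa [mul_assoc] using this
  have : c ∈ ((H a ⊔ (L ⊓ centralizer ({a} : Set G)) : Subgroup G) : Set G) := hc'
  rw [coe_mul_of_right_le_normalizer_left _ _ hn] at this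
  obtain ⟨h, hh, l, hl, rfl⟩ := this
  exact ⟨h, hh, l, hl.1, mem_centralizer_iff.1 hl.2 a rfl, rfl⟩

variable [Finite G]

omit [Finite G] in
theorem orderOf_dvd (hD : DadeHypothesis A L H) {a : G} (ha : a ∈ A) :
    orderOf a ∣ Nat.card ↥(L ⊓ centralizer ({a} : Set G)) :=
  Subgroup.orderOf_dvd_natCard _ (mem_inf.2 ⟨mem_L hD ha, mem_centralizer_of_commute rfl⟩)

/-- An element centralising `a` of order coprime to `|C_L(a)|` lies in `H a`. -/
theorem mem_H_of_coprime (hD : DadeHypothesis A L H) {a c : G} (ha : a ∈ A) (hc : Commute a c)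
    (hcop : Nat.Coprime (orderOf c) (Nat.card ↥(L ⊓ centralizer ({a} : Set G)))) : c ∈ H a := by
  obtain ⟨h, hh, l, hl, hal, rfl⟩ := exists_mul hD ha hc
  have hl' : l ∈ L ⊓ centralizer ({a} : Set G) := mem_inf.2 ⟨hl, mem_centralizer_of_commute hal⟩
  refine mem_of_pow_mem_of_coprime hcop ?_
  have := mul_pow_mul_inv_mem (K := H a) hh (hD.conj_mem_H a ha l hl'.2)
    (Nat.card ↥(L ⊓ centralizer ({a} : Set G)))
  rwa [orderOf_dvd_iff_pow_eq_one.1 (Subgroup.orderOf_dvd_natCard _ hl'), inv_one, mul_one] at this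

/-- An element of `H b` centralising `a` lies in `H a`. -/
theorem mem_H_of_mem_H (hD : DadeHypothesis A L H) {a b u : G} (ha : a ∈ A) (hb : b ∈ A)
    (hu : u ∈ H b) (hc : Commute a u) : u ∈ H a :=
  mem_H_of_coprime hD ha hc
    ((hD.coprime b hb a ha).coprime_dvd_left ((H b).orderOf_dvd_natCard hu))

/-- If `x` conjugates `a ∈ A` into `A`, it conjugates `H a` into the corresponding `H`. -/
theorem conj_mem_H_conj (hD : DadeHypothesis A L H) {a x u : G} (ha : a ∈ A)
    (hxa : x * a * x⁻¹ ∈ A) (hu : u ∈ H a) : x * u * x⁻¹ ∈ H (x * a * x⁻¹) := by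
  refine mem_H_of_coprime hD hxa ?_ ?_
  · exact (commute hD ha hu).conj x
  · have : orderOf (x * u * x⁻¹) = orderOf u := by
      simpa using (MulAut.conj x).orderOf_eq u
    rw [this]
    exact (hD.coprime a ha _ hxa).coprime_dvd_left ((H a).orderOf_dvd_natCard hu)

/-- Peterfalvi (2.4)(a), for any `x ∈ G` conjugating `a` into `A`. -/
theorem H_conj' (hD : DadeHypothesis A L H) {a x : G} (ha : a ∈ A) (hxa : x * a * x⁻¹ ∈ A) :
    H (x * a * x⁻¹) = (H a).map (MulAut.conj x).toMonoidHom := by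
  ext u
  rw [mem_map]
  constructor
  · intro hu
    have h1 : x⁻¹ * (x * a * x⁻¹) * x⁻¹⁻¹ = a := by group
    have := conj_mem_H_conj hD (x := x⁻¹) hxa (by rw [h1]; exact ha) hu
    rw [h1] at this
    exact ⟨_, this, by simp [mul_assoc]⟩
  · rintro ⟨v, hv, rfl⟩
    exact conj_mem_H_conj hD ha hxa hv

/-- Peterfalvi (2.4)(a). -/
theorem H_conj (hD : DadeHypothesis A L H) {a x : G} (ha : a ∈ A) (hx : x ∈ L) :
    H (x * a * x⁻¹) = (H a).map (MulAut.conj x).toMonoidHom :=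
  H_conj' hD ha (hD.conj_mem x hx a ha)

theorem card_H_conj (hD : DadeHypothesis A L H) {a x : G} (ha : a ∈ A) (hxa : x * a * x⁻¹ ∈ A) :
    Nat.card (H (x * a * x⁻¹)) = Nat.card (H a) := by
  rw [H_conj' hD ha hxa, card_map_of_injective (MulAut.conj x).injective]

omit [Finite G] in
/-- If `g` conjugates `a u` to `b v` then it conjugates `a` to `b` and `u` to `v`. -/
theorem conj_eq (hD : DadeHypothesis A L H) {a b u v g : G} (ha : a ∈ A) (hb : b ∈ A)
    (hu : u ∈ H a) (hv : v ∈ H b) (h : g * (a * u) * g⁻¹ = b * v) :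
    g * a * g⁻¹ = b ∧ g * u * g⁻¹ = v := by
  refine conj_parts (commute hD ha hu) (commute hD hb hv)
    (m := Nat.card ↥(L ⊓ centralizer ({a} : Set G)) * Nat.card ↥(L ⊓ centralizer ({b} : Set G)))
    (n := Nat.card (H a) * Nat.card (H b)) ?_
    ((orderOf_dvd hD ha).mul_right _) ((orderOf_dvd hD hb).mul_left _)
    (((H a).orderOf_dvd_natCard hu).mul_right _) (((H b).orderOf_dvd_natCard hv).mul_left _) h
  refine Nat.Coprime.symm (Nat.Coprime.mul_left ?_ ?_)
  · exact Nat.Coprime.mul_right (hD.coprime a ha a ha) (hD.coprime a ha b hb)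
  · exact Nat.Coprime.mul_right (hD.coprime b hb a ha) (hD.coprime b hb b hb)

omit [Finite G] in
/-- Peterfalvi (2.4)(b). -/
theorem exists_conj_L (hD : DadeHypothesis A L H) {a b u v g : G} (ha : a ∈ A) (hb : b ∈ A)
    (hu : u ∈ H a) (hv : v ∈ H b) (h : g * (a * u) * g⁻¹ = b * v) : ∃ x ∈ L, x * a * x⁻¹ = b := by
  have h1 := (conj_eq hD ha hb hu hv h).1
  obtain ⟨x, hx, e⟩ := hD.fusion a ha g (by rw [h1]; exact hb)
  exact ⟨x, hx, e.trans h1⟩

/-- Peterfalvi (2.4)(c). -/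
theorem normalizer_coset (hD : DadeHypothesis A L H) {a : G} (ha : a ∈ A) :
    normalizer ((fun u : G => a * u) '' (H a : Set G)) = centralizer ({a} : Set G) := by
  apply le_antisymm
  · intro g hg
    rw [mem_set_normalizer_iff] at hg
    obtain ⟨v, hv, e⟩ := (hg (a * 1)).1 ⟨1, (H a).one_mem, rfl⟩
    have := (conj_eq hD ha ha (H a).one_mem hv e.symm).1
    rw [mem_centralizer_iff]; rintro _ rfl
    rw [mul_inv_eq_iff_eq_mul] at this
    exact this.symm
  · intro c hc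
    apply mem_normalizer_fintype
    rintro _ ⟨u, hu, rfl⟩
    refine ⟨c * u * c⁻¹, hD.conj_mem_H a ha c hc u hu, ?_⟩
    have : a * c = c * a := mem_centralizer_iff.1 hc a rfl
    calc a * (c * u * c⁻¹) = (a * c) * u * c⁻¹ := by group
      _ = c * (a * u) * c⁻¹ := by rw [this]; group

omit [Finite G] in
/-- An element conjugating `a ∈ A` into `A` is a product `l * h` with `l ∈ L`, `h ∈ H a`. -/
theorem exists_mul_of_conj_mem (hD : DadeHypothesis A L H) {a x : G} (ha : a ∈ A)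
    (hxa : x * a * x⁻¹ ∈ A) : ∃ l ∈ L, ∃ h ∈ H a, x = l * h := by
  obtain ⟨l, hl, e⟩ := hD.fusion a ha x hxa
  have hc : Commute a (x⁻¹ * l) := by
    have : a * (x⁻¹ * l) = x⁻¹ * (x * a * x⁻¹) * l := by group
    rw [Commute, SemiconjBy, this, ← e]; group
  obtain ⟨h, hh, l', hl', -, e'⟩ := exists_mul hD ha hc
  refine ⟨l * l'⁻¹, L.mul_mem hl (L.inv_mem hl'), h⁻¹, (H a).inv_mem hh, ?_⟩
  have : x = l * (x⁻¹ * l)⁻¹ := by group
  rw [this, e']; group

omit [Finite G] in
theorem card_centralizer (hD : DadeHypothesis A L H) {a : G} (ha : a ∈ A) :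
    Nat.card (centralizer ({a} : Set G)) =
      Nat.card (H a) * Nat.card ↥(L ⊓ centralizer ({a} : Set G)) := by
  rw [← Nat.card_prod]
  symm
  refine Nat.card_eq_of_bijective (fun p : H a × ↥(L ⊓ centralizer ({a} : Set G)) =>
    (⟨p.1 * p.2, mul_mem (hD.le_centralizer a ha p.1.2) p.2.2.2⟩ : centralizer ({a} : Set G)))
    ⟨?_, ?_⟩
  · rintro ⟨h, l⟩ ⟨h', l'⟩ e
    have e1 : (h : G) * l = h' * l' := congrArg Subtype.val e
    have e2 : (h' : G)⁻¹ * h = l' * (l : G)⁻¹ := by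
      rw [inv_mul_eq_iff_eq_mul, ← mul_assoc, ← e1]; group
    have e3 : (h' : G)⁻¹ * h = 1 := eq_one_of_mem_L hD ha (mul_mem (inv_mem h'.2) h.2)
      (by rw [e2]; exact mul_mem l'.2.1 (inv_mem l.2.1))
    have e4 : h = h' := Subtype.ext (inv_mul_eq_one.1 e3).symm
    subst e4
    rw [Subtype.ext (mul_left_cancel e1)]
  · rintro ⟨c, hc⟩
    obtain ⟨h, hh, l, hl, hal, rfl⟩ := exists_mul hD ha (mem_centralizer_iff.1 hc a rfl)
    exact ⟨(⟨h, hh⟩, ⟨l, mem_inf.2 ⟨hl, mem_centralizer_of_commute hal⟩⟩), rfl⟩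

omit [Finite G] in
/-- Peterfalvi (2.11), first part: restriction of the Dade hypothesis to an `L`-invariant subset. -/
theorem restrict (hD : DadeHypothesis A L H) {A₁ : Set G} (h₁ : A₁ ⊆ A)
    (hn : ∀ x ∈ L, ∀ a ∈ A₁, x * a * x⁻¹ ∈ A₁) : DadeHypothesis A₁ L H where
  one_not_mem h := hD.one_not_mem (h₁ h)
  subset := h₁.trans hD.subset
  conj_mem := hn
  fusion a ha g hg := hD.fusion a (h₁ ha) g (h₁ hg)
  le_centralizer a ha := hD.le_centralizer a (h₁ ha)
  conj_mem_H a ha := hD.conj_mem_H a (h₁ ha)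
  inf_eq_bot a ha := hD.inf_eq_bot a (h₁ ha)
  sup_eq a ha := hD.sup_eq a (h₁ ha)
  coprime a ha b hb := hD.coprime a (h₁ ha) b (h₁ hb)

/-- The subgroups `H a` (`a ∈ A`) are determined by `A` and `L`. -/
theorem H_unique {H' : G → Subgroup G} {A' : Set G} (hD : DadeHypothesis A L H)
    (hD' : DadeHypothesis A' L H') {a : G} (ha : a ∈ A) (ha' : a ∈ A') : H a = H' a := by
  apply le_antisymm
  · intro u hu
    exact mem_H_of_coprime hD' ha' (commute hD ha hu)
      ((hD.coprime a ha a ha).coprime_dvd_left ((H a).orderOf_dvd_natCard hu))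
  · intro u hu
    exact mem_H_of_coprime hD ha (commute hD' ha' hu)
      ((hD'.coprime a ha' a ha').coprime_dvd_left ((H' a).orderOf_dvd_natCard hu))

omit [Finite G] in
/-- Only the values of `H` on `A` matter. -/
theorem congr_H {H' : G → Subgroup G} (hD : DadeHypothesis A L H) (h : ∀ a ∈ A, H' a = H a) :
    DadeHypothesis A L H' where
  one_not_mem := hD.one_not_mem
  subset := hD.subset
  conj_mem := hD.conj_mem
  fusion := hD.fusion
  le_centralizer a ha := h a ha ▸ hD.le_centralizer a ha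
  conj_mem_H a ha := h a ha ▸ hD.conj_mem_H a ha
  inf_eq_bot a ha := h a ha ▸ hD.inf_eq_bot a ha
  sup_eq a ha := h a ha ▸ hD.sup_eq a ha
  coprime a ha b hb := h a ha ▸ hD.coprime a ha b hb

end Dade

/-! ### The support -/

theorem mem_dadeSupp {g : G} :
    g ∈ dadeSupp A H ↔ ∃ a ∈ A, ∃ u ∈ H a, ∃ x : G, x * g * x⁻¹ = a * u := Iff.rfl

theorem mul_mem_dadeSupp {a u : G} (ha : a ∈ A) (hu : u ∈ H a) : a * u ∈ dadeSupp A H :=
  ⟨a, ha, u, hu, 1, by simp⟩

theorem subset_dadeSupp : A ⊆ dadeSupp A H := fun a ha =>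
  ⟨a, ha, 1, (H a).one_mem, 1, by simp⟩

theorem conj_mem_dadeSupp_iff {g y : G} : y * g * y⁻¹ ∈ dadeSupp A H ↔ g ∈ dadeSupp A H := by
  constructor
  · rintro ⟨a, ha, u, hu, x, e⟩
    exact ⟨a, ha, u, hu, x * y, by rw [← e]; group⟩
  · rintro ⟨a, ha, u, hu, x, e⟩
    exact ⟨a, ha, u, hu, x * y⁻¹, by rw [← e]; group⟩

theorem dadeSupp_mono {A₁ : Set G} (h : A₁ ⊆ A) : dadeSupp A₁ H ⊆ dadeSupp A H := by
  rintro g ⟨a, ha, r⟩
  exact ⟨a, h ha, r⟩

theorem dadeSupp_congr {H' : G → Subgroup G} (h : ∀ a ∈ A, H' a = H a) :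
    dadeSupp A H' = dadeSupp A H := by
  ext g
  constructor
  · rintro ⟨a, ha, u, hu, r⟩
    exact ⟨a, ha, u, h a ha ▸ hu, r⟩
  · rintro ⟨a, ha, u, hu, r⟩
    exact ⟨a, ha, u, (h a ha).symm ▸ hu, r⟩

theorem tildeOf_eq_dadeSupp (M : Subgroup G) (A : Set G) :
    tildeOf M A = dadeSupp A (supportR M) := by
  ext g
  constructor
  · rintro ⟨a, ha, r, hr, y, rfl⟩
    exact ⟨a, ha, r, hr, y⁻¹, by group⟩
  · rintro ⟨a, ha, r, hr, y, e⟩
    exact ⟨a, ha, r, hr, y⁻¹, by rw [← e]; group⟩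

theorem Dade.one_not_mem_supp (hD : DadeHypothesis A L H) : (1 : G) ∉ dadeSupp A H := by
  rintro ⟨a, ha, u, hu, x, e⟩
  have e1 : u = a⁻¹ := by
    rw [eq_inv_iff_mul_eq_one, (Dade.commute hD ha hu).symm.eq, ← e]; simp
  have : u = 1 := Dade.eq_one_of_mem_L hD ha hu (by rw [e1]; exact inv_mem (Dade.mem_L hD ha))
  rw [this] at e1
  exact Dade.ne_one hD ha (inv_eq_one.1 e1.symm)

/-! ### The trivial-intersection case: Peterfalvi (2.3) -/

theorem dadeHypothesis_bot_of_TI (h1 : (1 : G) ∉ A) (hTI : IsTISubset A)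
    (hN : normalizer A = L) : DadeHypothesis A L (fun _ => ⊥) := by
  have key : ∀ a ∈ A, ∀ g : G, g * a * g⁻¹ ∈ A → g ∈ L := by
    intro a ha g hg
    by_contra hgL
    rw [← hN] at hgL
    exact h1 (hTI g hgL a ha hg ▸ ha)
  have hc : ∀ a ∈ A, centralizer ({a} : Set G) ≤ L := by
    intro a ha c hc
    refine key a ha c ?_
    rw [← mem_centralizer_iff.1 hc a rfl, mul_inv_cancel_right]; exact ha
  exact
    { one_not_mem := h1
      subset := fun a ha => key a ha a (by simpa using ha)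
      conj_mem := fun x hx a ha => by
        rw [← hN, mem_set_normalizer_iff] at hx
        exact (hx a).1 ha
      fusion := fun a ha g hg => ⟨g, key a ha g hg, rfl⟩
      le_centralizer := fun _ _ => bot_le
      conj_mem_H := fun a _ c _ u hu => by
        rw [mem_bot] at hu ⊢; rw [hu]; simp
      inf_eq_bot := fun _ _ => bot_inf_eq _
      sup_eq := fun a ha => by rw [bot_sup_eq, inf_eq_right.2 (hc a ha)]
      coprime := fun _ _ _ _ => by simp }

/-- Under the Dade hypothesis with trivial `H`, an element conjugating a member of `A` into `A`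
lies in `L`. -/
theorem Dade.mem_L_of_conj_mem (hD : DadeHypothesis A L H) {a g : G} (ha : a ∈ A)
    (hH : H a = ⊥) (hg : g * a * g⁻¹ ∈ A) : g ∈ L := by
  obtain ⟨l, hl, h, hh, rfl⟩ := Dade.exists_mul_of_conj_mem hD ha hg
  rw [hH, mem_bot] at hh
  rw [hh, mul_one]; exact hl

theorem Dade.TI_of_bot (hD : DadeHypothesis A L H) (hH : ∀ a ∈ A, H a = ⊥)
    (hA : A.Nonempty) : IsTISubset A ∧ normalizer A = L := by
  have hN : normalizer A = L := by
    refine le_antisymm (fun g hg => ?_) (Dade.le_normalizer hD)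
    obtain ⟨a, ha⟩ := hA
    exact Dade.mem_L_of_conj_mem hD ha (hH a ha) ((mem_set_normalizer_iff.1 hg a).1 ha)
  refine ⟨fun g hg x hx hgx => ?_, hN⟩
  rw [hN] at hg
  exact absurd (Dade.mem_L_of_conj_mem hD hx (hH x hx) hgx) hg

end CL.PF
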