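import Cfsg.Agent.PF.DadeMap
import Cfsg.Agent.PF.SdProj
import Cfsg.Agent.Char.Basic
import Cfsg.Agent.Char.Induce
import Cfsg.Agent.Auto.ACL_PF_sdProj_a1131f

/-!
# Peterfalvi (2.6)(b), (2.8)-(2.10): the Dade map preserves virtual characters
-/

set_option autoImplicit false

namespace CL.PF

open Subgroup Cfsg CL.Char
open scoped ComplexConjugate

variable {G : Type*} [Group G] {A : Set G} {L : Subgroup G} {H : G → Subgroup G}

/-- `H(B)`, the intersection of the `H a`, `a ∈ B`. -/
def dadeHB (H : G → Subgroup G) (B : Finset G) : Subgroup G := ⨅ a ∈ B, H a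

theorem mem_dadeHB {B : Finset G} {u : G} : u ∈ dadeHB H B ↔ ∀ a ∈ B, u ∈ H a := by
  simp [dadeHB, mem_iInf]

open Classical in
/-- conjugation action of `L` on finite subsets of `G` -/
@[reducible] noncomputable def conjFinsetAction (L : Subgroup G) : MulAction L (Finset G) where
  smul l B := B.image (fun a => (l : G) * a * (l : G)⁻¹)
  one_smul B := by
    change B.image _ = B
    simp
  mul_smul l l' B := by
    change B.image _ = (B.image _).image _
    rw [Finset.image_image]
    congr 1
    funext a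
    simp [mul_assoc]

open Classical in
theorem mem_image_conj {B : Finset G} {l a : G} :
    a ∈ B.image (fun a => l * a * l⁻¹) ↔ l⁻¹ * a * l ∈ B := by
  rw [Finset.mem_image]
  constructor
  · rintro ⟨b, hb, rfl⟩
    simpa [mul_assoc] using hb
  · intro h
    exact ⟨_, h, by group⟩

namespace Dade

variable [Finite G]

open Classical in
theorem conj_mem_HB (hD : DadeHypothesis A L H) {B : Finset G} (hB : ↑B ⊆ A) {l : G} (hl : l ∈ L)
    {u : G} : l * u * l⁻¹ ∈ dadeHB H (B.image (fun a => l * a * l⁻¹)) ↔ u ∈ dadeHB H B := by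
  simp only [mem_dadeHB, Finset.forall_mem_image]
  refine forall₂_congr fun a ha => ?_
  rw [H_conj hD (hB ha) hl]
  exact mem_map_iff_mem (f := (MulAut.conj l).toMonoidHom) (MulAut.conj l).injective

theorem le_normalizer_HB (hD : DadeHypothesis A L H) {B : Finset G} (hB : ↑B ⊆ A) :
    L ⊓ normalizer (B : Set G) ≤ normalizer (dadeHB H B : Set G) := by
  classical
  intro l hl
  rw [mem_normalizer_iff]
  intro u
  rw [← conj_mem_HB hD hB hl.1]
  have : B.image (fun a => l * a * l⁻¹) = B := by
    ext a
    rw [mem_image_conj]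
    exact (mem_set_normalizer_iff''.1 hl.2 a).symm
  rw [this]

omit [Finite G] in
theorem HB_inf_eq_bot (hD : DadeHypothesis A L H) {B : Finset G} (hB : ↑B ⊆ A) (hne : B.Nonempty) :
    dadeHB H B ⊓ (L ⊓ normalizer (B : Set G)) = ⊥ := by
  obtain ⟨b, hb⟩ := hne
  rw [eq_bot_iff_forall]
  intro u hu
  exact eq_one_of_mem_L hD (hB hb) (mem_dadeHB.1 hu.1 b hb) hu.2.1

open Classical in
/-- Peterfalvi (2.10.2). -/
theorem HB_insert (hD : DadeHypothesis A L H) {B : Finset G} (hB : ↑B ⊆ A) (hne : B.Nonempty)
    {a : G} (ha : a ∈ A) : dadeHB H (insert a B) = dadeHB H B ⊓ centralizer ({a} : Set G) := by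
  obtain ⟨b, hb⟩ := hne
  ext u
  simp only [mem_dadeHB, Finset.forall_mem_insert, mem_inf]
  constructor
  · rintro ⟨h1, h2⟩
    exact ⟨h2, hD.le_centralizer a ha h1⟩
  · rintro ⟨h1, h2⟩
    exact ⟨mem_H_of_mem_H hD ha (hB hb) (h1 b hb) (commute_of_mem_centralizer h2), h1⟩

end Dade

/-- the average of `χ` over `H(B) n` -/
noncomputable def dadeAvgB (H : G → Subgroup G) (χ : G → ℂ) (B : Finset G) (n : G) : ℂ :=
  (Nat.card (dadeHB H B) : ℂ)⁻¹ * ∑ᶠ h ∈ (dadeHB H B : Set G), χ (h * n)

namespace Dade

variable [Finite G]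

open Classical in
theorem avgB_insert (hD : DadeHypothesis A L H) {χ : G → ℂ} (hχ : IsClassFunction G χ)
    {B : Finset G} (hB : ↑B ⊆ A) (hne : B.Nonempty) {b : G} (hb : b ∈ A)
    (hbn : b ∈ normalizer (B : Set G)) : dadeAvgB H χ B b = dadeAvgB H χ (insert b B) b := by
  unfold dadeAvgB
  rw [HB_insert hD hB hne hb]
  refine avg_coset_eq_cent _ b (le_normalizer_HB hD hB ⟨mem_L hD hb, hbn⟩) ?_ χ
    (fun x _ y => hχ y x)
  obtain ⟨a, ha⟩ := hne
  refine Nat.Coprime.coprime_dvd_left (orderOf_dvd hD hb) ?_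
  refine Nat.Coprime.coprime_dvd_right ?_ (hD.coprime a (hB ha) b hb).symm
  exact card_dvd_of_le fun u hu => mem_dadeHB.1 hu a ha

omit [Finite G] in
theorem avgB_singleton (hD : DadeHypothesis A L H) (χ : G → ℂ) {b : G} (hb : b ∈ A) :
    dadeAvgB H χ {b} b = dadeAvg H χ b := by
  unfold dadeAvgB dadeAvg
  have : dadeHB H {b} = H b := by ext u; simp [mem_dadeHB]
  rw [this]
  congr 1
  exact finsum_mem_congr rfl fun u hu => by rw [(commute hD hb hu).eq]

open Classical in
theorem avgB_conj (hD : DadeHypothesis A L H) {χ : G → ℂ} (hχ : IsClassFunction G χ)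
    {B : Finset G} (hB : ↑B ⊆ A) {l : G} (hl : l ∈ L) (n : G) :
    dadeAvgB H χ (B.image (fun a => l * a * l⁻¹)) (l * n * l⁻¹) = dadeAvgB H χ B n := by
  have : dadeHB H (B.image (fun a => l * a * l⁻¹)) =
      (dadeHB H B).map (MulAut.conj l).toMonoidHom := by
    ext u
    obtain ⟨v, rfl⟩ := (MulAut.conj l).surjective u
    rw [MulAut.conj_apply, conj_mem_HB hD hB hl]
    exact (mem_map_iff_mem (f := (MulAut.conj l).toMonoidHom) (MulAut.conj l).injective).symm
  unfold dadeAvgB
  rw [this, card_map_of_injective (MulAut.conj l).injective, coe_map,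
    finsum_mem_image (g := (MulAut.conj l).toMonoidHom) (MulAut.conj l).injective.injOn]
  congr 1
  refine finsum_mem_congr rfl fun u _ => ?_
  rw [← hχ (u * n) l]
  congr 1
  simp [mul_assoc]

end Dade

open Classical in
/-- The alternating sum behind Peterfalvi (2.10). -/
theorem Dade.alt_sum [Fintype G] (hD : DadeHypothesis A L H) {χ : G → ℂ}
    (hχ : IsClassFunction G χ) {b : G} (hb : b ∈ A) :
    ∑ B : Finset G, (if (↑B ⊆ A ∧ B.Nonempty) ∧ b ∈ normalizer (B : Set G) then
      (-1) ^ B.card * dadeAvgB H χ B b else 0) = -dadeAvg H χ b := by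
  have hnorm : ∀ B : Finset G, b ∈ normalizer ((insert b B : Finset G) : Set G) ↔
      b ∈ normalizer ((B.erase b : Finset G) : Set G) := by
    intro B
    have key : ∀ x : G, b * x * b⁻¹ = b ↔ x = b := fun x => by
      rw [mul_inv_eq_iff_eq_mul, mul_right_inj]
    simp only [mem_set_normalizer_iff, Finset.coe_insert, Finset.coe_erase, Set.mem_insert_iff,
      Set.mem_sdiff, Set.mem_singleton_iff, Finset.mem_coe, key]
    refine forall_congr' fun x => ?_
    tauto
  have h0 : ∑ B : Finset G, (if ↑B ⊆ A ∧ b ∈ normalizer (B : Set G) then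
      (-1) ^ B.card * dadeAvgB H χ (insert b B) b else 0) = 0 := by
    refine Finset.sum_involution (fun B _ => if b ∈ B then B.erase b else insert b B) ?_ ?_
      (fun _ _ => Finset.mem_univ _) ?_
    · intro B _
      by_cases hbB : b ∈ B
      · simp only [hbB, if_true]
        have e1 : insert b B = B := Finset.insert_eq_of_mem hbB
        have e2 : insert b (B.erase b) = B := Finset.insert_erase hbB
        have e3 : (↑(B.erase b) ⊆ A ∧ b ∈ normalizer ((B.erase b : Finset G) : Set G)) ↔
            (↑B ⊆ A ∧ b ∈ normalizer (B : Set G)) := by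
          rw [← hnorm, e1]
          refine and_congr_left fun _ => ⟨fun h x hx => ?_, fun h x hx => h (Finset.mem_of_mem_erase hx)⟩
          by_cases hxb : x = b
          · rw [hxb]; exact hb
          · exact h (Finset.mem_erase.2 ⟨hxb, hx⟩)
        have e4 : B.card = (B.erase b).card + 1 := (Finset.card_erase_add_one hbB).symm
        simp only [e1, e2, e3]
        split_ifs
        · rw [e4, pow_succ]; ring
        · simp
      · simp only [hbB, if_false]
        have e2 : B.erase b = B := Finset.erase_eq_of_notMem hbB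
        have e3 : (↑(insert b B) ⊆ A ∧ b ∈ normalizer ((insert b B : Finset G) : Set G)) ↔
            (↑B ⊆ A ∧ b ∈ normalizer (B : Set G)) := by
          rw [hnorm, e2, Finset.coe_insert, Set.insert_subset_iff]
          simp [hb]
        simp only [e3, Finset.insert_idem, Finset.card_insert_of_notMem hbB]
        split_ifs
        · rw [pow_succ]; ring
        · simp
    · intro B _ _
      by_cases hbB : b ∈ B
      · simp only [hbB, if_true]
        intro h
        exact Finset.notMem_erase b B (by rw [h]; exact hbB)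
      · simp only [hbB, if_false]
        intro h
        exact hbB (by rw [← h]; exact Finset.mem_insert_self b B)
    · intro B _
      by_cases hbB : b ∈ B
      · simp [hbB]
      · simp [hbB]
  rw [← Finset.add_sum_erase _ _ (Finset.mem_univ ∅)] at h0 ⊢
  have h1 : b ∈ normalizer ((∅ : Finset G) : Set G) := by simp [mem_set_normalizer_iff]
  rw [if_pos ⟨by simp, h1⟩, add_eq_zero_iff_neg_eq] at h0
  rw [if_neg (by simp), zero_add]
  rw [← Dade.avgB_singleton hD χ hb]
  have h2 : insert b (∅ : Finset G) = {b} := rfl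
  simp only [Finset.card_empty, pow_zero, one_mul, h2] at h0
  rw [h0]
  refine Finset.sum_congr rfl fun B hB => ?_
  have hne : B.Nonempty := Finset.nonempty_iff_ne_empty.2 (Finset.mem_erase.1 hB).1
  simp only [hne, and_true]
  split_ifs with h
  · rw [Dade.avgB_insert hD hχ h.1 hne hb h.2]
  · rfl

open Classical in
/-- The term attached to `B` in the expansion (2.10). -/
noncomputable def dadeTerm [Fintype L] (H : G → Subgroup G) (α : L → ℂ) (χ : G → ℂ)
    (B : Finset G) : ℂ :=
  (Nat.card ↥(L ⊓ normalizer (B : Set G)) : ℂ)⁻¹ *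
    ∑ n : L, if (n : G) ∈ normalizer (B : Set G) then α n * conj (dadeAvgB H χ B n) else 0

theorem Dade.term_int [Fintype G] [Fintype L] (hD : DadeHypothesis A L H) {α : L → ℂ}
    (hα : IsGeneralizedCharacter L α) {χ : G → ℂ} (hχ : IsGeneralizedCharacter G χ)
    {B : Finset G} (hB : ↑B ⊆ A) (hne : B.Nonempty) : ∃ n : ℤ, dadeTerm H α χ B = n := by
  classical
  set N := L ⊓ normalizer (B : Set G) with hN
  have hn := Dade.le_normalizer_HB hD hB
  have hKN := Dade.HB_inf_eq_bot hD hB hne
  obtain ⟨m, hm⟩ := gen_inner_int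
    (gen_comp hα ((inclusion (inf_le_left : N ≤ L)).comp (sdProj hn hKN)))
    (gen_restrict hχ (dadeHB H B ⊔ N))
  refine ⟨m, ?_⟩
  rw [← hm, classInner_def, sum_sup_of_sd hn hKN, card_sup_of_sd hn hKN, Finset.sum_comm]
  simp only [MonoidHom.comp_apply, sdProj_sdEquiv, coe_sdEquiv]
  unfold dadeTerm
  rw [Nat.cast_mul, mul_inv, mul_comm (Nat.card (dadeHB H B) : ℂ)⁻¹, mul_assoc,
    ← Finset.sum_filter]
  congr 1
  rw [Finset.mul_sum]
  symm
  refine Finset.sum_bij (fun n _ => inclusion (inf_le_left : N ≤ L) n) ?_ ?_ ?_ ?_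
  · intro n _
    exact Finset.mem_filter.2 ⟨Finset.mem_univ _, n.2.2⟩
  · intro n _ n' _ h
    exact inclusion_injective _ h
  · intro n hn
    exact ⟨⟨n, n.2, (Finset.mem_filter.1 hn).2⟩, Finset.mem_univ _, rfl⟩
  · intro n _
    unfold dadeAvgB
    rw [← finsum_set_coe_eq_finsum_mem]
    erw [finsum_eq_sum_of_fintype (fun h : dadeHB H B => χ (h * n))]
    simp only [map_mul, map_inv₀, map_natCast, map_sum, ← Finset.mul_sum]
    ring

open Classical in
theorem Dade.term_conj [Fintype G] [Fintype L] (hD : DadeHypothesis A L H) {α : L → ℂ}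
    (hα : IsClassFunction L α) {χ : G → ℂ} (hχ : IsClassFunction G χ)
    {B : Finset G} (hB : ↑B ⊆ A) (l : L) :
    dadeTerm H α χ (B.image (fun a => (l : G) * a * (l : G)⁻¹)) = dadeTerm H α χ B := by
  have key : ∀ n : G, (l : G) * n * (l : G)⁻¹ ∈
      normalizer ((B.image (fun a => (l : G) * a * (l : G)⁻¹) : Finset G) : Set G) ↔
        n ∈ normalizer (B : Set G) := by
    intro n
    simp only [mem_set_normalizer_iff, Finset.mem_coe, mem_image_conj]
    refine ⟨fun h x => ?_, fun h x => ?_⟩
    · have := h (l * x * (l : G)⁻¹)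
      simpa [mul_assoc] using this
    · have := h ((l : G)⁻¹ * x * l)
      simpa [mul_assoc] using this
  unfold dadeTerm
  congr 1
  · congr 2
    symm
    refine Nat.card_congr (Equiv.subtypeEquiv (MulAut.conj (l : G)).toEquiv fun n => ?_)
    simp only [mem_inf, MulEquiv.toEquiv_eq_coe, MulEquiv.coe_toEquiv, MulAut.conj_apply, key]
    refine and_congr_left fun _ => ⟨fun h => mul_mem (mul_mem l.2 h) (inv_mem l.2), fun h => ?_⟩
    have := mul_mem (mul_mem (inv_mem l.2) h) l.2
    simpa [mul_assoc] using this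
  · symm
    refine Fintype.sum_equiv (MulAut.conj l).toEquiv _ _ fun n => ?_
    simp only [MulEquiv.toEquiv_eq_coe, MulEquiv.coe_toEquiv, MulAut.conj_apply, coe_mul, coe_inv,
      key, hα n l, Dade.avgB_conj hD hχ hB l.2]

/-- Peterfalvi (2.6)(b): inner products of the Dade image of a virtual character with virtual
characters are integers. -/
theorem Dade.inner_int [Fintype G] [Fintype L] (hD : DadeHypothesis A L H) {α : L → ℂ}
    (hα : IsGeneralizedCharacter L α) (hαA : ∀ x : L, (x : G) ∉ A → α x = 0) {χ : G → ℂ}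
    (hχ : IsGeneralizedCharacter G χ) : ∃ n : ℤ, classInner (dadeIsometry A L H α) χ = n := by
  classical
  have hαc := gen_isClassFunction hα
  have hχc := gen_isClassFunction hχ
  let _ := conjFinsetAction L
  have hsmul : ∀ (l : L) (B : Finset G), l • B = B.image (fun a => (l : G) * a * (l : G)⁻¹) :=
    fun _ _ => rfl
  have hmem := sum_stabilizer_smul_mem (L := L) (X := Finset G) (V := ℂ)
    (Int.castAddHom ℂ).range
    (fun B => if ↑B ⊆ A ∧ B.Nonempty then (-1) ^ B.card * dadeTerm H α χ B else 0) ?_ ?_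
  · obtain ⟨m, hm⟩ := hmem
    refine ⟨-m, ?_⟩
    rw [Int.cast_neg, show (m : ℂ) = Int.castAddHom ℂ m from rfl, hm,
      Dade.classInner_invDade hD hαc hχc, classInner_def]
    have hL : (Nat.card L : ℂ) ≠ 0 := card_ne_zero
    have h1 : ∀ B : Finset G, ((Nat.card (MulAction.stabilizer L B) : ℂ) / Nat.card L) •
        (if ↑B ⊆ A ∧ B.Nonempty then (-1) ^ B.card * dadeTerm H α χ B else 0) =
        (Nat.card L : ℂ)⁻¹ * ∑ n : L, α n * conj (if (↑B ⊆ A ∧ B.Nonempty) ∧
          (n : G) ∈ normalizer (B : Set G) then (-1) ^ B.card * dadeAvgB H χ B n else 0) := by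
      intro B
      have hc : Nat.card (MulAction.stabilizer L B) = Nat.card ↥(L ⊓ normalizer (B : Set G)) := by
        have : MulAction.stabilizer L B = (L ⊓ normalizer (B : Set G)).subgroupOf L := by
          ext l
          rw [MulAction.mem_stabilizer_iff, hsmul, inf_subgroupOf_left, mem_subgroupOf,
            mem_set_normalizer_iff'', Finset.ext_iff]
          simp only [mem_image_conj, Finset.mem_coe]
          exact forall_congr' fun x => Iff.comm
        rw [this]
        exact Nat.card_congr (subgroupOfEquivOfLe inf_le_left).toEquiv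
      have hN : (Nat.card ↥(L ⊓ normalizer (B : Set G)) : ℂ) ≠ 0 := card_ne_zero
      rw [hc]
      split_ifs with hB
      · simp only [hB, true_and, dadeTerm, smul_eq_mul]
        have : ∀ n : L, α n * conj (if (n : G) ∈ normalizer (B : Set G) then
            (-1) ^ B.card * dadeAvgB H χ B n else 0) = (-1) ^ B.card *
            (if (n : G) ∈ normalizer (B : Set G) then α n * conj (dadeAvgB H χ B n) else 0) := by
          intro n
          split_ifs
          · simp only [map_mul, map_pow, map_neg, map_one]; ring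
          · simp
        simp only [this, ← Finset.mul_sum]
        field_simp
      · simp [hB]
    simp only [h1, ← Finset.mul_sum]
    rw [Finset.sum_comm, ← mul_neg, ← Finset.sum_neg_distrib]
    congr 1
    refine Finset.sum_congr rfl fun n _ => ?_
    by_cases hn : (n : G) ∈ A
    · rw [← Finset.mul_sum, ← map_sum, Dade.alt_sum hD hχc hn, invDade_of_mem _ hn]
      simp
    · simp [hαA n hn]
  · intro l B
    have e1 : (↑(l • B) ⊆ A ∧ (l • B).Nonempty) ↔ (↑B ⊆ A ∧ B.Nonempty) := by
      rw [hsmul, Finset.image_nonempty, Finset.coe_image, Set.image_subset_iff]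
      refine and_congr_left fun _ => forall₂_congr fun a _ => ?_
      exact Dade.conj_mem_iff hD l.2
    simp only [e1]
    split_ifs with hB
    · rw [hsmul, Dade.term_conj hD hαc hχc hB.1, Finset.card_image_of_injective]
      exact (MulAut.conj (l : G)).injective
    · rfl
  · intro B
    split_ifs with hB
    · obtain ⟨m, hm⟩ := Dade.term_int hD hα hχ hB.1 hB.2
      exact ⟨(-1) ^ B.card * m, by simp [hm]⟩
    · exact zero_mem _

/-- Peterfalvi (2.6)(b). -/
theorem Dade.gen [Fintype G] [Fintype L] (hD : DadeHypothesis A L H) {α : L → ℂ}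
    (hα : IsGeneralizedCharacter L α) (hαA : ∀ x : L, (x : G) ∉ A → α x = 0) :
    IsGeneralizedCharacter G (dadeIsometry A L H α) :=
  gen_of_inner_int (Dade.isClassFunction hD (gen_isClassFunction hα))
    fun _ hχ => Dade.inner_int hD hα hαA (gen_of_irr hχ)

end CL.PF
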