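import Cfsg.Agent.PF.Defs

/-! Further vocabulary for Peterfalvi, sections 9 to 14. -/

set_option autoImplicit false

namespace CL.PF

open Cfsg

section
variable {M X₁ : Type*} [Group M] [Group X₁]

/-- The data of case (9.7.a): `H₁ / H₀` has order `p`, is normalised by `U`, its `W₁`-conjugates
generate `H / H₀`; `a = |U : C_U(H₁ / H₀)|` is `uOf H₁ U H₀`. -/
structure NonGalois9 (H U H₀ : Subgroup M) [H₀.Normal] (f₁ : X₁ →* M) (H₁ : Subgroup M) :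
    Prop where
  le₀ : H₀ ≤ H₁
  le : H₁ ≤ H
  card : H₀.relIndex H₁ = pOf H H₀
  norm : U ≤ Subgroup.normalizer (H₁ : Set M)
  gen : (⨆ x : X₁, H₁.map (MulAut.conj (f₁ x)).toMonoidHom) = H
  one_lt : 1 < uOf H₁ U H₀
  dvd : uOf H₁ U H₀ ∣ pOf H H₀ - 1
  u_dvd : uOf H U H₀ ∣ uOf H₁ U H₀ ^ (Nat.card X₁ - 1)

end

section
variable {G : Type*} [Group G]

/-- Case (9.7.b) for a maximal subgroup `M` with `H₀ = 1`: `U` acts irreducibly on `M_F`. -/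
def PGalois (M U : Subgroup G) : Prop := IsGalois9 (fittingHall M) (U.subgroupOf M) ⊥

/-- `u = |U : C_U(M_F)|` -/
noncomputable abbrev uP (M U : Subgroup G) : ℕ :=
  (U ⊓ Subgroup.centralizer (fittingHallOf M : Set G)).relIndex U

/-- The union of the `G`-conjugates of the set `A`. -/
def conjSet (A : Set G) : Set G := {g | ∃ a ∈ A, ∃ x : G, g = x * a * x⁻¹}

variable [Finite G] {M W₁ U W₂ : Subgroup G}

/-- `α_{ij} = μ_{ij} - δ μ_{i0} - n ζ` of (10.5) -/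
noncomputable def PCtx.alpha (c : PCtx M W₁ U W₂) (δ : ℤ) (n : ℕ) (ζ : M → ℂ) (i : W₁ →* ℂˣ)
    (j : W₂ →* ℂˣ) : M → ℂ :=
  mu c.f₁ c.f₂ i j - (δ : ℂ) • mu c.f₁ c.f₂ i 1 - (n : ℂ) • ζ

/-- the constants `d`, `δ`, `n` of (10.3) -/
structure PCtx.Const345 (c : PCtx M W₁ U W₂) (d : ℕ) (δ : ℤ) (n : ℕ) : Prop where
  deg : ∀ i j, j ≠ 1 → mu c.f₁ c.f₂ i j 1 = d
  sign : ∀ j, j ≠ 1 → delta c.f₁ c.f₂ j = δ
  one_lt : 1 < d
  eq : (d : ℤ) = δ + n * Nat.card W₁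

/-- `β_j = Ind_{P W₁}^S 1 - μ_{0j}` of (13.18) -/
noncomputable def PCtx.beta (c : PCtx M W₁ U W₂) (j : W₂ →* ℂˣ) : M → ℂ :=
  indFun (fittingHall M ⊔ W₁.subgroupOf M) (fun _ => 1) - mu c.f₁ c.f₂ 1 j

/-- `Γ = β_j^τ - 1_G + η_{0j}` of (13.18) -/
noncomputable def PCtx.Gamma (c : PCtx M W₁ U W₂) (j : W₂ →* ℂˣ) : G → ℂ :=
  ftTau M (c.beta j) - (fun _ => 1) + eta W₁.subtype W₂.subtype 1 j

end

end CL.PF
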