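import Cfsg.Agent.PF.Defs9
import Cfsg.Agent.PF.Wielandt
import Cfsg.Agent.PF.SdProj
import Cfsg.Agent.Solv.Coprime
import Cfsg.Agent.Solv.Frattini
import Cfsg.Agent.Solv.CoreFree
import Cfsg.Agent.Char.Chief
import Cfsg.Agent.Auto.ACL_PF_pOf_fd796e
import Cfsg.Agent.Auto.ACL_PF_centMod_90674a

/-! Peterfalvi (9.3) (internal part), (9.4), (9.6).  Owner: helper54. -/

set_option autoImplicit false
set_option linter.unusedSectionVars false

namespace CL.PF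

open Cfsg Subgroup

section centMod
variable {L : Type*} [Group L] {H H₀ K : Subgroup L} [H₀.Normal]

theorem mem_centMod {g : L} : g ∈ centMod H H₀ ↔ ∀ x ∈ H, g * x * g⁻¹ * x⁻¹ ∈ H₀ := by
  simp only [centMod, mem_comap, mem_centralizer_iff, SetLike.mem_coe, mem_map,
    forall_exists_index, and_imp, forall_apply_eq_imp_iff₂]
  refine forall₂_congr fun x _ => ?_
  rw [← QuotientGroup.eq_one_iff, eq_comm, ← mul_inv_eq_one]
  simp [mul_assoc]

theorem le_centMod_iff : K ≤ centMod H H₀ ↔ ⁅K, H⁆ ≤ H₀ := by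
  rw [commutator_le]
  exact forall₂_congr fun g _ => mem_centMod

theorem le_centMod_self : H₀ ≤ centMod H H₀ := le_centMod_iff.2 (commutator_le_left _ _)

theorem centMod_anti (h : K ≤ H) : centMod H H₀ ≤ centMod K H₀ := fun _ hg =>
  mem_centMod.2 fun x hx => mem_centMod.1 hg x (h hx)

theorem centralizer_le_centMod : centralizer (H : Set L) ≤ centMod H H₀ := fun g hg =>
  mem_centMod.2 fun x hx => by
    rw [← hg x hx, mul_inv_cancel_right, mul_inv_cancel]; exact one_mem _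

theorem normalizer_le_normalizer_centMod :
    normalizer (H : Set L) ≤ normalizer (centMod H H₀ : Set L) := by
  have key : ∀ a ∈ normalizer (H : Set L), ∀ g ∈ centMod H H₀, a * g * a⁻¹ ∈ centMod H H₀ := by
    intro a ha g hg
    refine mem_centMod.2 fun x hx => ?_
    have h1 := mem_centMod.1 hg _ (conj_inv_mem_of_le_normalizer le_rfl ha hx)
    have h2 := Normal.conj_mem inferInstance _ h1 a
    convert h2 using 1; group
  intro a ha
  refine mem_normalizer_iff.2 fun g => ⟨key a ha g, fun hg => ?_⟩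
  have := key _ (inv_mem ha) _ hg
  simpa [mul_assoc] using this

instance centMod_normal [H.Normal] : (centMod H H₀).Normal :=
  normalizer_eq_top_iff.1 (eq_top_iff.2
    (le_trans (normalizer_eq_top (H := H)).ge normalizer_le_normalizer_centMod))

theorem le_normalizer_of_commutator_le {A N : Subgroup L} (h : ⁅A, N⁆ ≤ N) :
    A ≤ normalizer (N : Set L) := le_normalizer_iff_commutator_le_right.2 h

theorem mem_sup_iff_of_normal {A B : Subgroup L} [A.Normal] {g : L} :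
    g ∈ A ⊔ B ↔ ∃ a ∈ A, ∃ b ∈ B, g = a * b := by
  rw [← SetLike.mem_coe, normal_mul]
  exact ⟨fun ⟨a, ha, b, hb, e⟩ => ⟨a, ha, b, hb, e.symm⟩,
    fun ⟨a, ha, b, hb, e⟩ => ⟨a, ha, b, hb, e.symm⟩⟩

/-- Dedekind's law. -/
theorem sup_inf_dedekind {A B D : Subgroup L} [A.Normal] (h : A ≤ D) :
    (A ⊔ B) ⊓ D = A ⊔ (B ⊓ D) := by
  refine le_antisymm (fun g hg => ?_) (sup_le (le_inf le_sup_left h)
    (inf_le_inf_right _ le_sup_right))
  obtain ⟨a, ha, b, hb, rfl⟩ := mem_sup_iff_of_normal.1 hg.1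
  exact mul_mem (mem_sup_left ha) (mem_sup_right ⟨hb, (mul_mem_cancel_left (h ha)).1 hg.2⟩)

theorem card_map_mk'_eq (A N : Subgroup L) [N.Normal] :
    Nat.card (A.map (QuotientGroup.mk' N)) = N.relIndex A := by
  rw [← relIndex_ker, QuotientGroup.ker_mk']

theorem card_eq_card_mul_relIndex {A B : Subgroup L} (h : A ≤ B) :
    Nat.card B = Nat.card A * A.relIndex B := by
  rw [← (A.subgroupOf B).card_mul_index, card_subgroupOf_of_le h]; rfl

end centMod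

variable {M X₁ X₂ : Type*} [Group M] [Finite M] [Group X₁] [Group X₂] [Finite X₁] [Finite X₂]
  {H U : Subgroup M} {f₁ : X₁ →* M} {f₂ : X₂ →* M}

theorem Hyp92.H_le (h : Hyp92 H U f₁ f₂) : H ≤ commutator M := h.sup_eq ▸ le_sup_left

theorem Hyp92.U_le (h : Hyp92 H U f₁ f₂) : U ≤ commutator M := h.sup_eq ▸ le_sup_right

theorem Hyp92.sup_top (h : Hyp92 H U f₁ f₂) : H ⊔ U ⊔ f₁.range = ⊤ := by
  rw [h.sup_eq, h.primeTI.sup_eq]

theorem Hyp92.card_W₁ (h : Hyp92 H U f₁ f₂) : Nat.card f₁.range = Nat.card X₁ :=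
  (Nat.card_congr (MonoidHom.ofInjective h.primeTI.inj₁).toEquiv).symm

theorem Hyp92.card_W₂ (h : Hyp92 H U f₁ f₂) : Nat.card f₂.range = Nat.card X₂ :=
  (Nat.card_congr (MonoidHom.ofInjective h.primeTI.inj₂).toEquiv).symm

theorem Hyp92.mem_der_iff (h : Hyp92 H U f₁ f₂) {g : M} :
    g ∈ commutator M ↔ ∃ a ∈ H, ∃ u ∈ U, g = a * u := by
  have := h.H_normal
  rw [← h.sup_eq, mem_sup_iff_of_normal]

theorem Hyp92.exists_der_mul (h : Hyp92 H U f₁ f₂) (g : M) :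
    ∃ k ∈ commutator M, ∃ x : X₁, g = k * f₁ x := by
  obtain ⟨k, hk, _, ⟨x, rfl⟩, e⟩ :=
    mem_sup_iff_of_normal.1 (h.primeTI.sup_eq ▸ mem_top g : g ∈ commutator M ⊔ f₁.range)
  exact ⟨k, hk, x, e⟩

theorem Hyp92.exists_mul (h : Hyp92 H U f₁ f₂) (g : M) :
    ∃ a ∈ H, ∃ u ∈ U, ∃ x : X₁, g = a * u * f₁ x := by
  obtain ⟨k, hk, x, rfl⟩ := h.exists_der_mul g
  obtain ⟨a, ha, u, hu, rfl⟩ := h.mem_der_iff.1 hk
  exact ⟨a, ha, u, hu, x, rfl⟩

theorem Hyp92.eq_one_of_mem_der (h : Hyp92 H U f₁ f₂) {x : X₁} (hx : f₁ x ∈ commutator M) :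
    x = 1 := by
  have : f₁ x ∈ commutator M ⊓ f₁.range := ⟨hx, x, rfl⟩
  rw [h.primeTI.inf_eq, mem_bot] at this
  exact h.primeTI.inj₁ (by rw [this, map_one])

theorem Hyp92.eq_one_of_mem (h : Hyp92 H U f₁ f₂) {g : M} (hH : g ∈ H) (hU : g ∈ U) : g = 1 :=
  mem_bot.1 (h.inf_eq ▸ (⟨hH, hU⟩ : g ∈ H ⊓ U))

theorem Hyp92.conj_mem_U (h : Hyp92 H U f₁ f₂) (x : X₁) {u : M} (hu : u ∈ U) :
    f₁ x * u * (f₁ x)⁻¹ ∈ U := conj_mem_of_le_normalizer h.W₁_norm ⟨x, rfl⟩ hu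

theorem Hyp92.conj_inv_mem_U (h : Hyp92 H U f₁ f₂) (x : X₁) {u : M} (hu : u ∈ U) :
    (f₁ x)⁻¹ * u * f₁ x ∈ U := conj_inv_mem_of_le_normalizer h.W₁_norm ⟨x, rfl⟩ hu

theorem Hyp92.normal_of_le (h : Hyp92 H U f₁ f₂) {N : Subgroup M}
    (hH : H ≤ normalizer (N : Set M)) (hU : U ⊔ f₁.range ≤ normalizer (N : Set M)) : N.Normal :=
  normalizer_eq_top_iff.1 (eq_top_iff.2 (by
    rw [← h.sup_top, sup_assoc]; exact sup_le hH hU))

theorem Hyp92.norm_U (h : Hyp92 H U f₁ f₂) : U ⊔ f₁.range ≤ normalizer (U : Set M) :=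
  sup_le le_normalizer h.W₁_norm

theorem Hyp92.card_der (h : Hyp92 H U f₁ f₂) :
    Nat.card (commutator M) = Nat.card H * Nat.card U := by
  have := h.H_normal
  rw [← h.sup_eq, card_sup_of_sd le_normalizer_of_normal h.inf_eq]

theorem Hyp92.card_M (h : Hyp92 H U f₁ f₂) :
    Nat.card M = Nat.card H * Nat.card U * Nat.card X₁ := by
  rw [← h.card_der, ← h.card_W₁, ← card_sup_of_sd le_normalizer_of_normal h.primeTI.inf_eq,
    h.primeTI.sup_eq, card_top]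

theorem Hyp92.index_der (h : Hyp92 H U f₁ f₂) : (commutator M).index = Nat.card X₁ := by
  have := (commutator M).card_mul_index
  rw [h.card_M, ← h.card_der] at this
  exact Nat.eq_of_mul_eq_mul_left Nat.card_pos this

theorem Hyp92.index_H (h : Hyp92 H U f₁ f₂) : H.index = Nat.card U * Nat.card X₁ := by
  have := H.card_mul_index
  rw [h.card_M, mul_assoc] at this
  exact Nat.eq_of_mul_eq_mul_left Nat.card_pos this

theorem Hyp92.coprime_U_H (h : Hyp92 H U f₁ f₂) : (Nat.card U).Coprime (Nat.card H) :=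
  (Nat.Coprime.coprime_mul_right_right (h.index_H ▸ h.H_hall)).symm

theorem Hyp92.coprime_q_der (h : Hyp92 H U f₁ f₂) :
    (Nat.card X₁).Coprime (Nat.card (commutator M)) := by
  have h1 := f₁.range.card_mul_index
  rw [h.card_M, ← h.card_der, h.card_W₁, mul_comm] at h1
  have h2 := Nat.eq_of_mul_eq_mul_right h.prime.pos h1
  have := h.primeTI.hall
  rwa [h2, h.card_W₁] at this

theorem Hyp92.coprime_q_H (h : Hyp92 H U f₁ f₂) : (Nat.card X₁).Coprime (Nat.card H) :=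
  h.coprime_q_der.coprime_dvd_right (card_dvd_of_le h.H_le)

theorem Hyp92.coprime_q_U (h : Hyp92 H U f₁ f₂) : (Nat.card X₁).Coprime (Nat.card U) :=
  h.coprime_q_der.coprime_dvd_right (card_dvd_of_le h.U_le)

theorem Hyp92.q_odd (h : Hyp92 H U f₁ f₂) : Odd (Nat.card X₁) :=
  Odd.of_dvd_nat h.odd (h.card_W₁ ▸ card_subgroup_dvd_card _)

theorem Hyp92.three_le_q (h : Hyp92 H U f₁ f₂) : 3 ≤ Nat.card X₁ := by
  have h1 := h.prime.two_le
  obtain ⟨k, hk⟩ := h.q_odd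
  omega

theorem Hyp92.U_inf_W₁ (h : Hyp92 H U f₁ f₂) : U ⊓ f₁.range = ⊥ :=
  eq_bot_iff.2 (h.primeTI.inf_eq ▸ inf_le_inf_right _ h.U_le)

theorem Hyp92.card_UW₁ (h : Hyp92 H U f₁ f₂) :
    Nat.card ↥(U ⊔ f₁.range) = Nat.card U * Nat.card X₁ := by
  rw [card_sup_of_sd h.W₁_norm h.U_inf_W₁, h.card_W₁]

theorem Hyp92.coprime_UW₁_H (h : Hyp92 H U f₁ f₂) :
    (Nat.card ↥(U ⊔ f₁.range)).Coprime (Nat.card H) := by
  rw [h.card_UW₁, ← h.index_H]; exact h.H_hall.symm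

theorem Hyp92.solv_sub (h : Hyp92 H U f₁ f₂) (K : Subgroup M) : Group.IsSolvable K :=
  have := h.solv; inferInstance

/-- a non-trivial element of `X₁` generates -/
theorem Hyp92.exists_pow_eq (h : Hyp92 H U f₁ f₂) {x : X₁} (hx : x ≠ 1) (y : X₁) :
    ∃ n : ℕ, x ^ n = y := by
  have := Fact.mk h.prime
  exact (mem_powers_iff_mem_zpowers.2 (mem_zpowers_of_prime_card rfl hx) : y ∈ Submonoid.powers x)

/-- `U W₁` is a Frobenius group with kernel `U` -/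
theorem Hyp92.fpf (h : Hyp92 H U f₁ f₂) {x : M} (hx : x ∈ f₁.range) (hx1 : x ≠ 1) {u : M}
    (hu : u ∈ U) (hc : x * u = u * x) : u = 1 := by
  have h1 : u ∈ commutator M ⊓ centralizer ({x} : Set M) :=
    ⟨h.U_le hu, mem_centralizer_singleton_iff.2 hc.symm⟩
  rw [h.primeTI.cent x hx hx1] at h1
  exact h.eq_one_of_mem (h.W₂_le h1) hu

theorem Hyp92.U_ne_bot (h : Hyp92 H U f₁ f₂) : U ≠ ⊥ := fun e => h.not_cent (e ▸ bot_le)

theorem Hyp92.cent_W₁ (h : Hyp92 H U f₁ f₂) :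
    H ⊓ Subgroup.centralizer (f₁.range : Set M) = f₂.range := by
  refine le_antisymm (fun g hg => ?_) (le_inf h.W₂_le fun g hg x hx => ?_)
  · obtain ⟨⟨x, hx⟩, hx1⟩ := (ne_bot_iff_exists_ne_one).1 h.primeTI.ne_bot₁
    rw [← h.primeTI.cent x hx (by simpa using hx1)]
    exact ⟨h.H_le hg.1, mem_centralizer_singleton_iff.2 (hg.2 x hx).symm⟩
  · by_cases hx1 : x = 1
    · simp [hx1]
    · rw [← h.primeTI.cent x hx hx1] at hg
      exact (mem_centralizer_singleton_iff.1 hg.2).symm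

theorem Hyp92.U_inf_cent_W₁ (h : Hyp92 H U f₁ f₂) :
    U ⊓ Subgroup.centralizer (f₁.range : Set M) = ⊥ := by
  obtain ⟨⟨x, hx⟩, hx1⟩ := (ne_bot_iff_exists_ne_one).1 h.primeTI.ne_bot₁
  exact eq_bot_iff.2 fun u hu => h.fpf hx (by simpa using hx1) hu.1 (hu.2 x hx)

/-- (9.1) applied to `U W₁` acting on `H` -/
theorem Hyp92.t9_3 (h : Hyp92 H U f₁ f₂) :
    Nat.card ↥(H ⊓ Subgroup.centralizer ((U ⊔ f₁.range : Subgroup M) : Set M)) ^ Nat.card X₁ *
        Nat.card H =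
      Nat.card X₂ ^ Nat.card X₁ * Nat.card ↥(H ⊓ Subgroup.centralizer (U : Set M)) := by
  have := h.H_normal
  have := frobenius_wielandt (H := H) h.U_inf_W₁
    (fun e he u hu => conj_mem_of_le_normalizer h.W₁_norm he hu)
    (fun e he he1 u hu hc => h.fpf he he1 hu hc) le_normalizer_of_normal (h.solv_sub H)
    h.coprime_UW₁_H
  rwa [h.cent_W₁, h.card_W₁, h.card_W₂] at this

/-- (9.4) -/
theorem Hyp92.exists_hyp95 (h : Hyp92 H U f₁ f₂) :
    ∃ (H₀ : Subgroup M) (_ : H₀.Normal), Hyp95 H U H₀ f₁ f₂ := by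
  have := h.H_normal
  have := h.H_nil
  have hle : ⁅H, H⁆ ⊔ (H ⊓ centralizer (U : Set M)) ≤ H :=
    sup_le (commutator_le_left _ _) inf_le_left
  have hN : (⁅H, H⁆ ⊔ (H ⊓ centralizer (U : Set M))).Normal :=
    h.normal_of_le (le_normalizer_of_commutator_le
      ((commutator_mono le_rfl hle).trans le_sup_left))
      (le_normalizer_sup le_normalizer_of_normal
        (le_normalizer_inf le_normalizer_of_normal (le_normalizer_centralizer h.norm_U)))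
  have hlt : ⁅H, H⁆ ⊔ (H ⊓ centralizer (U : Set M)) < H := by
    refine lt_of_le_of_ne hle fun e => h.not_cent ?_
    have h1 : ⁅H, H⁆ ≤ (frattini H).map H.subtype := by
      rw [← map_subtype_commutator]
      exact map_mono commutator_le_frattini
    have h2 : H ⊓ centralizer (U : Set M) = H := eq_of_sup_map_frattini_eq
      (le_antisymm (sup_le inf_le_left (map_subtype_le _))
        (by conv_lhs => rw [← e]
            exact sup_le (h1.trans le_sup_right) le_sup_left))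
    exact le_centralizer_iff.1 (h2 ▸ inf_le_right)
  obtain ⟨L, hL, hc⟩ := Char.exists_isChief_below hlt
  have := hc.normal_left
  exact ⟨L, this, h, hc.lt, hc.eq_or_eq, le_sup_right.trans hL⟩

variable {H₀ : Subgroup M} [H₀.Normal]

theorem Hyp95.H₀_le (h : Hyp95 H U H₀ f₁ f₂) : H₀ ≤ H := h.H₀_lt.le

theorem Hyp95.isChief (h : Hyp95 H U H₀ f₁ f₂) : Char.IsChief H₀ H :=
  ⟨inferInstance, h.H_normal, h.H₀_lt, h.chief⟩

/-- `C_{H / H₀}(U) = 1` -/
theorem Hyp95.mem_of_fixed_U (h : Hyp95 H U H₀ f₁ f₂) {x : M} (hx : x ∈ H)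
    (hfix : ∀ u ∈ U, u * x * u⁻¹ * x⁻¹ ∈ H₀) : x ∈ H₀ := by
  obtain ⟨n, hn, c, hc, rfl⟩ := coprime_fixed_mod le_normalizer_of_normal
    (coprime_card_of_le le_rfl h.H₀_le h.coprime_U_H) (Or.inl (h.solv_sub _)) h.H₀_le hx hfix
  exact mul_mem hn (h.cent_le hc)

/-- `C_{H / H₀}(w) = W₂ H₀ / H₀` -/
theorem Hyp95.mem_of_fixed_W₁ (h : Hyp95 H U H₀ f₁ f₂) {w : X₁} (hw : w ≠ 1) {x : M} (hx : x ∈ H)
    (hfix : f₁ w * x * (f₁ w)⁻¹ * x⁻¹ ∈ H₀) : x ∈ f₂.range ⊔ H₀ := by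
  have hcop : (Nat.card f₁.range).Coprime (Nat.card H₀) :=
    h.card_W₁ ▸ h.coprime_q_H.coprime_dvd_right (card_dvd_of_le h.H₀_le)
  obtain ⟨n, hn, c, hc, rfl⟩ := coprime_fixed_mod le_normalizer_of_normal hcop
    (Or.inl (h.solv_sub _)) h.H₀_le hx (by
      rintro _ ⟨y, rfl⟩
      obtain ⟨k, rfl⟩ := h.exists_pow_eq hw y
      have h1 : f₁ w ∈ centMod (zpowers x) H₀ := by
        refine le_centMod_iff.2 ?_ (mem_zpowers _)
        rw [← QuotientGroup.ker_mk' H₀, ← Subgroup.map_eq_bot_iff, map_commutator, MonoidHom.map_zpowers,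
          MonoidHom.map_zpowers, commutator_eq_bot_iff_le_centralizer, zpowers_le,
          zpowers_eq_closure, centralizer_closure, mem_centralizer_singleton_iff,
          ← map_mul, ← map_mul, ← mul_inv_eq_one, ← map_inv, ← map_mul, ← MonoidHom.mem_ker,
          QuotientGroup.ker_mk']
        simpa [mul_assoc] using hfix
      rw [map_pow]
      exact mem_centMod.1 (pow_mem h1 k) x (mem_zpowers x))
  rw [h.cent_W₁] at hc
  exact mul_mem (mem_sup_right hn) (mem_sup_left hc)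

/-- (9.4.a), (9.6) -/
theorem Hyp95.t9_6 (h : Hyp95 H U H₀ f₁ f₂) :
    (pOf H H₀).Prime ∧ ⁅H, H⁆ ≤ H₀ ∧ (∀ x ∈ H, x ^ pOf H H₀ ∈ H₀) ∧
      H₀.relIndex H = pOf H H₀ ^ Nat.card X₁ ∧ H₀.relIndex f₂.range = pOf H H₀ := by
  have := h.solv
  have := h.H_normal
  have hab := h.isChief.commutator_le_of_solvable
  obtain ⟨p, a, hp, hpow, ha⟩ := h.isChief.exists_relIndex_eq_prime_pow hab
  have ha0 : a ≠ 0 := by
    rintro rfl
    exact h.H₀_lt.not_ge (relIndex_eq_one.1 (by simpa using ha))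
  have hpp : pOf H H₀ = p := by rw [pOf, ha, hp.pow_minFac ha0]
  rw [hpp]
  set π := QuotientGroup.mk' H₀ with hπ
  have hker : π.ker = H₀ := QuotientGroup.ker_mk' H₀
  have hUn : ∀ e ∈ f₁.range.map π, ∀ u ∈ U.map π, e * u * e⁻¹ ∈ U.map π := by
    rintro _ ⟨e, he, rfl⟩ _ ⟨u, hu, rfl⟩
    exact ⟨_, conj_mem_of_le_normalizer h.W₁_norm he hu, by simp⟩
  have hfpf : ∀ e ∈ f₁.range.map π, e ≠ 1 → ∀ u ∈ U.map π, e * u = u * e → u = 1 := by
    rintro _ ⟨e, he, rfl⟩ he1 _ ⟨u, hu, rfl⟩ hc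
    have h1 : e * u * e⁻¹ * u⁻¹ ∈ H₀ := by
      rw [← hker, MonoidHom.mem_ker]; simp only [map_mul, map_inv, hc]; group
    have h2 := h.eq_one_of_mem (h.H₀_le h1)
      (mul_mem (conj_mem_of_le_normalizer h.W₁_norm he hu) (inv_mem hu))
    rw [h.fpf he (by rintro rfl; simp at he1) hu
      (by rwa [mul_inv_eq_one, mul_inv_eq_iff_eq_mul] at h2), map_one]
  have hdisj : U.map π ⊓ f₁.range.map π = ⊥ := by
    refine eq_bot_iff.2 fun g hg => ?_
    by_contra hg1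
    exact hg1 (hfpf g hg.2 hg1 g hg.1 rfl)
  have : (H.map π).Normal := Normal.map inferInstance _ (QuotientGroup.mk'_surjective _)
  have hcop : (Nat.card ↥(U.map π ⊔ f₁.range.map π)).Coprime (Nat.card (H.map π)) := by
    rw [← Subgroup.map_sup]
    exact (h.coprime_UW₁_H.coprime_dvd_left (card_map_dvd _ _)).coprime_dvd_right
      (card_map_dvd _ _)
  have key := frobenius_wielandt (H := H.map π) hdisj hUn hfpf le_normalizer_of_normal
    inferInstance hcop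
  have hc : ∀ A : Subgroup M, A ≤ U ⊔ f₁.range →
      H.map π ⊓ centralizer (A.map π : Set (M ⧸ H₀)) = (H ⊓ centralizer (A : Set M)).map π :=
    fun A hA => (map_inf_centralizer_of_coprime π le_normalizer_of_normal
      (coprime_card_of_le hA inf_le_left h.coprime_UW₁_H) (Or.inl inferInstance)).symm
  have hb : ∀ A : Subgroup M, U ≤ A → (H ⊓ centralizer (A : Set M)).map π = ⊥ := fun A hA =>
    (Subgroup.map_eq_bot_iff _).2
      (((inf_le_inf_left _ (centralizer_le hA)).trans h.cent_le).trans hker.ge)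
  have hW : Nat.card (f₁.range.map π) = Nat.card X₁ := by
    rw [card_map_mk'_eq, ← h.card_W₁, ← inf_relIndex_right,
      show H₀ ⊓ f₁.range = ⊥ from eq_bot_iff.2
        (h.primeTI.inf_eq ▸ inf_le_inf_right _ (h.H₀_le.trans h.H_le)), relIndex_bot_left]
  rw [← Subgroup.map_sup, hc _ le_rfl, hc _ le_sup_left, hc _ le_sup_right, hb _ le_rfl,
    hb _ le_sup_left, h.cent_W₁, hW, card_bot, one_pow, one_mul, mul_one, card_map_mk'_eq,
    card_map_mk'_eq] at key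
  have hW₂ : H₀.relIndex f₂.range ∣ p := by
    rw [← card_map_mk'_eq]
    have := h.primeTI.cyclic₂
    have : IsCyclic (f₂.range.map π) :=
      isCyclic_of_surjective _ (π.subgroupMap_surjective f₂.range)
    rw [← IsCyclic.exponent_eq_card, Monoid.exponent_dvd_iff_forall_pow_eq_one]
    rintro ⟨_, y, hy, rfl⟩
    ext
    simp only [SubmonoidClass.mk_pow, OneMemClass.coe_one, ← map_pow]
    exact (QuotientGroup.eq_one_iff _).2 (hpow y (h.W₂_le hy))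
  have hW₂' : H₀.relIndex f₂.range = p := by
    refine ((Nat.dvd_prime hp).1 hW₂).resolve_left fun e => ?_
    rw [e, one_pow] at key
    exact h.H₀_lt.not_ge (relIndex_eq_one.1 key)
  exact ⟨hp, hab, hpow, by rw [key, hW₂'], hW₂'⟩

theorem Hyp95.p_prime (h : Hyp95 H U H₀ f₁ f₂) : (pOf H H₀).Prime := h.t9_6.1

theorem Hyp95.der_H_le (h : Hyp95 H U H₀ f₁ f₂) : ⁅H, H⁆ ≤ H₀ := h.t9_6.2.1

theorem Hyp95.pow_mem (h : Hyp95 H U H₀ f₁ f₂) {x : M} (hx : x ∈ H) : x ^ pOf H H₀ ∈ H₀ :=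
  h.t9_6.2.2.1 x hx

theorem Hyp95.relIndex_H (h : Hyp95 H U H₀ f₁ f₂) : H₀.relIndex H = pOf H H₀ ^ Nat.card X₁ :=
  h.t9_6.2.2.2.1

theorem Hyp95.relIndex_W₂ (h : Hyp95 H U H₀ f₁ f₂) : H₀.relIndex f₂.range = pOf H H₀ :=
  h.t9_6.2.2.2.2

theorem Hyp95.H_le_centMod (h : Hyp95 H U H₀ f₁ f₂) : H ≤ centMod H H₀ :=
  le_centMod_iff.2 h.der_H_le

theorem Hyp95.p_dvd_card_H (h : Hyp95 H U H₀ f₁ f₂) : pOf H H₀ ∣ Nat.card H :=
  (Nat.minFac_dvd _).trans (relIndex_dvd_card _ _)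

theorem Hyp95.pOf_eq (h : Hyp95 H U H₀ f₁ f₂) (hp : (Nat.card X₂).Prime) :
    pOf H H₀ = Nat.card X₂ :=
  (Nat.prime_dvd_prime_iff_eq h.p_prime hp).1
    (h.relIndex_W₂ ▸ h.card_W₂ ▸ relIndex_dvd_card _ _)

theorem Hyp95.p_odd (h : Hyp95 H U H₀ f₁ f₂) : Odd (pOf H H₀) ∧ pOf H H₀ ≠ Nat.card X₁ :=
  ⟨Odd.of_dvd_nat h.odd (h.p_dvd_card_H.trans (card_subgroup_dvd_card _)), fun e =>
    h.prime.one_lt.ne' ((Nat.coprime_self _).1
      (h.coprime_q_H.coprime_dvd_right (e ▸ h.p_dvd_card_H)))⟩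

theorem Hyp95.three_le_p (h : Hyp95 H U H₀ f₁ f₂) : 3 ≤ pOf H H₀ := by
  have h1 := h.p_prime.two_le
  obtain ⟨k, hk⟩ := h.p_odd.1
  omega

theorem Hyp95.cent_le_cOf (h : Hyp95 H U H₀ f₁ f₂) :
    U ⊓ Subgroup.centralizer (H : Set M) ≤ cOf H U H₀ :=
  inf_le_inf_left _ centralizer_le_centMod

theorem Hyp95.der_le_cOf (h : Hyp95 H U H₀ f₁ f₂) : ⁅U, U⁆ ≤ cOf H U H₀ :=
  (le_inf (le_normalizer_iff_commutator_le_right.1 le_normalizer) h.der_cent).trans h.cent_le_cOf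

theorem Hyp95.W₁_norm_cOf (h : Hyp95 H U H₀ f₁ f₂) :
    U ⊔ f₁.range ≤ Subgroup.normalizer (cOf H U H₀ : Set M) :=
  have := h.H_normal
  le_normalizer_inf h.norm_U le_normalizer_of_normal

theorem Hyp95.not_U_le_centMod (h : Hyp95 H U H₀ f₁ f₂) {K : Subgroup M} (hK : K ≤ H)
    (hK₀ : ¬ K ≤ H₀) : ¬ U ≤ centMod K H₀ := fun hU =>
  hK₀ fun x hx => h.mem_of_fixed_U (hK hx) fun u hu => mem_centMod.1 (hU hu) x hx

theorem Hyp95.HC_eq (h : Hyp95 H U H₀ f₁ f₂) :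
    H ⊔ cOf H U H₀ = commutator M ⊓ centMod H H₀ := by
  have := h.H_normal
  rw [← h.sup_eq, sup_inf_dedekind h.H_le_centMod]

/-- `W₁` acts fixed-point-freely on `U / C`. -/
theorem Hyp95.mem_cOf_of_fixed (h : Hyp95 H U H₀ f₁ f₂) {u : M} (hu : u ∈ U)
    (hfix : ∀ x : X₁, f₁ x * u * (f₁ x)⁻¹ * u⁻¹ ∈ cOf H U H₀) : u ∈ cOf H U H₀ := by
  obtain ⟨n, hn, c, hc, rfl⟩ := coprime_fixed_mod (A := f₁.range)
    (le_sup_right.trans h.W₁_norm_cOf)
    (h.card_W₁ ▸ h.coprime_q_U.coprime_dvd_right (card_dvd_of_le inf_le_left))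
    (Or.inl (h.solv_sub _)) inf_le_left hu (by rintro _ ⟨x, rfl⟩; exact hfix x)
  rw [h.U_inf_cent_W₁, mem_bot] at hc
  rwa [hc, mul_one]

/-- (9.6): `C ≠ U`; `W₁` acts fixed-point-freely on `U / C` -/
theorem Hyp95.uOf_facts (h : Hyp95 H U H₀ f₁ f₂) :
    1 < uOf H U H₀ ∧ Odd (uOf H U H₀) ∧ Nat.card X₁ ∣ uOf H U H₀ - 1 ∧
      2 * Nat.card X₁ + 1 ≤ uOf H U H₀ ∧ Nat.Coprime (uOf H U H₀) (pOf H H₀) := by
  have := h.H_normal
  have hdvd : uOf H U H₀ ∣ Nat.card U := relIndex_dvd_card _ _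
  have h1 : 1 < uOf H U H₀ := by
    have h0 : uOf H U H₀ ≠ 0 := fun e => Nat.card_pos.ne' (Nat.eq_zero_of_zero_dvd (e ▸ hdvd))
    have h1 : uOf H U H₀ ≠ 1 := fun e =>
      h.not_U_le_centMod le_rfl h.H₀_lt.not_ge ((relIndex_eq_one.1 e).trans inf_le_right)
    omega
  have h2 : Odd (uOf H U H₀) := Odd.of_dvd_nat h.odd (hdvd.trans (card_subgroup_dvd_card _))
  have h3 : Nat.card X₁ ∣ uOf H U H₀ - 1 := by
    have := Fact.mk h.prime
    set π := QuotientGroup.mk' (centMod H H₀)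
    have hq : IsPGroup (Nat.card X₁) (f₁.range.map π) :=
      (IsPGroup.of_card (n := 1) (by rw [h.card_W₁, pow_one])).map π
    have := CF.card_modEq_card_inf_centralizer (U.map π) (f₁.range.map π) hq
      ((map_mono h.W₁_norm).trans (le_normalizer_map π))
    rw [← map_inf_centralizer_of_coprime π h.W₁_norm
      (h.card_W₁ ▸ h.coprime_q_U.coprime_dvd_right (card_dvd_of_le inf_le_left))
      (Or.inl (h.solv_sub _)), h.U_inf_cent_W₁, Subgroup.map_bot, card_bot, card_map_mk'_eq,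
      ← inf_relIndex_left] at this
    exact (Nat.modEq_iff_dvd' h1.le).1 this.symm
  refine ⟨h1, h2, h3, ?_, (h.coprime_U_H.coprime_dvd_left hdvd).coprime_dvd_right h.p_dvd_card_H⟩
  have h4 : 2 * Nat.card X₁ ∣ uOf H U H₀ - 1 :=
    Nat.Coprime.mul_dvd_of_dvd_of_dvd (Nat.coprime_two_left.2 h.q_odd)
      (even_iff_two_dvd.1 (Nat.Odd.sub_odd h2 odd_one)) h3
  have := Nat.le_of_dvd (by omega) h4
  omega

theorem Hyp95.normal_HC (h : Hyp95 H U H₀ f₁ f₂) : (H ⊔ cOf H U H₀).Normal := by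
  have := h.H_normal
  rw [h.HC_eq]; infer_instance

theorem Hyp95.normal_H₀_sup (h : Hyp95 H U H₀ f₁ f₂) {Y : Subgroup M} (hY : Y ≤ centMod H H₀)
    (hn : U ⊔ f₁.range ≤ normalizer (Y : Set M)) : (H₀ ⊔ Y).Normal :=
  h.normal_of_le (le_normalizer_of_commutator_le (le_trans (by
      rw [commutator_comm]; exact le_centMod_iff.1 (sup_le le_centMod_self hY)) le_sup_left))
    (le_normalizer_sup le_normalizer_of_normal hn)

theorem Hyp95.normal_H₀C (h : Hyp95 H U H₀ f₁ f₂) : (H₀ ⊔ cOf H U H₀).Normal :=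
  h.normal_H₀_sup inf_le_right h.W₁_norm_cOf

theorem Hyp95.der_cOf_le (_h : Hyp95 H U H₀ f₁ f₂) : ⁅cOf H U H₀, cOf H U H₀⁆ ≤ cOf H U H₀ :=
  le_normalizer_iff_commutator_le_right.1 le_normalizer

theorem Hyp95.normal_H₀C' (h : Hyp95 H U H₀ f₁ f₂) :
    (H₀ ⊔ ⁅cOf H U H₀, cOf H U H₀⁆).Normal :=
  h.normal_H₀_sup (h.der_cOf_le.trans inf_le_right)
    (le_normalizer_commutator h.W₁_norm_cOf h.W₁_norm_cOf)

theorem Hyp95.normal_H₀U' (h : Hyp95 H U H₀ f₁ f₂) : (H₀ ⊔ ⁅U, U⁆).Normal :=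
  h.normal_H₀_sup (h.der_le_cOf.trans inf_le_right) (le_normalizer_commutator h.norm_U h.norm_U)

theorem Hyp92.card_H_sup (h : Hyp92 H U f₁ f₂) {K V : Subgroup M} [K.Normal] (hK : K ≤ H)
    (hV : V ≤ U) : Nat.card ↥(K ⊔ V) = Nat.card K * Nat.card V :=
  card_sup_of_sd le_normalizer_of_normal (eq_bot_iff.2 (h.inf_eq ▸ inf_le_inf hK hV))

theorem Hyp92.relIndex_H_sup (h : Hyp92 H U f₁ f₂) {V : Subgroup M} (hV : V ≤ U) :
    (H ⊔ V).relIndex (commutator M) = V.relIndex U := by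
  have := h.H_normal
  have h1 := card_eq_card_mul_relIndex (sup_le h.H_le (hV.trans h.U_le))
  rw [h.card_der, h.card_H_sup le_rfl hV, card_eq_card_mul_relIndex hV, ← mul_assoc] at h1
  exact (Nat.eq_of_mul_eq_mul_left (Nat.mul_pos Nat.card_pos Nat.card_pos) h1).symm

theorem Hyp92.index_H_sup (h : Hyp92 H U f₁ f₂) {V : Subgroup M} (hV : V ≤ U) :
    (H ⊔ V).index = Nat.card X₁ * V.relIndex U := by
  rw [← relIndex_mul_index (sup_le h.H_le (hV.trans h.U_le)), h.relIndex_H_sup hV, h.index_der,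
    mul_comm]

theorem Hyp95.relIndex_H₀_sup (h : Hyp95 H U H₀ f₁ f₂) {V : Subgroup M} (hV : V ≤ U) :
    (H₀ ⊔ V).relIndex (H ⊔ V) = pOf H H₀ ^ Nat.card X₁ := by
  have := h.H_normal
  have h1 := card_eq_card_mul_relIndex (sup_le_sup_right h.H₀_le V)
  rw [h.card_H_sup le_rfl hV, h.card_H_sup h.H₀_le hV, card_eq_card_mul_relIndex h.H₀_le,
    h.relIndex_H, mul_right_comm] at h1
  exact (Nat.eq_of_mul_eq_mul_left (Nat.mul_pos Nat.card_pos Nat.card_pos) h1).symm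

theorem Hyp95.index_HC (h : Hyp95 H U H₀ f₁ f₂) :
    (H ⊔ cOf H U H₀).index = Nat.card X₁ * uOf H U H₀ ∧
      (H ⊔ cOf H U H₀).relIndex (commutator M) = uOf H U H₀ ∧
      (H₀ ⊔ cOf H U H₀).relIndex (H ⊔ cOf H U H₀) = pOf H H₀ ^ Nat.card X₁ :=
  ⟨h.index_H_sup inf_le_left, h.relIndex_H_sup inf_le_left, h.relIndex_H₀_sup inf_le_left⟩

/-- `H ∩ H₀ V = H₀` for `V ≤ U` -/
theorem Hyp95.mem_H₀_of_mem_sup (h : Hyp95 H U H₀ f₁ f₂) {V : Subgroup M} (hV : V ≤ U) {x : M}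
    (hx : x ∈ H) (hx' : x ∈ H₀ ⊔ V) : x ∈ H₀ := by
  obtain ⟨a, ha, v, hv, rfl⟩ := mem_sup_iff_of_normal.1 hx'
  rwa [h.eq_one_of_mem ((mul_mem_cancel_left (h.H₀_le ha)).1 hx) (hV hv), mul_one]

end CL.PF
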