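import Cfsg.Agent.Base
import Cfsg.Agent.PF.CohSix
import Cfsg.Agent.PF.T9_6
import Cfsg.Agent.Char.TI
import Cfsg.Agent.Solv.FPFThompson
import Cfsg.Agent.Solv.NilpMisc

/-!
# Feit's coherence theorem for Frobenius groups

`H` is a normal subgroup of `L` containing the centraliser of each of its non-identity elements
(`FpfMod H H ⊥`); `S = seqIndD H H ⊥` is the set of irreducible characters of `L` whose kernel does
not contain `H`.  Also: induction from the normaliser of a TI-subgroup (`TINormal`).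
-/

set_option autoImplicit false

open Cfsg CL.Char
open scoped ComplexConjugate

namespace CL.PF

/-! ### Frobenius kernels -/

section Groups
variable {L : Type*} [Group L] [Finite L] {H : Subgroup L}

omit [Finite L] in
theorem FpfMod.eq_one_of_commute (hF : FpfMod H H ⊥) {g h : L} (hg : g ∉ H) (hh : h ∈ H)
    (hc : g * h = h * g) : h = 1 := by
  by_contra h1
  exact hg (fpfMod_bot_iff.1 hF h hh h1 (Subgroup.mem_centralizer_singleton_iff.2 hc))

theorem FpfMod.isNilpotent [H.Normal] (hF : FpfMod H H ⊥) (hH : H ≠ ⊤) : Group.IsNilpotent H := by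
  obtain ⟨g, -, hg⟩ := SetLike.exists_of_lt (lt_top_iff_ne_top.2 hH)
  refine CL.FPF.isNilpotent_of_fpf (A := Subgroup.zpowers g)
    (by rw [Subgroup.normalizer_eq_top]; exact le_top) (fun a ha h1 => ?_)
    (fun h => hg (by rw [Subgroup.zpowers_eq_bot.1 h]; exact H.one_mem))
  have haH : a ∉ H := fun haH => by
    obtain ⟨k, rfl⟩ := ha
    exact h1 (hF.eq_one_of_commute hg haH (Commute.self_zpow g k).eq)
  rw [eq_bot_iff]
  intro h hh
  exact hF.eq_one_of_commute haH hh.1 (Subgroup.mem_centralizer_singleton_iff.1 hh.2).symm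

theorem FpfMod.coprime_card_index [H.Normal] (hF : FpfMod H H ⊥) :
    Nat.Coprime (Nat.card H) H.index := by
  have h := hF.relIndex_modEq_one bot_le
  rw [Subgroup.relIndex_bot_left] at h
  rw [Nat.Coprime, h.gcd_eq, Nat.gcd_one_left]

theorem FpfMod.comm_of_even [hH : H.Normal] (hF : FpfMod H H ⊥) (he : 2 ∣ H.index) :
    ∀ a b : H, a * b = b * a := by
  have : Fact (Nat.Prime 2) := ⟨Nat.prime_two⟩
  obtain ⟨t, ht⟩ := exists_prime_orderOf_dvd_card' 2 (he.trans (Subgroup.index_dvd_card H))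
  have htH : t ∉ H := fun h => by
    have h1 : 2 ∣ Nat.card H := ht ▸ Subgroup.orderOf_dvd_natCard H h
    exact absurd (Nat.eq_one_of_dvd_coprimes hF.coprime_card_index h1 he) (by norm_num)
  have h2 : t * t = 1 := by rw [← pow_two, ← ht, pow_orderOf_eq_one]
  have hfpf : MonoidHom.FixedPointFree (MulAut.conjNormal t : MulAut H) := fun h hh => by
    have : t * h * t⁻¹ = h := congrArg Subtype.val hh
    exact Subtype.ext (hF.eq_one_of_commute htH h.2 (by rwa [mul_inv_eq_iff_eq_mul] at this))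
  refine fun a b => (hfpf.commute_all_of_involutive (fun h => ?_) a b).eq
  rw [← MulAut.mul_apply, ← map_mul, h2, map_one, MulAut.one_apply]

omit [Finite L] in
theorem commutator_eq_bot_iff_comm : ⁅H, H⁆ = ⊥ ↔ IsMulCommutative H :=
  Subgroup.commutator_self_eq_bot_iff

theorem FpfMod.odd_index [H.Normal] (hF : FpfMod H H ⊥) (hna : ¬ IsMulCommutative H) :
    Odd H.index := by
  by_contra h
  exact hna ⟨⟨hF.comm_of_even (even_iff_two_dvd.1 (Nat.not_odd_iff_even.1 h))⟩⟩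

theorem FpfMod.odd_card [H.Normal] (hF : FpfMod H H ⊥) (hna : ¬ IsMulCommutative H)
    (hodd : Odd (Nat.card H)) : Odd (Nat.card L) := by
  rw [← H.index_mul_card]
  exact (hF.odd_index hna).mul hodd

/-- A Frobenius kernel of order `e + 1` is elementary abelian. -/
theorem FpfMod.elementary_of_card_eq [H.Normal] (hF : FpfMod H H ⊥) (hH : H ≠ ⊤)
    (he : Nat.card H = H.index + 1) :
    ⁅H, H⁆ = ⊥ ∧ ∀ p : ℕ, p.Prime → p ∣ Nat.card H → ∀ x ∈ H, x ^ p = 1 := by
  have hnil := hF.isNilpotent hH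
  have hmin : ∀ N : Subgroup L, N.Normal → N ≤ H → N ≠ ⊥ → N = H := fun N hN h1 h2 => by
    have h3 := (hF.mono h1).add_one_le_relIndex bot_le fun h => h2 (le_bot_iff.1 h)
    rw [Subgroup.relIndex_bot_left, ← he] at h3
    exact Subgroup.eq_of_le_of_card_ge h1 h3
  have hH1 : ⊥ < H := bot_lt_iff_ne_bot.2 fun h => by
    have := Nat.pos_of_ne_zero (Subgroup.FiniteIndex.index_ne_zero (H := H))
    have h2 : Nat.card H = 1 := Subgroup.card_eq_one.2 h
    omega
  have hc : ⁅H, H⁆ = ⊥ := by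
    by_contra h
    have h1 := commutator_sup_lt (inferInstance : Group.IsSolvable H) hH1
    rw [sup_bot_eq] at h1
    exact h1.ne (hmin _ inferInstance h1.le h)
  refine ⟨hc, fun p hp hd => ?_⟩
  have hcomm := commutator_eq_bot_iff_comm.1 hc
  have : Fact p.Prime := ⟨hp⟩
  let N : Subgroup L :=
    { carrier := {x | x ∈ H ∧ x ^ p = 1}
      one_mem' := ⟨H.one_mem, one_pow p⟩
      mul_mem' := fun {a b} ha hb => ⟨H.mul_mem ha.1 hb.1, by
        have : Commute a b := congrArg Subtype.val (hcomm.is_comm.comm ⟨a, ha.1⟩ ⟨b, hb.1⟩)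
        rw [this.mul_pow, ha.2, hb.2, one_mul]⟩
      inv_mem' := fun {a} ha => ⟨H.inv_mem ha.1, by rw [inv_pow, ha.2, inv_one]⟩ }
  have hN : N.Normal := ⟨fun x hx g => ⟨Subgroup.Normal.conj_mem inferInstance x hx.1 g, by
    rw [conj_pow, hx.2, mul_one, mul_inv_cancel]⟩⟩
  obtain ⟨x, hx⟩ := exists_prime_orderOf_dvd_card' p hd
  have hxN : (x : L) ∈ N := ⟨x.2, by
    rw [← Subgroup.coe_pow, ← hx, pow_orderOf_eq_one, Subgroup.coe_one]⟩
  have hN1 : N ≠ ⊥ := fun h => by
    have h1 : x = 1 := Subtype.ext ((Subgroup.mem_bot).1 (h ▸ hxN))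
    rw [h1, orderOf_one] at hx
    exact hp.ne_one hx.symm
  have := hmin N hN (fun _ h => h.1) hN1
  intro y hy
  exact (this.symm ▸ hy : y ∈ N).2

/-- A Sylow subgroup of a nilpotent normal subgroup, as a normal subgroup of the ambient group. -/
theorem exists_normal_sylow_of_nilpotent [H.Normal] (hnil : Group.IsNilpotent H) {p : ℕ}
    (hp : p.Prime) : ∃ P : Subgroup L, P.Normal ∧ P ≤ H ∧ IsPGroup p P ∧ ¬ p ∣ P.relIndex H := by
  have : Fact p.Prime := ⟨hp⟩
  obtain ⟨P⟩ : Nonempty (Sylow p H) := inferInstance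
  have : (P : Subgroup H).Characteristic := Sylow.characteristic_of_normal P inferInstance
  refine ⟨(P : Subgroup H).map H.subtype, inferInstance, Subgroup.map_subtype_le _,
    P.isPGroup'.map _, ?_⟩
  rw [Subgroup.relIndex, Subgroup.subgroupOf,
    Subgroup.comap_map_eq_self_of_injective H.subtype_injective]
  exact P.not_dvd_index

/-- If `H` is nilpotent and `|H : H'|` is a power of `p` then so is `|H|`. -/
theorem exists_card_eq_pow_of_relIndex_commutator [H.Normal] (hnil : Group.IsNilpotent H) {p m : ℕ}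
    (hp : p.Prime) (h : ⁅H, H⁆.relIndex H = p ^ m) : ∃ n, Nat.card H = p ^ n := by
  have : Fact p.Prime := ⟨hp⟩
  obtain ⟨P, hPn, hPH, hP, hd⟩ := exists_normal_sylow_of_nilpotent hnil hp
  rcases hPH.eq_or_lt with rfl | hlt
  · exact IsPGroup.iff_card.1 hP
  · exfalso
    have h1 := commutator_sup_lt (inferInstance : Group.IsSolvable H) hlt
    have d1 : (⁅H, H⁆ ⊔ P).relIndex H ∣ p ^ m := h ▸ Subgroup.relIndex_dvd_of_le_left H le_sup_left
    have d2 : (⁅H, H⁆ ⊔ P).relIndex H ∣ P.relIndex H :=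
      Subgroup.relIndex_dvd_of_le_left H le_sup_right
    obtain ⟨j, -, hj⟩ := (Nat.dvd_prime_pow hp).1 d1
    rcases Nat.eq_zero_or_pos j with rfl | hj0
    · exact h1.not_ge (Subgroup.relIndex_eq_one.1 (by simpa using hj))
    · exact hd ((dvd_pow_self p hj0.ne').trans (hj ▸ d2))

/-- The step of the descent in Feit's theorem when the kernel is not a `p`-group. -/
theorem exists_central_step [H.Normal] (hnil : Group.IsNilpotent H)
    (h : ¬ ∃ p m : ℕ, p.Prime ∧ Nat.card H = p ^ m) {A : Subgroup L} [A.Normal] (hA1 : ⊥ < A)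
    (hA : A ≤ ⁅H, H⁆) : ∃ B D : Subgroup L, B.Normal ∧ D.Normal ∧ B < A ∧ A < D ∧ D ≤ H ∧
      ∀ x ∈ D, ∀ y ∈ H, x * y * x⁻¹ * y⁻¹ ∈ B := by
  have hAH : A ≤ H := hA.trans (Subgroup.commutator_le_left H H)
  obtain ⟨B, ⟨hBn, hBA⟩, hmax⟩ := (wellFounded_gt (α := Subgroup L)).has_min
    {B | B.Normal ∧ B < A} ⟨⊥, inferInstance, hA1⟩
  have hmax' : ∀ N : Subgroup L, N.Normal → B < N → ¬ N < A := fun N hN h1 h2 => hmax N ⟨hN, h2⟩ h1
  have hnilB := isNilpotent_map_of_nilpotent (QuotientGroup.mk' B) hnil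
  have hcomm : ⁅A, H⁆ ≤ B := by
    by_contra hc
    exact hmax' _ inferInstance (right_lt_sup.2 hc) (commutator_sup_lt_of_nilpotent hnilB hAH hBA)
  have hAA : ⁅A, A⁆ ⊔ B = B := sup_eq_right.2 ((Subgroup.commutator_mono le_rfl hAH).trans hcomm)
  obtain ⟨p, m, hp, hpm⟩ : ∃ p m : ℕ, p.Prime ∧ B.relIndex A = p ^ m := by
    by_contra hc
    have hnA : Group.IsNilpotent A :=
      Group.nilpotent_of_mulEquiv (Subgroup.subgroupOfEquivOfLe hAH)
    obtain ⟨N, h1, h2, h3⟩ := exists_normal_between_commutator_sup hBA.le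
      (isNilpotent_map_of_nilpotent _ hnA) hc
    exact hmax' N h1 (hAA ▸ h2) h3
  obtain ⟨q, hq, hqd, hqp⟩ : ∃ q : ℕ, q.Prime ∧ q ∣ ⁅H, H⁆.relIndex H ∧ q ≠ p := by
    by_contra hc
    push Not at hc
    obtain ⟨n, hn⟩ := exists_card_eq_pow_of_relIndex_commutator hnil hp
      (Nat.eq_prime_pow_of_unique_prime_dvd Subgroup.FiniteIndex.index_ne_zero
        fun hd hd' => hc _ hd hd')
    exact h ⟨p, n, hp, hn⟩
  obtain ⟨Q, hQn, hQH, hQ, hQd⟩ := exists_normal_sylow_of_nilpotent hnil hq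
  have hQB : ¬ Q.subgroupOf H ≤ B.subgroupOf H := fun hle => hQd (hqd.trans
    (Subgroup.index_dvd_of_le (hle.trans (Subgroup.subgroupOf_mono H (hBA.le.trans hA)))))
  obtain ⟨x, hxQ, hxB, hxc⟩ := CL.exists_central_mod_of_isNilpotent _ _ hQB
  refine ⟨B, H ⊓ centMod H B, hBn, inferInstance, hBA, ?_, inf_le_left,
    fun x hx => mem_centMod.1 hx.2⟩
  refine lt_of_le_of_ne (le_inf hAH (le_centMod_iff.2 hcomm)) fun he => hxB ?_
  have hxA : (x : L) ∈ A := he ▸ ⟨x.2, mem_centMod.2 fun y hy => by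
    have := inv_mem (hxc ⟨y, hy⟩)
    rw [commutatorElement_inv] at this
    exact this⟩
  have h1 : (x : L) ^ p ^ m ∈ B := hpm ▸ Subgroup.pow_relIndex_mem B hxA
  obtain ⟨k, hk⟩ := hQ ⟨x, hxQ⟩
  have h2 : (x : L) ^ q ^ k = 1 := congrArg Subtype.val hk
  have hc : Nat.Coprime (p ^ m) (orderOf (x : L)) :=
    (Nat.Coprime.pow _ _ ((Nat.coprime_primes hp hq).2 hqp.symm)).coprime_dvd_right
      (orderOf_dvd_of_pow_eq_one h2)
  obtain ⟨j, hj⟩ := exists_pow_eq_self_of_coprime hc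
  rw [Subgroup.mem_subgroupOf, ← hj]
  exact pow_mem h1 j

end Groups

/-! ### Feit's theorem -/

section Feit
variable {L : Type*} [Group L] [Fintype L] {G : Type*} [Group G] [Fintype G] {H : Subgroup L}
  [hH : H.Normal] {τ : (L → ℂ) → (G → ℂ)}

theorem FpfMod.seqIndD_eq (hF : FpfMod H H ⊥) :
    seqIndD H H ⊥ = {χ | IsIrrCharacter L χ ∧ ∃ h ∈ H, χ h ≠ χ 1} := by
  rw [seqIndD_eq_of_irr le_rfl bot_le fun _ => hF.seqIndD_irr bot_le le_rfl]
  ext χ
  simp

theorem FpfMod.seqIndD_eq' (hF : FpfMod H H ⊥) {Z : Subgroup L} [Z.Normal] (hZ : Z ≤ H) :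
    seqIndD H Z ⊥ = {χ | IsIrrCharacter L χ ∧ ∃ z ∈ Z, χ z ≠ χ 1} := by
  rw [seqIndD_eq_of_irr hZ bot_le fun _ => (hF.mono hZ).seqIndD_irr bot_le hZ]
  ext χ
  simp

/-- the number of members of `S(A)` when `H / A` is abelian and `L / A` is a Frobenius group -/
theorem FpfMod.ncard_mul_index {A : Subgroup L} [A.Normal] (hF : FpfMod H H A) (hA : ⁅H, H⁆ ≤ A)
    (hAH : A ≤ H) : (inducedIrrAbove H A).ncard * H.index + 1 = A.relIndex H := by
  have h1 := sum_inducedIrrAbove_deg_sq hAH (inducedIrrAbove_finite H A).toFinset (by simp)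
  rw [Finset.sum_congr rfl (g := fun _ => (H.index : ℝ) ^ 2) fun φ hφ => by
    have hφ' : φ ∈ seqIndD H H A := by simpa [inducedIrrAbove_eq] using hφ
    rw [rip_eq_one_of (irr_inner_self (hF.seqIndD_irr hAH le_rfl hφ')),
      seqIndD_apply_one_of_commutator_le hA hφ', Complex.natCast_re, div_one],
    Finset.sum_const, ← Set.ncard_eq_toFinset_card _ (inducedIrrAbove_finite H A),
    nsmul_eq_mul] at h1
  have he : (0 : ℝ) < H.index :=
    Nat.cast_pos.2 (Nat.pos_of_ne_zero Subgroup.FiniteIndex.index_ne_zero)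
  have h2 : ((inducedIrrAbove H A).ncard : ℝ) * H.index + 1 = A.relIndex H := by
    have : (H.index : ℝ) * ((inducedIrrAbove H A).ncard * H.index) =
        H.index * ((A.relIndex H : ℝ) - 1) := by rw [← h1]; ring
    linarith [mul_left_cancel₀ he.ne' this]
  exact_mod_cast h2

variable (hF : FpfMod H H ⊥) (hτ : IsLinearIsometryOn (zspanOn (inducedIrrAbove H ⊥) {1}ᶜ) τ)
  (hτ1 : ∀ α ∈ zspanOn (inducedIrrAbove H ⊥) {1}ᶜ, τ α 1 = 0)
include hF

theorem FpfMod.inducedIrrAbove_irr {A : Subgroup L} {φ : L → ℂ} (hφ : φ ∈ inducedIrrAbove H A) :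
    IsIrrCharacter L φ :=
  hF.seqIndD_irr bot_le le_rfl (inducedIrrAbove_eq H ⊥ ▸ inducedIrrAbove_mono bot_le hφ)

include hτ hτ1

theorem feit_coherent_of_commutator_le {A : Subgroup L} [A.Normal] (hA : ⁅H, H⁆ ≤ A) (hAH : A < H)
    (hne : A.relIndex H ≠ H.index + 1) : IsCoherent (inducedIrrAbove H A) {1}ᶜ τ := by
  have hFA := hF.of_le bot_le hAH.le
  have h1 := hFA.ncard_mul_index hA hAH.le
  have h2 := hFA.add_one_le_relIndex hAH.le hAH.not_ge
  have h3 : 1 < (inducedIrrAbove H A).ncard := by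
    by_contra hc
    have : (inducedIrrAbove H A).ncard * H.index ≤ 1 * H.index :=
      Nat.mul_le_mul_right _ (not_lt.1 hc)
    omega
  obtain ⟨χ, hχ, ψ, hψ, hne⟩ := (Set.one_lt_ncard (inducedIrrAbove_finite H A)).1 h3
  have hsub := zspanOn_mono (A := {1}ᶜ) (inducedIrrAbove_mono (K := H) (bot_le : ⊥ ≤ A))
  refine irr_uniform_coherent (iso_mono hτ hsub) (fun α hα => hτ1 α (hsub hα))
    (fun _ => hF.inducedIrrAbove_irr) (fun φ hφ φ' hφ' => ?_) hχ hψ hne
  rw [inducedIrrAbove_eq] at hφ hφ'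
  rw [seqIndD_apply_one_of_commutator_le hA hφ, seqIndD_apply_one_of_commutator_le hA hφ']

/-- Feit's coherence theorem. -/
theorem feit_coherence (hH1 : H ≠ ⊥) (hH2 : H ≠ ⊤) (he : Nat.card H ≠ H.index + 1) :
    IsCoherent (inducedIrrAbove H ⊥) {1}ᶜ τ ∨ ∃ p : ℕ, p.Prime ∧ (∃ m : ℕ, Nat.card H = p ^ m) ∧
      ¬ IsMulCommutative H ∧ ⁅H, H⁆.relIndex H ≤ 4 * H.index ^ 2 + 1 := by
  have hnil := hF.isNilpotent hH2
  have hsolv : Group.IsSolvable H := inferInstance
  have hE := irr_extendable hτ hτ1 fun _ => hF.inducedIrrAbove_irr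
  have hlt : ⁅H, H⁆ < H := by simpa using commutator_sup_lt hsolv (bot_lt_iff_ne_bot.2 hH1)
  have he0 : 1 ≤ H.index := Nat.pos_of_ne_zero Subgroup.FiniteIndex.index_ne_zero
  by_cases hc : IsMulCommutative H
  · exact Or.inl (feit_coherent_of_commutator_le hF hτ hτ1 (commutator_eq_bot_iff_comm.2 hc).le
      (bot_lt_iff_ne_bot.2 hH1) (by rwa [Subgroup.relIndex_bot_left]))
  by_cases hp : ∃ p m : ℕ, p.Prime ∧ Nat.card H = p ^ m
  · obtain ⟨p, m, hp, hm⟩ := hp
    by_cases hle : ⁅H, H⁆.relIndex H ≤ 4 * H.index ^ 2 + 1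
    · exact Or.inr ⟨p, hp, ⟨m, hm⟩, hc, hle⟩
    · refine Or.inl (hE.bounded hsolv bot_le hlt.le le_rfl (isNilpotent_map_of_nilpotent _ hnil)
        subset_rfl (feit_coherent_of_commutator_le hF hτ hτ1 le_rfl hlt ?_) (not_le.1 hle))
      intro h
      exact hle (by nlinarith)
  left
  have hbig : (H.index + 1) ^ 2 ≤ ⁅H, H⁆.relIndex H := by
    obtain ⟨N, hN, h1, h2⟩ := exists_normal_between_commutator hnil hp
    have a1 := ((hF.of_le bot_le hlt.le).mono h2.le).add_one_le_relIndex hlt.le h1.not_ge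
    have a2 := (hF.of_le bot_le h2.le).add_one_le_relIndex h2.le h2.not_ge
    rw [← Subgroup.relIndex_mul_relIndex _ N H h1.le h2.le, pow_two]
    exact Nat.mul_le_mul a1 a2
  refine coherent_descent bot_le (feit_coherent_of_commutator_le hF hτ hτ1 le_rfl hlt
    fun h => by nlinarith) fun A hA hA1 hAH hcoh => ?_
  obtain ⟨B, D, hB, hD, hBA, hAD, hDH, hcent⟩ := exists_central_step hnil hp hA1 hAH
  refine ⟨B, hB, bot_le, hBA, ?_⟩
  have hAH' : A < H := hAD.trans_le hDH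
  have := hE.union_of_bound hsolv hAH' le_rfl hcent (inducedIrrAbove_mono bot_le)
    (inducedIrrAbove_mono bot_le) hcoh ?_
  · rwa [Set.union_eq_right.2 (inducedIrrAbove_mono hBA.le)] at this
  have a1 := ((hF.of_le bot_le hAH'.le).mono hDH).add_one_le_relIndex hAH'.le hAD.not_ge
  have a2 : (H.index + 1) ^ 2 ≤ A.relIndex H :=
    hbig.trans (Subgroup.relIndex_le_of_le_left hAH Subgroup.FiniteIndex.index_ne_zero)
  have a3 := Subgroup.relIndex_mul_relIndex A D H hAD.le hDH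
  have a4 : (H.index + 1) * D.relIndex H ≤ A.relIndex H := a3 ▸ Nat.mul_le_mul_right _ a1
  generalize A.relIndex H = x at *
  generalize D.relIndex H = y at *
  generalize H.index = e at *
  have h2 : 1 ≤ x := le_trans (Nat.one_le_pow _ _ (by omega)) a2
  zify [h2]
  have b1 : ((e : ℤ) + 1) ^ 2 ≤ x := by exact_mod_cast a2
  have b2 : ((e : ℤ) + 1) * y ≤ x := by exact_mod_cast a4
  have b3 : (1 : ℤ) ≤ e := by exact_mod_cast he0
  have b4 : (0 : ℤ) ≤ y := by positivity
  have b5 : ((e : ℤ) + 1) * y * ((e + 1) ^ 2 - 2) ≤ x * (x - 2) :=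
    mul_le_mul b2 (by linarith) (by nlinarith) (by positivity)
  have b6 : (0 : ℤ) ≤ y * ((e - 1) * (e ^ 2 + 1)) :=
    mul_nonneg b4 (mul_nonneg (by linarith) (by positivity))
  nlinarith

end Feit

/-! ### induction from the normaliser of a TI-subgroup -/

/-- `H` is a subgroup of `L ≤ G` which is a TI-subset of `G` with normaliser `L`. -/
structure TINormal {G : Type*} [Group G] (L : Subgroup G) (H : Subgroup L) : Prop where
  ti : IsTISubset (H.map L.subtype : Set G)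
  norm : Subgroup.normalizer (H.map L.subtype : Set G) = L

section TI
variable {G : Type*} [Group G] {L : Subgroup G} {H : Subgroup L}

theorem coe_mem_map_subtype_iff {x : L} : (x : G) ∈ H.map L.subtype ↔ x ∈ H :=
  ⟨fun ⟨_, hy, he⟩ => (Subtype.ext he : _ = x) ▸ hy, fun h => Subgroup.mem_map_of_mem _ h⟩

theorem TINormal.normal (h : TINormal L H) : H.Normal := ⟨fun n hn g => by
  have hg : (g : G) ∈ Subgroup.normalizer (H.map L.subtype : Set G) := h.norm.symm ▸ g.2
  rw [← coe_mem_map_subtype_iff]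
  exact (Subgroup.mem_normalizer_iff.1 hg n).1 (coe_mem_map_subtype_iff.2 hn)⟩

theorem TINormal.ti' (h : TINormal L H) : ∀ g : G, g ∉ L → ∀ t ∈ (H.map L.subtype : Set G),
    g * t * g⁻¹ ∈ (H.map L.subtype : Set G) → t = 1 :=
  fun g hg => h.ti g (h.norm.symm ▸ hg)

theorem tiNormal_subgroupOf {K : Subgroup G} (hKL : K ≤ L) (hTI : IsTISubset (K : Set G))
    (hN : Subgroup.normalizer (K : Set G) = L) : TINormal L (K.subgroupOf L) := by
  constructor <;> rw [Subgroup.map_subgroupOf_eq_of_le hKL] <;> assumption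

theorem TINormal.cent_le (h : TINormal L H) {x : L} (hx : x ∈ H) (h1 : x ≠ 1) :
    Subgroup.centralizer ({(x : G)} : Set G) ≤ L := fun g hg => by
  by_contra hgL
  have hx' : (x : G) ∈ H.map L.subtype := coe_mem_map_subtype_iff.2 hx
  rw [Subgroup.mem_centralizer_singleton_iff] at hg
  exact h1 (Subtype.ext (h.ti' g hgL x hx' (by rw [hg, mul_inv_cancel_right]; exact hx')))

theorem fpfMod_subgroupOf {K : Subgroup G}
    (hC : ∀ k ∈ K, k ≠ 1 → Subgroup.centralizer ({k} : Set G) ≤ K) :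
    FpfMod (K.subgroupOf L) (K.subgroupOf L) ⊥ :=
  fpfMod_bot_iff.2 fun z hz h1 _ hx => hC z hz (fun h => h1 (Subtype.ext h))
    (Subgroup.mem_centralizer_singleton_iff.2
      (congrArg Subtype.val (Subgroup.mem_centralizer_singleton_iff.1 hx)))

theorem TINormal.not_dvd_index [Finite G] (h : TINormal L H) {p : ℕ} [Fact p.Prime]
    (hP : IsPGroup p H) (hcop : ¬ p ∣ H.index) : ¬ p ∣ (H.map L.subtype).index := fun hd => by
  obtain ⟨n, hn⟩ := IsPGroup.iff_card.1 (hP.map L.subtype)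
  have h1 := Sylow.card_quotient_normalizer_modEq_card_quotient hn
  have h2 : ((H.map L.subtype).relIndex (Subgroup.normalizer (H.map L.subtype : Set G))) ≡
      (H.map L.subtype).index [MOD p] := h1
  rw [h.norm, Subgroup.relIndex, Subgroup.subgroupOf,
    Subgroup.comap_map_eq_self_of_injective L.subtype_injective] at h2
  exact hcop ((Nat.modEq_zero_iff_dvd).1 (h2.trans ((Nat.modEq_zero_iff_dvd).2 hd)))

variable [Fintype G]

theorem TINormal.indFun_apply (h : TINormal L H) {α : L → ℂ} (hα : IsClassFunction L α)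
    (hαH : ∀ x, x ∉ H → α x = 0) {x : L} (hx : x ∈ H) (h1 : x ≠ 1) : indFun L α x = α x :=
  indFun_apply_of_TI L _ h.ti' hα (fun x hx => hαH x fun h => hx (coe_mem_map_subtype_iff.2 h)) x
    (coe_mem_map_subtype_iff.2 hx) h1

variable [Fintype L]

theorem TINormal.inner (h : TINormal L H) {α β : L → ℂ} (hβ : IsClassFunction L β)
    (hαH : ∀ x, x ∉ H → α x = 0) (hβH : ∀ x, x ∉ H → β x = 0) (hα1 : α 1 = 0) :
    classInner (indFun L α) (indFun L β) = classInner α β :=
  classInner_indFun_of_TI L _ h.ti' hβ (fun x hx => hαH x fun h => hx (coe_mem_map_subtype_iff.2 h))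
    (fun x hx => hβH x fun h => hx (coe_mem_map_subtype_iff.2 h)) hα1

theorem TINormal.iso (h : TINormal L H) {S : Set (L → ℂ)}
    (hS : ∀ χ ∈ S, IsGeneralizedCharacter L χ) (hSH : ∀ χ ∈ S, ∀ x, x ∉ H → χ x = 0) :
    IsLinearIsometryOn (zspanOn S {1}ᶜ) (fun α : L → ℂ => indFun L α) :=
  ⟨fun α _ β _ => indFun_add L α β, fun α _ n => indFun_zsmul L n α,
    fun _ hα _ hβ => h.inner (gen_isClassFunction (gen_of_mem_zspan hS hβ.1))
      (fun x hx => zspan_apply_eq_zero (fun χ hχ => hSH χ hχ x hx) hα.1)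
      (fun x hx => zspan_apply_eq_zero (fun χ hχ => hSH χ hχ x hx) hβ.1)
      (apply_one_of_mem_zspanOn hα),
    fun _ hα => gen_indFun L (gen_of_mem_zspan hS hα.1)⟩

theorem TINormal.iso_seqIndD (h : TINormal L H) (A Y : Subgroup L) :
    IsLinearIsometryOn (zspanOn (seqIndD H A Y) {1}ᶜ) (fun α : L → ℂ => indFun L α) :=
  have := h.normal
  h.iso (fun _ => seqIndD_gen) (fun _ hχ _ => seqIndD_apply_eq_zero hχ)

theorem TINormal.iso_inducedIrrAbove (h : TINormal L H) (Y : Subgroup L) :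
    IsLinearIsometryOn (zspanOn (inducedIrrAbove H Y) {1}ᶜ) (fun α : L → ℂ => indFun L α) := by
  rw [inducedIrrAbove_eq]
  exact h.iso_seqIndD H Y

/-- For a Frobenius group of odd order with TI kernel, induction gives a coherence system. -/
theorem TINormal.exists_subcoherent (h : TINormal L H) (hodd : Odd (Nat.card L)) (hH1 : H ≠ ⊥)
    (hF : FpfMod H H ⊥) : ∃ R : (L → ℂ) → Finset (G → ℂ),
      IsCoherenceSystem (inducedIrrAbove H ⊥) (fun α : L → ℂ => indFun L α) R := by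
  have := h.normal
  rw [inducedIrrAbove_eq]
  exact irr_subcoherent (seqIndD_nonempty le_rfl fun h => hH1 (le_bot_iff.1 h))
    (fun _ => hF.seqIndD_irr bot_le le_rfl) (fun _ => seqIndD_conjFun)
    (fun _ => seqIndD_conjFun_ne hodd) (h.iso_seqIndD H ⊥)
    (fun α hα => indFun_one_eq_zero L (apply_one_of_mem_zspanOn hα))

/-- The characters non-trivial on a central subgroup of a non-abelian TI `p`-subgroup, `p` odd,
with Frobenius normaliser are coherent. -/
theorem TINormal.coherent_central (h : TINormal L H) (hF : FpfMod H H ⊥) {p : ℕ} (hp : p.Prime)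
    (hp2 : p ≠ 2) (hP : IsPGroup p H) (hna : ¬ IsMulCommutative H) {Z : Subgroup L} [Z.Normal]
    (hZ1 : Z ≠ ⊥) (hZH : Z ≤ H) (hZc : ∀ z ∈ Z, ∀ k ∈ H, z * k = k * z) :
    IsCoherent (seqIndD H Z ⊥) {1}ᶜ (fun α : L → ℂ => indFun L α) := by
  have := h.normal
  have : Fact p.Prime := ⟨hp⟩
  obtain ⟨m, hm⟩ := IsPGroup.iff_card.1 hP
  have hH1 : H ≠ ⊥ := fun h0 => hZ1 (le_bot_iff.1 (h0 ▸ hZH))
  have hodd := hF.odd_card hna (hm ▸ (hp.odd_of_ne_two hp2).pow)
  obtain ⟨R, hS⟩ := h.exists_subcoherent hodd hH1 hF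
  exact t6_6_pgroup hS hp hp2 hP (hF.coprime_of_pow bot_le (fun h => hH1 (le_bot_iff.1 h)) hp
    (m := m) (by rw [Subgroup.relIndex_bot_left, hm])) hZ1 hZH hZc
    (seqIndD_subset_inducedIrrAbove H Z ⊥) fun _ => (hF.mono hZH).seqIndD_irr bot_le hZH

/-- The Feit–Sibley theorem, given Sibley's theorem for groups of odd order. -/
theorem TINormal.feit_sibley_of (h : TINormal L H) (hF : FpfMod H H ⊥) (hH1 : H ≠ ⊥) (hH2 : H ≠ ⊤)
    (hsib : Odd (Nat.card L) →
      IsCoherent (inducedIrrAbove H ⊥) {1}ᶜ (fun α : L → ℂ => indFun L α)) :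
    ((inducedIrrAbove H ⊥).ncard = 1 ∧ Nat.card H = H.index + 1 ∧ IsMulCommutative H ∧
        ∀ p : ℕ, p.Prime → p ∣ Nat.card H → ∀ x ∈ H, x ^ p = 1) ∨
      (IsPGroup 2 H ∧ ¬ 2 ∣ H.index ∧ ⁅H, H⁆.relIndex H < 4 * H.index ^ 2) ∨
      IsCoherent (inducedIrrAbove H ⊥) {1}ᶜ (fun α : L → ℂ => indFun L α) := by
  have := h.normal
  have he0 : 0 < H.index := Nat.pos_of_ne_zero Subgroup.FiniteIndex.index_ne_zero
  by_cases he : Nat.card H = H.index + 1
  · obtain ⟨h1, h2⟩ := hF.elementary_of_card_eq hH2 he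
    refine Or.inl ⟨?_, he, commutator_eq_bot_iff_comm.1 h1, h2⟩
    have h3 := hF.ncard_mul_index h1.le bot_le
    rw [Subgroup.relIndex_bot_left, he] at h3
    exact Nat.eq_of_mul_eq_mul_right he0 (by omega)
  right
  rcases feit_coherence hF (h.iso_inducedIrrAbove ⊥)
    (fun α hα => indFun_one_eq_zero L (apply_one_of_mem_zspanOn hα)) hH1 hH2 he with
    hc | ⟨p, hp, ⟨m, hm⟩, hna, hle⟩
  · exact Or.inr hc
  by_cases hp2 : p = 2
  · subst hp2
    have hodd := hF.odd_index hna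
    refine Or.inl ⟨IsPGroup.of_card hm, hodd.not_two_dvd_nat, ?_⟩
    obtain ⟨j, -, hj⟩ := (Nat.dvd_prime_pow hp).1
      (hm ▸ Subgroup.index_dvd_card _ : ⁅H, H⁆.relIndex H ∣ 2 ^ m)
    have he1 : H.index ≠ 1 := fun h => hH2 (Subgroup.index_eq_one.1 h)
    rw [hj] at hle ⊢
    have n1 : 2 ^ j ≠ 4 * H.index ^ 2 + 1 := fun h => by
      rcases j with _ | j
      · have := pow_pos he0 2
        omega
      · rw [pow_succ] at h
        omega
    have n2 : 2 ^ j ≠ 4 * H.index ^ 2 := fun h => he1 (by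
      have : H.index ∣ 2 ^ j := h ▸ Dvd.dvd.mul_left (dvd_pow_self _ two_ne_zero) 4
      exact Nat.eq_one_of_dvd_coprimes (Nat.Coprime.pow_right j (Nat.coprime_two_right.2 hodd))
        dvd_rfl this)
    omega
  · exact Or.inr (hsib (hF.odd_card hna (hm ▸ (hp.odd_of_ne_two hp2).pow)))

end TI

end CL.PF
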