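import Cfsg.Agent.PF.T3
import Cfsg.Agent.PF.CosetConj

/-! # Peterfalvi section 4: the group theory of Hypothesis (4.2) -/

set_option autoImplicit false

namespace CL.PF

open Cfsg CL.Char

/-- If `x` acts coprimely on the normal subgroup `K`, a class of `K` fixed by `x` contains an
element centralising `x`. -/
theorem exists_conj_commute_of_fixed_class {L : Type*} [Group L] [Finite L] (K : Subgroup L)
    [hK : K.Normal] {x : L} (hx : Nat.Coprime (orderOf x) (Nat.card K)) {k m : L} (hm : m ∈ K)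
    (e : m * k * m⁻¹ = x * k * x⁻¹) : ∃ n ∈ K, Commute (n * k * n⁻¹) x := by
  obtain ⟨n, hn, c, hc, hcx, e'⟩ := exists_conj_mem_cent_coset K x
    (Subgroup.le_normalizer_of_normal (Subgroup.mem_top x)) hx m⁻¹ (K.inv_mem hm)
  refine ⟨n, hn, ?_⟩
  have h1 : (n * k * n⁻¹) * (x * c) * (n * k * n⁻¹)⁻¹ = x * c := by
    rw [← hcx, ← e']
    have : k * (m⁻¹ * x) * k⁻¹ = m⁻¹ * x := by
      calc k * (m⁻¹ * x) * k⁻¹ = m⁻¹ * (m * k * m⁻¹) * x * k⁻¹ := by group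
        _ = m⁻¹ * x := by rw [e]; group
    calc n * k * n⁻¹ * (n * (m⁻¹ * x) * n⁻¹) * (n * k * n⁻¹)⁻¹
        = n * (k * (m⁻¹ * x) * k⁻¹) * n⁻¹ := by group
      _ = _ := by rw [this]
  have h2 := (conj_parts (Commute.symm hcx) (Commute.symm hcx) hx dvd_rfl dvd_rfl
    (K.orderOf_dvd_natCard hc) (K.orderOf_dvd_natCard hc) h1).1
  rw [mul_inv_eq_iff_eq_mul] at h2
  exact h2

/-- The number of classes of `K` fixed by an element `x` acting coprimely is at most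
`|C_K(x)|`. -/
theorem card_fixed_class_le {L : Type*} [Group L] [Finite L] (K : Subgroup L)
    [hK : K.Normal] {x : L} (hx : Nat.Coprime (orderOf x) (Nat.card K)) :
    Nat.card {C : ConjClasses K // ∀ g, ConjClasses.mk g = C →
      IsConj g ((MulAut.conjNormal x : MulAut K) g)} ≤
      Nat.card ↥(K ⊓ Subgroup.centralizer ({x} : Set L)) := by
  have key : ∀ C : {C : ConjClasses K // ∀ g, ConjClasses.mk g = C →
      IsConj g ((MulAut.conjNormal x : MulAut K) g)},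
      ∃ c : ↥(K ⊓ Subgroup.centralizer ({x} : Set L)), ConjClasses.mk (⟨c, c.2.1⟩ : K) = C.1 := by
    rintro ⟨C, hC⟩
    obtain ⟨g, rfl⟩ := ConjClasses.mk_surjective C
    obtain ⟨m, hm⟩ := isConj_iff.1 (hC g rfl)
    obtain ⟨n, hn, hc⟩ := exists_conj_commute_of_fixed_class K hx m.2 (congrArg Subtype.val hm)
    refine ⟨⟨n * g * n⁻¹, hK.conj_mem _ g.2 n, Subgroup.mem_centralizer_singleton_iff.2 hc⟩, ?_⟩
    rw [ConjClasses.mk_eq_mk_iff_isConj]
    exact IsConj.symm (isConj_iff.2 ⟨⟨n, hn⟩, rfl⟩)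
  choose c hc using key
  exact Nat.card_le_card_of_injective c fun C D e => Subtype.ext (by rw [← hc, ← hc, e])

variable {L X₁ X₂ : Type*} [Group L] [Group X₁] [Group X₂]
  {K : Subgroup L} {f₁ : X₁ →* L} {f₂ : X₂ →* L}

namespace PrimeTI

theorem mem₂ (h : PrimeTI K f₁ f₂) (y : X₂) : f₂ y ∈ K := h.le₂ ⟨y, rfl⟩

theorem map_ne_one (h : PrimeTI K f₁ f₂) {x : X₁} (hx : x ≠ 1) : f₁ x ≠ 1 :=
  fun e => hx (h.inj₁ (by rw [e, map_one]))

theorem mem_iff (h : PrimeTI K f₁ f₂) {x : X₁} : f₁ x ∈ K ↔ x = 1 := by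
  refine ⟨fun hx => ?_, fun e => by rw [e, map_one]; exact one_mem _⟩
  have : f₁ x ∈ K ⊓ f₁.range := ⟨hx, x, rfl⟩
  rw [h.inf_eq, Subgroup.mem_bot] at this
  exact h.inj₁ (by rw [this, map_one])

theorem cent' (h : PrimeTI K f₁ f₂) {x : X₁} (hx : x ≠ 1) :
    K ⊓ Subgroup.centralizer ({f₁ x} : Set L) = f₂.range := h.cent _ ⟨x, rfl⟩ (h.map_ne_one hx)

theorem comm (h : PrimeTI K f₁ f₂) (x : X₁) (y : X₂) : f₁ x * f₂ y = f₂ y * f₁ x := by
  by_cases hx : x = 1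
  · simp [hx]
  · have : f₂ y ∈ K ⊓ Subgroup.centralizer ({f₁ x} : Set L) := h.cent' hx ▸ ⟨y, rfl⟩
    exact (Subgroup.mem_centralizer_singleton_iff.1 this.2).symm

theorem mem_range₂ (h : PrimeTI K f₁ f₂) {x : X₁} (hx : x ≠ 1) {k : L} (hk : k ∈ K)
    (hc : k * f₁ x = f₁ x * k) : k ∈ f₂.range :=
  h.cent' hx ▸ ⟨hk, Subgroup.mem_centralizer_singleton_iff.2 hc⟩

theorem isCyclic₁ (h : PrimeTI K f₁ f₂) : IsCyclic X₁ :=
  (MonoidHom.ofInjective h.inj₁).isCyclic.2 h.cyclic₁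

theorem isCyclic₂ (h : PrimeTI K f₁ f₂) : IsCyclic X₂ :=
  (MonoidHom.ofInjective h.inj₂).isCyclic.2 h.cyclic₂

theorem comm₁ (h : PrimeTI K f₁ f₂) (a b : X₁) : a * b = b * a :=
  have := h.isCyclic₁
  IsCyclic.isMulCommutative.is_comm.comm a b

theorem comm₂ (h : PrimeTI K f₁ f₂) (a b : X₂) : a * b = b * a :=
  have := h.isCyclic₂
  IsCyclic.isMulCommutative.is_comm.comm a b

theorem exists_mul (h : PrimeTI K f₁ f₂) (g : L) : ∃ k ∈ K, ∃ x, g = k * f₁ x := by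
  have := h.normal
  obtain ⟨k, hk, _, ⟨x, rfl⟩, e⟩ := exists_mul_of_sup_eq_top_of_normal_left f₁.range K h.sup_eq g
  exact ⟨k, hk, x, e⟩

theorem bijective_quot (h : PrimeTI K f₁ f₂) :
    haveI := h.normal
    Function.Bijective ((QuotientGroup.mk' K).comp f₁) := by
  have := h.normal
  constructor
  · rw [injective_iff_map_eq_one]
    intro x hx
    exact h.mem_iff.1 ((QuotientGroup.eq_one_iff _).1 hx)
  · intro q
    obtain ⟨g, rfl⟩ := QuotientGroup.mk_surjective q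
    obtain ⟨k, hk, x, rfl⟩ := h.exists_mul g
    refine ⟨x, ?_⟩
    simp [(QuotientGroup.eq_one_iff k).2 hk]

/-- The projection `L → W₁` with kernel `K`. -/
noncomputable def proj (h : PrimeTI K f₁ f₂) : L →* X₁ :=
  haveI := h.normal
  (MulEquiv.ofBijective _ h.bijective_quot).symm.toMonoidHom.comp (QuotientGroup.mk' K)

theorem proj_map (h : PrimeTI K f₁ f₂) (x : X₁) : h.proj (f₁ x) = x :=
  haveI := h.normal
  (MulEquiv.ofBijective _ h.bijective_quot).symm_apply_apply x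

theorem proj_eq_one_iff (h : PrimeTI K f₁ f₂) {g : L} : h.proj g = 1 ↔ g ∈ K := by
  have := h.normal
  rw [← QuotientGroup.eq_one_iff]
  exact (MulEquiv.ofBijective _ h.bijective_quot).symm.map_eq_one_iff

theorem proj_of_mem (h : PrimeTI K f₁ f₂) {k : L} (hk : k ∈ K) : h.proj k = 1 :=
  h.proj_eq_one_iff.2 hk

theorem proj_map₂ (h : PrimeTI K f₁ f₂) (y : X₂) : h.proj (f₂ y) = 1 := h.proj_of_mem (h.mem₂ y)

theorem proj_mul (h : PrimeTI K f₁ f₂) (x : X₁) (y : X₂) : h.proj (f₁ x * f₂ y) = x := by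
  rw [map_mul, h.proj_map, h.proj_map₂, mul_one]

theorem proj_surjective (h : PrimeTI K f₁ f₂) : Function.Surjective h.proj :=
  fun x => ⟨f₁ x, h.proj_map x⟩

theorem ker_proj (h : PrimeTI K f₁ f₂) : h.proj.ker = K := by
  ext g; exact h.proj_eq_one_iff

theorem mul_inv_proj_mem (h : PrimeTI K f₁ f₂) (g : L) : g * (f₁ (h.proj g))⁻¹ ∈ K := by
  rw [← h.proj_eq_one_iff, map_mul, map_inv, h.proj_map, mul_inv_cancel]

theorem mul_mem_iff (h : PrimeTI K f₁ f₂) {x : X₁} {y : X₂} : f₁ x * f₂ y ∈ K ↔ x = 1 := by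
  rw [← h.proj_eq_one_iff, h.proj_mul]

theorem index_eq (h : PrimeTI K f₁ f₂) : K.index = Nat.card X₁ :=
  haveI := h.normal
  (Nat.card_congr (MulEquiv.ofBijective _ h.bijective_quot).toEquiv).symm

theorem card_range₁ (h : PrimeTI K f₁ f₂) : Nat.card f₁.range = Nat.card X₁ :=
  (Nat.card_congr (MonoidHom.ofInjective h.inj₁).toEquiv).symm

theorem card_range₂ (h : PrimeTI K f₁ f₂) : Nat.card f₂.range = Nat.card X₂ :=
  (Nat.card_congr (MonoidHom.ofInjective h.inj₂).toEquiv).symm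

theorem card_dvd₂ (h : PrimeTI K f₁ f₂) : Nat.card X₂ ∣ Nat.card K :=
  h.card_range₂ ▸ Subgroup.card_dvd_of_le h.le₂

theorem commutator_le (h : PrimeTI K f₁ f₂) : commutator L ≤ K := by
  rw [← h.ker_proj, commutator_def, Subgroup.commutator_le]
  intro a _ b _
  rw [MonoidHom.mem_ker, map_commutatorElement, commutatorElement_eq_one_iff_mul_comm]
  exact h.comm₁ _ _

variable [Finite L]

theorem finite₁ (h : PrimeTI K f₁ f₂) : Finite X₁ := Finite.of_injective _ h.inj₁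

theorem finite₂ (h : PrimeTI K f₁ f₂) : Finite X₂ := Finite.of_injective _ h.inj₂

theorem index_range₁ (h : PrimeTI K f₁ f₂) : f₁.range.index = Nat.card K := by
  have := h.finite₁
  have e1 := K.card_mul_index
  rw [← f₁.range.card_mul_index, h.index_eq, h.card_range₁, mul_comm] at e1
  exact (Nat.eq_of_mul_eq_mul_left Nat.card_pos e1).symm

omit [Finite L] in
theorem card_eq (h : PrimeTI K f₁ f₂) : Nat.card L = Nat.card K * Nat.card X₁ := by
  rw [← h.index_eq, K.card_mul_index]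

theorem coprime_card (h : PrimeTI K f₁ f₂) : Nat.Coprime (Nat.card K) (Nat.card X₁) := by
  have := h.hall
  rw [h.index_range₁, h.card_range₁] at this
  exact this.symm

theorem coprime_orderOf (h : PrimeTI K f₁ f₂) (x : X₁) :
    Nat.Coprime (orderOf (f₁ x)) (Nat.card K) := by
  rw [orderOf_injective f₁ h.inj₁]
  exact h.coprime_card.symm.coprime_dvd_left (orderOf_dvd_natCard x)

omit [Finite L] in
theorem mem_sup_iff (h : PrimeTI K f₁ f₂) {g : L} :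
    g ∈ f₁.range ⊔ f₂.range ↔ ∃ x y, g = f₁ x * f₂ y := by
  rw [← MonoidHom.noncommCoprod_range f₁ f₂ h.comm]
  constructor
  · rintro ⟨p, rfl⟩; exact ⟨p.1, p.2, rfl⟩
  · rintro ⟨x, y, rfl⟩; exact ⟨(x, y), rfl⟩

omit [Finite L] in
/-- `C_L(x) = W` for `x ∈ W₁^#` -/
theorem mem_sup_of_comm (h : PrimeTI K f₁ f₂) {x : X₁} (hx : x ≠ 1) {g : L}
    (hg : g * f₁ x = f₁ x * g) : g ∈ f₁.range ⊔ f₂.range := by
  obtain ⟨k, hk, a, rfl⟩ := h.exists_mul g
  have h1 : k * f₁ x = f₁ x * k := by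
    have : k * f₁ x * f₁ a = f₁ x * k * f₁ a := by
      rw [mul_assoc, ← map_mul, h.comm₁ x a, map_mul, ← mul_assoc, hg, mul_assoc]
    exact mul_right_cancel this
  exact mul_mem (Subgroup.mem_sup_right (h.mem_range₂ hx hk h1)) (Subgroup.mem_sup_left ⟨a, rfl⟩)

/-- (4.3.a): `W - W₂` is a TI-subset of `L` with normaliser `W`. -/
theorem mem_of_conj_mem (h : PrimeTI K f₁ f₂) {x : X₁} (hx : x ≠ 1) (y : X₂) {g : L}
    (hg : g * (f₁ x * f₂ y) * g⁻¹ ∈ f₁.range ⊔ f₂.range) : g ∈ f₁.range ⊔ f₂.range := by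
  obtain ⟨x', y', e⟩ := h.mem_sup_iff.1 hg
  have e1 : x = x' := by
    have := congrArg h.proj e
    rw [map_mul, map_mul, map_inv, h.proj_mul, h.proj_mul, h.comm₁ _ x, mul_inv_cancel_right]
      at this
    exact this
  subst e1
  have := (conj_parts (h.comm x y) (h.comm x y') (h.coprime_orderOf x) dvd_rfl dvd_rfl
    (K.orderOf_dvd_natCard (h.mem₂ y)) (K.orderOf_dvd_natCard (h.mem₂ y')) e).1
  exact h.mem_sup_of_comm hx (mul_inv_eq_iff_eq_mul.1 this)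

theorem selfNorm (h : PrimeTI K f₁ f₂) : IsSelfNormalizingCyclic f₁.range f₂.range := by
  have hb : f₁.range ⊓ f₂.range = ⊥ := by
    rw [eq_bot_iff, ← h.inf_eq, inf_comm]
    exact inf_le_inf_right _ h.le₂
  refine selfNormalizingCyclic_of_ti h.ne_bot₁ h.ne_bot₂ hb ?_ ?_ ?_
  · rintro _ ⟨x, rfl⟩ _ ⟨y, rfl⟩; exact h.comm x y
  · rw [← MonoidHom.noncommCoprod_range f₁ f₂ h.comm]
    have hi := (MonoidHom.noncommCoprod_injective f₁ f₂ h.comm).2
      ⟨h.inj₁, h.inj₂, disjoint_iff.2 hb⟩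
    exact (MonoidHom.ofInjective hi).isCyclic.1 (Group.isCyclic_prod_iff.2
      ⟨h.isCyclic₁, h.isCyclic₂, h.coprime_card.symm.coprime_dvd_right h.card_dvd₂⟩)
  · intro v hv _ hv2 g hg _ _
    obtain ⟨x, y, rfl⟩ := h.mem_sup_iff.1 hv
    exact h.mem_of_conj_mem (by rintro rfl; exact hv2 ⟨y, by simp⟩) y hg

/-- (4.3.a) -/
theorem cycTI (h : PrimeTI K f₁ f₂) : CycTI f₁ f₂ := ⟨h.inj₁, h.inj₂, h.selfNorm, h.odd⟩

theorem tiPair (h : PrimeTI K f₁ f₂) : TIPair f₁ f₂ := h.cycTI.tiPair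

/-- every element outside `K` is conjugate to an element of `W - W₂` -/
theorem exists_conj_of_not_mem (h : PrimeTI K f₁ f₂) {g : L} (hg : g ∉ K) :
    ∃ (m : L) (x : X₁) (y : X₂), x ≠ 1 ∧ g = m * (f₁ x * f₂ y) * m⁻¹ := by
  have := h.normal
  obtain ⟨k, hk, x, rfl⟩ := h.exists_mul g
  have hx : x ≠ 1 := by rintro rfl; exact hg (by simpa using hk)
  obtain ⟨n, -, c, hc, hcx, e⟩ := exists_conj_mem_cent_coset K (f₁ x)
    (Subgroup.le_normalizer_of_normal (Subgroup.mem_top _)) (h.coprime_orderOf x) k hk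
  obtain ⟨y, rfl⟩ := h.mem_range₂ hx hc hcx
  exact ⟨n⁻¹, x, y, hx, by rw [h.comm, ← e]; group⟩

omit [Finite L] in
/-- An element of `V^L` does not lie in `K`. -/
theorem not_mem_of_mem_cycVConj (h : PrimeTI K f₁ f₂) {g : L} (hg : g ∈ cycVConj f₁ f₂) :
    g ∉ K := by
  obtain ⟨m, _, ⟨x, y, hx, -, rfl⟩, rfl⟩ := hg
  intro hK
  have := h.normal.conj_mem _ hK m⁻¹
  simp only [mul_assoc, inv_mul_cancel_left, inv_inv, inv_mul_cancel, mul_one] at this
  exact hx (h.mul_mem_iff.1 this)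

/-- An element outside `K` is conjugate to an element of `W₁^#` or lies in `V^L`. -/
theorem conj_cases (h : PrimeTI K f₁ f₂) {g : L} (hg : g ∉ K) :
    g ∈ cycVConj f₁ f₂ ∨ ∃ (m : L) (x : X₁), x ≠ 1 ∧ g = m * f₁ x * m⁻¹ := by
  obtain ⟨m, x, y, hx, rfl⟩ := h.exists_conj_of_not_mem hg
  by_cases hy : y = 1
  · right; exact ⟨m, x, hx, by simp [hy]⟩
  · left; exact ⟨m, _, mem_cycV hx hy, rfl⟩

end PrimeTI

theorem primeTI_subtype {K W₁ W₂ : Subgroup L} (hK : K.Normal) (h1 : K ⊓ W₁ = ⊥)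
    (h2 : K ⊔ W₁ = ⊤) (h3 : W₁ ≠ ⊥) (h4 : IsCyclic W₁)
    (h5 : Nat.Coprime (Nat.card W₁) W₁.index) (h6 : W₂ ≠ ⊥) (h7 : IsCyclic W₂) (h8 : W₂ ≤ K)
    (h9 : ∀ x ∈ W₁, x ≠ 1 → K ⊓ Subgroup.centralizer ({x} : Set L) = W₂)
    (h10 : Odd (Nat.card ↥(W₁ ⊔ W₂))) : PrimeTI K W₁.subtype W₂.subtype := by
  refine ⟨W₁.subtype_injective, W₂.subtype_injective, hK, ?_, ?_, ?_, ?_, ?_, ?_, ?_, ?_, ?_, ?_⟩ <;>
    first | simpa only [Subgroup.range_subtype] | rwa [Subgroup.range_subtype]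

end CL.PF
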