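import Cfsg.Agent.Base
import Cfsg.Agent.PF.CohExt
import Cfsg.Agent.PF.SeqInd
import Cfsg.Agent.Char.TI
import Cfsg.Agent.Blocks.SylowIn
import Cfsg.Agent.S1523

/-!
# Peterfalvi (6.8), first part

The common core of (6.8.1) and (6.8.2): an abstract gluing lemma (`sibley_glue`), the form of (6.7)
that is used, and the coherence of `X ∪ Y` once the image of a member of `Y` is known to be
constant on `Z^#`.
-/

set_option autoImplicit false

open Cfsg CL.Char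
open scoped ComplexConjugate

namespace CL.PF

section Abstract
variable {L : Type*} [Group L] [Fintype L] {G : Type*} [Group G] [Fintype G]
  {S Y : Set (L → ℂ)} {τ ν : (L → ℂ) → (G → ℂ)} {R : (L → ℂ) → Finset (G → ℂ)}

/-- the components of `τ (φ - a η₁)` along `ν Y` have total square at most `a²` -/
theorem sibley_bessel (hS : IsCoherenceSystem S τ R) (hY : ConjSub Y S)
    (hirr : ∀ η ∈ Y, IsIrrCharacter L η) (hν : CoherentWith Y τ ν) {η₁ φ : L → ℂ} (hη₁ : η₁ ∈ Y)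
    (hφ : φ ∈ S) (hφY : φ ∉ Y) {a : ℤ} (ha : φ 1 = a * η₁ 1) (T : Finset (L → ℂ)) (hT : ↑T ⊆ Y) :
    ∑ η ∈ T, rip (τ (φ - a • η₁)) (ν η) ^ 2 ≤ (a : ℝ) ^ 2 := by
  have hη₁S := hY.subset hη₁
  have hmem : φ - a • η₁ ∈ zspanOn S {1}ᶜ :=
    sub_zsmul_mem_zspanOn_one (mem_zspan hφ) (mem_zspan hη₁S) ha
  have hφη : classInner φ η₁ = 0 := hS.orthogonal _ hφ _ hη₁S fun h => hφY (h ▸ hη₁)
  have hηφ : classInner η₁ φ = 0 := classInner_eq_zero_comm.1 hφη
  have hηφ' : classInner η₁ (conjFun φ) = 0 :=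
    hS.orthogonal _ hη₁S _ (hS.conj_mem _ hφ) fun h => hφY (hY.conj_mem_iff.1 (h ▸ hη₁))
  set W := τ (φ - a • η₁) with hW
  have hWg : IsGeneralizedCharacter G W := iso_gen hS.isometry hmem
  have h1 : classInner W (τ (φ - conjFun φ)) = classInner φ φ := by
    rw [hW, iso_inner hS.isometry hmem (subcoh_sub_conj_mem hS hφ), classInner_sub_left,
      subcoh_inner_sub_conj hS hφ, classInner_zsmul_left, classInner_sub_right, hηφ, hηφ']
    simp
  have h2 := subcoh_le_sum_sq hS hφ hWg h1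
  have h3 : rip W W = rip φ φ + (a : ℝ) ^ 2 := by
    rw [hW, iso_rip hS.isometry hmem hmem, rip_sub_self, rip_zsmul_right, rip_zsmul_left,
      rip_zsmul_right, rip_eq_zero_of hφη, rip_eq_one_of (irr_inner_self (hirr _ hη₁))]
    ring
  have h4 := (subcoh_isON hS hφ).rip_sub_proj W
  have h5 : ∑ α ∈ R φ, ‖classInner W α‖ ^ 2 = ∑ α ∈ R φ, rip W α ^ 2 :=
    Finset.sum_congr rfl fun α hα => gen_norm_sq_eq_rip_sq hWg (hS.virtual _ hφ _ hα)
  have h6 := coherent_bessel hν.iso T hT (fun η hη => irr_ne_zero (hirr _ (hT hη)))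
    (fun η hη η' hη' hne => irr_inner_of_ne (hirr _ (hT hη)) (hirr _ (hT hη')) hne)
    (W := W - proj (R φ) W) (t := 1) (fun η => rip W (ν η)) (fun η hη => by
      rw [rip_sub_left, one_mul, rip_eq_zero_of (proj_inner_eq_zero (fun α hα =>
        classInner_eq_zero_comm.1 (coherent_orth_R hS hY hν hφ hφY (mem_zspan (hT hη)) α hα)) W),
        sub_zero])
  have h7 : ∑ η ∈ T, rip W (ν η) ^ 2 / rip η η = ∑ η ∈ T, rip W (ν η) ^ 2 :=
    Finset.sum_congr rfl fun η hη => by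
      rw [rip_eq_one_of (irr_inner_self (hirr _ (hT hη))), div_one]
  rw [h7] at h6
  linarith

theorem sibley_rip_other (hS : IsCoherenceSystem S τ R) (hY : ConjSub Y S)
    (hirr : ∀ η ∈ Y, IsIrrCharacter L η) (hν : CoherentWith Y τ ν) {η₁ η φ : L → ℂ}
    (hη₁ : η₁ ∈ Y) (hη : η ∈ Y) (hne : η ≠ η₁) (hd : η 1 = η₁ 1) (hφ : φ ∈ S) (hφY : φ ∉ Y)
    {a : ℤ} (ha : φ 1 = a * η₁ 1) :
    rip (τ (φ - a • η₁)) (ν η) = rip (τ (φ - a • η₁)) (ν η₁) + a := by
  have hη₁S := hY.subset hη₁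
  have hηS := hY.subset hη
  have hmem : φ - a • η₁ ∈ zspanOn S {1}ᶜ :=
    sub_zsmul_mem_zspanOn_one (mem_zspan hφ) (mem_zspan hη₁S) ha
  have hmem' : η - η₁ ∈ zspanOn S {1}ᶜ := sub_mem_zspanOn_one (mem_zspan hηS) (mem_zspan hη₁S) hd
  have h1 := iso_rip hS.isometry hmem hmem'
  rw [hν.sub (mem_zspan hη) (mem_zspan hη₁) hd, rip_sub_right, rip_sub_left, rip_sub_right,
    rip_zsmul_left, rip_sub_right,
    rip_eq_zero_of (hS.orthogonal _ hφ _ hη₁S fun h => hφY (h ▸ hη₁)),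
    rip_eq_zero_of (hS.orthogonal _ hφ _ hηS fun h => hφY (h ▸ hη)),
    rip_eq_zero_of (irr_inner_of_ne (hirr _ hη₁) (hirr _ hη) hne.symm),
    rip_eq_one_of (irr_inner_self (hirr _ hη₁))] at h1
  linarith

/-- The gluing step common to (6.8.1) and (6.8.2). -/
theorem sibley_glue (hS : IsCoherenceSystem S τ R) (hY : ConjSub Y S)
    (hirr : ∀ η ∈ Y, IsIrrCharacter L η) (hν : CoherentWith Y τ ν) {η₁ : L → ℂ} (hη₁ : η₁ ∈ Y)
    (hdeg : ∀ η ∈ Y, η 1 = η₁ 1) (X : Finset (L → ℂ)) (hX : ↑X ⊆ S) (hXY : ∀ φ ∈ X, φ ∉ Y)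
    (a : (L → ℂ) → ℤ) (ha0 : ∀ φ ∈ X, 0 < a φ) (ha : ∀ φ ∈ X, φ 1 = a φ * η₁ 1)
    (w : (L → ℂ) → ℝ) (hw : ∀ φ ∈ X, 0 < w φ) (x : ℤ)
    (hsum : ∑ φ ∈ X, w φ * (rip (τ (φ - a φ • η₁)) (ν η₁) + a φ) = x * ∑ φ ∈ X, w φ * a φ) :
    ∃ ν', CoherentWith (↑X ∪ Y) τ ν' := by
  classical
  have hη₁S := hY.subset hη₁
  have hη₂ : conjFun η₁ ∈ Y := hY.conj_mem _ hη₁
  have hne : conjFun η₁ ≠ η₁ := hS.conj_ne _ hη₁S
  set y : (L → ℂ) → ℝ := fun φ => rip (τ (φ - a φ • η₁)) (ν η₁) + a φ with hy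
  have hoth : ∀ φ ∈ X, ∀ η ∈ Y, η ≠ η₁ → rip (τ (φ - a φ • η₁)) (ν η) = y φ :=
    fun φ hφ η hη hne => sibley_rip_other hS hY hirr hν hη₁ hη hne (hdeg _ hη) (hX hφ)
      (hXY _ hφ) (ha _ hφ)
  have hb : ∀ φ ∈ X, 0 ≤ y φ ∧ y φ ≤ a φ := by
    intro φ hφ
    have h := sibley_bessel hS hY hirr hν hη₁ (hX hφ) (hXY _ hφ) (ha _ hφ) {η₁, conjFun η₁}
      (by rw [Finset.coe_pair]; exact Set.pair_subset hη₁ hη₂)
    rw [Finset.sum_pair hne.symm, hoth φ hφ _ hη₂ hne,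
      show rip (τ (φ - a φ • η₁)) (ν η₁) = y φ - a φ by simp [hy]] at h
    have h0 : (0 : ℝ) < a φ := by exact_mod_cast ha0 φ hφ
    constructor <;> nlinarith
  have hsub : ↑X ∪ Y ⊆ S := Set.union_subset hX hY.subset
  have hiso : IsLinearIsometryOn (zspanOn (↑X ∪ Y) {1}ᶜ) τ :=
    iso_mono hS.isometry (zspanOn_mono hsub)
  -- it suffices to find a good image for the pivot
  have key : ∀ ζ : G → ℂ, IsGeneralizedCharacter G ζ → classInner ζ ζ = 1 →
      (∀ φ ∈ X, rip (τ (φ - a φ • η₁)) ζ = -a φ) →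
      (∀ η ∈ Y, η ≠ η₁ → rip (ν η - ν η₁) ζ = -1) → ∃ ν', CoherentWith (↑X ∪ Y) τ ν' := by
    intro ζ hζ hn h1 h2
    obtain ⟨ν', hν', -⟩ := pivot_coherentWith hiso (η₁ := η₁) (mem_zspan (Or.inr hη₁))
      (subcoh_apply_one_ne_zero hS hη₁S) hζ (by rw [hn, irr_inner_self (hirr _ hη₁)]) (by
        have aux : ∀ φ ∈ S, ∀ b : ℤ, φ 1 = b * η₁ 1 → φ ≠ η₁ → rip (τ (φ - b • η₁)) ζ = -b →
            classInner (τ (φ - b • η₁)) ζ = classInner (φ - b • η₁) η₁ := by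
          intro φ hφ b hb hne hr
          have hmem : φ - b • η₁ ∈ zspanOn S {1}ᶜ :=
            sub_zsmul_mem_zspanOn_one (mem_zspan hφ) (mem_zspan hη₁S) hb
          rw [← gen_ofReal_rip (iso_gen hS.isometry hmem) hζ, hr, classInner_sub_left,
            classInner_zsmul_left, hS.orthogonal _ hφ _ hη₁S hne, irr_inner_self (hirr _ hη₁)]
          simp
        rintro φ (hφ | hφ)
        · exact ⟨a φ, ha φ hφ, aux φ (hX hφ) _ (ha φ hφ) (fun h => hXY φ hφ (h ▸ hη₁)) (h1 φ hφ)⟩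
        · refine ⟨1, by rw [hdeg φ hφ]; simp, ?_⟩
          by_cases he : φ = η₁
          · rw [he, one_smul, sub_self, iso_zero hS.isometry, classInner_zero_left,
              classInner_zero_left]
          · refine aux φ (hY.subset hφ) 1 (by rw [hdeg φ hφ]; simp) he ?_
            rw [one_smul, hν.sub (mem_zspan hφ) (mem_zspan hη₁) (hdeg φ hφ), h2 φ hφ he]
            simp)
    exact ⟨ν', hν'⟩
  have hνin : ∀ η ∈ Y, ∀ η' ∈ Y, rip (ν η) (ν η') = rip η η' := fun η hη η' hη' =>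
    iso_rip hν.iso (mem_zspan hη) (mem_zspan hη')
  have hfirst : (∀ φ ∈ X, y φ = 0) → ∃ ν', CoherentWith (↑X ∪ Y) τ ν' := by
    intro h0
    refine key (ν η₁) (hν.gen (mem_zspan hη₁))
      (by rw [hν.inner (mem_zspan hη₁) (mem_zspan hη₁), irr_inner_self (hirr _ hη₁)])
      (fun φ hφ => by have := h0 φ hφ; simp only [hy] at this; linarith) fun η hη hne => ?_
    rw [rip_sub_left, hνin _ hη _ hη₁, hνin _ hη₁ _ hη₁,
      rip_eq_zero_of (irr_inner_of_ne (hirr _ hη) (hirr _ hη₁) hne),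
      rip_eq_one_of (irr_inner_self (hirr _ hη₁))]
    simp
  rcases X.eq_empty_or_nonempty with hXe | hXne
  · exact hfirst fun φ hφ => by simp [hXe] at hφ
  have hApos : 0 < ∑ φ ∈ X, w φ * a φ := Finset.sum_pos (fun φ hφ =>
    mul_pos (hw φ hφ) (by exact_mod_cast ha0 φ hφ)) hXne
  have hlo : ∀ φ ∈ X, 0 ≤ w φ * y φ := fun φ hφ => mul_nonneg (hw φ hφ).le (hb φ hφ).1
  have hhi : ∀ φ ∈ X, w φ * y φ ≤ w φ * a φ := fun φ hφ =>
    mul_le_mul_of_nonneg_left (hb φ hφ).2 (hw φ hφ).le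
  have hs : ∑ φ ∈ X, w φ * y φ = x * ∑ φ ∈ X, w φ * a φ := hsum
  have hx0 : (0 : ℝ) ≤ x := by
    have := Finset.sum_nonneg hlo
    rw [hs] at this
    exact nonneg_of_mul_nonneg_left this hApos
  have hx1 : (x : ℝ) ≤ 1 := by
    have := Finset.sum_le_sum hhi
    rw [hs] at this
    nlinarith
  have hx : x = 0 ∨ x = 1 := by
    have h0 : 0 ≤ x := by exact_mod_cast hx0
    have h1 : x ≤ 1 := by exact_mod_cast hx1
    omega
  rcases hx with rfl | rfl
  · refine hfirst fun φ hφ => ?_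
    have := (Finset.sum_eq_zero_iff_of_nonneg hlo).1 (by rw [hs]; simp) φ hφ
    exact (mul_eq_zero.1 this).resolve_left (hw φ hφ).ne'
  · have heq : ∀ φ ∈ X, y φ = a φ := fun φ hφ =>
      mul_left_cancel₀ (hw φ hφ).ne'
        ((Finset.sum_eq_sum_iff_of_le hhi).1 (by rw [hs]; simp) φ hφ)
    have hall : ∀ η ∈ Y, η ≠ η₁ → η = conjFun η₁ := by
      intro η hη hne1
      by_contra hne2
      obtain ⟨φ, hφ⟩ := hXne
      have h := sibley_bessel hS hY hirr hν hη₁ (hX hφ) (hXY _ hφ) (ha _ hφ) {η, conjFun η₁}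
        (by rw [Finset.coe_pair]; exact Set.pair_subset hη hη₂)
      rw [Finset.sum_pair hne2, hoth φ hφ _ hη₂ hne, hoth φ hφ _ hη hne1, heq φ hφ] at h
      have h0 : (0 : ℝ) < a φ := by exact_mod_cast ha0 φ hφ
      nlinarith
    refine key (-ν (conjFun η₁)) (gen_neg (hν.gen (mem_zspan hη₂)))
      (by rw [classInner_neg_left, classInner_neg_right, neg_neg,
        hν.inner (mem_zspan hη₂) (mem_zspan hη₂), irr_inner_self (hirr _ hη₂)])
      (fun φ hφ => by rw [rip_neg_right, hoth φ hφ _ hη₂ hne, heq φ hφ]) fun η hη hne1 => ?_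
    rw [hall η hη hne1, rip_neg_right, rip_sub_left, hνin _ hη₂ _ hη₂, hνin _ hη₁ _ hη₂,
      rip_eq_zero_of (irr_inner_of_ne (hirr _ hη₁) (hirr _ hη₂) hne.symm),
      rip_eq_one_of (irr_inner_self (hirr _ hη₂))]
    simp

end Abstract

section Six7
variable {G : Type*} [Group G] [Finite G] {L : Subgroup G} {H Z K : Subgroup L}

theorem exists_sylow_eq_map {p : ℕ} [Fact p.Prime] (hp : IsPGroup p H) (hi : ¬ p ∣ H.index)
    (hN : Subgroup.normalizer (H.map L.subtype : Set G) = L) :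
    ∃ P : Sylow p G, (P : Subgroup G) = H.map L.subtype := by
  rw [← Blocks.IsSylowIn.top_iff]
  refine Blocks.IsSylowIn.of_inf_normalizer le_top ?_
  rw [hN, top_inf_eq]
  refine Blocks.IsSylowIn.of_not_dvd_relIndex (Subgroup.map_subtype_le _) (hp.map _) ?_
  rwa [Subgroup.relIndex, Subgroup.subgroupOf, Subgroup.comap_map_eq_self_of_injective
    L.subtype_injective]

/-- (6.7), for subgroups of `L` and a signed irreducible character -/
theorem t6_7_signed [Z.Normal] (hodd : Odd (Nat.card L)) {p : ℕ} [Fact p.Prime]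
    (hp : IsPGroup p H) (hi : ¬ p ∣ H.index) (hTI : IsTISubset (H.map L.subtype : Set G))
    (hN : Subgroup.normalizer (H.map L.subtype : Set G) = L) (hZH : Z ≤ H)
    (hZc : ∀ z ∈ Z, ∀ k ∈ H, z * k = k * z)
    (hC : ∀ z ∈ Z, z ≠ 1 → Subgroup.centralizer ({z} : Set L) = K) {ψ : G → ℂ}
    (hψ : IsSignedIrr G ψ) (hconst : ∀ z ∈ Z, ∀ z' ∈ Z, z ≠ 1 → z' ≠ 1 → ψ z = ψ z') :
    ∃ s : ℤ, ∀ z ∈ Z, z ≠ 1 → ψ z = ψ 1 - s * Nat.card H := by
  by_cases hZ1 : Z = ⊥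
  · exact ⟨0, fun z hz h1 => absurd (by simpa [hZ1] using hz) h1⟩
  obtain ⟨P, hP⟩ := exists_sylow_eq_map hp hi hN
  obtain ⟨⟨z₀, hz₀⟩, hz₁⟩ := Subgroup.ne_bot_iff_exists_ne_one.1 hZ1
  have hz₁' : z₀ ≠ 1 := fun h => hz₁ (Subtype.ext h)
  have hcent : ∀ z ∈ Z, z ≠ 1 →
      L ⊓ Subgroup.centralizer ({(z : G)} : Set G) = K.map L.subtype := by
    intro z hz h1
    rw [← hC z hz h1]
    ext g
    simp only [Subgroup.mem_inf, Subgroup.mem_map, Subgroup.mem_centralizer_singleton_iff,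
      Subgroup.coe_subtype]
    constructor
    · rintro ⟨hg, hc⟩
      exact ⟨⟨g, hg⟩, Subtype.ext hc, rfl⟩
    · rintro ⟨x, hx, rfl⟩
      exact ⟨x.2, congrArg Subtype.val hx⟩
  have main : ∀ χ : G → ℂ, IsIrrCharacter G χ →
      (∀ z ∈ Z, ∀ z' ∈ Z, z ≠ 1 → z' ≠ 1 → χ z = χ z') →
      ∃ s : ℤ, ∀ z ∈ Z, z ≠ 1 → χ z = χ 1 - s * Nat.card H := by
    intro χ hχ hc
    obtain ⟨n, d, hn, hd, s, hs⟩ := Cfsg.Agent.S1523.result p P (hP ▸ hTI)
      (by rw [hP, hN]; exact hodd) (Z.map L.subtype)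
      (fun h => hZ1 ((Subgroup.map_eq_bot_iff_of_injective _ L.subtype_injective).1 h))
      (hP ▸ Subgroup.map_mono hZH)
      (by
        rw [hP, hN]
        rintro x hx _ ⟨z, hz, rfl⟩
        exact ⟨⟨x, hx⟩ * z * ⟨x, hx⟩⁻¹, Subgroup.Normal.conj_mem inferInstance z hz _, rfl⟩)
      (by
        rw [hP]
        rintro _ ⟨z, hz, rfl⟩ _ ⟨y, hy, rfl⟩
        exact congrArg Subtype.val (hZc z hz y hy))
      (by
        rw [hP, hN]
        rintro _ ⟨z, hz, rfl⟩ _ ⟨z', hz', rfl⟩ h1 h2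
        simp only [Subgroup.coe_subtype] at h1 h2 ⊢
        rw [hcent z hz (fun h => h1 (by simp [h])), hcent z' hz' (fun h => h2 (by simp [h]))])
      χ hχ
      (by
        rintro _ ⟨z, hz, rfl⟩ _ ⟨z', hz', rfl⟩ h1 h2
        exact hc z hz z' hz' (fun h => h1 (by simp [h])) (fun h => h2 (by simp [h])))
      z₀ ⟨z₀, hz₀, rfl⟩ (fun h => hz₁' (Subtype.ext h))
    refine ⟨s, fun z hz h1 => ?_⟩
    rw [hP, Subgroup.card_map_of_injective L.subtype_injective] at hs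
    rw [hc z hz z₀ hz₀ h1 hz₁', hn, hd]
    have : (d : ℂ) - n = (Nat.card H : ℂ) * s := by exact_mod_cast hs
    linear_combination -this
  rcases hψ with h | h
  · exact main ψ h hconst
  · obtain ⟨s, hs⟩ := main (-ψ) h fun z hz z' hz' h1 h2 => by
      simp only [Pi.neg_apply, hconst z hz z' hz' h1 h2]
    refine ⟨-s, fun z hz h1 => ?_⟩
    have := hs z hz h1
    simp only [Pi.neg_apply] at this
    push_cast
    linear_combination -this

end Six7

section XY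
variable {L : Type*} [Group L] [Fintype L]

/-- the inner product with `ρ_L - ρ_{L/Z}` of a class function that is constant on `Z^#` -/
theorem classInner_regMod_sub {Z : Subgroup L} [Z.Normal] {f : L → ℂ} (hf : IsClassFunction L f)
    {c : ℂ} (hc : ∀ z ∈ Z, z ≠ 1 → f z = f 1 - c) :
    classInner f (regMod ⊥ - regMod Z) = c * (1 - (Nat.card Z : ℂ)⁻¹) := by
  classical
  rw [classInner_sub_right, regMod_bot, classInner_regChar_right, ← indFun_one_eq_regMod,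
    classInner_indFun_right Z _ hf, classInner_one_right]
  have h : ∑ z : Z, f z = Nat.card Z * (f 1 - c) + c := by
    have h1 : ∑ z : Z, (f z - (f 1 - c)) = c := by
      rw [Finset.sum_eq_single (1 : Z)]
      · simp
      · intro z _ hz
        rw [hc z z.2 (fun h => hz (Subtype.ext h)), sub_self]
      · simp
    rw [Finset.sum_sub_distrib, Finset.sum_const, Finset.card_univ, nsmul_eq_mul,
      ← Nat.card_eq_fintype_card] at h1
    linear_combination h1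
  have h0 : (Nat.card Z : ℂ) ≠ 0 := natCard_cast_ne_zero Z
  rw [h]
  field_simp
  ring

variable {G : Type*} [Group G] [Fintype G] {M : Subgroup G} [Fintype M] {H Z : Subgroup M}
  {R : (M → ℂ) → Finset (G → ℂ)} {ν : (M → ℂ) → (G → ℂ)}

/-- (6.8.1), (6.8.2): `X ∪ Y` is coherent as soon as `η₁^{τ₁}` is constant on `Z^#`, with a value
congruent to its degree modulo `|H|`. -/
theorem sibley_XY [H.Normal] [Z.Normal]
    (hS : IsCoherenceSystem (seqIndD H H ⊥) (fun α : M → ℂ => indFun M α) R)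
    (hfrob : FpfMod H H ⁅H, H⁆) (hZH : Z ≤ ⁅H, H⁆)
    (hν : CoherentWith (seqIndD H H ⁅H, H⁆) (fun α : M → ℂ => indFun M α) ν) {η₁ : M → ℂ}
    (hη₁ : η₁ ∈ seqIndD H H ⁅H, H⁆) {s : ℤ}
    (hs : ∀ z ∈ Z, z ≠ 1 → ν η₁ z = ν η₁ 1 - s * Nat.card H) :
    ∃ ν', CoherentWith (seqIndD H Z ⊥ ∪ seqIndD H H ⁅H, H⁆) (fun α : M → ℂ => indFun M α) ν' := by
  classical
  have hH' : ⁅H, H⁆ ≤ H := Subgroup.commutator_le_left H H
  have hZH' : Z ≤ H := hZH.trans hH'
  have hY : ConjSub (seqIndD H H ⁅H, H⁆) (seqIndD H H ⊥) :=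
    seqIndD_conjSub (seqIndD_subset_self _ _ _)
  have hdeg : ∀ η ∈ seqIndD H H ⁅H, H⁆, η 1 = H.index := fun η hη =>
    seqIndD_apply_one_of_commutator_le le_rfl hη
  set X := (seqIndD_finite H Z ⊥).toFinset with hXdef
  have hX : (↑X : Set (M → ℂ)) = seqIndD H Z ⊥ := Set.Finite.coe_toFinset _
  have hXm : ∀ φ ∈ X, φ ∈ seqIndD H Z ⊥ := fun φ hφ => hX ▸ Finset.mem_coe.2 hφ
  have hd : ∀ φ : M → ℂ, ∃ d : ℕ, φ ∈ X → 0 < d ∧ φ 1 = (H.index : ℂ) * d := by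
    intro φ
    by_cases hφ : φ ∈ X
    · obtain ⟨d, hd⟩ := seqIndD_deg (hXm φ hφ)
      exact ⟨d, fun _ => hd⟩
    · exact ⟨0, fun h => absurd h hφ⟩
  choose d hd using hd
  set f : M → ℂ := fun x => ν η₁ x with hf
  have hψ : IsGeneralizedCharacter G (ν η₁) := hν.gen (mem_zspan hη₁)
  have hfg : IsGeneralizedCharacter M f := gen_restrict hψ M
  obtain ⟨k, hk⟩ := gen_rip_int (seqIndD_gen hη₁) hfg
  have he : (0 : ℝ) < H.index := by
    exact_mod_cast Nat.pos_of_ne_zero Subgroup.index_ne_zero_of_finite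
  have hre : ∀ φ ∈ X, (φ 1).re = H.index * d φ := fun φ hφ => by
    rw [(hd φ hφ).2]; simp
  have hrpos : ∀ φ ∈ X, 0 < rip φ φ := fun φ hφ => rip_self_pos (seqIndD_ne_zero (hXm φ hφ))
  rw [← hX]
  refine sibley_glue hS hY (fun η hη => hfrob.seqIndD_irr hH' le_rfl hη) hν hη₁
    (fun η hη => by rw [hdeg η hη, hdeg η₁ hη₁]) X (hX ▸ seqIndD_subset_self _ _ _) ?_
    (fun φ => d φ) (fun φ hφ => by exact_mod_cast (hd φ hφ).1)
    (fun φ hφ => by rw [(hd φ hφ).2, hdeg η₁ hη₁]; push_cast; ring)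
    (fun φ => (φ 1).re / rip φ φ) (fun φ hφ => div_pos (by
      rw [hre φ hφ]; exact mul_pos he (by exact_mod_cast (hd φ hφ).1)) (hrpos φ hφ))
    (s - k + 1) ?_
  · intro φ hφ hφY
    obtain ⟨z, hz, hne⟩ := seqIndD_exists_apply_ne hZH' (hXm φ hφ)
    exact hne (seqIndD_apply_eq hH' hφY (hZH hz))
  -- the two sums
  have hZpos : (0 : ℝ) < Nat.card Z := by exact_mod_cast Nat.card_pos
  have hA : ∑ φ ∈ X, (φ 1).re / rip φ φ * ((d φ : ℤ) : ℝ)
      = Nat.card H * (1 - (Nat.card Z : ℝ)⁻¹) := by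
    have h1 := sum_seqIndD_deg_sq hZH' bot_le X hX
    rw [sup_bot_eq, Subgroup.index_bot] at h1
    have h2 : (Nat.card H : ℝ) * H.index = Nat.card M := by exact_mod_cast H.card_mul_index
    have h3 : (Nat.card Z : ℝ) * Z.index = Nat.card M := by exact_mod_cast Z.card_mul_index
    have h4 : ∑ φ ∈ X, (φ 1).re ^ 2 / rip φ φ
        = H.index * ∑ φ ∈ X, (φ 1).re / rip φ φ * ((d φ : ℤ) : ℝ) := by
      rw [Finset.mul_sum]
      refine Finset.sum_congr rfl fun φ hφ => ?_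
      rw [hre φ hφ]; push_cast; ring
    have h5 : (Z.index : ℝ) = Nat.card M * (Nat.card Z : ℝ)⁻¹ := by
      rw [← h3]; field_simp
    apply mul_left_cancel₀ he.ne'
    rw [← h4, h1, h5, ← h2]; ring
  have hB : ∑ φ ∈ X, (φ 1).re / rip φ φ * rip φ f
      = s * (Nat.card H * (1 - (Nat.card Z : ℝ)⁻¹)) := by
    have h1 := sum_seqIndD hZH' bot_le X hX
    rw [sup_bot_eq] at h1
    have h2 := classInner_regMod_sub (gen_isClassFunction hfg) (Z := Z) (c := s * Nat.card H) hs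
    have h3 : rip f (regMod ⊥ - regMod Z) = s * (Nat.card H * (1 - (Nat.card Z : ℝ)⁻¹)) :=
      rip_of_classInner_eq (by rw [h2]; push_cast; ring)
    rw [← h3, ← h1, rip_sum_right]
    refine Finset.sum_congr rfl fun φ hφ => ?_
    have h4 : φ 1 / classInner φ φ = (((φ 1).re / rip φ φ : ℝ) : ℂ) := by
      rw [← ofReal_rip_self, hre φ hφ, (hd φ hφ).2]; push_cast; ring
    rw [h4, rip_ofReal_smul_right, rip_comm φ f]
  have hC : ∀ φ ∈ X, rip (indFun M (φ - (d φ : ℤ) • η₁)) (ν η₁) = rip φ f - (d φ : ℤ) * k := by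
    intro φ hφ
    rw [rip_congr (classInner_indFun_left M _ (gen_isClassFunction hψ)), rip_sub_left,
      rip_zsmul_left, hk]
  rw [hA, Finset.sum_congr rfl (g := fun φ => (φ 1).re / rip φ φ * rip φ f
    - (k - 1) * ((φ 1).re / rip φ φ * ((d φ : ℤ) : ℝ))) (fun φ hφ => by rw [hC φ hφ]; ring),
    Finset.sum_sub_distrib, ← Finset.mul_sum, hA, hB]
  push_cast
  ring

end XY

end CL.PF
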