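import Cfsg.Agent.Base
import Cfsg.Agent.PF.SibleyA
import Cfsg.Agent.PF.CohSix
import Cfsg.Agent.PF.CohIrr
import Cfsg.Agent.PF.T5_9
import Cfsg.Agent.PF.PrimeGrp
import Cfsg.Agent.PF.CosetConj
import Cfsg.Agent.Char.Congr
import Cfsg.Agent.BG.Nil

/-!
# Peterfalvi (6.8), second part

Constancy on `Z^#` in the cases (A) and (B), step (6.8.3), and the theorem under an abstract form
of the hypotheses (`sibley_core`); case (c1) (`sibley_frob`).
-/

set_option autoImplicit false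

open Cfsg CL.Char
open scoped ComplexConjugate

namespace CL.PF

section Const
variable {L : Type*} [Group L] [Fintype L]

/-- a class function whose components along the irreducible characters not trivial on `Z` are
proportional to the degrees is constant on `Z^#` -/
theorem const_of_inner_proportional {Z : Subgroup L} {f : L → ℂ} (hf : IsClassFunction L f) {t : ℂ}
    (h : ∀ χ, IsIrrCharacter L χ → (∃ x ∈ Z, χ x ≠ χ 1) → classInner f χ = t * χ 1) {z : L}
    (hz : z ∈ Z) (h1 : z ≠ 1) : f z = f 1 - t * Nat.card L := by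
  have hg : IsClassFunction L (f - t • regChar L) :=
    classFun_sub hf (classFun_smul t (char_isClassFunction char_regChar))
  have : (f - t • regChar L) z = (f - t • regChar L) 1 := by
    rw [classFun_apply_eq_sum hg z, classFun_apply_eq_sum hg 1]
    refine Finset.sum_congr rfl fun χ _ => ?_
    by_cases hχ : ∃ x ∈ Z, (χ : L → ℂ) x ≠ (χ : L → ℂ) 1
    · rw [classInner_sub_left, classInner_smul_left, classInner_regChar_left,
        irr_conj_apply_one χ.2, h _ χ.2 hχ]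
      simp
    · push Not at hχ
      rw [hχ z hz]
  simp only [Pi.sub_apply, Pi.smul_apply, regChar_of_ne h1, regChar_one, smul_eq_mul] at this
  linear_combination this

variable {G : Type*} [Group G] [Fintype G] {M : Subgroup G} [Fintype M] {H Z : Subgroup M}
  {R : (M → ℂ) → Finset (G → ℂ)} {ν ν₂ : (M → ℂ) → (G → ℂ)}

/-- constancy on `Z^#` in case (A) -/
theorem sibley_const_A [H.Normal] [Z.Normal]
    (hS : IsCoherenceSystem (seqIndD H H ⊥) (fun α : M → ℂ => indFun M α) R)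
    (hZH : Z ≤ ⁅H, H⁆) (hirr : ∀ φ ∈ seqIndD H Z ⊥, IsIrrCharacter M φ)
    (hν₂ : CoherentWith (seqIndD H Z ⊥) (fun α : M → ℂ => indFun M α) ν₂)
    (hν : CoherentWith (seqIndD H H ⁅H, H⁆) (fun α : M → ℂ => indFun M α) ν) {η₁ : M → ℂ}
    (hη₁ : η₁ ∈ seqIndD H H ⁅H, H⁆) :
    ∀ z ∈ Z, ∀ z' ∈ Z, z ≠ 1 → z' ≠ 1 → ν η₁ z = ν η₁ z' := by
  have hH' : ⁅H, H⁆ ≤ H := Subgroup.commutator_le_left H H
  have hZH' : Z ≤ H := hZH.trans hH'
  set f : M → ℂ := fun x => ν η₁ x with hf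
  have hψ : IsGeneralizedCharacter G (ν η₁) := hν.gen (mem_zspan hη₁)
  have hfg : IsGeneralizedCharacter M f := gen_restrict hψ M
  have hdisj : Disjoint (seqIndD H Z ⊥) (seqIndD H H ⁅H, H⁆) := by
    rw [Set.disjoint_left]
    intro φ hφ hφY
    obtain ⟨z, hz, hne⟩ := seqIndD_exists_apply_ne hZH' hφ
    exact hne (seqIndD_apply_eq hH' hφY (hZH hz))
  have hprop : ∀ χ ∈ seqIndD H Z ⊥, ∀ χ' ∈ seqIndD H Z ⊥,
      χ' 1 * classInner f χ = χ 1 * classInner f χ' := by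
    intro χ hχ χ' hχ'
    obtain ⟨d, hd⟩ := char_apply_one (seqIndD_char hχ)
    obtain ⟨e, he⟩ := char_apply_one (seqIndD_char hχ')
    have hm := deg_comb_mem (mem_zspan hχ) (mem_zspan hχ') hd he
    have h0 := coherent_ortho hS (seqIndD_conjSub (seqIndD_subset_self _ _ _))
      (seqIndD_conjSub (seqIndD_subset_self _ _ _)) hν₂ hν hdisj (zspanOn_subset hm)
      (mem_zspan hη₁)
    rw [hν₂.eq hm, classInner_indFun_left M _ (gen_isClassFunction hψ), classInner_sub_left,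
      classInner_nsmul_left, classInner_nsmul_left, gen_inner_comm (seqIndD_gen hχ) hfg,
      gen_inner_comm (seqIndD_gen hχ') hfg] at h0
    rw [hd, he]
    linear_combination h0
  intro z hz z' hz' h1 h1'
  obtain ⟨χ₀, hχ₀⟩ : (seqIndD H Z ⊥).Nonempty :=
    seqIndD_nonempty hZH' fun h => h1 (by simpa using h hz)
  have key : ∀ χ, IsIrrCharacter M χ → (∃ x ∈ Z, χ x ≠ χ 1) →
      classInner f χ = classInner f χ₀ / χ₀ 1 * χ 1 := by
    intro χ hχ hx
    have hm : χ ∈ seqIndD H Z ⊥ := by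
      rw [seqIndD_eq_of_irr hZH' bot_le hirr]
      exact ⟨hχ, hx, fun y hy => by rw [Subgroup.mem_bot.1 hy]⟩
    have h0 := seqIndD_apply_one_ne_zero hχ₀
    have := hprop χ hm χ₀ hχ₀
    field_simp
    linear_combination this
  exact (const_of_inner_proportional (gen_isClassFunction hfg) key hz h1).trans
    (const_of_inner_proportional (gen_isClassFunction hfg) key hz' h1').symm

/-- constancy on `Z^#` in case (B) -/
theorem sibley_const_B [H.Normal] (hodd : Odd (Nat.card M))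
    (hTI : IsTISubset (H.map M.subtype : Set G))
    (hN : Subgroup.normalizer (H.map M.subtype : Set G) = M) (hfrob : FpfMod H H ⁅H, H⁆)
    (hZH : Z ≤ ⁅H, H⁆) (hp : (Nat.card Z).Prime)
    (hν : CoherentWith (seqIndD H H ⁅H, H⁆) (fun α : M → ℂ => indFun M α) ν) {η₁ : M → ℂ}
    (hη₁ : η₁ ∈ seqIndD H H ⁅H, H⁆) :
    ∀ z ∈ Z, ∀ z' ∈ Z, z ≠ 1 → z' ≠ 1 → ν η₁ z = ν η₁ z' := by
  have hH' : ⁅H, H⁆ ≤ H := Subgroup.commutator_le_left H H
  have hgen : ∀ z ∈ Z, z ≠ 1 → Subgroup.zpowers z = Z := by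
    intro z hz h1
    have := Fact.mk hp
    have hle : Subgroup.zpowers z ≤ Z := Subgroup.zpowers_le.2 hz
    rcases Subgroup.eq_bot_or_eq_top_of_prime_card ((Subgroup.zpowers z).subgroupOf Z) with h | h
    · rw [Subgroup.subgroupOf_eq_bot] at h
      exact absurd (Subgroup.zpowers_eq_bot.1 (h.eq_bot_of_le hle)) h1
    · exact le_antisymm hle (Subgroup.subgroupOf_eq_top.1 h)
  intro z hz z' hz' h1 h1'
  obtain ⟨k, hk, rfl⟩ := exists_coprime_pow_eq_of_zpowers_eq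
    ((hgen z' hz' h1').trans (hgen z hz h1).symm)
  obtain ⟨σ, -, hσ⟩ := exists_ringEquiv_gen_eq_pow (G := G) (orderOf_pos z).ne' hk
  have hψ : IsGeneralizedCharacter G (ν η₁) := hν.gen (mem_zspan hη₁)
  have h2 := hσ _ hψ z (by rw [Subgroup.orderOf_coe])
  have hirr : ∀ η ∈ seqIndD H H ⁅H, H⁆, IsIrrCharacter M η := fun η hη =>
    hfrob.seqIndD_irr hH' le_rfl hη
  have h3 := t5_9a_ind hν σ (fun φ hφ => seqIndD_map σ hφ) hη₁ (hirr _ hη₁)
    ⟨conjFun η₁, seqIndD_conjFun hη₁, seqIndD_conjFun_ne hodd hη₁,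
      hirr _ (seqIndD_conjFun hη₁)⟩
  have hη' : (fun x => σ (η₁ x)) ∈ seqIndD H H ⁅H, H⁆ := seqIndD_map σ hη₁
  have hd : σ (η₁ 1) = η₁ 1 :=
    (seqIndD_apply_one_of_commutator_le le_rfl hη').trans
      (seqIndD_apply_one_of_commutator_le le_rfl hη₁).symm
  have h4 := congrFun (hν.sub (mem_zspan hη') (mem_zspan hη₁) hd) z
  rw [indFun_apply_of_TI M (H.map M.subtype : Set G) (fun g hg => hTI g (hN.symm ▸ hg))
    (classFun_sub (seqIndD_classFun hη') (seqIndD_classFun hη₁)) (fun x hx => by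
      have hx' : x ∉ H := fun h => hx ⟨x, h, rfl⟩
      rw [Pi.sub_apply, seqIndD_apply_eq_zero hη' hx', seqIndD_apply_eq_zero hη₁ hx', sub_self])
    z ⟨z, hH' (hZH hz), rfl⟩ h1, Pi.sub_apply, seqIndD_apply_eq hH' hη' (hZH hz),
    seqIndD_apply_eq hH' hη₁ (hZH hz), hd, sub_self, h3, Pi.sub_apply, h2] at h4
  rw [Subgroup.coe_pow]
  linear_combination h4

end Const

section Main
variable {L : Type*} [Group L] [Fintype L] {G : Type*} [Group G] [Fintype G]

/-- (6.8.3) -/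
theorem sibley_extend {H Z : Subgroup L} [H.Normal] [Z.Normal] {τ : (L → ℂ) → (G → ℂ)}
    {R : (L → ℂ) → Finset (G → ℂ)} (hS : IsCoherenceSystem (seqIndD H H ⊥) τ R) (hZH : Z ≤ H)
    (hH : ¬ H ≤ ⁅H, H⁆) (hc : IsCoherent (seqIndD H Z ⊥ ∪ seqIndD H H ⁅H, H⁆) {1}ᶜ τ)
    (hb : ¬ ⁅H, H⁆ ≤ Z → ∀ d : ℕ, d ^ 2 ≤ Z.relIndex H →
      2 * H.index * d + Z.relIndex H < Nat.card Z * Z.relIndex H) :
    IsCoherent (seqIndD H H ⊥) {1}ᶜ τ := by
  classical
  have h1 : ConjSub (seqIndD H Z ⊥ ∪ seqIndD H H ⁅H, H⁆) (seqIndD H H ⊥) :=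
    (seqIndD_conjSub (seqIndD_subset_self _ _ _)).union
      (seqIndD_conjSub (seqIndD_subset_self _ _ _))
  have h := extend_coherent_union hS h1 (subcoh_conjSub hS) hc ?_
  · rwa [Set.union_eq_right.2 h1.subset] at h
  intro χ hχ hχ1
  obtain ⟨η₁, hη₁⟩ : (seqIndD H H ⁅H, H⁆).Nonempty := seqIndD_nonempty le_rfl hH
  have hχZ : χ ∈ seqIndD H H Z := by
    have h2 := (mem_seqIndD_iff_apply le_rfl bot_le).1 hχ
    refine (mem_seqIndD_iff_apply le_rfl hZH).2 ⟨hχ, h2.2.1, ?_⟩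
    by_contra hne
    push Not at hne
    exact hχ1 (Or.inl ((mem_seqIndD_iff_apply hZH bot_le).2 ⟨hχ, hne, h2.2.2⟩))
  obtain ⟨d, -, hd⟩ := seqIndD_deg hχ
  have hη := seqIndD_apply_one_of_commutator_le le_rfl hη₁
  have he : (0 : ℝ) < H.index := by
    exact_mod_cast Nat.pos_of_ne_zero Subgroup.index_ne_zero_of_finite
  have hre : (χ 1).re = H.index * d := by rw [hd]; simp
  have hdle : d ^ 2 ≤ Z.relIndex H := by
    have h2 := seqIndD_deg_sq_le (C := H) (D := Z) le_rfl (fun z hz c _ => by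
      have := Z.mul_mem hz (Subgroup.Normal.conj_mem inferInstance _ (Z.inv_mem hz) c)
      simpa [mul_assoc] using this) hχZ
    rw [hre, mul_pow] at h2
    exact_mod_cast le_of_mul_le_mul_left h2 (pow_pos he 2)
  have hlt := hb (fun hle => hχ1 (Or.inr (seqIndD_mono le_rfl hle hχZ))) d hdle
  refine ⟨η₁, Or.inr hη₁, d, by rw [hd, hη]; push_cast; ring, (seqIndD_finite H Z ⊥).toFinset,
    by rw [Set.Finite.coe_toFinset]; exact Set.subset_union_left, ?_⟩
  rw [sum_seqIndD_deg_sq' hZH bot_le _ (Set.Finite.coe_toFinset _), sup_bot_eq,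
    Subgroup.relIndex_bot_left, hre, hη]
  have h3 : (Nat.card H : ℝ) = Nat.card Z * Z.relIndex H := by
    have := (Z.subgroupOf H).card_mul_index
    rw [Nat.card_congr (Subgroup.subgroupOfEquivOfLe hZH).toEquiv] at this
    exact_mod_cast this.symm
  have h4 : (2 * H.index * d + Z.relIndex H : ℝ) < Nat.card Z * Z.relIndex H := by
    exact_mod_cast hlt
  rw [h3]
  simp only [Complex.natCast_re]
  nlinarith

variable {M : Subgroup G} [Fintype M] {H : Subgroup M} {R : (M → ℂ) → Finset (G → ℂ)}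

/-- (6.8) under an abstract form of the hypotheses -/
theorem sibley_core [H.Normal] (hodd : Odd (Nat.card M)) (hnil : Group.IsNilpotent H)
    (hTI : IsTISubset (H.map M.subtype : Set G))
    (hN : Subgroup.normalizer (H.map M.subtype : Set G) = M)
    (hS : IsCoherenceSystem (seqIndD H H ⊥) (fun α : M → ℂ => indFun M α) R)
    (hfrob : FpfMod H H ⁅H, H⁆)
    (hcase : (∀ z ∈ ⁅H, H⁆, z ≠ 1 → (∀ k ∈ H, z * k = k * z) →
        Subgroup.centralizer ({z} : Set M) ≤ H) ∨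
      ∃ Z : Subgroup M, (Nat.card Z).Prime ∧ Z ≤ ⁅H, H⁆ ∧ Z ≤ Subgroup.center M ∧ FpfMod H H Z) :
    IsCoherent (seqIndD H H ⊥) {1}ᶜ (fun α : M → ℂ => indFun M α) := by
  have hH' : ⁅H, H⁆ ≤ H := Subgroup.commutator_le_left H H
  have hS' : IsCoherenceSystem (inducedIrrAbove H ⊥) (fun α : M → ℂ => indFun M α) R := by
    rwa [inducedIrrAbove_eq]
  have hH1 : ¬ H ≤ ⊥ := by
    obtain ⟨φ, hφ⟩ := hS.nonempty
    exact not_le_of_mem_seqIndD hφ
  have hH : ¬ H ≤ ⁅H, H⁆ := fun h => hH1 (le_bot_of_le_commutator hnil le_rfl h).le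
  by_contra hnc
  have hbad : ¬ ((¬ ∃ p m : ℕ, p.Prime ∧ (⊥ : Subgroup M).relIndex H = p ^ m) ∨ ⁅H, H⁆ ≤ ⊥) := by
    intro hgood
    refine hnc (inducedIrrAbove_eq H ⊥ ▸ t6_5 inferInstance hS' hodd (M := ⊥) bot_le
      (isNilpotent_map_of_nilpotent _ hnil) (by rwa [sup_bot_eq]) (by rwa [sup_bot_eq]) ?_)
    rcases hgood with h | h
    · exact Or.inr (Or.inr (Or.inl h))
    · exact Or.inr (Or.inr (Or.inr (Or.inl h)))
  push Not at hbad
  obtain ⟨⟨p, m, hp, hpm⟩, hna⟩ := hbad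
  rw [Subgroup.relIndex_bot_left] at hpm
  have := Fact.mk hp
  have hP : IsPGroup p H := IsPGroup.of_card hpm
  have hi : ¬ p ∣ H.index := by
    have := hfrob.coprime_of_pow hH' hH hp (hpm ▸ Subgroup.relIndex_dvd_card _ _)
    exact (Nat.Prime.coprime_iff_not_dvd hp).1 this.symm
  obtain ⟨ν, hν⟩ := coherent_exists (inducedIrrAbove_eq H ⁅H, H⁆ ▸
    coherent_of_commutator_le hS' le_rfl hH)
  obtain ⟨η₁, hη₁⟩ : (seqIndD H H ⁅H, H⁆).Nonempty := seqIndD_nonempty le_rfl hH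
  have hψ : IsSignedIrr G (ν η₁) :=
    iso_isSignedIrr hν.iso (mem_zspan hη₁) (hfrob.seqIndD_irr hH' le_rfl hη₁)
  have hXY : ∀ (Z : Subgroup M) [Z.Normal], Z ≤ ⁅H, H⁆ →
      (∃ s : ℤ, ∀ z ∈ Z, z ≠ 1 → ν η₁ z = ν η₁ 1 - s * Nat.card H) →
      IsCoherent (seqIndD H Z ⊥ ∪ seqIndD H H ⁅H, H⁆) {1}ᶜ (fun α : M → ℂ => indFun M α) := by
    rintro Z _ hZ ⟨s, hs⟩
    obtain ⟨ν', hν'⟩ := sibley_XY hS hfrob hZ hν hη₁ hs
    exact subcoh_isCoherent hS ((seqIndD_conjSub (seqIndD_subset_self _ _ _)).union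
      (seqIndD_conjSub (seqIndD_subset_self _ _ _))) ⟨η₁, Or.inr hη₁⟩ hν'
  have hr : ∀ Z : Subgroup M, Z ≤ ⁅H, H⁆ → 1 < Z.relIndex H := by
    intro Z hZ
    have h0 : Z.relIndex H ≠ 0 := Subgroup.index_ne_zero_of_finite
    have h1 : Z.relIndex H ≠ 1 := fun h => hH ((Subgroup.relIndex_eq_one.1 h).trans hZ)
    omega
  rcases hcase with hA | ⟨Z, hZp, hZH, hZc, hZf⟩
  · set Z : Subgroup M := ⁅H, H⁆ ⊓ Subgroup.centralizer (H : Set M) with hZ
    have hZ1 : Z ≠ ⊥ := BG.nil_inf_cent_ne_bot hnil hH' le_rfl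
      (by rw [Subgroup.normalizer_eq_top]; exact le_top) fun h => hna h.le
    have hZH : Z ≤ ⁅H, H⁆ := inf_le_left
    have hZc : ∀ z ∈ Z, ∀ k ∈ H, z * k = k * z := fun z hz k hk => (hz.2 k hk).symm
    have hC : ∀ z ∈ Z, z ≠ 1 → Subgroup.centralizer ({z} : Set M) ≤ H := fun z hz h1 =>
      hA z hz.1 h1 (hZc z hz)
    have hirr : ∀ φ ∈ seqIndD H Z ⊥, IsIrrCharacter M φ := fun φ hφ =>
      seqIndD_irr_of_cent_le (hZH.trans hH') hC hφ
    obtain ⟨ν₂, hν₂⟩ := coherent_exists (t6_6 hS' hodd hnil hfrob hZ1 (hZH.trans hH') hZc hirr)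
    refine hnc (sibley_extend hS (hZH.trans hH') hH (hXY Z hZH
      (t6_7_signed (K := H) hodd hP hi hTI hN (hZH.trans hH') hZc (fun z hz h1 =>
        le_antisymm (hC z hz h1) fun k hk =>
          Subgroup.mem_centralizer_singleton_iff.2 (hZc z hz k hk).symm) hψ
        (sibley_const_A hS hZH hirr hν₂ hν hη₁))) fun _ d hd => ?_)
    have h1 := (fpfMod_bot_iff.2 hC).two_mul_add_one_le_relIndex hodd bot_le fun h => hZ1
      (le_bot_iff.1 h)
    rw [Subgroup.relIndex_bot_left] at h1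
    have h2 := hr Z hZH
    have h3 : d < Z.relIndex H := by nlinarith
    have he : 0 < H.index := Nat.pos_of_ne_zero Subgroup.index_ne_zero_of_finite
    nlinarith
  · have hZn : Z.Normal := ⟨fun z hz g => by
      rw [Subgroup.mem_center_iff.1 (hZc hz) g, mul_inv_cancel_right]; exact hz⟩
    refine hnc (sibley_extend hS (hZH.trans hH') hH (hXY Z hZH
      (t6_7_signed (K := ⊤) hodd hP hi hTI hN (hZH.trans hH')
        (fun z hz k _ => (Subgroup.mem_center_iff.1 (hZc hz) k).symm) (fun z hz _ =>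
          top_le_iff.1 fun k _ => Subgroup.mem_centralizer_singleton_iff.2
            (Subgroup.mem_center_iff.1 (hZc hz) k)) hψ
        (sibley_const_B hodd hTI hN hfrob hZH hZp hν hη₁))) fun hnle d hd => ?_)
    have h1 := hfrob.add_one_le_relIndex hH' hH
    have h2 := (hZf.mono hH').add_one_le_relIndex (hZH.trans hH') hnle
    have h3 := Subgroup.relIndex_mul_relIndex Z ⁅H, H⁆ H hZH hH'
    have h4 : 3 ≤ Nat.card Z := by
      have h5 : Odd (Nat.card Z) := Odd.of_dvd_nat hodd (Subgroup.card_subgroup_dvd_card Z)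
      have h6 := hZp.two_le
      obtain ⟨j, hj⟩ := h5
      omega
    have h5 : H.index ^ 2 < Z.relIndex H := by rw [← h3]; nlinarith
    have h6 : H.index * d < Z.relIndex H := by
      by_contra hle
      push Not at hle
      have : Z.relIndex H ^ 2 ≤ (H.index * d) ^ 2 := Nat.pow_le_pow_left hle 2
      have h7 : (H.index * d) ^ 2 ≤ H.index ^ 2 * Z.relIndex H := by
        rw [mul_pow]; exact Nat.mul_le_mul_left _ hd
      nlinarith
    nlinarith

omit [Fintype M] in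
theorem indFun_iso_of_TI [Fintype M] [H.Normal] (hTI : IsTISubset (H.map M.subtype : Set G))
    (hN : Subgroup.normalizer (H.map M.subtype : Set G) = M) :
    IsLinearIsometryOn (zspanOn (seqIndD H H ⊥) {1}ᶜ) (fun α : M → ℂ => indFun M α) := by
  have hg : ∀ α ∈ zspanOn (seqIndD H H ⊥) {1}ᶜ, IsGeneralizedCharacter M α := fun α hα =>
    gen_of_mem_zspan (fun _ h => seqIndD_gen h) (zspanOn_subset hα)
  have hz : ∀ α ∈ zspanOn (seqIndD H H ⊥) {1}ᶜ, ∀ x : M,
      (x : G) ∉ (H.map M.subtype : Set G) → α x = 0 := fun α hα x hx =>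
    seqIndD_zspan_apply_eq_zero (zspanOn_subset hα) fun h => hx ⟨x, h, rfl⟩
  exact ⟨fun α _ β _ => indFun_add M α β, fun α _ n => indFun_zsmul M n α,
    fun α hα β hβ => classInner_indFun_of_TI M (H.map M.subtype : Set G)
      (fun g hg => hTI g (hN.symm ▸ hg)) (gen_isClassFunction (hg β hβ)) (hz α hα) (hz β hβ)
      (apply_one_of_mem_zspanOn hα),
    fun α hα => gen_indFun M (hg α hα)⟩

/-- (6.8), case (c1) -/
theorem sibley_frob (hodd : Odd (Nat.card M)) (hnil : Group.IsNilpotent H)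
    (hTI : IsTISubset (H.map M.subtype : Set G))
    (hN : Subgroup.normalizer (H.map M.subtype : Set G) = M) (hF : FrobKer H) :
    IsCoherent (seqIndD H H ⊥) {1}ᶜ (fun α : M → ℂ => indFun M α) := by
  have := hF.normal
  have hf : FpfMod H H ⊥ := fpfMod_bot_iff.2 hF.cent_le
  obtain ⟨R, hS⟩ := irr_subcoherent (seqIndD_nonempty le_rfl fun h => hF.ne_bot (le_bot_iff.1 h))
    (fun χ hχ => hf.seqIndD_irr bot_le le_rfl hχ) (fun χ hχ => seqIndD_conjFun hχ)
    (fun χ hχ => seqIndD_conjFun_ne hodd hχ) (indFun_iso_of_TI hTI hN)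
    (fun α hα => indFun_one_eq_zero M (apply_one_of_mem_zspanOn hα))
  exact sibley_core hodd hnil hTI hN hS (hf.of_le bot_le (Subgroup.commutator_le_left H H))
    (Or.inl fun z hz h1 _ => hF.cent_le z (Subgroup.commutator_le_left H H hz) h1)

end Main

section Prime
variable {L X₁ X₂ : Type*} [Group L] [Finite L] [Group X₁] [Group X₂] {K : Subgroup L}
  {f₁ : X₁ →* L} {f₂ : X₂ →* L}

/-- `L / N` is a Frobenius group with kernel `K / N` when `W₂ ≤ N` -/
theorem PrimeTI.fpfMod_of_le (h : PrimeTI K f₁ f₂) {N : Subgroup L} [hN : N.Normal]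
    (hW : f₂.range ≤ N) (hNK : N ≤ K) : FpfMod K K N := by
  intro z hz hzN x hx
  by_contra hxK
  obtain ⟨m, a, b, ha, rfl⟩ := h.exists_conj_of_not_mem hxK
  set k := m⁻¹ * z * m with hk
  have hkK : k ∈ K := by simpa [hk] using h.normal.conj_mem z hz m⁻¹
  have hb : f₂ b ∈ N := hW ⟨b, rfl⟩
  have h1 : k⁻¹ * f₁ a * k * (f₁ a)⁻¹ ∈ N := by
    rw [← QuotientGroup.eq_one_iff] at hx hb ⊢
    simp only [hk, QuotientGroup.mk_mul, QuotientGroup.mk_inv, hb, mul_one] at hx ⊢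
    calc _ = (m : L ⧸ N)⁻¹ * (z : L ⧸ N)⁻¹ * ((m : L ⧸ N) * (f₁ a : L ⧸ N) * (m : L ⧸ N)⁻¹ * z *
          ((m : L ⧸ N) * (f₁ a : L ⧸ N) * (m : L ⧸ N)⁻¹)⁻¹ * (z : L ⧸ N)⁻¹) * z * m := by group
      _ = 1 := by rw [hx]; group
  have hcop : Nat.Coprime (orderOf (f₁ a)) (Nat.card N) :=
    (h.coprime_orderOf a).coprime_dvd_right (Subgroup.card_dvd_of_le hNK)
  obtain ⟨y, hy, c, hc, hcg, he⟩ := exists_conj_mem_cent_coset (H := N) (g := f₁ a)
    (by rw [Subgroup.normalizer_eq_top]; trivial) hcop _ h1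
  have he' : (y * k⁻¹) * f₁ a * (y * k⁻¹)⁻¹ = c * f₁ a := by rw [← he]; group
  have hc1 : c = 1 := by
    have h2 : (c * f₁ a) ^ orderOf (f₁ a) = 1 := by
      rw [← he', conj_pow, pow_orderOf_eq_one]; group
    rw [Commute.mul_pow hcg, pow_orderOf_eq_one, mul_one] at h2
    have h3 : orderOf c ∣ Nat.gcd (orderOf (f₁ a)) (Nat.card N) :=
      Nat.dvd_gcd (orderOf_dvd_of_pow_eq_one h2) (N.orderOf_dvd_natCard hc)
    rwa [hcop, Nat.dvd_one, orderOf_eq_one_iff] at h3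
  have h4 : y * k⁻¹ ∈ N := hW (h.mem_range₂ ha (K.mul_mem (hNK hy) (K.inv_mem hkK)) (by
    rw [hc1, one_mul] at he'
    calc y * k⁻¹ * f₁ a = (y * k⁻¹) * f₁ a * (y * k⁻¹)⁻¹ * (y * k⁻¹) := by group
      _ = f₁ a * (y * k⁻¹) := by rw [he']))
  have h5 : k ∈ N := by simpa using N.inv_mem (N.mul_mem (N.inv_mem hy) h4)
  exact hzN (by simpa [hk, mul_assoc] using hN.conj_mem k h5 m)

/-- the dichotomy (A) / (B) of (6.8) -/
theorem PrimeTI.sibley_cases (h : PrimeTI K f₁ f₂) (hp : (Nat.card X₂).Prime)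
    (hW : f₂.range ≤ ⁅K, K⁆) :
    (∀ z ∈ ⁅K, K⁆, z ≠ 1 → (∀ k ∈ K, z * k = k * z) → Subgroup.centralizer ({z} : Set L) ≤ K) ∨
      ∃ Z : Subgroup L, (Nat.card Z).Prime ∧ Z ≤ ⁅K, K⁆ ∧ Z ≤ Subgroup.center L ∧
        FpfMod K K Z := by
  have := h.normal
  have hp' : (Nat.card f₂.range).Prime := h.card_range₂ ▸ hp
  have := Fact.mk hp'
  rcases Subgroup.eq_bot_or_eq_top_of_prime_card
    ((Subgroup.centralizer (K : Set L)).subgroupOf f₂.range) with h0 | h0
  · left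
    rw [Subgroup.subgroupOf_eq_bot, disjoint_iff] at h0
    intro z hz h1 hc x hx
    by_contra hxK
    obtain ⟨m, a, b, ha, rfl⟩ := h.exists_conj_of_not_mem hxK
    have hzK : z ∈ K := Subgroup.commutator_le_left K K hz
    have hzc : z ∈ Subgroup.centralizer (K : Set L) := fun k hk => (hc k hk).symm
    set k := m⁻¹ * z * m with hk
    have hkK : k ∈ K := by simpa [hk] using h.normal.conj_mem z hzK m⁻¹
    have hkc : k ∈ Subgroup.centralizer (K : Set L) := by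
      simpa [hk] using Subgroup.Normal.conj_mem inferInstance z hzc m⁻¹
    have h2 : f₁ a * f₂ b * k = k * (f₁ a * f₂ b) := by
      have := Subgroup.mem_centralizer_singleton_iff.1 hx
      calc f₁ a * f₂ b * k = m⁻¹ * (m * (f₁ a * f₂ b) * m⁻¹ * z) * m := by rw [hk]; group
        _ = _ := by rw [this, hk]; group
    have h3 : f₂ b * k = k * f₂ b := hkc _ (h.mem₂ b)
    have h4 : k * f₁ a = f₁ a * k := by
      apply mul_right_cancel (b := f₂ b)
      rw [mul_assoc, ← h2, mul_assoc, mul_assoc, h3]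
    have h5 : k ∈ (⊥ : Subgroup L) := h0 ▸ ⟨hkc, h.mem_range₂ ha hkK h4⟩
    apply h1
    have : z = m * k * m⁻¹ := by rw [hk]; group
    rw [this, Subgroup.mem_bot.1 h5]; group
  · right
    rw [Subgroup.subgroupOf_eq_top] at h0
    have hc : f₂.range ≤ Subgroup.center L := by
      rintro _ ⟨b, rfl⟩
      rw [Subgroup.mem_center_iff]
      intro g
      obtain ⟨k, hk, a, rfl⟩ := h.exists_mul g
      rw [mul_assoc, h.comm, ← mul_assoc, h0 ⟨b, rfl⟩ k hk, mul_assoc]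
    have hn : f₂.range.Normal := ⟨fun z hz g => by
      rw [Subgroup.mem_center_iff.1 (hc hz) g, mul_inv_cancel_right]; exact hz⟩
    exact ⟨f₂.range, hp', hW, hc, h.fpfMod_of_le le_rfl h.le₂⟩

end Prime

end CL.PF
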