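import Cfsg.Agent.Base
import Cfsg.Agent.PF.Feit
import Cfsg.Agent.PF.SibleyB

/-! The Feit–Sibley coherence theorem for a TI-subgroup with Frobenius normaliser. -/

set_option autoImplicit false

open Cfsg CL.Char

namespace CL.PF

theorem TINormal.feit_sibley {G : Type*} [Group G] [Fintype G] {L : Subgroup G} [Fintype L]
    {H : Subgroup L} (h : TINormal L H) (hF : FpfMod H H ⊥) (hH1 : H ≠ ⊥) (hH2 : H ≠ ⊤) :
    ((inducedIrrAbove H ⊥).ncard = 1 ∧ Nat.card H = H.index + 1 ∧ IsMulCommutative H ∧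
        ∀ p : ℕ, p.Prime → p ∣ Nat.card H → ∀ x ∈ H, x ^ p = 1) ∨
      (IsPGroup 2 H ∧ ¬ 2 ∣ H.index ∧ ⁅H, H⁆.relIndex H < 4 * H.index ^ 2) ∨
      IsCoherent (inducedIrrAbove H ⊥) {1}ᶜ (fun α : L → ℂ => indFun L α) := by
  have := h.normal
  refine h.feit_sibley_of hF hH1 hH2 fun hodd => ?_
  rw [inducedIrrAbove_eq]
  exact sibley_frob hodd (hF.isNilpotent hH2) h.ti h.norm ⟨this, hH1, hH2, fpfMod_bot_iff.1 hF⟩

/-- The Feit–Sibley theorem for a subgroup `K` of `G`. -/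
theorem feit_sibley {G : Type*} [Group G] [Fintype G] (K : Subgroup G) (hK1 : K ≠ ⊥)
    (hTI : IsTISubset (K : Set G)) (hlt : K < Subgroup.normalizer (K : Set G))
    (hC : ∀ k ∈ K, k ≠ 1 → Subgroup.centralizer ({k} : Set G) ≤ K)
    [Fintype ↥(Subgroup.normalizer (K : Set G))] :
    (Nat.card {χ : ↥(Subgroup.normalizer (K : Set G)) → ℂ //
        IsIrrCharacter ↥(Subgroup.normalizer (K : Set G)) χ ∧
          ∃ k : ↥(Subgroup.normalizer (K : Set G)), (k : G) ∈ K ∧ χ k ≠ χ 1} = 1 ∧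
      Nat.card K = (K.subgroupOf (Subgroup.normalizer (K : Set G))).index + 1 ∧
      IsMulCommutative K ∧ ∀ p : ℕ, p.Prime → p ∣ Nat.card K → ∀ x ∈ K, x ^ p = 1) ∨
    (IsPGroup 2 K ∧ Nat.card K = 2 ^ (Nat.card G).factorization 2 ∧
      (⁅K, K⁆.subgroupOf K).index < 4 * (K.subgroupOf (Subgroup.normalizer (K : Set G))).index ^ 2) ∨
    IsCoherent {χ : ↥(Subgroup.normalizer (K : Set G)) → ℂ |
        IsIrrCharacter ↥(Subgroup.normalizer (K : Set G)) χ ∧
          ∃ k : ↥(Subgroup.normalizer (K : Set G)), (k : G) ∈ K ∧ χ k ≠ χ 1} {1}ᶜ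
      (fun α => indFun (Subgroup.normalizer (K : Set G)) α) := by
  have hle := hlt.le
  have h := tiNormal_subgroupOf hle hTI rfl
  have hF := fpfMod_subgroupOf (L := Subgroup.normalizer (K : Set G)) hC
  have := h.normal
  let e := Subgroup.subgroupOfEquivOfLe hle
  have hcard : Nat.card (K.subgroupOf (Subgroup.normalizer (K : Set G))) = Nat.card K :=
    Nat.card_congr e.toEquiv
  have h1 : K.subgroupOf (Subgroup.normalizer (K : Set G)) ≠ ⊥ := fun h0 =>
    hK1 (Subgroup.card_eq_one.1 (hcard ▸ Subgroup.card_eq_one.2 h0))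
  have h2 : K.subgroupOf (Subgroup.normalizer (K : Set G)) ≠ ⊤ := fun h0 =>
    hlt.not_ge (Subgroup.subgroupOf_eq_top.1 h0)
  have key := h.feit_sibley hF h1 h2
  rw [inducedIrrAbove_eq, hF.seqIndD_eq, hcard] at key
  rcases key with ⟨a1, a2, a3, a4⟩ | ⟨a1, a2, a3⟩ | a
  · refine Or.inl ⟨a1, a2, ⟨⟨fun a b => e.symm.injective ?_⟩⟩, fun p hp hd x hx => ?_⟩
    · rw [map_mul, map_mul, a3.is_comm.comm]
    · exact congrArg Subtype.val (a4 p hp hd ⟨x, hle hx⟩ hx)
  · have hP : IsPGroup 2 K := a1.of_equiv e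
    have h3 := h.not_dvd_index a1 a2
    rw [Subgroup.map_subgroupOf_eq_of_le hle] at h3
    refine Or.inr (Or.inl ⟨hP, (hP.toSylow h3).card_eq_multiplicity, ?_⟩)
    rw [relIndex_commutator_eq] at a3
    have h4 : (commutator K).index =
        (commutator (K.subgroupOf (Subgroup.normalizer (K : Set G)))).index := by
      rw [← card_linear, ← card_linear]
      exact Nat.card_congr (e.symm.monoidHomCongrLeftEquiv)
    exact (relIndex_commutator_eq K).trans_lt (h4 ▸ a3)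
  · exact Or.inr (Or.inr a)

end CL.PF
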