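import Cfsg.Agent.PF.T9_8
import Cfsg.Agent.PF.A9_Key
import Cfsg.Agent.PF.A9_Ext

/-! Peterfalvi (9.11). -/

set_option autoImplicit false

namespace CL.PF

open Cfsg CL.Char

variable {M X₁ X₂ : Type*} [Group M] [Fintype M] [Group X₁] [Group X₂] [Finite X₁] [Finite X₂]
  {H U H₀ : Subgroup M} [H₀.Normal] {f₁ : X₁ →* M} {f₂ : X₂ →* M}

theorem natCard_subtype_eq_card_toFinset {X : Type*} {P : X → Prop} (hf : {x | P x}.Finite) :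
    Nat.card {x // P x} = hf.toFinset.card := by
  rw [← Set.ncard_eq_toFinset_card _ hf]; rfl

/-- the arithmetic of (9.11.1) -/
theorem t9_11_1_arith {p a u c c' n : ℕ} (ha : 0 < a) (hu : 0 < u) (hc' : 0 < c') (hcc : c' ≤ c)
    (h2a : 2 * a ≤ p - 1) (h1 : (p - 1) * (c * u) ≤ a ^ 2 * c' * n) (h2 : n * a ≤ 2 * u) :
    p - 1 = 2 * a ∧ n * a = 2 * u := by
  generalize p - 1 = r at h2a h1 ⊢
  have h3 : a ^ 2 * c' * n ≤ a * c' * (2 * u) := by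
    calc a ^ 2 * c' * n = a * c' * (n * a) := by ring
      _ ≤ a * c' * (2 * u) := Nat.mul_le_mul_left _ h2
  have h4 : r * (c' * u) ≤ 2 * a * (c' * u) := by
    calc r * (c' * u) ≤ r * (c * u) := by gcongr
      _ ≤ a * c' * (2 * u) := h1.trans h3
      _ = 2 * a * (c' * u) := by ring
  have h5 : r = 2 * a := le_antisymm (Nat.le_of_mul_le_mul_right h4 (Nat.mul_pos hc' hu)) h2a
  refine ⟨h5, le_antisymm h2 ?_⟩
  have h6 : a * c' * (2 * u) ≤ a * c' * (n * a) := by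
    calc a * c' * (2 * u) = 2 * a * (c' * u) := by ring
      _ ≤ r * (c * u) := by rw [h5]; gcongr
      _ ≤ a ^ 2 * c' * n := h1
      _ = a * c' * (n * a) := by ring
  exact Nat.le_of_mul_le_mul_left h6 (Nat.mul_pos ha hc')

/-- (9.11): `S(H₀ C')` is coherent.  `τ` is any map for which (5.2) holds and which is a linear
isometry on the virtual characters supported on `⋃_{x ∈ H^#} C_{M'}(x)^#`. -/
theorem Hyp95.t9_11 (h : Hyp95 H U H₀ f₁ f₂) {G : Type*} [Group G] [Fintype G]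
    {τ : (M → ℂ) → (G → ℂ)} {B : (M → ℂ) → Finset (G → ℂ)}
    (hS : IsCoherenceSystem (seqIndD (commutator M) H ⊥) τ B)
    (hτ : IsLinearIsometryOn
      (genOn M {g | g ≠ 1 ∧ g ∈ commutator M ∧ ∃ x ∈ H, x ≠ 1 ∧ g * x = x * g}) τ) :
    IsCoherent (seqIndD (commutator M) H (H₀ ⊔ ⁅cOf H U H₀, cOf H U H₀⁆)) {1}ᶜ τ := by
  classical
  obtain ⟨S', hS'def⟩ : ∃ S', S' = seqIndD (commutator M) H (H₀ ⊔ ⁅cOf H U H₀, cOf H U H₀⁆) :=
    ⟨_, rfl⟩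
  have hsub : ConjSub S' (seqIndD (commutator M) H ⊥) :=
    hS'def ▸ seqIndD_conjSub (seqIndD_subset_bot _ _ _)
  have hne : S'.Nonempty := by
    obtain ⟨j, -, hj⟩ := h.exists_muCol
    exact ⟨_, hS'def ▸ seqIndD_mono le_rfl (sup_le_sup_left h.der_cOf_le _) (h.muCol_facts hj).2.1⟩
  rw [← hS'def]
  by_cases hG : IsGalois9 H U H₀
  · exact uniform_degree_coherence_sub hS hsub hne fun φ hφ ψ hψ => by
      rw [hS'def] at hφ hψ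
      rw [(h.t9_9a hG hφ).1, (h.t9_9a hG hψ).1]
  obtain ⟨H₁, h₁⟩ := h.t9_7a hG
  obtain ⟨hau, -, hap⟩ := NonGalois9.a_dvd_u h h₁
  have hS' := subcoh_mono hS hsub hne
  have hfin := subcoh_finite hS'
  obtain ⟨q, hq⟩ : ∃ q, q = Nat.card X₁ := ⟨_, rfl⟩
  obtain ⟨a, ha⟩ : ∃ a, a = uOf H₁ U H₀ := ⟨_, rfl⟩
  obtain ⟨u, hu⟩ : ∃ u, u = uOf H U H₀ := ⟨_, rfl⟩
  have hq0 : 0 < q := hq ▸ Nat.card_pos
  have ha0 : 0 < a := ha ▸ (zero_lt_one.trans h₁.one_lt)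
  have hu0 : 0 < u := hu ▸ (zero_lt_one.trans h.uOf_facts.1)
  have hU'S : seqIndD (commutator M) H (H₀ ⊔ ⁅U, U⁆) ⊆ S' := hS'def ▸ seqIndD_mono le_rfl
    (sup_le_sup_left (Subgroup.commutator_mono inf_le_left inf_le_left) _)
  obtain ⟨ψ, hψ, hψi, hψ1⟩ := h.t9_8d' h₁
  rw [← hq, ← ha] at hψ1
  have hS₁ : ConjSub {χ | χ ∈ S' ∧ χ 1 = ((q * a : ℕ) : ℂ)} S' :=
    ⟨fun χ hχ => hχ.1, fun χ hχ => ⟨hS'.conj_mem χ hχ.1, by
      rw [subcoh_conj_apply_one hS' hχ.1, hχ.2]⟩⟩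
  have hψS₁ : ψ ∈ {χ | χ ∈ S' ∧ χ 1 = ((q * a : ℕ) : ℂ)} := ⟨hU'S hψ, hψ1⟩
  refine coherent_of_forall_extend hS' hS₁ (uniform_degree_coherence_sub hS' hS₁ ⟨ψ, hψS₁⟩
    fun φ hφ χ hχ => by rw [hφ.2, hχ.2]) fun T hT hS₁T hcT hex => ?_
  by_contra hcon
  push Not at hcon
  have hTfin : T.Finite := hfin.subset hT.subset
  -- the bound from (5.6)
  have hbound : ∀ χ ∈ S', χ ∉ T →
      ∑ φ ∈ hTfin.toFinset, (φ 1).re ^ 2 / rip φ φ ≤ 2 * (χ 1).re * (q * a : ℕ) := by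
    intro χ hχ hχT
    by_contra hlt
    push Not at hlt
    obtain ⟨θ, hθ, hθH, hθY, rfl⟩ := (hS'def ▸ hχ : χ ∈ seqIndD _ _ _)
    obtain ⟨n, hn⟩ := h.t9_8a h₁ hθ hθH (hθY.mono le_sup_left)
    refine hcon _ hχ hχT (extend_coherent hS' hT hcT hχ hχT (hS₁T hψS₁) (a := n) ?_
      hTfin.toFinset (by simp) (by rwa [hψ1, Complex.natCast_re]))
    rw [indFun_one, hn, hψ1, h.index_der, ← hq, ← ha]
    push_cast; ring
  have hf₁ : {χ | χ ∈ seqIndD (commutator M) H (H₀ ⊔ ⁅U, U⁆) ∧ IsIrrCharacter M χ ∧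
      χ 1 = ((q * a : ℕ) : ℂ)}.Finite := hfin.subset fun χ hχ => hU'S hχ.1
  have hT₁T : hf₁.toFinset ⊆ hTfin.toFinset := by
    rw [Set.Finite.toFinset_subset_toFinset]
    exact fun χ hχ => hS₁T ⟨hU'S hχ.1, hχ.2.2⟩
  have hsum₁ : ∑ φ ∈ hf₁.toFinset, (φ 1).re ^ 2 / rip φ φ =
      (hf₁.toFinset.card : ℝ) * ((q * a : ℕ) : ℝ) ^ 2 := by
    rw [Finset.sum_congr rfl (fun φ hφ => by
      have hφ' := hf₁.mem_toFinset.1 hφ
      rw [rip_eq_one_of (irr_inner_self hφ'.2.1), hφ'.2.2, Complex.natCast_re, div_one]),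
      Finset.sum_const, nsmul_eq_mul]
  have hpos : ∀ φ ∈ hTfin.toFinset, 0 < (φ 1).re ^ 2 / rip φ φ := by
    intro φ hφ
    have hφ' := hT.subset (hTfin.mem_toFinset.1 hφ)
    obtain ⟨d, hd0, hd⟩ := subcoh_deg hS' hφ'
    refine div_pos ?_ (subcoh_rip_pos hS' hφ')
    rw [hd, Complex.natCast_re]
    positivity
  have hsumle : ∑ φ ∈ hf₁.toFinset, (φ 1).re ^ 2 / rip φ φ ≤
      ∑ φ ∈ hTfin.toFinset, (φ 1).re ^ 2 / rip φ φ :=
    Finset.sum_le_sum_of_subset_of_nonneg hT₁T fun φ hφ _ => (hpos φ hφ).le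
  have hdegle : ∀ χ ∈ S', (χ 1).re ≤ ((q * u : ℕ) : ℝ) := fun χ hχ => by
    rw [hq, hu]; exact h.deg_le (hS'def ▸ hχ)
  have hqa : (0 : ℝ) < ((q * a : ℕ) : ℝ) := Nat.cast_pos.2 (Nat.mul_pos hq0 ha0)
  obtain ⟨χ₀, hχ₀, hχ₀T⟩ := hex
  have hna : hf₁.toFinset.card * a ≤ 2 * u := by
    have h2 : (hf₁.toFinset.card : ℝ) * ((q * a : ℕ) : ℝ) ^ 2 ≤
        2 * ((q * u : ℕ) : ℝ) * ((q * a : ℕ) : ℝ) := by
      refine hsum₁.symm.le.trans (hsumle.trans ((hbound χ₀ hχ₀ hχ₀T).trans ?_))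
      have := hdegle χ₀ hχ₀
      gcongr
    have h3 : hf₁.toFinset.card * (q * a) ^ 2 ≤ 2 * (q * u) * (q * a) := by exact_mod_cast h2
    refine Nat.le_of_mul_le_mul_right (c := q * (q * a)) ?_ (by positivity)
    calc hf₁.toFinset.card * a * (q * (q * a)) = hf₁.toFinset.card * (q * a) ^ 2 := by ring
      _ ≤ 2 * (q * u) * (q * a) := h3
      _ = 2 * u * (q * (q * a)) := by ring
  have h8d := h.t9_8d h₁
  rw [← hq, ← ha, natCard_subtype_eq_card_toFinset hf₁,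
    card_eq_card_mul_relIndex (inf_le_left : cOf H U H₀ ≤ U)] at h8d
  have h2a : 2 * a ≤ pOf H H₀ - 1 := by
    have h3 := h.three_le_p
    have := Nat.le_of_dvd (by omega) hap
    omega
  obtain ⟨hp2a, hna'⟩ := t9_11_1_arith ha0 hu0 Nat.card_pos
    (Subgroup.card_le_of_le h.der_le_cOf) h2a (by rw [hu]; exact h8d) hna
  have hsum₁' : ∑ φ ∈ hf₁.toFinset, (φ 1).re ^ 2 / rip φ φ =
      2 * ((q * u : ℕ) : ℝ) * ((q * a : ℕ) : ℝ) := by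
    have : (hf₁.toFinset.card : ℝ) * a = 2 * u := by exact_mod_cast hna'
    rw [hsum₁]
    generalize hf₁.toFinset.card = n at this ⊢
    push_cast
    linear_combination (q : ℝ) ^ 2 * a * this
  have hdeg₃ : ∀ χ ∈ S', χ ∉ T → χ 1 = ((q * u : ℕ) : ℂ) := by
    intro χ hχ hχT
    have h2 := hsum₁'.symm.le.trans (hsumle.trans (hbound χ hχ hχT))
    have h3 : ((q * u : ℕ) : ℝ) ≤ (χ 1).re := by nlinarith
    obtain ⟨d, -, hd⟩ := subcoh_deg hS' hχ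
    have h4 := le_antisymm (hdegle χ hχ) h3
    rw [hd, Complex.natCast_re, Nat.cast_inj] at h4
    rw [hd, h4]
  have hTeq : hf₁.toFinset = hTfin.toFinset := by
    by_contra hne'
    obtain ⟨φ, hφ, hφ'⟩ := Finset.exists_of_ssubset (hT₁T.ssubset_of_ne hne')
    have h2 := Finset.sum_lt_sum_of_subset hT₁T hφ hφ' (hpos φ hφ) fun φ hφ _ => (hpos φ hφ).le
    have h3 := hbound χ₀ hχ₀ hχ₀T
    rw [hdeg₃ χ₀ hχ₀ hχ₀T, Complex.natCast_re] at h3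
    rw [hsum₁'] at h2
    linarith
  have hTcoe : (hf₁.toFinset : Set (M → ℂ)) = T := by rw [hTeq, Set.Finite.coe_toFinset]
  have hTmem : ∀ χ ∈ T, IsIrrCharacter M χ ∧ χ 1 = ((q * a : ℕ) : ℂ) := fun χ hχ =>
    (hf₁.mem_toFinset.1 (Finset.mem_coe.1 (hTcoe ▸ hχ))).2
  have hua : u ≠ a := by
    intro hua
    exact hχ₀T (hS₁T ⟨hχ₀, by rw [hdeg₃ χ₀ hχ₀ hχ₀T, hua]⟩)
  have hS₁eq : {χ | χ ∈ S' ∧ χ 1 = ((q * a : ℕ) : ℂ)} = T :=
    Set.Subset.antisymm hS₁T fun χ hχ => ⟨hT.subset hχ, (hTmem χ hχ).2⟩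
  obtain ⟨α, hα, hαS, hlt⟩ := h.t9_11_key h₁ (ha ▸ hp2a) (by rwa [← hu, ← ha])
    (by
      rw [← hS'def, ← hq, ← ha, ← hu]
      intro χ hχ
      by_cases hχT : χ ∈ T
      · exact Or.inl (hTmem χ hχT).2
      · exact Or.inr (hdeg₃ χ hχ hχT))
    (by
      rw [← hS'def, ← hq, ← ha, ← hu,
        natCard_subtype_eq_card_toFinset (hfin.subset hS₁.subset), mul_comm]
      refine le_of_eq (Eq.trans ?_ hna')
      congr 2
      rw [hTeq]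
      exact Set.Finite.toFinset_inj.2 hS₁eq)
    (by
      rw [← hS'def, ← hq, ← ha]
      exact fun χ hχ hχ1 => (hTmem χ (hS₁T ⟨hχ, hχ1⟩)).1)
    (hS'def ▸ hψS₁.1) (by rw [← hq, ← ha]; exact hψ1)
  rw [← hS'def, ← hq, ← hu] at hlt
  have hf₄ : {χ | χ ∈ S' ∧ IsIrrCharacter M χ ∧ χ 1 = ((q * u : ℕ) : ℂ)}.Finite :=
    hfin.subset fun χ hχ => hχ.1
  rw [natCard_subtype_eq_card_toFinset hf₄] at hlt
  obtain ⟨m, hm⟩ : ∃ m, u = a * m := by rw [ha, hu]; exact hau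
  obtain ⟨χ, hχ, hcoh⟩ := exists_extend_of_small_norm hS'
    ((zspanOn_mono hsub.subset).trans h.toHyp92.zspanOn_subset_genOn) hτ hf₁.toFinset hf₄.toFinset
    (S₃ := S' \ T) (hTcoe ▸ hT) ((subcoh_conjSub hS').diff hT)
    (hTcoe ▸ Set.disjoint_sdiff_right) (hTcoe ▸ hcT) (m := m)
    (fun h1 => hua (by rw [hm, h1, mul_one]))
    (Nat.eq_of_mul_eq_mul_right ha0 (by rw [hna', hm]; ring))
    (fun φ hφ => (hf₁.mem_toFinset.1 hφ).2.1) (ψ := ψ) (hf₁.mem_toFinset.2 ⟨hψ, hψi, hψ1⟩)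
    (fun φ hφ => by rw [(hf₁.mem_toFinset.1 hφ).2.2, hψ1])
    (fun χ hχ => by rw [hdeg₃ χ hχ.1 hχ.2, hψ1, hm]; push_cast; ring)
    (fun χ hχ => by
      have hχ' := hf₄.mem_toFinset.1 (Finset.mem_coe.1 hχ)
      refine ⟨hχ'.1, fun hχT => hua ?_⟩
      have h2 := (hTmem χ hχT).2
      rw [hχ'.2.2, Nat.cast_inj] at h2
      exact Nat.eq_of_mul_eq_mul_left hq0 h2)
    (fun φ hφ => (hf₄.mem_toFinset.1 hφ).2.1) hα (fun χ hχ => hαS χ (hsub.subset hχ)) hlt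
  exact hcon χ hχ.1 hχ.2 (hTcoe ▸ hcoh)

end CL.PF
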