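import Cfsg.Agent.PF.T8_Dade
import Cfsg.Agent.PF.T9_11
import Cfsg.Agent.BG.T3_W
import Cfsg.Agent.BG.A16_TypeF

/-! Peterfalvi (9.3), (9.10), (9.11) for maximal subgroups.  Owner: helper87. -/

set_option autoImplicit false

namespace CL.PF

open Cfsg CL.BG

variable {G : Type*} [Group G] [Fintype G] {M W₁ U W₂ : Subgroup G}

theorem PCtx.core_inf_cent_W₁ (c : PCtx M W₁ U W₂) : fittingHallOf M ⊓ 𝐂(W₁) = W₂ := by
  apply le_antisymm
  · rw [← TypeP.der_inf_cent c.hP]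
    exact inf_le_inf_right _ (TypeP.H_le_der c.hP)
  · exact le_inf (TypeP.W₂_le_H c.hP) ((TypeP.der_inf_cent c.hP).ge.trans inf_le_right)

/-- Wielandt's fixed point formula for `U W₁` acting on `M_F`. -/
theorem PCtx.wielandt_core (c : PCtx M W₁ U W₂) :
    Nat.card ↥(fittingHallOf M ⊓ 𝐂(U ⊔ W₁)) ^ Nat.card W₁ * Nat.card (fittingHallOf M) =
      Nat.card W₂ ^ Nat.card W₁ * Nat.card ↥(fittingHallOf M ⊓ 𝐂(U)) := by
  have hs := TypeP.sdp_H_UW c.hP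
  have h := wielandt_semireg (K := U) (R := W₁) (M := fittingHallOf M) c.hP.U_normal
    (fun x hx hx1 => TypeP.U_inf_cent1 c.hP hx hx1) hs.norm
    (hs.coprime_of_isHall_left (fcore_isHall M)) (solvable_of_nil (fcore_nilpotent M))
  rwa [c.core_inf_cent_W₁] at h

/-- (9.3), type II -/
theorem PCtx.t9_3_II (c : PCtx M W₁ U W₂) (h : IsOfTypeII M) :
    fittingHallOf M ⊓ 𝐂(U) = ⊥ ∧ Nat.card (fittingHallOf M) = Nat.card W₂ ^ Nat.card W₁ := by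
  obtain ⟨hU, -, -, -, hN, -, -⟩ := typeII_data h c.hP
  have h1 : fittingHallOf M ⊓ 𝐂(U) = ⊥ := by
    by_contra hne
    obtain ⟨x, hx, hx1⟩ := exists_mem_ne_one_of_ne_bot hne
    refine hN ((t8_16 c.hG c.hM h).2.1.norm_le hU ?_)
    rintro u ⟨hu, hu1⟩
    exact c.mem_typeA.2 ⟨TypeP.U_le_der c.hP hu, hu1, x, BG.fcore_le_typeCore M hx.1, hx1,
      hx.2 u hu⟩
  refine ⟨h1, ?_⟩
  have h2 : fittingHallOf M ⊓ 𝐂(U ⊔ W₁) = ⊥ := by
    rw [eq_bot_iff, ← h1, cent_sup]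
    exact inf_le_inf_left _ inf_le_left
  have := c.wielandt_core
  simpa [h1, h2] using this

/-- (9.3), types III and IV -/
theorem PCtx.t9_3_34 (c : PCtx M W₁ U W₂) (hU : U ≠ ⊥) (h : ¬ IsOfTypeII M) :
    fittingHallOf M ⊓ 𝐂(U ⊔ W₁) = ⊥ ∧ Nat.card (fittingHallOf M) =
      Nat.card W₂ ^ Nat.card W₁ * Nat.card ↥(fittingHallOf M ⊓ 𝐂(U)) := by
  have hp := c.prime_W₂ h
  have hw := c.wielandt_core
  have h2 : fittingHallOf M ⊓ 𝐂(U ⊔ W₁) = ⊥ := by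
    by_contra hne
    obtain ⟨x, hx, hx1⟩ := exists_mem_ne_one_of_ne_bot hne
    have hle : fittingHallOf M ⊓ 𝐂(U ⊔ W₁) ≤ W₂ := by
      rw [← c.core_inf_cent_W₁, cent_sup]
      exact inf_le_inf_left _ inf_le_right
    have he : fittingHallOf M ⊓ 𝐂(U ⊔ W₁) = W₂ := by
      refine le_antisymm hle ?_
      rw [← zpowers_eq_of_card_prime hp (hle hx) hx1]
      exact (Subgroup.zpowers_le).2 hx
    rw [he] at hw
    have hc := Nat.eq_of_mul_eq_mul_left (pow_pos hp.pos _) hw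
    have hH : fittingHallOf M ⊓ 𝐂(U) = fittingHallOf M :=
      Subgroup.eq_of_le_of_card_ge inf_le_left hc.le
    exact hU (TypeP.eq_bot_of_le_cent c.hP (cent_symm (hH.ge.trans inf_le_right)))
  refine ⟨h2, ?_⟩
  simpa [h2] using hw

/-- last assertion of (9.10) -/
theorem PCtx.frob_der_of_cyclic (c : PCtx M W₁ U W₂) (h : IsOfTypeII M) (hU : IsCyclic U) :
    Frob (fittingHallOf M) U ⁅M, M⁆ := by
  obtain ⟨hU1, -, -, -, -, hF, hH⟩ := typeII_data h c.hP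
  have hs := TypeP.sdp_H c.hP
  obtain ⟨U₁, U₀, hT⟩ := typeFWith_of_sdp (U := U) hF (by rw [hH]; exact hs)
  have he : U₀ = U := by
    refine Subgroup.eq_of_le_of_card_ge hT.U₀_le ?_
    rw [← IsCyclic.exponent_eq_card, ← hT.exp_eq]
    exact Nat.le_of_dvd Nat.card_pos Group.exponent_dvd_nat_card
  refine ⟨hs, TypeP.H_ne_bot c.hP, hU1, ?_⟩
  have := hT.reg
  rwa [hH, he] at this

/-- (9.11) -/
theorem PCtx.t9_11 (c : PCtx M W₁ U W₂) {H₀ : Subgroup M} [H₀.Normal]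
    (h : Hyp95 (fittingHall M) (U.subgroupOf M) H₀ c.f₁ c.f₂) :
    IsCoherent (seqIndD (commutator M) (fittingHall M)
      (H₀ ⊔ ⁅cOf (fittingHall M) (U.subgroupOf M) H₀, cOf (fittingHall M) (U.subgroupOf M) H₀⁆))
      {1}ᶜ (ftTau M) := by
  obtain ⟨B, hS, -⟩ := c.cohBaseF
  suffices hsub : genOn M {g : M | g ≠ 1 ∧ g ∈ commutator M ∧
      ∃ x ∈ fittingHall M, x ≠ 1 ∧ g * x = x * g} ⊆ genOn M (Subtype.val ⁻¹' typeA0 M) by
    obtain ⟨h1, h2, h3, h4⟩ := c.tau_iso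
    exact h.t9_11 hS ⟨fun α hα β hβ => h1 α (hsub hα) β (hsub hβ), fun α hα => h2 α (hsub hα),
      fun α hα β hβ => h3 α (hsub hα) β (hsub hβ), fun α hα => h4 α (hsub hα)⟩
  rintro α ⟨hα, hz⟩
  refine ⟨hα, fun g hg => hz g ?_⟩
  rintro ⟨hg1, hgd, x, hx, hx1, hgx⟩
  refine hg (typeA_subset_typeA0 M (c.mem_typeA.2 ⟨?_, ?_, x, ?_, ?_, ?_⟩))
  · rw [← map_commutator_subtype]
    exact ⟨g, hgd, rfl⟩
  · exact fun h1 => hg1 (Subtype.ext h1)
  · exact BG.fcore_le_typeCore M (mem_fcore_iff.2 hx)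
  · exact fun h1 => hx1 (Subtype.ext h1)
  · exact congrArg Subtype.val hgx

end CL.PF
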