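import Cfsg.Agent.PF.A11_Nine
import Cfsg.Agent.PF.T9_3

/-!
# Peterfalvi (11.9), given (11.3), (11.5), (11.6), (11.7)
-/

set_option autoImplicit false

namespace CL.PF

open Cfsg CL.BG

variable {G : Type*} [Group G] [Fintype G] {M W₁ U W₂ : Subgroup G}

theorem PCtx.p11_9 (c : PCtx M W₁ U W₂) (h : ¬ IsOfTypeII M)
    (h5 : ⁅⁅M, M⁆, ⁅M, M⁆⁆ = fittingHallOf M ⊔ (U ⊓ 𝐂(fittingHallOf M)) ∧
      U ⊓ 𝐂(fittingHallOf M) = ⁅U, U⁆)
    (h7 : Hyp95 (fittingHall M) (U.subgroupOf M) ⊥ c.f₁ c.f₂)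
    (h3 : ¬ IsCoherent (inducedIrrAbove (commutator M) (cOf (fittingHall M) (U.subgroupOf M) ⊥))
      {1}ᶜ (ftTau M)) :
    (Nat.card W₂ < Nat.card W₁ ∧ IsOfTypeIII M ∧ PGalois M U ∧ IsCyclic U ∧
      U ⊓ 𝐂(fittingHallOf M) = ⊥) ∧
    ∀ ζ ∈ inducedIrrAbove (commutator M) (fittingHall M),
      IsIrrCharacter M ζ ∧ ζ 1 = (Nat.card W₁ : ℂ) ∧ OrthEta W₁.subtype W₂.subtype
        (ftTau M (muCol c.f₁ c.f₂ 1 - ζ) - etaRow W₁.subtype W₂.subtype 1) := by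
  have inj := Subgroup.map_injective M.subtype_injective
  have hU := Subgroup.map_subgroupOf_eq_of_le c.U_le
  have hC : (cOf (fittingHall M) (U.subgroupOf M) ⊥).map M.subtype =
      U ⊓ 𝐂(fittingHallOf M) := by
    rw [c.cOf_bot, Subgroup.map_subgroupOf_eq_of_le (inf_le_left.trans c.U_le)]
  obtain ⟨h1, h2, h4, h6, h8⟩ := h7.t11_9 (c.primeDadeD h) c.hG.1 (c.prime_W₂ h)
    (inj (by
      rw [Subgroup.map_commutator, map_commutator_subtype, Subgroup.map_sup, hC, h5.1]; rfl))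
    (inj (by rw [hC, Subgroup.map_commutator, hU, h5.2])) h3 (c.t9_11 h7)
  have hcyc : IsCyclic U := (Subgroup.subgroupOfEquivOfLe c.U_le).isCyclic.1 h4
  have hne : U ≠ ⊥ := fun e => h7.U_ne_bot (by rw [e, Subgroup.bot_subgroupOf])
  refine ⟨⟨h1, c.typeIII_iff.2 ⟨inferInstance, (c.type34_facts (c.type34_iff.2 ⟨hne, h⟩)).2⟩, h2,
    hcyc, by rw [← hC, h6, Subgroup.map_bot]⟩, h8⟩

end CL.PF
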