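import Cfsg.Agent.PF.P11_G
import Cfsg.Agent.PF.CohSix
import Cfsg.Agent.PF.A10_Non

/-! Peterfalvi (11.1) to (11.7) in abstract form.  Owner: helper55. -/

set_option autoImplicit false
set_option linter.unusedSectionVars false

namespace CL.PF

open Cfsg CL.BG Subgroup

/-- (11.1) -/
theorem arith_11_1 {p q : ℕ} (hp : 3 ≤ p) (hq : 3 ≤ q) (hpo : Odd p) (hqo : Odd q) (hne : p ≠ q) :
    4 * q ^ 2 + 1 < p ^ q := by
  have key : ∀ n, 5 ≤ n → 4 * n ^ 2 + 1 < 3 ^ n := by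
    intro n hn
    induction n, hn using Nat.le_induction with
    | base => norm_num
    | succ n hn ih => rw [pow_succ 3]; nlinarith
  obtain ⟨a, ha⟩ := hpo
  obtain ⟨b, hb⟩ := hqo
  by_cases h5 : 5 ≤ q
  · exact (key q h5).trans_le (Nat.pow_le_pow_left hp q)
  · obtain rfl : q = 3 := by omega
    exact lt_of_lt_of_le (by norm_num) (Nat.pow_le_pow_left (show 5 ≤ p by omega) 3)

variable {M X₁ X₂ : Type*} [Group M] [Fintype M] [Group X₁] [Group X₂] [Finite X₁] [Finite X₂]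
  {H U H₀ : Subgroup M} [H₀.Normal] {f₁ : X₁ →* M} {f₂ : X₂ →* M}
  {G : Type*} [Group G] [Fintype G] {τ : (M → ℂ) → (G → ℂ)} {B : (M → ℂ) → Finset (G → ℂ)}

theorem Hyp95.HC_le (h : Hyp95 H U H₀ f₁ f₂) : H ⊔ cOf H U H₀ ≤ commutator M :=
  sup_le h.H_le (inf_le_left.trans h.U_le)

theorem Hyp95.der_der_le (h : Hyp95 H U H₀ f₁ f₂) :
    ⁅commutator M, commutator M⁆ ≤ H ⊔ cOf H U H₀ :=
  h.sdp.der_le.trans (sup_le_sup_left h.der_le_cOf H)

theorem Hyp95.not_der_le_HC (h : Hyp95 H U H₀ f₁ f₂) : ¬ commutator M ≤ H ⊔ cOf H U H₀ := by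
  rw [← relIndex_eq_one, h.index_HC.2.1]
  exact h.uOf_facts.1.ne'

section
variable (h : Hyp95 H U H₀ f₁ f₂) (hp : (Nat.card X₂).Prime)
  (hS : IsCoherenceSystem (inducedIrrAbove (commutator M) ⊥) τ B)
  (hnc : ¬ IsCoherent (inducedIrrAbove (commutator M) ⊥) {1}ᶜ τ)
include h hp hS hnc

/-- (11.3) -/
theorem Hyp95.t11_3 : ¬ IsCoherent (inducedIrrAbove (commutator M) (H₀ ⊔ cOf H U H₀)) {1}ᶜ τ := by
  intro hcoh
  have := h.normal_HC
  have := h.normal_H₀C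
  refine hnc (t6_3 (h.solv_sub _) hS (H := H ⊔ cOf H U H₀) bot_le
    (sup_le_sup_right h.H₀_le _) h.HC_le (isNilpotent_map_of_nilpotent _ ?_) hcoh ?_)
  · refine nil_sup_of_cent h.H_nil (nilpotent_of_le h.U_nil inf_le_left) ?_
    rw [h.cOf_eq hp]
    exact inf_le_right
  · rw [h.index_der, h.index_HC.2.2]
    exact arith_11_1 h.three_le_p h.three_le_q h.p_odd.1 h.q_odd h.p_odd.2

/-- (11.4) -/
theorem Hyp95.t11_4 {A : Subgroup M} [A.Normal] (hA : A < commutator M)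
    (hcoh : IsCoherent (inducedIrrAbove (commutator M) A) {1}ᶜ τ) :
    A.relIndex (commutator M) ≤ 2 * (Nat.card X₁ * uOf H U H₀) + 1 := by
  have := h.normal_H₀C
  by_contra hlt
  refine h.t11_3 hp hS hnc (t6_2 (h.solv_sub _) hS (C := H ⊔ cOf H U H₀) (D := H ⊔ cOf H U H₀) hA
    (fun hle => h.not_der_le_HC (hle.trans (sup_le_sup_right h.H₀_le _))) h.HC_le
    (fun x hx y hy => ?_) hcoh ?_)
  · have hcp : CP H (cOf H U H₀) (H ⊔ cOf H U H₀) := ⟨rfl, (h.cOf_eq hp).le.trans inf_le_right⟩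
    refine sup_le_sup h.der_H_le h.der_cOf_le ?_
    rw [hcp.der.sup]
    exact commutator_mem_commutator hx hy
  · rw [relIndex_self, mul_one, h.index_HC.1]
    calc 4 * (Nat.card X₁ * uOf H U H₀) ^ 2 = (2 * (Nat.card X₁ * uOf H U H₀)) ^ 2 := by ring
      _ < _ := Nat.pow_lt_pow_left (by omega) two_ne_zero

/-- (11.5) -/
theorem Hyp95.t11_5 : ⁅commutator M, commutator M⁆ = H ⊔ cOf H U H₀ := by
  have := h.normal_HC
  have hle := h.der_der_le
  refine le_antisymm hle ?_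
  by_contra hne
  have hKK : ⁅commutator M, commutator M⁆ ≤ commutator M := hle.trans h.HC_le
  have hnK : ¬ commutator M ≤ ⁅commutator M, commutator M⁆ := fun h1 => h.not_der_le_HC (h1.trans hle)
  have h1 := h.t11_4 hp hS hnc (lt_of_le_not_ge hKK hnK) (coherent_of_commutator_le hS le_rfl hnK)
  have h2 := ((h.primeTI.fpfMod h.W₂_le_der hKK).mono h.HC_le).two_mul_add_one_le_relIndex h.odd
    hKK hne
  rw [← relIndex_mul_relIndex _ _ _ hle h.HC_le, h.index_HC.2.1] at h1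
  rw [h.index_der] at h2
  have h3 := h.uOf_facts.1
  nlinarith

theorem Hyp95.H_le_der_der : H ≤ ⁅commutator M, commutator M⁆ :=
  le_sup_left.trans (h.t11_5 hp hS hnc).ge

/-- (11.6): `C = U'` -/
theorem Hyp95.cOf_eq_der : cOf H U H₀ = ⁅U, U⁆ := by
  refine le_antisymm ?_ h.der_le_cOf
  rw [← h.sdp.der_inf_right, h.t11_5 hp hS hnc]
  exact le_inf le_sup_right inf_le_left

end

/-- (11.7) -/
theorem Hyp92.t11_7 (h : Hyp92 H U f₁ f₂) (hp : (Nat.card X₂).Prime)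
    (hS : IsCoherenceSystem (inducedIrrAbove (commutator M) ⊥) τ B)
    (hnc : ¬ IsCoherent (inducedIrrAbove (commutator M) ⊥) {1}ᶜ τ) :
    IsElementaryAbelian (Nat.card X₂) H ∧ Nat.card H = Nat.card X₂ ^ Nat.card X₁ ∧
      Hyp95 H U ⊥ f₁ f₂ := by
  obtain ⟨H₀, _, h'⟩ := h.exists_hyp95
  exact h.t11_7_of_le hp (h'.H_le_der_der hp hS hnc)

/-- (11.3) with `H₀ = 1` -/
theorem Hyp95.t11_3_bot (h : Hyp95 H U ⊥ f₁ f₂) (hp : (Nat.card X₂).Prime)
    (hS : IsCoherenceSystem (inducedIrrAbove (commutator M) ⊥) τ B)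
    (hnc : ¬ IsCoherent (inducedIrrAbove (commutator M) ⊥) {1}ᶜ τ) :
    ¬ IsCoherent (inducedIrrAbove (commutator M) (cOf H U ⊥)) {1}ᶜ τ := by
  have := h.t11_3 hp hS hnc
  rwa [bot_sup_eq] at this

end CL.PF
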