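import Cfsg.Agent.PF.A9_Lin
import Cfsg.Agent.BG.T3_W
import Cfsg.Agent.BG.T1_6
import Cfsg.Agent.BG.PAmb
import Cfsg.Agent.BG.Core
import Cfsg.Agent.PGrp.Extraspecial
import Cfsg.Agent.PGrp.Power

/-! Peterfalvi (11.6), (11.7): the group theoretic part.  Owner: helper55. -/

set_option autoImplicit false
set_option linter.unusedSectionVars false

namespace CL.PF

open Cfsg CL.BG Subgroup
open scoped commutatorElement

section general
variable {Γ : Type*} [Group Γ] [Finite Γ]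

/-- a `p`-group of class at most two with centre of order `p` has order an odd power of `p` -/
theorem card_eq_odd_pow_of_center {p : ℕ} [hp : Fact p.Prime] {E : Subgroup Γ} (hE : IsPGroup p E)
    (hZ : Nat.card ↥𝐙(E) = p) (hd : ⁅E, E⁆ ≤ 𝐙(E)) : ∃ n : ℕ, Nat.card E = p ^ (2 * n + 1) := by
  have h1 : Nat.card (center E) = p := by
    rw [← hZ, ← map_center_subtype, card_map_subtype']
  have : IsCyclic (center E) := isCyclic_of_prime_card h1
  obtain ⟨z, hz⟩ := (Subgroup.isCyclic_iff_exists_zpowers_eq_top _).mp this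
  refine CL.PGrp.IsES.exists_card_eq (z := z) ⟨hE, ?_, hz.symm, ?_⟩
  · rw [← Nat.card_zpowers, hz, h1]
  · rw [← map_le_map_iff_of_injective E.subtype_injective, map_center_subtype, commutator_def,
      map_commutator, map_subtype_top']
    exact hd

omit [Finite Γ] in
/-- commutators of powers modulo central elements -/
theorem commutator_zpow_mul_central {s t h k : Γ} (hs : Commute ⁅s, t⁆ s) (ht : Commute ⁅s, t⁆ t)
    (hh : Commute h s) (hh' : Commute h t) (hhk : Commute h k) (hk : Commute k s)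
    (hk' : Commute k t) (a b : ℤ) : ⁅h * s ^ a, k * t ^ b⁆ = ⁅s, t⁆ ^ (a * b) := by
  have e1 : ⁅h * s ^ a, k * t ^ b⁆ = ⁅s ^ a, t ^ b⁆ := by
    have c1 : Commute h (s ^ a) := hh.zpow_right a
    have c2 : Commute h (k * t ^ b) := hhk.mul_right (hh'.zpow_right b)
    have c3 : Commute k (s ^ a) := hk.zpow_right a
    have c4 : Commute k (t ^ b) := hk'.zpow_right b
    calc ⁅h * s ^ a, k * t ^ b⁆
        = h * (s ^ a * (k * t ^ b) * (s ^ a)⁻¹) * h⁻¹ * (k * t ^ b)⁻¹ := by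
          simp only [commutatorElement_def]; group
      _ = s ^ a * (k * t ^ b) * (s ^ a)⁻¹ * (k * t ^ b)⁻¹ := by
          rw [((c1.mul_right c2).mul_right c1.inv_right).eq, mul_inv_cancel_right]
      _ = (s ^ a * k) * (t ^ b * (s ^ a)⁻¹ * (t ^ b)⁻¹) * k⁻¹ := by group
      _ = k * ⁅s ^ a, t ^ b⁆ * k⁻¹ := by
          rw [← c3.eq]; simp only [commutatorElement_def]; group
      _ = ⁅s ^ a, t ^ b⁆ := by
          have : Commute k ⁅s ^ a, t ^ b⁆ :=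
            ((c3.mul_right c4).mul_right c3.inv_right).mul_right c4.inv_right
          rw [this.eq, mul_inv_cancel_right]
  rw [e1]
  have e2 : ⁅s ^ a, t⁆ = ⁅s, t⁆ ^ a := CL.PGrp.commutator_zpow_left hs a
  rw [CL.PGrp.commutator_zpow_right (by rw [e2]; exact ht.zpow_left a) b, e2, zpow_mul]

end general

variable {M X₁ X₂ : Type*} [Group M] [Finite M] [Group X₁] [Group X₂] [Finite X₁] [Finite X₂]
  {H U H₀ : Subgroup M} {f₁ : X₁ →* M} {f₂ : X₂ →* M}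

theorem Hyp92.U_norm_H (h : Hyp92 H U f₁ f₂) : U ≤ 𝐍(H) := by
  have := h.H_normal
  exact le_normalizer_of_normal

theorem Hyp92.sdp (h : Hyp92 H U f₁ f₂) : SDP H U (commutator M) :=
  ⟨h.sup_eq, h.U_norm_H, h.inf_eq⟩

theorem Hyp92.frob (h : Hyp92 H U f₁ f₂) : Frob U f₁.range (U ⊔ f₁.range) :=
  ⟨⟨rfl, h.W₁_norm, h.U_inf_W₁⟩, h.U_ne_bot, h.primeTI.ne_bot₁, fun x hx hx1 => by
    rw [eq_bot_iff]
    intro u hu
    exact h.fpf hx hx1 hu.1 (mem_cent1.1 hu.2).symm⟩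

/-- `U` centralises every normal subgroup of `M` inside `H` that meets `W₂` trivially. -/
theorem Hyp92.U_le_cent (h : Hyp92 H U f₁ f₂) {N : Subgroup M} [N.Normal] (hN : N ≤ H)
    (hW : N ⊓ f₂.range = ⊥) : U ≤ 𝐂(N) := by
  refine wielandt_frob_cent h.frob (h.solv_sub U) le_normalizer_of_normal
    (h.coprime_UW₁_H.symm.coprime_dvd_left (card_dvd_of_le hN)) (h.solv_sub N) ?_
  rw [← hW, ← h.cent_W₁, ← inf_assoc, inf_eq_left.2 hN]

/-- if `H ≤ M''` then `H = H' [H, U]` -/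
theorem Hyp92.eq_der_sup (h : Hyp92 H U f₁ f₂) (hK : H ≤ ⁅commutator M, commutator M⁆) :
    ⁅H, H⁆ ⊔ ⁅H, U⁆ = H := by
  set N := ⁅H, H⁆ ⊔ ⁅H, U⁆ with hN
  have hNH : N ≤ H := sup_le (commutator_le_left_of_norm (le_norm_self H))
    (commutator_le_left_of_norm h.U_norm_H)
  have hHN : H ≤ 𝐍(N) := le_norm_of_commutator_le hNH le_sup_left
  have hUN : U ≤ 𝐍(N) := le_norm_of_commutator_le hNH le_sup_right
  have hKN : commutator M ≤ 𝐍(N) := h.sup_eq ▸ sup_le hHN hUN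
  have hcp : CP (quot N H) (quot N U) (quot N (commutator M)) := by
    refine ⟨by rw [← quot_sup hHN hUN, h.sup_eq], ?_⟩
    rw [quot_le_centralizer_iff hUN hHN, Subgroup.commutator_comm]
    exact le_sup_right
  have h1 := hcp.der.sup
  rw [← quot_commutator hHN hHN, quot_eq_bot le_sup_left, bot_sup_eq, ← quot_commutator hUN hUN,
    ← quot_commutator hKN hKN] at h1
  have hU' : ⁅U, U⁆ ≤ U := commutator_le_left_of_norm (le_norm_self U)
  have h2 : H ≤ ⁅U, U⁆ ⊔ N := by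
    refine hK.trans ?_
    rw [← quot_le_quot_iff ((commutator_le_left_of_norm (le_norm_self _)).trans hKN)
      (hU'.trans hUN), h1]
  refine le_antisymm hNH ?_
  calc H = (⁅U, U⁆ ⊔ N) ⊓ H := (inf_eq_right.2 h2).symm
    _ = (⁅U, U⁆ ⊓ H) ⊔ N := sup_inf_modular' (Or.inr (hU'.trans hUN)) hNH
    _ ≤ N := by
      refine sup_le ?_ le_rfl
      have : ⁅U, U⁆ ⊓ H ≤ H ⊓ U := le_inf inf_le_right (inf_le_left.trans hU')
      rw [h.inf_eq] at this
      exact this.trans bot_le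

variable [H₀.Normal]

theorem Hyp95.H₀_inf_W₂ (h : Hyp95 H U H₀ f₁ f₂) (hp : (Nat.card X₂).Prime) :
    H₀ ⊓ f₂.range = ⊥ := by
  have h1 := card_inf_mul_relIndex H₀ f₂.range
  rw [h.relIndex_W₂, h.pOf_eq hp, h.card_W₂] at h1
  exact Subgroup.card_eq_one.1 (Nat.eq_of_mul_eq_mul_right hp.pos (by rw [h1, one_mul]))

/-- (11.6): `U` centralises `H₀` -/
theorem Hyp95.U_le_cent_H₀ (h : Hyp95 H U H₀ f₁ f₂) (hp : (Nat.card X₂).Prime) : U ≤ 𝐂(H₀) :=
  h.U_le_cent h.H₀_le (h.H₀_inf_W₂ hp)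

/-- `C_U(H / H₀) = C_U(H)` -/
theorem Hyp95.cOf_eq (h : Hyp95 H U H₀ f₁ f₂) (hp : (Nat.card X₂).Prime) :
    cOf H U H₀ = U ⊓ 𝐂(H) := by
  refine le_antisymm (le_inf inf_le_left ?_) h.cent_le_cOf
  refine t1_9 h.H₀_le (inf_le_left.trans (h.U_le_cent_H₀ hp)) ?_
    (h.coprime_U_H.symm.coprime_dvd_right (card_dvd_of_le inf_le_left))
  rw [Subgroup.commutator_comm]
  exact le_centMod_iff.1 inf_le_right

/-- (11.6): `H₀ = H'` -/
theorem Hyp95.H₀_eq_der (h : Hyp95 H U H₀ f₁ f₂) (hp : (Nat.card X₂).Prime)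
    (hK : H ≤ ⁅commutator M, commutator M⁆) : H₀ = ⁅H, H⁆ := by
  refine le_antisymm ?_ h.der_H_le
  have hHN : H ≤ 𝐍(⁅H, H⁆) := norms_der (le_norm_self H)
  have hUN : U ≤ 𝐍(⁅H, H⁆) := norms_der h.U_norm_H
  have h1 := t1_6d_TI (quot_normalizer ⁅H, H⁆ h.U_norm_H)
    (quot_coprime _ h.coprime_U_H.symm) ((quot_isMulCommutative_iff hHN).2 le_rfl)
  have h2 : quot ⁅H, H⁆ H = ⁅quot ⁅H, H⁆ H, quot ⁅H, H⁆ U⁆ := by
    rw [← quot_commutator hHN hUN, ← quot_self_sup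
      ((commutator_le_left_of_norm h.U_norm_H).trans hHN), h.eq_der_sup hK]
  rw [← h2] at h1
  rw [← quot_eq_bot_iff (h.H₀_le.trans hHN), eq_bot_iff, ← h1]
  exact le_inf (quot_mono _ h.H₀_le) (quot_centralizer _ (cent_symm (h.U_le_cent_H₀ hp)))

/-- (11.6): `H` is a `p`-group -/
theorem Hyp95.isPGroup (h : Hyp95 H U H₀ f₁ f₂) (hp : (Nat.card X₂).Prime)
    (hK : H ≤ ⁅commutator M, commutator M⁆) : IsPGroup (pOf H H₀) H := by
  set p := pOf H H₀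
  have hdp := nil_core_dp h.H_nil ({p} : Set ℕ)
  set O := piCoreOf ({p}ᶜ : Set ℕ) H
  have hO : O ≤ H₀ := by
    refine (piGrp_piCoreOf _ H).le_of_relIndex ⟨h.H₀_le, le_normalizer_of_normal⟩
      (piCoreOf_le _ H) ?_
    rw [compl_compl, h.relIndex_H]
    exact (piNat_singleton_iff h.p_prime (pow_ne_zero _ h.p_prime.ne_zero)).2 ⟨_, rfl⟩
  have h1 : ⁅O, O⁆ = O := by
    rw [← hdp.sdp.der_inf_right, ← h.H₀_eq_der hp hK, inf_eq_right.2 hO]
  have h2 : O = ⊥ := by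
    by_contra hne
    exact (der_lt_of_solvable (h.solv_sub O) hne).ne h1
  have h3 := hdp.sup
  rw [h2, sup_bot_eq] at h3
  rw [← h3]
  exact isPGroup_piCoreOf h.p_prime H

theorem Hyp95.exists_Q (h : Hyp95 H U H₀ f₁ f₂) (hp : (Nat.card X₂).Prime)
    (hK : H ≤ ⁅commutator M, commutator M⁆) (hne : H₀ ≠ ⊥) :
    ∃ Q : Subgroup M, Q ≤ H₀ ∧ H ≤ 𝐍(Q) ∧ U ≤ 𝐍(Q) ∧ Q.relIndex H₀ = pOf H H₀ ∧ ⁅H, H₀⁆ ≤ Q := by
  set p := pOf H H₀
  have : Fact p.Prime := ⟨h.p_prime⟩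
  have hP := h.isPGroup hp hK
  have hN : H₀ ⊴ H := ⟨h.H₀_le, le_normalizer_of_normal⟩
  obtain ⟨n, hn⟩ := pg_card_eq_pow (hP.to_le h.H₀_le)
  obtain _ | k := n
  · exact absurd (Subgroup.card_eq_one.1 (by rw [hn, pow_zero])) hne
  obtain ⟨Q, hQ, hQ₀, hc⟩ := pg_exists_normal_card hP hN k
    (by rw [hn]; exact Nat.pow_le_pow_right h.p_prime.pos k.le_succ)
  have hi : Q.relIndex H₀ = p := by
    have h1 := card_mul_relIndex hQ₀
    rw [hc, hn, pow_succ] at h1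
    exact Nat.eq_of_mul_eq_mul_left (pow_pos h.p_prime.pos k) h1
  exact ⟨Q, hQ₀, hQ.norm, le_norm_of_le_cent ((h.U_le_cent_H₀ hp).trans (cent_anti hQ₀)), hi,
    pg_commutator_le_of_relIndex hP hQ.norm hN.norm (h.H₀_le.trans hQ.norm) hi.dvd⟩

section
variable (h : Hyp95 H U H₀ f₁ f₂) (hp : (Nat.card X₂).Prime)
  (hK : H ≤ ⁅commutator M, commutator M⁆) {Q : Subgroup M} (hQ₀ : Q ≤ H₀) (hHQ : H ≤ 𝐍(Q))
  (hUQ : U ≤ 𝐍(Q)) (hi : Q.relIndex H₀ = pOf H H₀) (hc : ⁅H, H₀⁆ ≤ Q)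
include h hp hK hQ₀ hHQ hUQ hi hc

theorem Hyp95.not_der_le_Q : ¬ ⁅H, H⁆ ≤ Q := by
  intro hle
  rw [← h.H₀_eq_der hp hK, ← relIndex_eq_one, hi] at hle
  exact h.p_prime.one_lt.ne' hle

/-- (11.7), case (9.7.b) -/
theorem Hyp95.false_of_galois (hG : IsGalois9 H U H₀) : False := by
  set p := pOf H H₀
  have : Fact p.Prime := ⟨h.p_prime⟩
  have hH₀Q : H₀ ≤ 𝐍(Q) := h.H₀_le.trans hHQ
  have h1 : H₀ ≤ coquot Q 𝐙(quot Q H) := by
    rw [← quot_le_iff hH₀Q]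
    refine le_inf (quot_mono _ h.H₀_le) ?_
    rw [quot_le_centralizer_iff hH₀Q hHQ, Subgroup.commutator_comm]
    exact hc
  have h2 : coquot Q 𝐙(quot Q H) ≤ H := coquot_le_of_le_quot (hQ₀.trans h.H₀_le) inf_le_left
  rcases hG _ h1 h2 (le_normalizer_coquot hUQ (norms_center (quot_normalizer Q h.U_norm_H)))
    with h3 | h3
  · have h4 : 𝐙(quot Q H) = quot Q H₀ := by rw [← h3, quot_coquot]
    obtain ⟨n, hn⟩ := card_eq_odd_pow_of_center (quot_isPGroup Q (h.isPGroup hp hK))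
      (by rw [h4, card_quot hH₀Q, hi])
      (by rw [h4, ← quot_commutator hHQ hHQ]; exact quot_mono _ h.der_H_le)
    rw [card_quot hHQ, ← relIndex_mul_relIndex Q H₀ H hQ₀ h.H₀_le, hi, h.relIndex_H,
      ← pow_succ'] at hn
    have h5 := Nat.pow_right_injective h.p_prime.two_le hn
    obtain ⟨k, hk⟩ := h.q_odd
    omega
  · refine h.not_der_le_Q hp hK hQ₀ hHQ hUQ hi hc ?_
    rw [← quot_le_centralizer_iff hHQ hHQ]
    exact ((quot_le_iff hHQ).2 h3.ge).trans inf_le_right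

theorem Hyp95.dvd_of_commutator {s t u a b : M} (hs : s ∈ H) (ht : t ∈ H) (hst : ⁅s, t⁆ ∉ Q)
    (hu : u ∈ U) (ha : a ∈ H₀) (hb : b ∈ H₀) {i j : ℤ} (hi' : u * s * u⁻¹ = a * s ^ i)
    (hj : u * t * u⁻¹ = b * t ^ j) : (pOf H H₀ : ℤ) ∣ i * j - 1 := by
  have : Fact (pOf H H₀).Prime := ⟨h.p_prime⟩
  have hst₀ : ⁅s, t⁆ ∈ H₀ := h.der_H_le (commutator_mem_commutator hs ht)
  have hcomm : ∀ x ∈ H₀, ∀ y ∈ H, Commute (coset Q x) (coset Q y) := fun x hx y hy => by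
    rw [← commutatorElement_eq_one_iff_commute,
      ← coset_commutatorElement (hHQ (h.H₀_le hx)) (hHQ hy)]
    refine coset_eq_one (hc ?_)
    rw [Subgroup.commutator_comm]
    exact commutator_mem_commutator hx hy
  have e0 : coset Q ⁅s, t⁆ = ⁅coset Q s, coset Q t⁆ := coset_commutatorElement (hHQ hs) (hHQ ht)
  have e1 : ⁅a * s ^ i, b * t ^ j⁆ = ⁅s, t⁆ := by
    rw [← hi', ← hj, ← conjugate_commutatorElement, ← (mem_cent.1 (h.U_le_cent_H₀ hp hu)) _ hst₀,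
      mul_inv_cancel_right]
  have e2 : coset Q ⁅s, t⁆ = coset Q ⁅s, t⁆ ^ (i * j) := by
    conv_lhs => rw [← e1]
    rw [coset_commutatorElement (hHQ (mul_mem (h.H₀_le ha) (zpow_mem hs i)))
      (hHQ (mul_mem (h.H₀_le hb) (zpow_mem ht j))), coset_mul (hHQ (h.H₀_le ha)) (hHQ (zpow_mem hs i)),
      coset_mul (hHQ (h.H₀_le hb)) (hHQ (zpow_mem ht j)), coset_zpow (hHQ hs), coset_zpow (hHQ ht), e0]
    exact commutator_zpow_mul_central (e0 ▸ hcomm _ hst₀ _ hs) (e0 ▸ hcomm _ hst₀ _ ht)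
      (hcomm _ ha _ hs) (hcomm _ ha _ ht) (hcomm _ ha _ (h.H₀_le hb)) (hcomm _ hb _ hs)
      (hcomm _ hb _ ht) i j
  have e3 : orderOf (coset Q ⁅s, t⁆) = pOf H H₀ := by
    refine orderOf_eq_prime ?_ fun h1 => hst ((coset_eq_one_iff (hHQ (h.H₀_le hst₀))).1 h1)
    rw [← coset_pow (hHQ (h.H₀_le hst₀)), ← hi]
    exact coset_eq_one (pow_relIndex_mem (h.H₀_le.trans hHQ) hst₀)
  rw [← e3, orderOf_dvd_iff_zpow_eq_one, zpow_sub, ← e2, zpow_one, mul_inv_cancel]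

/-- (11.7), case (9.7.a) -/
theorem Hyp95.false_of_nonGalois {H₁ : Subgroup M} (h₁ : NonGalois9 H U H₀ f₁ H₁) : False := by
  have hle : ∀ x : X₁, cj (f₁ x) H₁ ≤ H := fun x => h.cj_le_H h₁.le _
  -- a pair of conjugates not commuting modulo `Q`
  obtain ⟨x, y, s, hs, t, ht, hst⟩ : ∃ x y : X₁, ∃ s ∈ cj (f₁ x) H₁, ∃ t ∈ cj (f₁ y) H₁,
      ⁅s, t⁆ ∉ Q := by
    by_contra hcon
    push Not at hcon
    refine h.not_der_le_Q hp hK hQ₀ hHQ hUQ hi hc ?_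
    rw [← quot_le_centralizer_iff hHQ hHQ, ← h₁.gen_cj, quot_iSup fun x => (hle x).trans hHQ]
    refine iSup_le fun x => cent_symm (iSup_le fun y => ?_)
    rw [quot_le_centralizer_iff ((hle y).trans hHQ) ((hle x).trans hHQ), Subgroup.commutator_le]
    exact hcon y x
  have hs₀ : s ∉ H₀ := fun hs₀ => hst (hc (by
    rw [Subgroup.commutator_comm]; exact commutator_mem_commutator hs₀ (hle y ht)))
  have ht₀ : t ∉ H₀ := fun ht₀ => hst (hc (commutator_mem_commutator (hle x hs) ht₀))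
  let π := QuotientGroup.mk' H₀
  have hπ : ∀ a ∈ H₀, π a = 1 := fun a ha => (QuotientGroup.eq_one_iff a).2 ha
  -- the action of `U` on a conjugate of `H₁`
  have act : ∀ (z : X₁) (r : M), r ∈ cj (f₁ z) H₁ → r ∉ H₀ → ∀ u ∈ U, ∃ a ∈ H₀, ∃ i : ℤ,
      u * r * u⁻¹ = a * r ^ i ∧ ∀ g ∈ H₁, π ((f₁ z)⁻¹ * u * f₁ z) * π g *
        (π ((f₁ z)⁻¹ * u * f₁ z))⁻¹ = π g ^ i := by
    intro z r hr hr₀ u hu
    have e := h₁.cj_eq_sup h hr hr₀
    have h2 : u * r * u⁻¹ ∈ cj (f₁ z) H₁ := conj_mem_of_mem_norm (h.norm_cj h₁.norm z hu) hr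
    rw [e] at h2
    obtain ⟨a, ha, _, ⟨i, rfl⟩, h3⟩ := mem_sup_iff_of_normal.1 h2
    refine ⟨a, ha, i, h3, fun g hg => ?_⟩
    have h4 : f₁ z * g * (f₁ z)⁻¹ ∈ cj (f₁ z) H₁ := conj_mem_cj.2 hg
    rw [e] at h4
    obtain ⟨b, hb, _, ⟨j, rfl⟩, h5⟩ := mem_sup_iff_of_normal.1 h4
    have h6 : π u * π r * (π u)⁻¹ = π r ^ i := by
      have := congrArg π h3
      simpa only [map_mul, map_inv, map_zpow, hπ a ha, one_mul] using this
    have h7 : π g = (π (f₁ z))⁻¹ * π r ^ j * π (f₁ z) := by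
      have := congrArg π h5
      simp only [map_mul, map_inv, map_zpow, hπ b hb, one_mul] at this
      rw [← this]; group
    have h8 : π u * π r ^ j * (π u)⁻¹ = (π r ^ j) ^ i := by
      rw [← conj_zpow, h6, ← zpow_mul, ← zpow_mul, mul_comm]
    have h9 : ((π (f₁ z))⁻¹ * π r ^ j * π (f₁ z)) ^ i =
        (π (f₁ z))⁻¹ * (π r ^ j) ^ i * π (f₁ z) := by
      simpa only [inv_inv] using (conj_zpow (i := i) (a := (π (f₁ z))⁻¹) (b := π r ^ j))
    rw [h7, h9, ← h8, map_mul, map_mul, map_inv]; group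
  set D := centMod H₁ H₀
  have key : ∀ u ∈ U, ((f₁ x)⁻¹ * u * f₁ x) * ((f₁ y)⁻¹ * u * f₁ y) ∈ D := by
    intro u hu
    obtain ⟨a, ha, i, e1, e2⟩ := act x s hs hs₀ u hu
    obtain ⟨b, hb, j, e3, e4⟩ := act y t ht ht₀ u hu
    obtain ⟨k, hk⟩ := h.dvd_of_commutator hp hK hQ₀ hHQ hUQ hi hc (hle x hs) (hle y ht) hst hu ha
      hb e1 e3
    refine mem_centMod.2 fun g hg => (QuotientGroup.eq_one_iff _).1 ?_
    change π _ = 1
    have e5 : π g ^ (pOf H H₀ : ℤ) = 1 := by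
      rw [zpow_natCast, ← map_pow]; exact hπ _ (h.pow_mem (h₁.le hg))
    have e6 : π g ^ (i * j) = π g := by
      rw [show i * j = (pOf H H₀ : ℤ) * k + 1 by omega, zpow_add, zpow_mul, e5, one_zpow, one_mul,
        zpow_one]
    set v := (f₁ x)⁻¹ * u * f₁ x
    set v' := (f₁ y)⁻¹ * u * f₁ y
    calc π (v * v' * g * (v * v')⁻¹ * g⁻¹)
        = π v * (π v' * π g * (π v')⁻¹) * (π v)⁻¹ * (π g)⁻¹ := by
          simp only [map_mul, map_inv]; group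
      _ = 1 := by rw [e4 g hg, ← conj_zpow, e2 g hg, ← zpow_mul, e6, mul_inv_cancel]
  set w := x⁻¹ * y
  have key2 : ∀ v ∈ U, v * ((f₁ w)⁻¹ * v * f₁ w) ∈ D := fun v hv => by
    have := key _ (h.conj_mem_U x hv)
    convert this using 1
    simp only [w, map_mul, map_inv]; group
  have key3 : ∀ k : ℕ, ∀ v ∈ U, v * ((f₁ (w ^ (2 * k + 1)))⁻¹ * v * f₁ (w ^ (2 * k + 1))) ∈ D := by
    intro k
    induction k with
    | zero => simpa using key2
    | succ k ih =>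
      intro v hv
      have m1 := h.conj_inv_mem_U (w ^ (2 * k + 1)) hv
      have m2 := h.conj_inv_mem_U (w ^ (2 * k + 2)) hv
      have := mul_mem (mul_mem (ih v hv) (key2 _ (inv_mem m1))) (key2 _ m2)
      convert this using 1
      simp only [map_pow]; group
  refine h.not_U_le_centMod h₁.le (h₁.not_le h) fun v hv => ?_
  obtain ⟨k, hk⟩ := h.q_odd
  have h2 := key3 k v hv
  rw [← hk, pow_card_eq_one', map_one, inv_one, one_mul, mul_one, ← pow_two] at h2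
  have hodd : Odd (orderOf v) := h.odd.of_dvd_nat (orderOf_dvd_natCard v)
  obtain ⟨m, hm⟩ := exists_pow_eq_self_of_coprime (x := v) (n := 2)
    (Nat.coprime_two_left.2 hodd)
  exact hm ▸ D.pow_mem h2 m

end

/-- (11.7): `H₀ = 1` -/
theorem Hyp95.H₀_eq_bot (h : Hyp95 H U H₀ f₁ f₂) (hp : (Nat.card X₂).Prime)
    (hK : H ≤ ⁅commutator M, commutator M⁆) : H₀ = ⊥ := by
  by_contra hne
  obtain ⟨Q, h1, h2, h3, h4, h5⟩ := h.exists_Q hp hK hne
  by_cases hG : IsGalois9 H U H₀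
  · exact h.false_of_galois hp hK h1 h2 h3 h4 h5 hG
  · obtain ⟨H₁, h₁⟩ := h.t9_7a hG
    exact h.false_of_nonGalois hp hK h1 h2 h3 h4 h5 h₁

/-- (11.7) from `H ≤ M''` -/
theorem Hyp92.t11_7_of_le (h : Hyp92 H U f₁ f₂) (hp : (Nat.card X₂).Prime)
    (hK : H ≤ ⁅commutator M, commutator M⁆) :
    IsElementaryAbelian (Nat.card X₂) H ∧ Nat.card H = Nat.card X₂ ^ Nat.card X₁ ∧
      Hyp95 H U ⊥ f₁ f₂ := by
  obtain ⟨H₀, _, h'⟩ := h.exists_hyp95
  obtain rfl := h'.H₀_eq_bot hp hK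
  refine ⟨?_, ?_, h'⟩
  · refine ⟨comm_iff_le_cent.2 (commutator_eq_bot_iff'.1 (le_bot_iff.1 h'.der_H_le)),
      fun a ha => ?_⟩
    rw [← h'.pOf_eq hp]
    exact mem_bot.1 (h'.pow_mem ha)
  · have := h'.relIndex_H
    rwa [relIndex_bot_left, h'.pOf_eq hp] at this

end CL.PF
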