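import Cfsg.Agent.PF.T8_Dade

/-! Peterfalvi (8.17), (8.18). -/

set_option autoImplicit false

namespace CL.PF

open Cfsg CL.BG

variable {G : Type*} [Group G] [Finite G] {M W₁ U W₂ : Subgroup G}

/-- (8.17.a) -/
theorem t8_17a (hG : IsMinSimpleOddOrder G) {p : ℕ} (hp : p.Prime) (h : p ∣ Nat.card G) :
    ∃ M : Subgroup G, IsCoatom M ∧ p ∣ Nat.card (typeCore M) := (t16_E_primes hG).1 p hp h

/-- (8.17.a) -/
theorem coprime_typeCore (hG : IsMinSimpleOddOrder G) {S T : Subgroup G} (hS : IsCoatom S)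
    (hT : IsCoatom T) (h : ∀ g : G, cj g S ≠ T) :
    Nat.Coprime (Nat.card (typeCore S)) (Nat.card (typeCore T)) :=
  (t16_E_primes hG).2 S T hS hT fun g => (h g).symm

theorem coprime_fcore (hG : IsMinSimpleOddOrder G) {S T : Subgroup G} (hS : IsCoatom S)
    (hT : IsCoatom T) (h : ∀ g : G, cj g S ≠ T) :
    Nat.Coprime (Nat.card (fittingHallOf S)) (Nat.card (fittingHallOf T)) :=
  ((coprime_typeCore hG hS hT h).coprime_dvd_left
    (Subgroup.card_dvd_of_le (fcore_le_typeCore hG hS))).coprime_dvd_right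
    (Subgroup.card_dvd_of_le (fcore_le_typeCore hG hT))

/-- (8.17.b) -/
theorem t8_17b (hG : IsMinSimpleOddOrder G) (hM : IsCoatom M) :
    (tildeOf M (typeA1 M)).ncard = (Nat.card (typeCore M) - 1) * M.index := t16_E_card hG hM

/-- (8.17.c) -/
theorem disjoint_tildeA1 (hG : IsMinSimpleOddOrder G) {S T : Subgroup G} (hS : IsCoatom S)
    (hT : IsCoatom T) (h : ∀ g : G, cj g S ≠ T) :
    Disjoint (tildeOf S (typeA1 S)) (tildeOf T (typeA1 T)) :=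
  t16_E_disjoint hG hS hT fun g => (h g).symm

/-- (8.17.c1) -/
theorem t8_17c1 (hG : IsMinSimpleOddOrder G) (h : ∀ M : Subgroup G, IsCoatom M → TypeI M)
    {g : G} (hg : g ≠ 1) : ∃ M : Subgroup G, IsCoatom M ∧ g ∈ tildeOf M (typeA1 M) :=
  t16_E_cover_typeI hG h hg

/-- (8.17.c2) -/
theorem PCtx.t8_17c2 (c : PCtx M W₁ U W₂) {g : G} (hg : g ≠ 1) :
    (∃ N : Subgroup G, IsCoatom N ∧ g ∈ tildeOf N (typeA1 N)) ∨
      g ∈ cycVConj W₁.subtype W₂.subtype :=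
  c.cycVConj_eq ▸ t16_E_cover_typeP c.hG c.hM c.hP hg

/-- (8.17.c2) -/
theorem PCtx.disjoint_V_tildeA1 (c : PCtx M W₁ U W₂) {N : Subgroup G} (hN : IsCoatom N) :
    Disjoint (cycVConj W₁.subtype W₂.subtype) (tildeOf N (typeA1 N)) :=
  c.cycVConj_eq ▸ t16_E_disjoint_zhat c.hG c.hM c.hP hN

omit [Finite G] in
theorem subset_tildeOf (M : Subgroup G) (A : Set G) : A ⊆ tildeOf M A :=
  fun a ha => ⟨a, ha, 1, one_mem _, 1, by group⟩

omit [Finite G] in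
theorem tildeOf_mono (M : Subgroup G) {A B : Set G} (h : A ⊆ B) : tildeOf M A ⊆ tildeOf M B :=
  fun _ ⟨a, ha, r⟩ => ⟨a, h ha, r⟩

omit [Finite G] in
theorem conj_mem_tildeOf {A : Set G} {x : G} (hx : x ∈ tildeOf M A) (g : G) :
    g * x * g⁻¹ ∈ tildeOf M A := by
  obtain ⟨a, ha, r, hr, y, rfl⟩ := hx
  exact ⟨a, ha, r, hr, g * y, by group⟩

theorem PCtx.cycV_subset_typeA0 (c : PCtx M W₁ U W₂) :
    cycV W₁.subtype W₂.subtype ⊆ typeA0 M := fun v hv => by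
  rw [c.typeA0_eq]
  exact Or.inr (c.mem_image_cycVConj.2 ⟨1, one_mem _, v, hv, by group⟩)

theorem PCtx.not_mem_der_of_mem_cycV (c : PCtx M W₁ U W₂) {v : G}
    (hv : v ∈ cycV W₁.subtype W₂.subtype) : v ∉ ⁅M, M⁆ := by
  obtain ⟨x, y, hx, -, rfl⟩ := hv
  intro h
  have hy : (y : G) ∈ ⁅M, M⁆ := c.sdp_core.left_le (c.W₂_le_core y.2)
  have h1 : (x : G) ∈ ⁅M, M⁆ ⊓ W₁ := ⟨(Subgroup.mul_mem_cancel_right _ hy).1 h, x.2⟩
  rw [c.sdp_der.disj] at h1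
  exact hx (Subtype.ext h1)

/-- `Ã(M) ∩ V^G = ∅` -/
theorem PCtx.disjoint_V_tildeA (c : PCtx M W₁ U W₂) :
    Disjoint (cycVConj W₁.subtype W₂.subtype) (tildeOf M (typeA M)) := by
  rw [Set.disjoint_left]
  rintro _ ⟨m, v, hv, rfl⟩ ⟨a, ha, r, hr, y, e⟩
  obtain ⟨x, hx, e'⟩ := Dade.exists_conj_L c.dadeA0 (typeA_subset_typeA0 M ha)
    (c.cycV_subset_typeA0 hv) hr (one_mem _) (g := m⁻¹ * y) (by
      rw [mul_one]
      calc m⁻¹ * y * (a * r) * (m⁻¹ * y)⁻¹ = m⁻¹ * (y * (a * r) * y⁻¹) * m := by group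
        _ = v := by rw [← e]; group)
  exact c.not_mem_der_of_mem_cycV hv (c.mem_typeA.1 (e' ▸ conj_mem_typeA hx ha)).1

/-- `Ã₀(M) = Ã(M) ∪ V^G` -/
theorem PCtx.tildeA0_eq (c : PCtx M W₁ U W₂) :
    tildeOf M (typeA0 M) = tildeOf M (typeA M) ∪ cycVConj W₁.subtype W₂.subtype := by
  refine Set.Subset.antisymm ?_ (Set.union_subset (tildeOf_mono M (typeA_subset_typeA0 M)) ?_)
  · rintro _ ⟨a, ha, r, hr, y, rfl⟩
    by_cases haA : a ∈ typeA M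
    · exact Or.inl ⟨a, haA, r, hr, y, rfl⟩
    · rw [supportR_eq_bot (ftA0_cent1_le c.hG c.hM (c.ftA0_eq ▸ ha)
        fun h => haA (typeA1_subset_typeA c.hG c.hM h)), Subgroup.mem_bot] at hr
      rw [c.typeA0_eq] at ha
      obtain ⟨m, -, v, hv, rfl⟩ := c.mem_image_cycVConj.1 (ha.resolve_left haA)
      exact Or.inr ⟨y * m, v, hv, by rw [hr]; group⟩
  · rintro _ ⟨m, v, hv, rfl⟩
    exact conj_mem_tildeOf (subset_tildeOf M _ (c.cycV_subset_typeA0 hv)) m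

/-- An element of order prime to the normal factor lies in a complement. -/
theorem exists_sdp_mem {K L : Subgroup G} (h : SDP K U L) {x : G} (hx : x ∈ L)
    (hsol : Group.IsSolvable K) (hcop : (Nat.card K).Coprime (orderOf x)) :
    ∃ V, SDP K V L ∧ x ∈ V := by
  obtain ⟨g, hg, e⟩ := CL.Hall.exists_conj_le_of_le_sup (K := Subgroup.zpowers x) h.norm (Or.inl hsol)
    (by rwa [Nat.card_zpowers]) (disjoint_iff.2 h.disj)
    (by rw [h.sup]; exact Subgroup.zpowers_le.2 hx)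
  rw [← cj_eq_smul, cj_le_iff_le_cj_inv] at e
  exact ⟨_, h.cj_right (inv_mem (h.left_le hg)), e (Subgroup.mem_zpowers x)⟩

omit [Finite G] in
theorem pow_mem_ftA {a : G} (ha : a ∈ ftA M) {k : ℕ} (hk : a ^ k ≠ 1) : a ^ k ∈ ftA M := by
  unfold ftA at ha ⊢
  split_ifs at ha ⊢
  all_goals
    obtain ⟨h1, -, x, hx, hx1, hc⟩ := ha
    exact ⟨pow_mem h1 k, hk, x, hx, hx1, (Commute.pow_left hc k).eq⟩

/-- (8.12.b) for an element of `A(M)` of order prime to `|M_s|` -/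
theorem uniqMax_of_mem_ftA (hG : IsMinSimpleOddOrder G) (hM : IsCoatom M) {x : G}
    (hx : x ∈ ftA M) (hcop : (Nat.card (typeCore M)).Coprime (orderOf x)) : UniqMax 𝐂₁(x) M := by
  have hx1 : x ≠ 1 := (ftA0_subset M (ftA_subset_ftA0 M hx)).2
  have hsol : Group.IsSolvable (fittingHallOf M) := by
    have := fcore_nilpotent M
    infer_instance
  have hcop' := hcop.coprime_dvd_left (Subgroup.card_dvd_of_le (fcore_le_typeCore hG hM))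
  have key : ∀ V : Subgroup G, x ∈ V → ((TypeI M ∧ SDP (fittingHallOf M) V M) ∨
      (IsOfTypeII M ∧ SDP (fittingHallOf M) V ⁅M, M⁆)) →
      (∃ y ∈ fittingHallOf M, y ≠ 1 ∧ x * y = y * x) → UniqMax 𝐂₁(x) M := by
    rintro V hV h ⟨y, hy, hy1, hc⟩
    refine (t16_typeI_II_facts hG hM h).2.1 {x} (Set.singleton_subset_iff.2 ⟨hV, hx1⟩)
      (Set.singleton_nonempty x) fun e => hy1 ?_
    have : y ∈ fittingHallOf M ⊓ 𝐂₁(x) := ⟨hy, mem_cent1.2 hc.symm⟩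
    rwa [e] at this
  by_cases hI : TypeI M
  · obtain ⟨h1, -, h2⟩ := (mem_ftA_of_typeI hI).1 hx
    obtain ⟨E, hE⟩ := exists_sdp_of_isHall (fcore_isHall M) (fcore_normal M).norm
    obtain ⟨V, hV, hxV⟩ := exists_sdp_mem hE h1 hsol hcop'
    exact key V hxV (Or.inl ⟨hI, hV⟩) h2
  · obtain ⟨W₁, U, W₂, c⟩ := exists_pctxW hG hM hI
    rw [c.ftA_eq] at hx
    obtain ⟨h1, -, h2⟩ := c.mem_typeA.1 hx
    by_cases hII : IsOfTypeII M
    · obtain ⟨V, hV, hxV⟩ := exists_sdp_mem c.sdp_core h1 hsol hcop'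
      exact key V hxV (Or.inr ⟨hII, hV⟩) (typeCore_of_typeII hG hM hII ▸ h2)
    · rw [← c.typeCore_eq_der hII] at h1
      exact absurd (orderOf_eq_one_iff.1 (Nat.Coprime.eq_one_of_dvd hcop.symm
        (Subgroup.orderOf_dvd_natCard _ h1))) hx1

theorem t8_18a_aux (hG : IsMinSimpleOddOrder G) {S T : Subgroup G} (hS : IsCoatom S)
    (hT : IsCoatom T) (h : ∀ g : G, cj g T ≠ S) {x : G} (hx : x ∈ typeA1 S ∩ ftA T) :
    UniqMax 𝐂₁(x) T :=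
  uniqMax_of_mem_ftA hG hT hx.2 ((coprime_typeCore hG hT hS h).coprime_dvd_right
    (Subgroup.orderOf_dvd_natCard _ (mem_typeA1.1 hx.1).1))

/-- (8.18.a) -/
theorem t8_18aW (hG : IsMinSimpleOddOrder G) {S T : Subgroup G} (hS : IsCoatom S) (hT : IsCoatom T)
    (h : ∀ g : G, cj g T ≠ S) :
    (FtSupports T S ↔ (typeA1 S ∩ ftA T).Nonempty) ∧
      ∀ x ∈ typeA1 S ∩ ftA T, ¬ 𝐂₁(x) ≤ S ∧ 𝐂₁(x) ≤ T := by
  have h2 : ∀ x ∈ typeA1 S ∩ ftA T, ¬ 𝐂₁(x) ≤ S ∧ 𝐂₁(x) ≤ T := fun x hx =>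
    have u := t8_18a_aux hG hS hT h hx
    ⟨fun e => h 1 (by rw [cj_one, u.uniq S hS e]), u.le⟩
  refine ⟨⟨?_, ?_⟩, h2⟩
  · rintro ⟨-, x, hx, h1, h3⟩
    have := t16_II hG hS hx h1 hT h3
    exact ⟨x, this.memA1, this.memA⟩
  · rintro ⟨x, hx⟩
    exact ⟨hT, x, ftA_subset_ftA0 S (typeA1_subset_ftA hG hS hx.1), h2 x hx⟩

omit [Finite G] in
theorem cj_cj_ne {S T : Subgroup G} (h : ∀ g : G, cj g T ≠ S) (g : G) :
    ∀ g' : G, cj g' (cj g T) ≠ S := fun g' => by rw [cj_cj]; exact h _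

omit [Finite G] in
theorem cj_ne_symm {S T : Subgroup G} (h : ∀ g : G, cj g T ≠ S) : ∀ g : G, cj g S ≠ T :=
  fun g e => h g⁻¹ (by rw [← e, cj_inv_cj])

/-- (8.18.b) -/
theorem t8_18bW (hG : IsMinSimpleOddOrder G) {S T : Subgroup G} (hS : IsCoatom S) (hT : IsCoatom T)
    (h : ∀ g : G, cj g T ≠ S) :
    (∃ g : G, FtSupports (cj g T) S) ↔
      (tildeOf S (typeA1 S) ∩ tildeOf T (ftA T)).Nonempty := by
  constructor
  · rintro ⟨g, hg⟩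
    obtain ⟨y, h1, h2⟩ := (t8_18aW hG hS (isCoatom_cj g hT) (cj_cj_ne h g)).1.1 hg
    exact ⟨y, subset_tildeOf _ _ h1, tildeOf_ftA_cj g T ▸ subset_tildeOf _ _ h2⟩
  · rintro ⟨y, hy, x₂, hx₂, r₂, hr₂, z₂, e₂⟩
    have h1 : x₂ ∉ typeA1 T := fun h1 => Set.disjoint_left.1
      (disjoint_tildeA1 hG hS hT (cj_ne_symm h)) hy ⟨x₂, h1, r₂, hr₂, z₂, e₂⟩
    rw [supportR_eq_bot (ftA0_cent1_le hG hT (ftA_subset_ftA0 T hx₂) h1), Subgroup.mem_bot] at hr₂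
    obtain ⟨x₁, hx₁, r₁, hr₁, z₁, e₁⟩ := hy
    have hD := dade_typeA1 hG hS
    obtain ⟨k, hk1, hk0⟩ := Nat.chineseRemainder (hD.coprime x₁ hx₁ x₁ hx₁).symm 1 0
    have e₃ := mul_pow_eq_left_of_modEq (Dade.commute hD hx₁ hr₁) (Dade.orderOf_dvd hD hx₁)
      (Subgroup.orderOf_dvd_natCard _ hr₁) hk1 hk0
    have e₄ : x₁ * r₁ = (z₁⁻¹ * z₂) * x₂ * (z₁⁻¹ * z₂)⁻¹ := by
      calc x₁ * r₁ = z₁⁻¹ * (z₁ * (x₁ * r₁) * z₁⁻¹) * z₁ := by group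
        _ = _ := by rw [← e₁, e₂, hr₂]; group
    refine ⟨z₁⁻¹ * z₂, (t8_18aW hG hS (isCoatom_cj _ hT) (cj_cj_ne h _)).1.2 ⟨x₁, hx₁, ?_⟩⟩
    rw [← e₃]
    exact pow_mem_ftA (e₄ ▸ mem_ftA_cj.2 hx₂) (e₃.symm ▸ (mem_typeA1.1 hx₁).2)

/-- (8.18.c) -/
theorem t8_18cW (hG : IsMinSimpleOddOrder G) {S T : Subgroup G} (hS : IsCoatom S) (hT : IsCoatom T)
    (h : ∀ g : G, cj g T ≠ S) :
    Disjoint (tildeOf S (typeA1 S)) (tildeOf T (ftA T)) ∨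
      Disjoint (tildeOf T (typeA1 T)) (tildeOf S (ftA S)) := by
  by_contra hn
  rw [not_or, Set.not_disjoint_iff_nonempty_inter, Set.not_disjoint_iff_nonempty_inter,
    ← t8_18bW hG hS hT h, ← t8_18bW hG hT hS (cj_ne_symm h)] at hn
  obtain ⟨⟨g, hTg, x, hx, h1, h2⟩, g', hg'⟩ := hn
  have ctx := t16_II hG hS hx h1 hTg h2
  obtain ⟨y, hy1, hy2⟩ := (t8_18aW hG hT (isCoatom_cj g' hS) (cj_cj_ne (cj_ne_symm h) g')).1.1 hg'
  have hy3 : g'⁻¹ * y * g' ∈ ftA S := (mem_ftA_cj (g := g')).1 (by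
    rwa [show g' * (g'⁻¹ * y * g') * g'⁻¹ = y by group])
  have hc := ctx.coprime _ (ftA_subset_ftA0 S hy3)
  have hcore : typeCore (cj g T) = fittingHallOf (cj g T) :=
    ctx.type_cases.elim (typeCore_of_wtypeI hG hTg) (typeCore_of_typeII hG hTg)
  rw [← hcore, typeCore_cj, card_cj] at hc
  have d1 : orderOf y ∣ Nat.card (typeCore T) :=
    Subgroup.orderOf_dvd_natCard _ (mem_typeA1.1 hy1).1
  have d2 : orderOf (g'⁻¹ * y * g') ∣ Nat.card ↥(S ⊓ 𝐂₁(g'⁻¹ * y * g')) :=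
    Subgroup.orderOf_dvd_natCard _ ⟨(ftA0_subset S (ftA_subset_ftA0 S hy3)).1, mem_cent1_self _⟩
  have e : orderOf (g'⁻¹ * y * g') = orderOf y :=
    SemiconjBy.orderOf_eq g' (by rw [SemiconjBy]; group)
  rw [e] at d2
  exact (mem_typeA1.1 hy1).2 (orderOf_eq_one_iff.1 (Nat.eq_one_of_dvd_coprimes hc d1 d2))

/-- (8.13.c) for a support,
"if `L` supports `M` and `L` is of type II then `M` is Frobenius" -/
theorem ftSupports_facts (hG : IsMinSimpleOddOrder G) (hM : IsCoatom M) {L : Subgroup G}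
    (h : FtSupports L M) :
    (TypeI L ∨ IsOfTypeII L) ∧ (IsOfTypeII L → FrobKer (fittingHall M)) ∧
      SDP (fittingHallOf L) (M ⊓ L) L ∧ (typeA1 M ∩ ftA L).Nonempty := by
  obtain ⟨hL, x, hx, h1, h2⟩ := h
  have ctx := t16_II hG hM hx h1 hL h2
  refine ⟨ctx.type_cases, fun hII => ?_, ctx.sdpL, x, ctx.memA1, ctx.memA⟩
  obtain ⟨-, -, E, -, hE⟩ := ctx.typeII hII
  exact (frobKer_fcore_iff_frob hG hM).2 ⟨E, hE⟩

end CL.PF
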