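import Cfsg.Agent.PF.P12_6
import Cfsg.Agent.PF.T8_Cover

/-!
# Peterfalvi (12.6), (12.17) in a minimal simple group of odd order
-/

set_option autoImplicit false

namespace CL.PF

open Cfsg CL.BG

section
variable {G : Type*} [Group G] [Fintype G] {L : Subgroup G} [Fintype L]

omit [Fintype L] in
theorem p12_hyp76 (hG : IsMinSimpleOddOrder G) (hL : IsCoatom L) (h : FrobKer (fittingHall L)) :
    Hyp76 L (fittingHall L) ((fittingHallOf L : Set G) \ {1}) (typeA0 L) (supportR L) := by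
  have hD := dade_ftA0 hG hL
  rw [ftA0_eq_of_isOfTypeI (typeI_of_frob hG hL h)] at hD
  exact Hyp76.of_map hD h.normal (typeA_of_frob hG hL h).1.ge

theorem p12_cohBase (hG : IsMinSimpleOddOrder G) (hL : IsCoatom L) (h : FrobKer (fittingHall L)) :
    (∀ χ ∈ inducedIrrAbove (fittingHall L) ⊥, IsIrrCharacter L χ) ∧
      ∃ B : (L → ℂ) → Finset (G → ℂ),
        IsCoherenceSystem (inducedIrrAbove (fittingHall L) ⊥) (ftTau L) B :=
  ⟨fun _ hχ => h.irr_of_mem (by rwa [inducedIrrAbove_bot_eq_seqIndD] at hχ),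
    (p12_hyp76 hG hL h).frob_cohBase (odd_card_of_coatom hG L) h⟩

/-- (12.6) -/
theorem p12_6 (hG : IsMinSimpleOddOrder G) (hL : IsCoatom L) (h : FrobKer (fittingHall L)) :
    IsCoherent (inducedIrrAbove (fittingHall L) ⊥) {1}ᶜ (ftTau L) :=
  frob_coherent_of_typeI (p12_hyp76 hG hL h).dade₀ (odd_card_of_coatom hG L)
    (p12_hyp76 hG hL h).subset (norm_fcore hG hL) (typeI_of_isOfTypeI (typeI_of_frob hG hL h)) h

end

/-- (12.17), given (12.7) -/
theorem p12_17 {G : Type*} [Group G] [Finite G] (hG : IsMinSimpleOddOrder G)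
    (h7 : ∀ M : Subgroup G, IsCoatom M → TypeI M → FrobKer (fittingHall M)) :
    ∃ M : Subgroup G, IsCoatom M ∧ ¬ TypeI M := by
  by_contra hall
  have hI : ∀ M : Subgroup G, IsCoatom M → TypeI M := fun M hM => by
    by_contra h
    exact hall ⟨M, hM, h⟩
  have hF : ∀ M : Subgroup G, IsCoatom M → FrobKer (fittingHall M) := fun M hM =>
    h7 M hM (hI M hM)
  have hC : ∀ M : Subgroup G, IsCoatom M → ∀ x ∈ ftA0 M, 𝐂₁(x) ≤ M := fun M hM x hx => by
    by_contra hc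
    obtain ⟨L, hL⟩ := t16_II_ex hG hM hx hc
    have hLm : IsCoatom L := hL.uniq.1
    refine hL.notMemA1 ?_
    rw [(typeA_of_frob hG hLm (hF L hLm)).2.2, ← (ftA_of_frob hG hLm (hF L hLm)).2]
    exact hL.memA
  have hTI : ∀ M : Subgroup G, IsCoatom M → IsTISubset (fittingHallOf M : Set G) := fun M hM => by
    obtain ⟨x, hx, hx1⟩ := exists_mem_ne_one_of_ne_bot (fcore_ne_bot hG hM)
    have e := (ftA_of_frob hG hM (hF M hM)).1
    have := ftA0_normedTI hG hM (A := ftA0 M) subset_rfl ⟨x, e ▸ ⟨hx, hx1⟩⟩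
      (fun _ hx _ ha => conj_mem_ftA0 hx ha) (hC M hM)
    rw [e] at this
    exact ((normedTI_sharp_iff_isTISubset (fcore_ne_bot hG hM)).1 this).1
  let s : Setoid {M : Subgroup G // IsCoatom M} :=
    { r := fun M N => ∃ g : G, cj g M.1 = N.1
      iseqv := ⟨fun M => ⟨1, cj_one _⟩,
        fun ⟨g, hg⟩ => ⟨g⁻¹, by rw [← hg, cj_inv_cj]⟩,
        fun ⟨g, hg⟩ ⟨k, hk⟩ => ⟨k * g, by rw [← hk, ← hg, cj_cj]⟩⟩ }
  obtain ⟨M₀, hM₀⟩ := mmax_any hG
  haveI : Nonempty (Quotient s) := ⟨Quotient.mk s ⟨M₀, hM₀⟩⟩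
  refine t7_11 hG.1 (ι := Quotient s) (fun i => i.out.1) (fun i => fittingHallOf i.out.1)
    (fun i => fcore_le _) (fun i => by rw [fcore_subgroupOf]; exact hF _ i.out.2)
    (fun i => fcore_nilpotent _)
    (fun i j hij => coprime_fcore hG i.out.2 j.out.2 fun g hg =>
      hij (Quotient.out_equiv_out.1 ⟨g, hg⟩))
    (fun i => hTI _ i.out.2) (fun i => norm_fcore hG i.out.2) fun g hg => ?_
  obtain ⟨M, hM, a, ha, r, hr, y, rfl⟩ := t8_17c1 hG hI hg
  have ha0 : a ∈ ftA0 M := ftA_subset_ftA0 M (typeA1_subset_ftA hG hM ha)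
  rw [supportR_eq_bot (hC M hM a ha0), Subgroup.mem_bot] at hr
  subst hr
  obtain ⟨k, hk⟩ := s.symm (Quotient.mk_out (s := s) ⟨M, hM⟩)
  refine ⟨Quotient.mk s ⟨M, hM⟩, k * y⁻¹, ?_⟩
  rw [(ftA_of_frob hG hM (hF M hM)).1] at ha0
  change _ ∈ fittingHallOf _
  rw [← hk, ← cj_fcore]
  have e : k * y⁻¹ * (y * (a * 1) * y⁻¹) * (k * y⁻¹)⁻¹ = k * a * k⁻¹ := by group
  rw [e]
  exact conj_mem_cj.2 ha0.1

end CL.PF
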