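import Cfsg.Agent.PF.SevenD
import Cfsg.Agent.PF.SeqInd
import Cfsg.Agent.BG.T3_9
import Cfsg.Agent.BG.Fcore
import Cfsg.Agent.BG.A16_Defs
import Cfsg.Agent.S1521

/-!
# Peterfalvi (12.6), for an arbitrary Dade map defined on the Frobenius kernel
-/

set_option autoImplicit false

namespace CL.PF

open Cfsg CL.BG

/-- the complement of a Frobenius group of odd order is a Z-group -/
theorem FrobKer.exponent_quot {L : Type*} [Group L] [Finite L] {K : Subgroup L} [K.Normal]
    (h : FrobKer K) (hodd : Odd (Nat.card L)) : Monoid.exponent (L ⧸ K) = K.index := by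
  obtain ⟨E, hE, -, hfpf⟩ := h.exists_compl
  have hZ : IsZGroup E := t3_9_zgroup (H := K) (hodd.of_dvd_nat E.card_subgroup_dvd_card) h.ne_bot
    (by rw [Subgroup.normalizer_eq_top]; exact le_top)
    (semiregular_iff.2 fun a ha k hk hc => by
      by_cases e : a = 1
      · exact Or.inl e
      · exact Or.inr (hfpf a ha e k hk hc))
  rw [Monoid.exponent_eq_of_mulEquiv hE.symm.QuotientMulEquiv, IsZGroup.exponent_eq_card,
    hE.symm.index_eq_card]

variable {G : Type*} [Group G] [Fintype G] {L : Subgroup G} [Fintype L] {A A₀ : Set G}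
  {R : G → Subgroup G}

/-- (5.3.a) for the characters induced from a Frobenius kernel -/
theorem Hyp76.frob_cohBase {K : Subgroup L} (h : Hyp76 L K A A₀ R) (hodd : Odd (Nat.card L))
    (hF : FrobKer K) : ∃ B : (L → ℂ) → Finset (G → ℂ),
      IsCoherenceSystem (inducedIrrAbove K ⊥) (dadeIsometry A₀ L R) B := by
  haveI := hF.normal
  rw [inducedIrrAbove_bot_eq_seqIndD]
  exact irr_subcoherent (seqIndD_nonempty le_rfl fun e => hF.ne_bot (le_bot_iff.1 e))
    (fun _ => hF.irr_of_mem) (fun _ => SeqSelf.conj_mem)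
    (fun _ hχ => SeqSelf.conj_ne hodd hχ (hF.irr_of_mem hχ)) h.iso
    (fun α _ => Dade.apply_one h.dade₀ α)

/-- (6.5) for a Frobenius group -/
theorem Hyp76.frob_coherent {K : Subgroup L} (h : Hyp76 L K A A₀ R) (hodd : Odd (Nat.card L))
    (hF : FrobKer K) (hnil : Group.IsNilpotent K)
    (hc : IsMulCommutative K ∨ ∀ p : ℕ, p.Prime → p ∣ Nat.card K → K.index ∣ p - 1) :
    IsCoherent (inducedIrrAbove K ⊥) {1}ᶜ (dadeIsometry A₀ L R) := by
  haveI := hF.normal
  obtain ⟨B, hB⟩ := h.frob_cohBase hodd hF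
  have hs : Group.IsSolvable K := inferInstance
  have hlt := commutator_sup_lt hs (bot_lt_iff_ne_bot.2 hF.ne_bot)
  refine Cfsg.Agent.S1521.result K hs _ B hB hodd ⊥ bot_le inferInstance _ rfl hlt
    (lt_top_iff_ne_top.2 hF.ne_top)
    ((fpfMod_bot_iff.2 hF.cent_le).of_le (N' := ⁅K, K⁆ ⊔ ⊥) bot_le hlt.le) ?_
  rcases hc with hc | hc
  · refine Or.inr (Or.inr (Or.inr (Or.inl ?_)))
    rw [le_bot_iff, Subgroup.commutator_eq_bot_iff_le_centralizer]
    exact Subgroup.le_centralizer K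
  · by_cases hp : ∃ p m : ℕ, p.Prime ∧ (⊥ : Subgroup L).relIndex K = p ^ m
    · obtain ⟨p, m, hp, hm⟩ := hp
      refine Or.inr (Or.inr (Or.inr (Or.inr ⟨p, m, hp, hm, hc p hp ?_⟩)))
      rw [Subgroup.relIndex_bot_left] at hm
      have := hF.one_lt_card
      rw [hm] at this ⊢
      exact dvd_pow_self p fun e => by simp [e] at this
    · exact Or.inr (Or.inr (Or.inl hp))

/-- (6.8) for a Frobenius group with a TI kernel -/
theorem Hyp76.frob_coherent_TI {H : Subgroup G} (h : Hyp76 L (H.subgroupOf L) A A₀ R)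
    (hodd : Odd (Nat.card L)) (hHL : H ≤ L) (hF : FrobKer (H.subgroupOf L))
    (hnil : Group.IsNilpotent H) (hTI : IsTISubset (H : Set G))
    (hN : Subgroup.normalizer (H : Set G) = L) :
    IsCoherent (inducedIrrAbove (H.subgroupOf L) ⊥) {1}ᶜ (dadeIsometry A₀ L R) := by
  obtain ⟨ν, ζ, h78⟩ := exists_hyp78_of_TI hodd hHL hF hnil hTI hN
  obtain ⟨B, hB⟩ := h.frob_cohBase hodd hF
  have hA : A = (H : Set G) \ {1} := by
    ext x
    constructor
    · intro hx
      have := (h.mem_iff ⟨x, h.dade₀.subset (h.subset hx)⟩).1 hx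
      exact ⟨this.1, fun e => this.2 (Subtype.ext e)⟩
    · intro hx
      exact (h.mem_iff ⟨x, hHL hx.1⟩).2 ⟨hx.1, fun e => hx.2 (congrArg Subtype.val e)⟩
  subst hA
  rw [inducedIrrAbove_bot_eq_seqIndD] at hB ⊢
  refine subcoh_isCoherent hB (subcoh_conjSub hB) hB.nonempty (h78.coh.congr_tau fun α hα => ?_)
  have hc := classFun_of_mem_zspan (fun _ => SeqSelf.classFun) hα.1
  rw [h.tau_eq hc (h.supp_zspanOn hα)]
  exact Dade.dade_eq_of_H h78.dade₀ h.dade hc

/-- (12.6) -/
theorem frob_coherent_of_typeI (hD : DadeHypothesis A₀ L R) (hodd : Odd (Nat.card L))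
    (hA : (fittingHallOf L : Set G) \ {1} ⊆ A₀) (hN : 𝐍(fittingHallOf L) = L) (hI : TypeI L)
    (hF : FrobKer (fittingHall L)) :
    IsCoherent (inducedIrrAbove (fittingHall L) ⊥) {1}ᶜ (dadeIsometry A₀ L R) := by
  have hF' : FrobKer ((fittingHallOf L).subgroupOf L) := by rwa [fcore_subgroupOf]
  have h := Hyp76.of_le hD hF'.normal hA
  rcases hI.2 with hTI | hab | hexp
  · rw [← fcore_subgroupOf]
    exact h.frob_coherent_TI hodd (fcore_le L) hF' (fcore_nilpotent L) hTI hN
  · rw [fcore_subgroupOf] at h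
    refine h.frob_coherent hodd hF (fittingHall_nilpotent L) (Or.inl ⟨⟨fun a b => ?_⟩⟩)
    have := hab.1.is_comm.comm ⟨a, mem_fcore_iff.2 a.2⟩ ⟨b, mem_fcore_iff.2 b.2⟩
    have e : ((a : L) : G) * (b : L) = ((b : L) : G) * (a : L) := congrArg Subtype.val this
    exact Subtype.ext (Subtype.ext e)
  · rw [fcore_subgroupOf] at h
    refine h.frob_coherent hodd hF (fittingHall_nilpotent L) (Or.inr fun p hp hd => ?_)
    rw [← hF.exponent_quot hodd]
    exact hexp.1 p hp (by rwa [card_fcore])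

end CL.PF
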