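import Cfsg.Agent.PF.T10
import Cfsg.Agent.PF.P11_A
import Cfsg.Agent.PF.P11_9

/-! Exports of Peterfalvi section 11.  Owner: helper55 (helper91). -/

set_option autoImplicit false

namespace CL.PF

open Cfsg CL.BG

variable {G : Type*} [Group G] [Fintype G] {M W₁ U W₂ : Subgroup G}

/-- (11.7) -/
theorem PCtx.t11_7 (c : PCtx M W₁ U W₂) (h : ¬ IsOfTypeII M) :
    IsElementaryAbelian (Nat.card W₂) (fittingHallOf M) ∧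
      Nat.card (fittingHallOf M) = Nat.card W₂ ^ Nat.card W₁ ∧
      Hyp95 (fittingHall M) (U.subgroupOf M) ⊥ c.f₁ c.f₂ := by
  obtain ⟨B, hB, -⟩ := c.cohBaseD h
  obtain ⟨h1, h2, h3⟩ := (c.hyp92 c.U_ne_bot).t11_7 (c.prime_W₂ h) hB (c.t10_8 h)
  refine ⟨⟨comm_map h1.1 M.subtype, ?_⟩, ?_, h3⟩
  · rintro _ ⟨a, ha, rfl⟩
    rw [← map_pow, h1.2 a ha, map_one]
  · rw [← h2]
    exact card_map_subtype' _

/-- (11.3) (by (11.7), `H₀ = 1`) -/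
theorem PCtx.t11_3 (c : PCtx M W₁ U W₂) (h : ¬ IsOfTypeII M) :
    ¬ IsCoherent (inducedIrrAbove (commutator M) (cOf (fittingHall M) (U.subgroupOf M) ⊥))
      {1}ᶜ (ftTau M) := by
  obtain ⟨B, hB, -⟩ := c.cohBaseD h
  exact (c.t11_7 h).2.2.t11_3_bot (c.prime_W₂ h) hB (c.t10_8 h)

/-- (11.5), (11.6) inside `M` -/
theorem PCtx.t11_5' (c : PCtx M W₁ U W₂) (h : ¬ IsOfTypeII M) :
    ⁅commutator M, commutator M⁆ = fittingHall M ⊔ cOf (fittingHall M) (U.subgroupOf M) ⊥ ∧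
      cOf (fittingHall M) (U.subgroupOf M) ⊥ = ⁅U.subgroupOf M, U.subgroupOf M⁆ := by
  obtain ⟨B, hB, -⟩ := c.cohBaseD h
  exact ⟨(c.t11_7 h).2.2.t11_5 (c.prime_W₂ h) hB (c.t10_8 h),
    (c.t11_7 h).2.2.cOf_eq_der (c.prime_W₂ h) hB (c.t10_8 h)⟩

/-- (11.5), (11.6) -/
theorem PCtx.t11_5 (c : PCtx M W₁ U W₂) (h : ¬ IsOfTypeII M) :
    ⁅⁅M, M⁆, ⁅M, M⁆⁆ = fittingHallOf M ⊔ (U ⊓ 𝐂(fittingHallOf M)) ∧
      U ⊓ 𝐂(fittingHallOf M) = ⁅U, U⁆ := by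
  obtain ⟨h1, h2⟩ := c.t11_5' h
  rw [c.cOf_bot] at h1 h2
  have h3 := congrArg (Subgroup.map M.subtype) h1
  have h4 := congrArg (Subgroup.map M.subtype) h2
  rw [Subgroup.map_commutator, map_commutator_subtype, Subgroup.map_sup,
    Subgroup.map_subgroupOf_eq_of_le (inf_le_left.trans c.U_le)] at h3
  rw [Subgroup.map_commutator, Subgroup.map_subgroupOf_eq_of_le (inf_le_left.trans c.U_le),
    Subgroup.map_subgroupOf_eq_of_le c.U_le] at h4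
  exact ⟨h3, h4⟩

/-- (11.9.b), (11.9.c) -/
theorem PCtx.t11_9 (c : PCtx M W₁ U W₂) (h : ¬ IsOfTypeII M) :
    Nat.card W₂ < Nat.card W₁ ∧ IsOfTypeIII M ∧ PGalois M U ∧ IsCyclic U ∧
      U ⊓ 𝐂(fittingHallOf M) = ⊥ :=
  (c.p11_9 h (c.t11_5 h) (c.t11_7 h).2.2 (c.t11_3 h)).1

/-- (11.9.a) (by (11.9.c), `C = 1` and `S(HC) = S(H)`) -/
theorem PCtx.t11_9a (c : PCtx M W₁ U W₂) (h : ¬ IsOfTypeII M) {ζ : M → ℂ}
    (hζ : ζ ∈ inducedIrrAbove (commutator M) (fittingHall M)) :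
    IsIrrCharacter M ζ ∧ ζ 1 = (Nat.card W₁ : ℂ) ∧ OrthEta W₁.subtype W₂.subtype
      (ftTau M (muCol c.f₁ c.f₂ 1 - ζ) - etaRow W₁.subtype W₂.subtype 1) :=
  (c.p11_9 h (c.t11_5 h) (c.t11_7 h).2.2 (c.t11_3 h)).2 ζ hζ

end CL.PF
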