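import Cfsg.Agent.PF.A12_Hyp
import Cfsg.Agent.PF.P12_17
import Cfsg.Agent.PF.T11

/-!
# Peterfalvi (12.7) to (12.16)
-/

set_option autoImplicit false

namespace CL.PF

open Cfsg CL.BG

variable {G : Type*} [Group G] {M L N A : Subgroup G} {p : ℕ} {x : G}

theorem p12_hyp12 [Finite G] [Fintype M] (hG : IsMinSimpleOddOrder G) (hM : IsCoatom M)
    (hI : TypeI M) : Hyp12 M (fittingHall M) (typeA1 M) (ftA M) (supportR M) :=
  hyp12_of_typeI hI (dade_ftA hG hM) fun _ ha ha1 =>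
    supportR_eq_bot (ftA0_cent1_le hG hM (ftA_subset_ftA0 M ha) ha1)

/-- Hypothesis (12.8) and the conclusions of (12.9) -/
structure Ctx12 (p : ℕ) (M A L : Subgroup G) (x : G) : Prop where
  hG : IsMinSimpleOddOrder G
  hp : p.Prime
  hM : IsCoatom M
  hI : TypeI M
  hK : ¬ p ∣ Nat.card (fittingHallOf M)
  hA : ElemN p 2 M A
  rk : pRank p M ≤ 2
  fpf : ∃ a ∈ A, a ≠ 1 ∧ fittingHallOf M ⊓ 𝐂₁(a) = ⊥
  hL : IsCoatom L
  le : A ≤ typeCore L
  mem : x ∈ A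
  ne : x ≠ 1
  not_le : ¬ fittingHallOf M ⊓ 𝐂₁(x) ≤ ⁅fittingHallOf M, fittingHallOf M⁆
  uniq : UniqMax 𝐂₁(x) M
  notL : ¬ 𝐂₁(x) ≤ L

/-- (12.9) -/
theorem p12_9 [Finite G] (hG : IsMinSimpleOddOrder G) (hM : IsCoatom M) (hI : TypeI M)
    (hp : p.Prime) (hK : ¬ p ∣ Nat.card (fittingHallOf M)) (hA : ElemN p 2 M A) :
    ∃ L x, Ctx12 p M A L x := by
  have := Fact.mk hp
  obtain ⟨P, hP, hAP⟩ := sylow_superset hA.isPGroup hA.le
  obtain ⟨U, hU, hPU⟩ := hall_superset (π := (primesOf (fittingHallOf M))ᶜ) (mmax_sol hG hM) hP.le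
    (piGrp_of_isPGroup hp hP.isPGroup fun h => hK h.2)
  have hs := (BG.fcore_hall M).sdp (fcore_normal M).norm hU
  obtain ⟨hab, huniq, -⟩ := t16_typeI_II_facts hG hM (Or.inl ⟨hI, hs⟩)
  obtain ⟨hc, hr⟩ := hab p P hp (hP.hall.restrict hPU hU.le)
  obtain ⟨U₁, U₀, hF⟩ := typeFWith_of_sdp hI.1 hs
  obtain ⟨a, ha, hao, hac⟩ := hF.exists_fpf hp ((hA.of_le (hAP.trans hPU)).dvd_card' two_pos) hP
  obtain ⟨L, hL, hpL⟩ := t8_17a hG hp (hA.top.dvd_card' two_pos |>.trans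
    (Subgroup.card_subgroup_dvd_card _))
  obtain ⟨Q, hQ⟩ := sylow_exists p (typeCore L)
  obtain ⟨g, -, hg⟩ := sylow_le_conj (norm_sylow_typeCore hG hL hp hQ (hQ.ne_bot_iff.2 hpL)).2
    hA.isPGroup le_top
  have hAL : A ≤ typeCore (cj g L) := by
    rw [BG.typeCore_cj]
    exact hg.trans (cj_mono g hQ.le)
  obtain ⟨x, hx, hx1, hxK⟩ : ∃ x ∈ A, x ≠ 1 ∧
      ¬ fittingHallOf M ⊓ 𝐂₁(x) ≤ ⁅fittingHallOf M, fittingHallOf M⁆ := by
    by_contra h
    push Not at h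
    exact (der_lt_of_solvable (solvable_of_nil (fcore_nilpotent M)) hF.core_ne).not_ge
      (t1_16a hA.comm (hA.not_isCyclic hp le_rfl) (hA.le.trans (fcore_normal M).norm)
        (coprime_card_mono hF.coprime le_rfl (hAP.trans hPU)) h)
  have hu : UniqMax 𝐂₁(x) M := huniq {x}
    (Set.singleton_subset_iff.2 ⟨hPU (hAP hx), hx1⟩) (Set.singleton_nonempty x)
    fun e => hxK (e.le.trans bot_le)
  refine ⟨cj g L, x, hG, hp, hM, hI, hK, hA, hP.pRank_eq hp ▸ hr, ⟨a, ?_, ?_, hac⟩,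
    mmax_cj g hL, hAL, hx, hx1, hxK, hu, fun h => hK ?_⟩
  · rw [(hA.of_le hAP).eq_omegaOne_of_comm hp hc hr]
    exact mem_omegaOne ha (hao ▸ pow_orderOf_eq_one a)
  · rintro rfl
    exact hp.one_lt.ne (by rw [← hao, orderOf_one])
  · rw [hu.uniq _ (mmax_cj g hL) h, typeCore_of_typeF hI.1] at hAL
    exact (hA.of_le hAL).dvd_card' two_pos

namespace Ctx12

variable [Fintype G]

theorem typeI (c : Ctx12 p M A L x) : TypeI L := by
  by_contra h
  obtain ⟨W₁, U, W₂, d⟩ := exists_pctxW c.hG c.hL h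
  have hAL := c.le
  refine c.notL ((d.fitting_TI d.U_ne_bot).cent1_le ⟨fcore_le_fittingOf L (?_ : x ∈ _), c.ne⟩)
  by_cases h2 : IsOfTypeII L
  · rw [typeCore_of_isOfTypeII h2] at hAL
    exact hAL c.mem
  · rw [d.typeCore_eq_der h2] at hAL
    by_cases hd : p ∣ Nat.card (fittingHallOf L)
    · exact le_fcore_of_piGrp (hAL.trans (NormalIn.der L).le) (c.hA.piGrp c.hp ⟨c.hp, hd⟩) c.mem
    · have h3 := (c.hA.of_le hAL).le_pRank c.hp
      rw [d.sdp_core.pRank_eq c.hp hd] at h3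
      exact absurd (d.t11_9 h2).2.2.2.1 (not_isCyclic_of_two_le_pRank c.hp h3)

theorem le_fcore (c : Ctx12 p M A L x) : A ≤ fittingHallOf L :=
  typeCore_of_typeF c.typeI.1 ▸ c.le

/-- (12.10) -/
theorem frob (c : Ctx12 p M A L x) (ih : ∀ q < p, q.Prime → ∀ N B : Subgroup G, IsCoatom N →
    TypeI N → ¬ q ∣ Nat.card (fittingHallOf N) → ¬ ElemN q 2 N B) :
    ∃ E : Subgroup G, Frob (fittingHallOf L) E L := by
  refine (frob_or_elemN c.typeI.1).resolve_right ?_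
  rintro ⟨q, hq, hqH, B, hB⟩
  refine ih q (c.typeI.lt_of_not_TI (fun hTI => c.notL ?_) c.hp (c.hA.of_le c.le_fcore) hq
    (hB.dvd_card' two_pos) hqH) hq L B c.hL c.typeI hqH hB
  exact ((normedTI_sharp_iff_isTISubset (fcore_ne_bot c.hG c.hL)).2
    ⟨hTI, norm_fcore c.hG c.hL⟩).cent1_le ⟨c.le_fcore c.mem, c.ne⟩

theorem supp (c : Ctx12 p M A L x) : FtSupportCtx L x M :=
  t16_II c.hG c.hL (ftA_subset_ftA0 L (typeA1_subset_ftA c.hG c.hL
    (BG.mem_typeA1.2 ⟨c.le c.mem, c.ne⟩))) c.notL c.hM c.uniq.le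

/-- (12.11) -/
theorem inf_le (c : Ctx12 p M A L x) {E : Subgroup G} (hF : Frob (fittingHallOf L) E L) :
    L ⊓ M ≤ fittingHallOf L := by
  obtain ⟨U₁, U₀, h⟩ := typeFWith_of_sdp c.hI.1 c.supp.sdpL
  obtain ⟨a, ha, -, hac⟩ := c.fpf
  refine h.le_of_frob hF (fcore_nilpotent L) rfl c.hp c.hA.isPGroup c.le_fcore c.hA.le
    (fun hc => h.core_ne ?_) c.mem c.ne fun e => c.not_le (e.le.trans bot_le)
  rw [← hac, inf_eq_left.2 (le_cent1_iff.2 (hc ha))]

omit [Fintype G] in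
theorem orderOf_eq (c : Ctx12 p M A L x) : orderOf x = p := c.hA.orderOf_eq c.hp c.mem c.ne

theorem norm_le (c : Ctx12 p M A L x) : 𝐍(Subgroup.zpowers x) ≤ M :=
  c.uniq.le_of_le (cent_zpowers x ▸ cent_le_norm _)
    (mFT_norm_ne_top c.hG (by simpa using c.ne)
      (mmax_sub_ne_top c.hM (Subgroup.zpowers_le_of_mem (c.hA.le c.mem))))

theorem disjoint (c : Ctx12 p M A L x) (hF : FrobKer (fittingHall L)) (hN : IsCoatom N)
    (h : ¬ p ∣ Nat.card (fittingHallOf N)) :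
    Disjoint (dadeSupp ((fittingHallOf L : Set G) \ {1}) (supportR L))
      (dadeSupp (typeA1 N) (supportR N)) := by
  rw [← (typeA_of_frob c.hG c.hL hF).2.2, ← tildeOf_eq_dadeSupp, ← tildeOf_eq_dadeSupp]
  refine disjoint_tildeA1 c.hG c.hL hN fun g e => h ?_
  rw [← e, ← cj_fcore, card_cj]
  exact (c.hA.of_le c.le_fcore).dvd_card' two_pos

/-- the supports of `M` -/
theorem supp_facts (c : Ctx12 p M A L x) {g : G} (h : FtSupportCtx M g N) :
    TypeI N ∧ ¬ p ∣ Nat.card (fittingHallOf N) := by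
  refine ⟨h.type_cases.resolve_right fun h2 => ?_, fun hd => c.hp.one_lt.ne' ?_⟩
  · obtain ⟨-, -, E, hE, hF⟩ := h.typeII h2
    have h3 := c.hA.le_pRank c.hp
    rw [hF.sdp.pRank_eq c.hp c.hK] at h3
    exact not_isCyclic_of_two_le_pRank c.hp h3 hE
  · refine Nat.eq_one_of_dvd_coprimes (h.coprime x (ftA_subset_ftA0 M c.supp.memA)) hd ?_
    rw [← c.orderOf_eq]
    exact orderOf_dvd_card' ⟨c.hA.le c.mem, mem_cent1_self x⟩

/-- (12.16) -/
theorem not_frob (c : Ctx12 p M A L x) {E : Subgroup G} (hF : Frob (fittingHallOf L) E L) :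
    False := by
  classical
  have hG := c.hG
  have := Fintype.ofFinite L
  have := Fintype.ofFinite M
  have hFK : FrobKer (fittingHall L) := (frobKer_fcore_iff_frob hG c.hL).2 ⟨E, hF⟩
  obtain ⟨-, ν, hν⟩ := p12_6 hG c.hL hFK
  rw [inducedIrrAbove_bot_eq_seqIndD] at hν
  obtain ⟨ζ, hζ, hζ1, -⟩ := exists_seqInd_lin_of_solvable (H := fittingHall L)
    (have := fittingHall_nilpotent L; inferInstance) hFK.ne_bot
  have h78 : Hyp78 L (fittingHall L) ((fittingHallOf L : Set G) \ {1}) (typeA0 L) (supportR L)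
      ν ζ := ⟨p12_hyp76 hG c.hL hFK, mFT_odd hG L, hν, hζ, hFK.irr_of_mem hζ, hζ1⟩
  have he : (fittingHall L).index = Nat.card E := by
    rw [← relIndex_fcore, hF.sdp.relIndex_left]
  have hLM := c.inf_le hF
  obtain ⟨y, hy, hy'⟩ := SetLike.not_le_iff_exists.1 c.not_le
  obtain ⟨a, ha, ha1, hac⟩ := c.fpf
  refine twelve_contradiction (mFT_odd_card hG) h78 (p12_hyp12 hG c.hM c.hI)
    (c.disjoint hFK c.hM c.hK) c.hp (x := x) ⟨c.le_fcore c.mem, c.ne⟩ (c.hA.le c.mem)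
    (fun h => c.hK ?_) (c.hA.pow_eq_one c.mem) (c.supp.R_eq.le.trans inf_le_left) ?_ ?_ ?_
    (fun g hg u hu => ?_) (g₀ := ⟨⟨y, fcore_le M hy.1⟩, mem_fcore_iff.1 hy.1⟩)
    (fun h => hy' (mem_commutator_iff_coe.1 h)) (mem_cent1.1 hy.2).symm ?_ ?_
  · rw [← c.orderOf_eq]
    exact orderOf_dvd_card' (mem_fcore_iff.2 h)
  · have h1 := hFK.one_lt_index
    obtain ⟨k, hk⟩ := mFT_odd hG E
    omega
  · rw [he]
    exact hF.two_mul_card_le (fcore_nilpotent L) (mFT_odd hG L) c.hp c.hA c.rk c.le_fcore c.mem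
      c.ne c.norm_le hLM
  · rw [← card_fcore, ← c.hA.card]
    exact Subgroup.card_le_of_le c.le_fcore
  · by_cases hc : 𝐂₁(g) ≤ M
    · rw [supportR_eq_bot hc, Subgroup.mem_bot] at hu
      rw [hu, mul_one]
    · obtain ⟨N, hN⟩ := t16_II_ex hG c.hM
        (ftA_subset_ftA0 M (typeA1_subset_ftA hG c.hM hg)) hc
      have := Fintype.ofFinite N
      obtain ⟨hNI, hNp⟩ := c.supp_facts hN
      rw [hN.R_eq] at hu
      refine h78.nu_apply_mul (mFT_odd_card hG) (p12_hyp12 hG hN.uniq.coatom hNI)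
        (c.disjoint hFK hN.uniq.coatom hNp) (x := ⟨g, hN.uniq.le (mem_cent1_self g)⟩)
        (y := ⟨u, fcore_le N hu.1⟩) (fun h => hN.notMemA1 ?_) (mem_fcore_iff.1 hu.1)
      rw [BG.mem_typeA1, typeCore_of_typeF hNI.1]
      exact ⟨mem_fcore_iff.2 h, (BG.mem_typeA1.1 hg).2⟩
  · rw [index_commutator_eq_relIndex]
    exact five_le_relIndex_der (solvable_of_nil (fcore_nilpotent M)) (fcore_ne_bot hG c.hM)
      (mFT_odd hG _) c.hp (mFT_ne_two_of_dvd hG (c.hA.dvd_card two_pos))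
      ((fcore_normal M).norm (c.hA.le ha)) (c.hA.orderOf_eq c.hp ha ha1) hac
  · rw [← relIndex_fcore, c.supp.sdpL.relIndex_left, ← card_fcore]
    exact Subgroup.card_le_of_le hLM

end Ctx12

theorem p12_no_elemN [Finite G] (hG : IsMinSimpleOddOrder G) (p : ℕ) :
    p.Prime → ∀ M A : Subgroup G, IsCoatom M → TypeI M → ¬ p ∣ Nat.card (fittingHallOf M) →
      ¬ ElemN p 2 M A := by
  have := Fintype.ofFinite G
  induction p using Nat.strong_induction_on with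
  | _ p ih =>
    intro hp M A hM hI hK hA
    obtain ⟨L, x, c⟩ := p12_9 hG hM hI hp hK hA
    obtain ⟨E, hF⟩ := c.frob ih
    exact c.not_frob hF

/-- (12.7) -/
theorem p12_7 [Finite G] (hG : IsMinSimpleOddOrder G) (hM : IsCoatom M) (hI : TypeI M) :
    FrobKer (fittingHall M) := by
  refine (frobKer_fcore_iff_frob hG hM).2 ((frob_or_elemN hI.1).resolve_right ?_)
  rintro ⟨p, hp, hK, A, hA⟩
  exact p12_no_elemN hG p hp M A hM hI hK hA

end CL.PF
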