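import Cfsg.Agent.PF.SevenC
import Cfsg.Agent.PF.T4
import Cfsg.Agent.Char.BrauerPerm
import Cfsg.Agent.BG.Conj

/-! The permutation character `Ind_{P W₁}^L 1` under Hypothesis (4.2), for Peterfalvi (13.18). -/

set_option autoImplicit false

namespace CL.PF

open Cfsg CL.Char
open scoped ComplexConjugate

variable {L X₁ X₂ : Type*} [Group L] [Group X₁] [Group X₂]
  {K P : Subgroup L} {f₁ : X₁ →* L} {f₂ : X₂ →* L}

theorem p18_mem_fixedBy_iff (M : Subgroup L) (x g : L) :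
    (g : L ⧸ M) ∈ MulAction.fixedBy (L ⧸ M) x ↔ g⁻¹ * x * g ∈ M := by
  rw [MulAction.mem_fixedBy, MulAction.Quotient.smul_coe, smul_eq_mul, eq_comm, QuotientGroup.eq,
    mul_assoc]

namespace PrimeTI

theorem p18_mem_of_mem_sup (h : PrimeTI K f₁ f₂) [P.Normal] (hPK : P ≤ K) {x : L}
    (hx : x ∈ P ⊔ f₁.range) (hK : x ∈ K) : x ∈ P := by
  have hx' : x ∈ ((P ⊔ f₁.range : Subgroup L) : Set L) := hx
  rw [Subgroup.normal_mul] at hx'
  obtain ⟨a, ha, _, ⟨w, rfl⟩, rfl⟩ := hx'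
  have : f₁ w ∈ K := (K.mul_mem_cancel_left (hPK ha)).1 hK
  rw [h.mem_iff] at this
  subst this
  simpa using ha

theorem p18_index [Finite L] (h : PrimeTI K f₁ f₂) [P.Normal] (hPK : P ≤ K) :
    (P ⊔ f₁.range).index = P.relIndex K := by
  have := h.normal
  have h1 : (P ⊔ f₁.range) ⊓ K = P :=
    le_antisymm (fun x hx => h.p18_mem_of_mem_sup hPK hx.1 hx.2) (le_inf le_sup_left hPK)
  have h2 : K ⊔ (P ⊔ f₁.range) = ⊤ := by
    rw [← sup_assoc, sup_eq_left.2 hPK, h.sup_eq]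
  conv_rhs => rw [← h1]
  rw [Subgroup.inf_relIndex_right, ← Subgroup.relIndex_top_right, ← h2]
  exact CL.BG.relIndex_sup_of_norm_right (Or.inl (by
    rw [Subgroup.normalizer_eq_top]; exact le_top))

theorem p18_index_P [Finite L] (h : PrimeTI K f₁ f₂) (hPK : P ≤ K) :
    P.index = P.relIndex K * Nat.card X₁ := by
  rw [← Subgroup.relIndex_mul_index hPK, h.index_eq]

variable [Fintype L]

theorem p18_gam_mem (h : PrimeTI K f₁ f₂) [hP : P.Normal] (hPK : P ≤ K) {x : L} (hx : x ∈ P) :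
    indFun (P ⊔ f₁.range) (fun _ => 1) x = P.relIndex K := by
  rw [CL.Brauer.indFun_one_eq_card_fixedBy, ← h.p18_index hPK]
  have : MulAction.fixedBy (L ⧸ (P ⊔ f₁.range)) x = Set.univ := by
    refine Set.eq_univ_of_forall fun g => ?_
    induction g using QuotientGroup.induction_on with
    | H g =>
      rw [p18_mem_fixedBy_iff]
      exact Subgroup.mem_sup_left (hP.conj_mem' x hx g)
  rw [this, Nat.card_univ]
  rfl

theorem p18_gam_K (h : PrimeTI K f₁ f₂) [hP : P.Normal] (hPK : P ≤ K) {x : L} (hx : x ∈ K)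
    (hxP : x ∉ P) : indFun (P ⊔ f₁.range) (fun _ => 1) x = 0 := by
  refine indFun_eq_zero_of_not_conj _ _ fun g hg => hxP ?_
  have := hP.conj_mem' _ (h.p18_mem_of_mem_sup hPK hg (h.normal.conj_mem x hx g)) g
  simpa [mul_assoc] using this

theorem p18_gam_eq (h : PrimeTI K f₁ f₂) [hP : P.Normal] (hPK : P ≤ K) (hW : f₂.range ≤ P) :
    indFun (P ⊔ f₁.range) (fun _ => 1) = (Nat.card X₁ : ℂ)⁻¹ • indFun P (fun _ => 1) +
      (fun _ => 1) - (Nat.card X₁ : ℂ)⁻¹ • indFun K (fun _ => 1) := by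
  classical
  have := h.normal
  have := h.finite₁
  have hq : (Nat.card X₁ : ℂ) ≠ 0 := natCard_cast_ne_zero X₁
  let n : L → ℕ := fun x => Nat.card (MulAction.fixedBy (L ⧸ (P ⊔ f₁.range)) x)
  let m : L → ℕ := fun x => if x ∈ P then P.relIndex K else if x ∈ K then 0 else 1
  have hn : ∀ x, indFun (P ⊔ f₁.range) (fun _ => 1) x = n x := fun x =>
    CL.Brauer.indFun_one_eq_card_fixedBy _ x
  have hm : ∀ x, ((Nat.card X₁ : ℂ)⁻¹ • indFun P (fun _ => 1) +
      (fun _ => 1) - (Nat.card X₁ : ℂ)⁻¹ • indFun K (fun _ => 1) : L → ℂ) x = m x := by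
    intro x
    simp only [m, Pi.sub_apply, Pi.add_apply, Pi.smul_apply, smul_eq_mul]
    split_ifs with h1 h2
    · rw [indOne_apply_of_mem h1, indOne_apply_of_mem (hPK h1), h.p18_index_P hPK, h.index_eq]
      push_cast; field_simp; ring
    · rw [indFun_eq_zero_of_normal _ _ h1, indOne_apply_of_mem h2, h.index_eq]
      push_cast; field_simp; ring
    · rw [indFun_eq_zero_of_normal _ _ h1, indFun_eq_zero_of_normal _ _ h2]; simp
  have hle : ∀ x, m x ≤ n x := by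
    intro x
    simp only [m]
    split_ifs with h1 h2
    · have := (hn x).symm.trans (h.p18_gam_mem hPK h1)
      exact (Nat.cast_injective this).ge
    · exact Nat.zero_le _
    · obtain ⟨g, a, b, -, rfl⟩ := h.exists_conj_of_not_mem h2
      have : Nonempty (MulAction.fixedBy (L ⧸ (P ⊔ f₁.range)) (g * (f₁ a * f₂ b) * g⁻¹)) := by
        refine ⟨⟨(g : L ⧸ (P ⊔ f₁.range)), (p18_mem_fixedBy_iff _ _ _).2 ?_⟩⟩
        have : g⁻¹ * (g * (f₁ a * f₂ b) * g⁻¹) * g = f₁ a * f₂ b := by group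
        rw [this]
        exact Subgroup.mul_mem _ (Subgroup.mem_sup_right ⟨a, rfl⟩)
          (Subgroup.mem_sup_left (hW ⟨b, rfl⟩))
      exact Nat.card_pos
  have hsum : ∑ x, m x = ∑ x, n x := by
    have h1 := classInner_indOne_one (P ⊔ f₁.range)
    have h2 : classInner ((Nat.card X₁ : ℂ)⁻¹ • indFun P (fun _ => 1) +
        (fun _ => 1) - (Nat.card X₁ : ℂ)⁻¹ • indFun K (fun _ => 1) : L → ℂ) (fun _ => 1) = 1 := by
      rw [classInner_sub_left, classInner_add_left, classInner_smul_left, classInner_smul_left,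
        classInner_indOne_one, classInner_indOne_one, classInner_one_one]
      ring
    rw [classInner_one_right] at h1 h2
    simp_rw [hn] at h1
    simp_rw [hm] at h2
    have h3 := mul_left_cancel₀ (inv_ne_zero (natCard_cast_ne_zero L)) (h2.trans h1.symm)
    exact_mod_cast h3
  have := (Finset.sum_eq_sum_iff_of_le fun x _ => hle x).1 hsum
  funext x
  rw [hn, hm, this x (Finset.mem_univ x)]

theorem p18_gam_not_mem (h : PrimeTI K f₁ f₂) [hP : P.Normal] (hPK : P ≤ K) (hW : f₂.range ≤ P)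
    {x : L} (hx : x ∉ K) : indFun (P ⊔ f₁.range) (fun _ => 1) x = 1 := by
  have := h.normal
  rw [h.p18_gam_eq hPK hW]
  simp only [Pi.sub_apply, Pi.add_apply, Pi.smul_apply, smul_eq_mul]
  rw [indFun_eq_zero_of_normal _ _ hx, indFun_eq_zero_of_normal _ _ (fun h' => hx (hPK h'))]
  simp

theorem p18_gam_norm (h : PrimeTI K f₁ f₂) [hP : P.Normal] (hPK : P ≤ K) (hW : f₂.range ≤ P) :
    classInner (indFun (P ⊔ f₁.range) (fun _ => 1)) (indFun (P ⊔ f₁.range) (fun _ => 1)) =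
      1 + ((P.relIndex K : ℂ) - 1) / Nat.card X₁ := by
  have := h.finite₁
  have hq : (Nat.card X₁ : ℂ) ≠ 0 := natCard_cast_ne_zero X₁
  have h2 : classInner (indFun (P ⊔ f₁.range) (fun _ => 1) +
      (((P.relIndex K : ℂ) - 1) / Nat.card X₁) • indFun P (fun _ => 1)) (fun _ => 1) =
      1 + ((P.relIndex K : ℂ) - 1) / Nat.card X₁ := by
    rw [classInner_add_left, classInner_smul_left, classInner_indOne_one, classInner_indOne_one,
      mul_one]
  rw [← h2]
  unfold classInner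
  congr 1
  refine Finset.sum_congr rfl fun x _ => ?_
  simp only [Pi.add_apply, Pi.smul_apply, smul_eq_mul, map_one, mul_one]
  by_cases h1 : x ∈ P
  · rw [h.p18_gam_mem hPK h1, indOne_apply_of_mem h1, h.p18_index_P hPK, map_natCast]
    push_cast; field_simp; ring
  · rw [indFun_eq_zero_of_normal P _ h1]
    by_cases h2 : x ∈ K
    · rw [h.p18_gam_K hPK h2 h1]; simp
    · rw [h.p18_gam_not_mem hPK hW h2]; simp

theorem p18_gam_mu (h : PrimeTI K f₁ f₂) [hP : P.Normal] (hPK : P ≤ K) (hW : f₂.range ≤ P)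
    (i : X₁ →* ℂˣ) {j : X₂ →* ℂˣ} (hj : j ≠ 1)
    (h0 : ∀ x ∈ K, x ∉ P → mu f₁ f₂ i j x = 0) :
    classInner (indFun (P ⊔ f₁.range) (fun _ => 1)) (mu f₁ f₂ i j) = 0 := by
  classical
  have := h.normal
  have := h.finite₁
  have hK : classInner (indFun K (fun _ => 1)) (mu f₁ f₂ i j) = 0 := by
    rw [← h.muCol_one, h.muCol_mu_inner, if_neg hj]
  have h1 : classInner (fun _ => 1) (mu f₁ f₂ i j) = 0 := by
    rw [← h.mu_one]; exact h.mu_inner_of_ne (Or.inr hj.symm)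
  have hP' : classInner (indFun P (fun _ => 1) - (P.relIndex K : ℂ) • indFun K (fun _ => 1))
      (mu f₁ f₂ i j) = 0 := by
    refine classInner_eq_zero_of_disjoint (D₁ := (K : Set L) \ P) (D₂ := ((K : Set L) \ P)ᶜ)
      disjoint_compl_right (fun g hg => ?_) (fun g hg => ?_)
    · simp only [Pi.sub_apply, Pi.smul_apply, smul_eq_mul]
      by_cases h1 : g ∈ P
      · rw [indOne_apply_of_mem h1, indOne_apply_of_mem (hPK h1), h.p18_index_P hPK, h.index_eq]
        push_cast; ring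
      · have h2 : g ∉ K := fun h2 => hg ⟨h2, h1⟩
        rw [indFun_eq_zero_of_normal _ _ h1, indFun_eq_zero_of_normal _ _ h2]; simp
    · rw [Set.notMem_compl_iff] at hg
      exact h0 g hg.1 hg.2
  rw [classInner_sub_left, classInner_smul_left, hK, mul_zero, sub_zero] at hP'
  rw [h.p18_gam_eq hPK hW, classInner_sub_left, classInner_add_left, classInner_smul_left,
    classInner_smul_left, hK, hP', h1]
  simp

/-- the values of `β_j = Ind_{P W₁}^L 1 - μ_{0j}` -/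
theorem p18_beta_eq_zero (h : PrimeTI K f₁ f₂) [hP : P.Normal] (hPK : P ≤ K) (hW : f₂.range ≤ P)
    {j : X₂ →* ℂˣ} (hδ : delta f₁ f₂ j = 1) (h1 : mu f₁ f₂ 1 j 1 = P.relIndex K)
    (h0 : ∀ x ∈ K, x ∉ P → mu f₁ f₂ 1 j x = 0) {x : L} (hV : x ∉ cycVConj f₁ f₂)
    (hx : x ∈ P → x = 1) : (indFun (P ⊔ f₁.range) (fun _ => 1) - mu f₁ f₂ 1 j) x = 0 := by
  rw [Pi.sub_apply, sub_eq_zero]
  by_cases hxP : x ∈ P
  · rw [h.p18_gam_mem hPK hxP, hx hxP, h1]
  by_cases hK : x ∈ K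
  · rw [h.p18_gam_K hPK hK hxP, h0 x hK hxP]
  · rw [h.p18_gam_not_mem hPK hW hK]
    obtain ⟨m, a, ha, rfl⟩ := (h.conj_cases hK).resolve_left hV
    rw [h.mu_classFun 1 j, h.mu_apply₁ 1 j ha, hδ]
    simp

theorem p18_beta_norm (h : PrimeTI K f₁ f₂) [hP : P.Normal] (hPK : P ≤ K) (hW : f₂.range ≤ P)
    {j : X₂ →* ℂˣ} (hj : j ≠ 1) (h0 : ∀ x ∈ K, x ∉ P → mu f₁ f₂ 1 j x = 0) :
    classInner (indFun (P ⊔ f₁.range) (fun _ => 1) - mu f₁ f₂ 1 j)
      (indFun (P ⊔ f₁.range) (fun _ => 1) - mu f₁ f₂ 1 j) =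
      2 + ((P.relIndex K : ℂ) - 1) / Nat.card X₁ := by
  have h1 := h.p18_gam_mu hPK hW 1 hj h0
  rw [classInner_sub_left, classInner_sub_right, classInner_sub_right, h.p18_gam_norm hPK hW, h1,
    classInner_eq_zero_comm.1 h1, h.mu_inner_self]
  ring

theorem p18_beta_inner_one (h : PrimeTI K f₁ f₂) (M : Subgroup L) {j : X₂ →* ℂˣ} (hj : j ≠ 1) :
    classInner (indFun M (fun _ => 1) - mu f₁ f₂ 1 j) (fun _ => 1) = 1 := by
  rw [classInner_sub_left, classInner_indOne_one, ← h.mu_one, h.mu_inner_of_ne (Or.inr hj),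
    sub_zero]

end PrimeTI

end CL.PF
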