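import Cfsg.Agent.PF.SevenC
import Cfsg.Agent.PF.T5

/-! The character-theoretic computations of Peterfalvi (13.18.d), (13.19.b), (13.19.c). -/

set_option autoImplicit false
set_option linter.unusedSectionVars false

namespace CL.PF

open Cfsg CL.Char
open scoped ComplexConjugate

variable {G X₁ X₂ : Type*} [Group G] [Fintype G] [Group X₁] [Group X₂] [Finite X₁] [Finite X₂]
  {g₁ : X₁ →* G} {g₂ : X₂ →* G}

/-- (13.18.d) -/
theorem CycTI.p18_d (h : CycTI g₁ g₂) {β : G → ℂ} (hβ : IsGeneralizedCharacter G β)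
    (h1 : classInner β (fun _ => 1) = 1) {j : X₂ →* ℂˣ} (hj : j ≠ 1)
    (hr : conjFun (β - (fun _ => 1) + eta g₁ g₂ 1 j) = β - (fun _ => 1) + eta g₁ g₂ 1 j)
    {X Y : G → ℂ} (hXY : β - (fun _ => 1) + eta g₁ g₂ 1 j = X + Y) (ho : classInner X Y = 0)
    (hYo : OrthEta g₁ g₂ Y) : rip Y Y + 2 ≤ rip β β := by
  classical
  have hj' : j⁻¹ ≠ 1 := dual_inv_ne_one' hj
  have hjj : j⁻¹ ≠ j := h.inv_ne₂ hj
  have hΓ : IsGeneralizedCharacter G (β - (fun _ => 1) + eta g₁ g₂ 1 j) :=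
    gen_add (gen_sub hβ (h.eta_one ▸ h.eta_gen 1 1)) (h.eta_gen 1 j)
  obtain ⟨a, ha⟩ := gen_inner_int hΓ (h.eta_gen 1 j)
  have ha' : classInner (β - (fun _ => 1) + eta g₁ g₂ 1 j) (eta g₁ g₂ 1 j⁻¹) = a := by
    rw [← ha, ← classInner_of_conjFun_eq hr hΓ (h.eta_gen 1 j), h.eta_conj, dual_one_inv]
  rw [classInner_add_left, classInner_sub_left, ← h.eta_one] at ha ha'
  rw [h.eta_inner_of_ne (Or.inr hj.symm), h.eta_inner_self] at ha
  rw [h.eta_inner_of_ne (Or.inr hj'.symm), h.eta_inner_of_ne (Or.inr hjj.symm)] at ha'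
  obtain ⟨Z, hZ⟩ : ∃ Z, Z = β - Y := ⟨_, rfl⟩
  have hZ' : Z = eta g₁ g₂ 1 1 - eta g₁ g₂ 1 j + X := by
    rw [hZ, h.eta_one, ← sub_eq_zero]
    have := sub_eq_zero.2 hXY
    rw [← this]; abel
  have hZY : classInner Z Y = 0 := by
    rw [hZ', classInner_add_left, classInner_sub_left, ho, classInner_eq_zero_comm.1 (hYo 1 1),
      classInner_eq_zero_comm.1 (hYo 1 j)]
    simp
  have hβZ : β = Z + Y := by rw [hZ]; abel
  have hZη : ∀ k, classInner Z (eta g₁ g₂ 1 k) = classInner β (eta g₁ g₂ 1 k) := fun k => by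
    rw [hZ, classInner_sub_left, hYo, sub_zero]
  have hb := bessel_orthonormal_le ({1, j, j⁻¹} : Finset (X₂ →* ℂˣ)) (fun k => eta g₁ g₂ 1 k)
    (fun k _ => h.eta_inner_self 1 k) (fun k _ l _ hkl => h.eta_inner_of_ne (Or.inr hkl)) Z
  rw [Finset.sum_insert (by simp [hj.symm, hj'.symm]), Finset.sum_pair hjj.symm] at hb
  simp only [hZη] at hb
  have e1 : classInner β (eta g₁ g₂ 1 1) = 1 := by rw [h.eta_one, h1]
  have e2 : classInner β (eta g₁ g₂ 1 j) = ((a - 1 : ℤ) : ℂ) := by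
    push_cast; rw [← ha]; ring
  have e3 : classInner β (eta g₁ g₂ 1 j⁻¹) = (a : ℂ) := by rw [← ha']; ring
  rw [e1, e2, e3, norm_one, Complex.norm_intCast, Complex.norm_intCast, sq_abs, sq_abs,
    ← rip_def] at hb
  have h3 : (1 : ℤ) ≤ (a - 1) ^ 2 + a ^ 2 := by
    rcases le_or_gt a 0 with h | h <;> nlinarith
  have h4 : (1 : ℝ) ≤ ((a - 1 : ℤ) : ℝ) ^ 2 + (a : ℝ) ^ 2 := by exact_mod_cast h3
  rw [hβZ, rip_add_self, rip_eq_zero_of hZY]
  linarith

variable {L : Subgroup G} [Fintype L] {H : Subgroup L} {A A₀ : Set G} {R : G → Subgroup G}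
  {ν : (L → ℂ) → (G → ℂ)} {ζ : L → ℂ}

/-- (13.19.b) -/
theorem Hyp76.p19_b (h : Hyp76 L H A A₀ R) (hodd : Odd (Nat.card L)) (hc : CycTI g₁ g₂)
    (hν : CoherentWith (seqIndD H H ⊥) (dadeIsometry A₀ L R) ν)
    (hV : ∀ v ∈ cycV g₁ g₂, v ∉ dadeSupp A R) {φ : L → ℂ} (hφ : φ ∈ seqIndD H H ⊥)
    (hi : IsIrrCharacter L φ) : OrthEta g₁ g₂ (ν φ) := by
  have := h.normal
  have hφ' := SeqSelf.conj_mem hφ
  have hne := SeqSelf.conj_ne hodd hφ hi
  have hmem : φ - conjFun φ ∈ zspanOn (seqIndD H H ⊥) {1}ᶜ :=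
    sub_mem_zspanOn_one (mem_zspan hφ) (mem_zspan hφ')
      (gen_conjFun_apply_one (SeqSelf.gen hφ)).symm
  have e := Hyp76.nu_sub_conj subset_rfl hν hφ hφ'
  have h0 : classInner (ν φ) (ν (conjFun φ)) = 0 := by
    rw [hν.inner (mem_zspan hφ) (mem_zspan hφ')]
    exact SeqSelf.inner_of_ne hφ hφ' hne.symm
  have s1 := Hyp76.nu_signed subset_rfl hν hφ hi
  have s2 := Hyp76.nu_signed subset_rfl hν hφ' (irr_conjFun hi)
  have n1 := (isSignedIrr_iff.1 s1).2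
  have n2 := (isSignedIrr_iff.1 s2).2
  have ho : OrthEta g₁ g₂ (ν φ - ν (conjFun φ)) := by
    refine hc.orthEta_of_norm_le_two (gen_sub (isSignedIrr_iff.1 s1).1 (isSignedIrr_iff.1 s2).1)
      (fun v hv => ?_) ?_
    · rw [← e]
      exact h.tau_eq_zero (classFun_of_mem_zspan (fun χ hχ => SeqSelf.classFun hχ) hmem.1)
        (h.supp_zspanOn hmem) (hV v hv)
    · rw [classInner_sub_left, classInner_sub_right, classInner_sub_right, n1, n2, h0,
        classInner_eq_zero_comm.1 h0]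
      norm_num
  refine hc.orthEta_of_inner_ne_zero ho s1 ?_
  rw [classInner_sub_left, n1, classInner_eq_zero_comm.1 h0]
  norm_num

/-- the parity argument of (13.19.c) -/
theorem Hyp78.p19_parity (h : Hyp78 L H A A₀ R ν ζ) (hodd : Odd (Nat.card G)) (hc : CycTI g₁ g₂)
    {β : G → ℂ} (hβ : IsGeneralizedCharacter G β) (h1 : classInner β (fun _ => 1) = 1)
    {j : X₂ →* ℂˣ} (hj : j ≠ 1)
    (hr : conjFun (β - (fun _ => 1) + eta g₁ g₂ 1 j) = β - (fun _ => 1) + eta g₁ g₂ 1 j)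
    (hβ0 : ∀ g ∈ dadeSupp A R, β g = 0) (ho : OrthEta g₁ g₂ (ν ζ)) :
    (∃ n : ℤ, classInner β (ν ζ) = 2 * n + 1) ∨
      ∃ n : ℤ, classInner (beta78 L H A₀ R ζ) (eta g₁ g₂ 1 j) = 2 * n + 1 := by
  have hΓ : IsGeneralizedCharacter G (β - (fun _ => 1) + eta g₁ g₂ 1 j) :=
    gen_add (gen_sub hβ (hc.eta_one ▸ hc.eta_gen 1 1)) (hc.eta_gen 1 j)
  have hη1 : classInner (eta g₁ g₂ 1 j) (fun _ => 1) = 0 := hc.eta_inner_one (Or.inr hj)
  obtain ⟨n, hn⟩ := gen_real_inner_even hodd hΓ h.gamma_zero_gen hr (h.conjFun_gamma_zero hodd)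
    (by rw [classInner_add_left, classInner_sub_left, h1, classInner_one_one, hη1]; ring)
  have hββ : classInner β (beta78 L H A₀ R ζ) = 0 :=
    classInner_eq_zero_of_disjoint (D₁ := (dadeSupp A R)ᶜ) (D₂ := dadeSupp A R)
      disjoint_compl_left (fun g hg => hβ0 g (by simpa using hg)) fun g hg => h.beta_eq_zero hg
  obtain ⟨b, hb⟩ := gen_inner_int hβ (h.nu_gen (mem_zspan h.mem))
  obtain ⟨b', hb'⟩ := gen_inner_int h.beta_gen (hc.eta_gen 1 j)
  have hb'' : classInner (eta g₁ g₂ 1 j) (beta78 L H A₀ R ζ) = b' := by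
    rw [gen_inner_comm (hc.eta_gen 1 j) h.beta_gen, hb']
  rw [h.gamma_zero] at hn
  simp only [classInner_add_left, classInner_sub_left, classInner_add_right,
    classInner_sub_right] at hn
  rw [hββ, h1, hb, h.one_inner_beta, classInner_one_one, h.one_inner_nu (mem_zspan h.mem), hb'',
    hη1, classInner_eq_zero_comm.1 (ho 1 j)] at hn
  have hn' : b + b' = 2 * n + 1 := by
    have : ((b + b' : ℤ) : ℂ) = ((2 * n + 1 : ℤ) : ℂ) := by
      push_cast; linear_combination hn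
    exact_mod_cast this
  rcases Int.even_or_odd' b with ⟨k, hk | hk⟩
  · refine Or.inr ⟨n - k, ?_⟩
    rw [hb']
    have : b' = 2 * (n - k) + 1 := by omega
    rw [this]; push_cast; ring
  · refine Or.inl ⟨k, ?_⟩
    rw [hb, hk]; push_cast; ring

/-- case (c1) of (13.19.c) -/
theorem Hyp78.p19_c1 (h : Hyp78 L H A A₀ R ν ζ) (hc : CycTI g₁ g₂)
    {β : G → ℂ} (hβ : IsGeneralizedCharacter G β) (h1 : classInner β (fun _ => 1) = 1)
    {j : X₂ →* ℂˣ} (hj : j ≠ 1)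
    (hr : conjFun (β - (fun _ => 1) + eta g₁ g₂ 1 j) = β - (fun _ => 1) + eta g₁ g₂ 1 j)
    (hβ0 : ∀ g ∈ dadeSupp A R, β g = 0) (ho : ∀ φ ∈ seqIndD H H ⊥, OrthEta g₁ g₂ (ν φ))
    (hne : classInner β (ν ζ) ≠ 0) :
    ((Nat.card H : ℝ) - 1) / H.index + 2 ≤ rip β β := by
  have := h.normal
  have he := h.index_ne_zero
  obtain ⟨b, hb⟩ := gen_inner_int hβ (h.nu_gen (mem_zspan h.mem))
  have hb0 : b ≠ 0 := fun e => hne (by rw [hb, e, Int.cast_zero])
  have hS := sumSeq_mem H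
  have hoS : OrthEta g₁ g₂ (ν (sumSeq H)) := fun i k =>
    iso_inner_eq_zero_left h.coh.iso subset_zspan (fun φ hφ => ho φ hφ i k) hS
  have hSS : classInner (ν (sumSeq H)) (ν (sumSeq H)) = (H.index : ℂ) * ((Nat.card H : ℂ) - 1) := by
    rw [h.coh.inner hS hS, classInner_sumSeq_self]
  have hβS : classInner β (ν (sumSeq H)) = ((Nat.card H : ℂ) - 1) * b := by
    rw [h.inner_nu_of_vanish hβ0 hS, sumSeq_apply_one, hb]; field_simp
  have key := hc.p18_d hβ h1 hj hr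
    (X := β - (fun _ => 1) + eta g₁ g₂ 1 j - ((b / H.index : ℝ) : ℂ) • ν (sumSeq H))
    (Y := ((b / H.index : ℝ) : ℂ) • ν (sumSeq H)) (by abel) (by
      rw [classInner_smul_right, classInner_sub_left, classInner_add_left, classInner_sub_left,
        classInner_smul_left, hSS, hβS, h.one_inner_nu hS, classInner_eq_zero_comm.1 (hoS 1 j)]
      push_cast; field_simp; ring) (hoS.smul _)
  have hrS : rip (ν (sumSeq H)) (ν (sumSeq H)) = (H.index : ℝ) * ((Nat.card H : ℝ) - 1) :=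
    rip_of_classInner_eq (by rw [hSS]; push_cast; ring)
  rw [rip_ofReal_smul_left, rip_ofReal_smul_right, hrS] at key
  have he' : (0 : ℝ) < H.index := by
    have : H.index ≠ 0 := by exact_mod_cast he
    exact_mod_cast Nat.pos_of_ne_zero this
  have hH : (0 : ℝ) ≤ (Nat.card H : ℝ) - 1 := by
    have : (1 : ℝ) ≤ Nat.card H := by exact_mod_cast Nat.card_pos
    linarith
  have hb2 : (1 : ℝ) ≤ (b : ℝ) ^ 2 := by
    have : (1 : ℤ) ≤ b ^ 2 := by
      have := sq_pos_of_ne_zero hb0 |>.le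
      have h2 : 0 < b ^ 2 := by positivity
      omega
    exact_mod_cast this
  have e : (b / H.index : ℝ) * ((b / H.index : ℝ) * (H.index * ((Nat.card H : ℝ) - 1))) =
      (b : ℝ) ^ 2 * (((Nat.card H : ℝ) - 1) / H.index) := by field_simp
  rw [e] at key
  have := le_mul_of_one_le_left (div_nonneg hH he'.le) hb2
  linarith

/-- case (c2) of (13.19.c) -/
theorem Hyp78.p19_c2 (h : Hyp78 L H A A₀ R ν ζ) (hF : FrobKer H) (hc : CycTI g₁ g₂)
    (ho : ∀ φ ∈ seqIndD H H ⊥, OrthEta g₁ g₂ (ν φ))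
    (hne : ∀ j, j ≠ 1 → classInner (beta78 L H A₀ R ζ) (eta g₁ g₂ 1 j) ≠ 0) :
    Nat.card X₂ ≤ H.index := by
  classical
  obtain ⟨a, ha⟩ := h.exists_a
  have h1 := h.gamma_norm_le ha (hF.two_mul_index_lt h.odd)
  have hb := bessel_orthonormal_le (Finset.univ.erase (1 : X₂ →* ℂˣ)) (fun k => eta g₁ g₂ 1 k)
    (fun k _ => hc.eta_inner_self 1 k) (fun k _ l _ hkl => hc.eta_inner_of_ne (Or.inr hkl))
    (h.gamma a)
  have h2 : ∑ k ∈ Finset.univ.erase (1 : X₂ →* ℂˣ), (1 : ℝ) ≤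
      ∑ k ∈ Finset.univ.erase (1 : X₂ →* ℂˣ), ‖classInner (h.gamma a) (eta g₁ g₂ 1 k)‖ ^ 2 := by
    refine Finset.sum_le_sum fun k hk => ?_
    have hk1 := (Finset.mem_erase.1 hk).1
    rw [h.gamma_inner_of_orth a (classInner_eq_zero_comm.1 (hc.eta_inner_one (Or.inr hk1)))
      (fun φ hφ => ho φ hφ 1 k)]
    exact one_le_norm_sq_inner h.beta_gen (hc.eta_gen 1 k) (hne k hk1)
  rw [Finset.sum_const, Finset.card_erase_of_mem (Finset.mem_univ _), Finset.card_univ,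
    hc.fintype_card_dual₂, nsmul_eq_mul, mul_one, Nat.cast_sub Nat.card_pos] at h2
  rw [← rip_def] at hb
  have : (Nat.card X₂ : ℝ) ≤ H.index := by push_cast at h2; linarith
  exact_mod_cast this

end CL.PF
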