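import Cfsg.Agent.PF.P14_Two

/-! Peterfalvi (14.5), (14.11), (14.12), (14.14) to (14.16): the final contradiction. -/

set_option autoImplicit false

namespace CL.PF

open Cfsg CL.BG CL.Char

variable {G : Type*} [Group G] [Fintype G] {S T W₁ W₂ U V L M : Subgroup G}

theorem frob_of_sdp14 (hG : IsMinSimpleOddOrder G) (hL : IsCoatom L)
    (hF : FrobKer (fittingHall L)) {E : Subgroup G} (h : SDP (fittingHallOf L) E L) :
    Semiregular (fittingHallOf L) E ∧ (fittingHall L).index = Nat.card E := by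
  obtain ⟨E', hE'⟩ := (frobKer_fcore_iff_frob hG hL).1 hF
  exact ⟨(hE'.of_sdp h).reg, by rw [← relIndex_fcore, h.relIndex_left]⟩

theorem PPair.card_sup_cj14 (h : PPair S T W₁ W₂ U V) {y : G} (hy : y ∈ fittingHallOf T) :
    Nat.card ↥(W₁ ⊔ cj y W₂) = Nat.card W₁ * Nat.card W₂ := by
  have h1 : cj y W₁ = W₁ := cj_eq_of_mem_cent
    (le_cent_of_comm_of_le h.cT.t13_2b.1.1 le_rfl h.W₁_le_core hy)
  rw [h.cS.dp_W.card, ← card_cj y (W₁ ⊔ W₂), cj_sup, h1]

theorem PCtx.ne_of_sdp14 (c : PCtx S W₁ U W₂) (hII : IsOfTypeII S) (hUL : 𝐍(U) ≤ L)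
    (h : SDP (fittingHallOf L) W₁ L) : fittingHallOf L ≠ U := fun he =>
  (c.typeII_facts hII).2.2.1 (hUL.trans (h.sup ▸ sup_le (he ▸ c.U_le) c.W₁_le))

/-- (14.5) -/
theorem PPair.t14_5 (h : PPair S T W₁ W₂ U V) (hqp : Nat.card W₁ < Nat.card W₂)
    (hL : IsCoatom L) (hUL : 𝐍(U) ≤ L) :
    ∃ y ∈ fittingHallOf T, SDP (fittingHallOf L) (W₁ ⊔ cj y W₂) L := by
  have c := h.cS
  have hII := c.t13_2a.2.1 hqp
  obtain ⟨hF, hUH, hs | hs⟩ := h.t13_17 hII hL hUL
  · exfalso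
    obtain ⟨ν, ζ, h78⟩ := exists_hyp78_frob14 c.hG hL hF
    obtain ⟨j, hj⟩ := c.cycTI.exists_dual_ne_one₂
    have he := (frob_of_sdp14 c.hG hL hF hs).2
    have hlt : Nat.card U < Nat.card (fittingHall L) := by
      rw [← card_fcore]
      exact lt_of_le_of_ne (Subgroup.card_le_of_le hUH) fun hc => c.ne_of_sdp14 hII hUL hs
        (Subgroup.eq_of_le_of_card_ge hUH hc.ge).symm
    have hu : 0 < Nat.card U := Nat.card_pos
    have := (c.t13_19c14 hL hF h78 (by
      rw [he]; exact Nat.mul_lt_mul_of_pos_right (by omega) Nat.card_pos) hj).2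
    omega
  · exact hs

/-- (14.11) -/
theorem PPair.t14_11 (h : PPair S T W₁ W₂ U V) (hqp : Nat.card W₁ < Nat.card W₂)
    (hGS : PGalois S U) (hM : IsCoatom M) (hVM : 𝐍(V) ≤ M) :
    FrobKer (fittingHall M) ∧ fittingHallOf M = V ∧
      (fittingHall M).index = Nat.card W₁ * Nat.card W₂ := by
  have c := h.cS
  have d := h.cT
  have hG := c.hG
  have hII := h.typeII_T14 hqp
  obtain ⟨hGT, hv⟩ := h.galoisT14 hqp
  have hq3 : 3 ≤ Nat.card W₁ := c.cycTI.three_le₁
  have hp2 := h.add_two_le14 hqp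
  obtain ⟨hq, hp⟩ := c.primes
  obtain ⟨hF, hVK, hs⟩ := h.symm.t13_17 hII hM hVM
  have hE : ∃ E, SDP (fittingHallOf M) E M ∧ W₂ ≤ E ∧ Nat.card E ≤ Nat.card W₁ * Nat.card W₂ := by
    rcases hs with hs | ⟨y, hy, hs⟩
    · exact ⟨_, hs, le_rfl, Nat.le_mul_of_pos_left _ Nat.card_pos⟩
    · exact ⟨_, hs, le_sup_left, by rw [h.symm.card_sup_cj14 hy, mul_comm]⟩
  have hKV : fittingHallOf M = V := by
    by_contra hne
    obtain ⟨E, hE, hWE, hcard⟩ := hE
    obtain ⟨hreg, he⟩ := frob_of_sdp14 hG hM hF hE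
    have hk1 := (hreg.mono_right hWE).card_modEq (hWE.trans hE.norm)
    have hk2 := (card_eq_card_mul_relIndex hVK).symm
    rw [← hk2] at hk1
    have hx := N14.lower_of_modEq (mFT_odd hG W₂) (mFT_odd_relIndex hG V (fittingHallOf M))
      (fun h1 => hne (le_antisymm (Subgroup.relIndex_eq_one.1 h1) hVK))
      (N14.modEq_one_of_mul d.u_modEq14 hk1)
    have hv0 : 0 < Nat.card V := Nat.card_pos
    have hk : 2 * Nat.card W₂ * Nat.card V < Nat.card (fittingHall M) := by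
      rw [← card_fcore, ← hk2]; nlinarith
    rw [← he] at hcard
    obtain ⟨h1, h2⟩ := N14.num14_11_1 hp2 (h.t14_8 hqp) hk (hcard.trans_eq (mul_comm _ _))
    obtain ⟨ν, ζ, h78⟩ := exists_hyp78_frob14 hG hM hF
    obtain ⟨hodd, he', hβ⟩ := h.supp14 hM hF h78 h2 h1 hcard
    have hb := h78.cover_bound hF (D := cycVConj W₁.subtype W₂.subtype ∪
      conjSet ((fittingHallOf S : Set G) \ {1}) ∪ conjSet ((fittingHallOf T : Set G) \ {1}))
      fun g hg hD => by
        simp only [Set.mem_union, not_or] at hD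
        refine h78.one_le_norm_nu hG.1 c.cycTI hodd hβ hg (Nat.Coprime.mul_right ?_ ?_)
        · exact ((hq.coprime_iff_not_dvd).2 (d.not_dvd_orderOf14 hGT
            (c.cycTI.cycVConj_symm ▸ hD.1.1) hD.2)).symm
        · exact ((hp.coprime_iff_not_dvd).2 (c.not_dvd_orderOf14 hGS hD.1.1 hD.1.2)).symm
    refine N14.num14_11_4 hq3 hp2 c.two_q_le_u14
      (hv ▸ N14.pow_pred_lt_geom (by omega) (by omega)) hk ?_
    rw [he', mul_comm (Nat.card W₁)] at hb
    refine hb.trans ?_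
    have hG0 : (0 : ℝ) < Nat.card G := by exact_mod_cast Nat.card_pos
    have hV : ((cycVConj W₁.subtype W₂.subtype).ncard : ℝ) / Nat.card G =
        ((Nat.card W₂ : ℝ) - 1) * (Nat.card W₁ - 1) / (Nat.card W₂ * Nat.card W₁) := by
      have h3 := congrArg (Nat.cast : ℕ → ℝ) c.cycTI.ncard_cycVConj
      push_cast [Nat.cast_sub (show 1 ≤ Nat.card W₁ by omega),
        Nat.cast_sub (show 1 ≤ Nat.card W₂ by omega)] at h3
      have h4 : (0 : ℝ) < Nat.card W₁ := by exact_mod_cast Nat.card_pos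
      have h5 : (0 : ℝ) < Nat.card W₂ := by exact_mod_cast Nat.card_pos
      rw [div_eq_div_iff hG0.ne' (by positivity)]
      linarith
    have h3 := c.ncard_conjSet14
    have h4 := d.ncard_conjSet14
    have h5 : ((cycVConj W₁.subtype W₂.subtype ∪ conjSet ((fittingHallOf S : Set G) \ {1}) ∪
        conjSet ((fittingHallOf T : Set G) \ {1})).ncard : ℝ) ≤
        (cycVConj W₁.subtype W₂.subtype).ncard + (conjSet ((fittingHallOf S : Set G) \ {1})).ncard +
          (conjSet ((fittingHallOf T : Set G) \ {1})).ncard := by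
      exact_mod_cast (Set.ncard_union_le _ _).trans
        (Nat.add_le_add_right (Set.ncard_union_le _ _) _)
    refine (div_le_div_of_nonneg_right h5 hG0.le).trans ?_
    rw [add_div, add_div, hV]
    linarith
  refine ⟨hF, hKV, ?_⟩
  rcases hs with hs | ⟨y, hy, hs⟩
  · exact absurd hKV (d.ne_of_sdp14 hII hVM hs)
  · rw [(frob_of_sdp14 hG hM hF hs).2, h.symm.card_sup_cj14 hy, mul_comm]

/-- (14.2) contradicts Appendix C of Bender-Glauberman -/
theorem PPair.final14 (h : PPair S T W₁ W₂ U V) (hqp : Nat.card W₁ < Nat.card W₂) : False := by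
  have c := h.cS
  have d := h.cT
  have hG := c.hG
  have hII := c.t13_2a.2.1 hqp
  obtain ⟨hGT, hv⟩ := h.galoisT14 hqp
  have hq3 : 3 ≤ Nat.card W₁ := c.cycTI.three_le₁
  have hp2 := h.add_two_le14 hqp
  obtain ⟨L, hL, hUL⟩ := mmax_exists (mFT_norm_ne_top hG c.U_ne_bot (mmax_sub_ne_top c.hM c.U_le))
  obtain ⟨M, hM, hVM⟩ := mmax_exists (mFT_norm_ne_top hG d.U_ne_bot (mmax_sub_ne_top d.hM d.U_le))
  obtain ⟨hF, hUH, -⟩ := h.t13_17 hII hL hUL
  obtain ⟨y, hy, hs⟩ := h.t14_5 hqp hL hUL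
  obtain ⟨hreg, he⟩ := frob_of_sdp14 hG hL hF hs
  rw [h.card_sup_cj14 hy] at he
  have hGS : PGalois S U := c.galois_of_frob14 hII (by omega) (fcore_nilpotent L) hUH
    (hreg.mono_right le_sup_right) (le_sup_right.trans hs.norm) (card_cj y W₂)
  have hn : ¬ L ≤ 𝐍(U) := fun hn => h.not_norm14 hp2 hGS hy
    ((le_sup_right.trans hs.right_le).trans hn) (hreg.mono hUH le_sup_right)
  obtain ⟨hF', hKV, he'⟩ := h.t14_11 hqp hGS hM hVM
  have hnc : ∀ g : G, cj g L ≠ M := by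
    intro g hg
    have h1 : IsCyclic (fittingHallOf L) := by
      rw [← isCyclic_cj (g := g), cj_fcore, hg, hKV]
      exact (d.galois_facts14 hGT).1
    exact hn ((fcore_normal L).norm.trans (norm_le_norm_of_isCyclic h1 hUH))
  have hd : Disjoint (dadeSupp (typeA L) (supportR L)) (dadeSupp (typeA M) (supportR M)) := by
    have h1 := disjoint_tildeA1 hG hL hM hnc
    rw [(typeA_of_frob hG hL hF).2.2, (typeA_of_frob hG hM hF').2.2] at h1
    rwa [← tildeOf_eq_dadeSupp, ← tildeOf_eq_dadeSupp, (typeA_of_frob hG hL hF).2.1,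
      (typeA_of_frob hG hM hF').2.1]
  obtain ⟨ν, ζ, h78⟩ := exists_hyp78_frob14 hG hL hF
  obtain ⟨μ, ξ, k78⟩ := exists_hyp78_frob14 hG hM hF'
  -- the index `x` of `U` in `H`
  have hx1 : U.relIndex (fittingHallOf L) ≠ 1 := fun h1 =>
    hn ((le_antisymm (Subgroup.relIndex_eq_one.1 h1) hUH) ▸ (fcore_normal L).norm)
  have hxo := mFT_odd_relIndex hG U (fittingHallOf L)
  have hh := (card_eq_card_mul_relIndex hUH).symm
  have hh1 := hreg.card_modEq hs.norm
  rw [h.card_sup_cj14 hy, ← hh] at hh1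
  rw [card_fcore] at hh
  generalize U.relIndex (fittingHallOf L) = x at hx1 hxo hh hh1
  have hhp := hh1.of_mul_left (Nat.card W₁)
  have hhq := hh1.of_mul_right (Nat.card W₂)
  have hpo := mFT_odd hG W₂
  have hqo := mFT_odd hG W₁
  have hxge : Nat.card U = (Nat.card W₂ ^ Nat.card W₁ - 1) / (Nat.card W₂ - 1) →
      2 * (Nat.card W₂ * Nat.card W₁) + 1 ≤ x := fun hu =>
    N14.lower_of_modEq (hpo.mul hqo) hxo hx1
      ((Nat.modEq_and_modEq_iff_modEq_mul c.cycTI.coprime.symm).1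
        ⟨N14.modEq_one_of_mul (hu ▸ N14.geom_modEq (by omega) (by omega)) hhp,
          N14.modEq_one_of_mul c.u_modEq14 hhq⟩)
  have h15 := c.t13_15 hGS
  rcases h78.t7_9 k78 hG.1 hd with hne | hne
  · have h1 := h78.core_le k78 hF hF' hd hne
    rw [← card_fcore, hKV, he, he', mul_comm (Nat.card W₁)] at h1
    obtain ⟨hq, hp⟩ := N14.num14_14 hq3 hp2 hqo hpo
      (hv ▸ N14.pow_pred_lt_geom (by omega) (by omega)) h1
    rw [if_neg (by rw [hq, hp]; decide)] at h15
    have hx := hxge h15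
    rw [hq, hp] at h15 hv hx
    obtain ⟨-, -, hβ⟩ := h.supp14 hL hF h78 (by rw [he, ← hh, hq, hp, h15]; omega)
      (by rw [he, ← hh, hq, hp, h15, hv]; omega) he.le
    exact hne (h78.beta_inner_eq_zero hβ (c.orthEta_nu14 hM hF' k78 k78.mem)
      fun φ hφ => h78.nu_ortho_frob k78 hF hF' hd hφ (mem_zspan k78.mem))
  · have h1 := k78.core_le h78 hF' hF hd.symm hne
    rw [← hh, he, he', mul_comm (Nat.card W₁)] at h1
    by_cases hpq : Nat.card W₂ % Nat.card W₁ = 1
    · rw [if_pos hpq] at h15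
      have h46 := Cfsg.Agent.S1546.result _ _ c.primes.2 c.primes.1 (by omega) (by omega)
      exact N14.num14_15 hq3 hp2 hqo hpo hxo
        (by rw [Nat.ModEq, hpq, Nat.mod_eq_of_lt (by omega)])
        (by rw [h15]; exact Nat.div_mul_cancel (h46.2.1 hpq)) c.u_modEq14 hhp hhq h1
    · rw [if_neg hpq] at h15
      exact N14.num14_16a hq3 hp2 (h15 ▸ N14.pow_pred_lt_geom (by omega) (by omega)) (hxge h15) h1

end CL.PF
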