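import Cfsg.Agent.PF.T13_18
import Cfsg.Agent.PF.A14_Num
import Cfsg.Agent.PF.TICount
import Cfsg.Agent.BG.Nil
import Cfsg.Agent.BG.HallSyl
import Cfsg.Agent.S1472
import Cfsg.Agent.S1546

/-! The group-theoretic steps of Peterfalvi, section 14: (14.6), (14.7) and the orders of the
elements outside `V^G ∪ (P^#)^G ∪ (Q^#)^G`. -/

set_option autoImplicit false

namespace CL.PF

open Cfsg CL.BG

theorem N14.num14_6' {a d : ℕ} (hd : d ∣ a ^ 2) (h1 : d ≠ 1) (ha : 0 < a)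
    (h : d ≡ 1 [MOD 2 * a + 1]) : False := by
  obtain ⟨e, he⟩ := hd
  have hd0 : d ≠ 0 := by rintro rfl; simp at he; omega
  have hd1 : 2 * a + 2 ≤ d := by
    have h2 : 2 * a + 1 ∣ d - 1 := (Nat.modEq_iff_dvd' (by omega)).1 h.symm
    have := Nat.le_of_dvd (by omega) h2
    omega
  have h4 : 4 * e ≡ 1 [MOD 2 * a + 1] := by
    have h5 : d * (4 * e) ≡ 1 * (4 * e) [MOD 2 * a + 1] := h.mul_right _
    have h6 : d * (4 * e) = (2 * a + 1) * (2 * a - 1) + 1 := by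
      obtain ⟨b, rfl⟩ : ∃ b, a = b + 1 := ⟨a - 1, by omega⟩
      have : 2 * (b + 1) - 1 = 2 * b + 1 := by omega
      rw [this]; nlinarith
    rw [one_mul, h6] at h5
    refine h5.symm.trans ?_
    simp [Nat.ModEq]
  have he0 : e ≠ 0 := by rintro rfl; simp at he; omega
  have he1 : 2 * a + 2 ≤ 4 * e := by
    have h2 : 2 * a + 1 ∣ 4 * e - 1 := (Nat.modEq_iff_dvd' (by omega)).1 h4.symm
    have := Nat.le_of_dvd (by omega) h2
    omega
  nlinarith

variable {G : Type*} [Group G] [Fintype G] {S T W₁ W₂ U V L : Subgroup G}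

theorem PCtx.card_S14 (c : PCtx S W₁ U W₂) :
    Nat.card S = Nat.card W₂ ^ Nat.card W₁ * (Nat.card U * Nat.card W₁) := by
  rw [← c.sdp_core'.card, c.t13_2b.2.1, ← c.sdp_U.card]

theorem PCtx.card_der14 (c : PCtx S W₁ U W₂) :
    Nat.card ↥⁅S, S⁆ = Nat.card W₂ ^ Nat.card W₁ * Nat.card U := by
  rw [← c.sdp_core.card, c.t13_2b.2.1]

theorem PCtx.coprime_U_p14 (c : PCtx S W₁ U W₂) : Nat.Coprime (Nat.card U) (Nat.card W₂) := by
  have h := (c.t13_2b.2.2.1.uOf_facts).2.2.2.2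
  rwa [c.uOf_bot, c.uP_eq, c.t13_2b.2.2.2] at h

theorem PCtx.two_q_le_u14 (c : PCtx S W₁ U W₂) : 2 * Nat.card W₁ + 1 ≤ Nat.card U := by
  have h := (c.t13_2b.2.2.1.uOf_facts).2.2.2.1
  rwa [c.uOf_bot, c.uP_eq] at h

theorem PCtx.u_le14 (c : PCtx S W₁ U W₂) :
    Nat.card U ≤ (Nat.card W₂ ^ Nat.card W₁ - 1) / (Nat.card W₂ - 1) := c.uP_eq ▸ c.t13_2c

theorem PCtx.u_modEq14 (c : PCtx S W₁ U W₂) : Nat.card U ≡ 1 [MOD Nat.card W₁] :=
  c.semiregular_U.card_modEq c.sdp_U.norm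

theorem PCtx.core_sharp_subset14 (c : PCtx S W₁ U W₂) :
    (fittingHallOf S : Set G) \ {1} ⊆ typeA0 S := fun _ hx =>
  typeA_subset_typeA0 S (typeA1_subset_typeA c.hG c.hM
    (mem_typeA1.2 ⟨fcore_le_typeCore c.hG c.hM hx.1, hx.2⟩))

theorem PCtx.cOf_eq_bot14 (c : PCtx S W₁ U W₂) :
    cOf (fittingHall S) (U.subgroupOf S) ⊥ = ⊥ := by
  rw [c.cOf_bot, c.t13_12, Subgroup.bot_subgroupOf]

/-- case (9.7.b) -/
theorem PCtx.galois_facts14 (c : PCtx S W₁ U W₂) (hG : PGalois S U) :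
    IsCyclic U ∧ Semiregular (fittingHallOf S) U := by
  obtain ⟨⟨g, -, hg⟩, -, -, hreg⟩ := c.t13_2b.2.2.1.t9_7b' hG
  rw [c.cOf_eq_bot14] at hg hreg
  rw [sup_bot_eq] at hg
  refine ⟨?_, fun u hu hu1 => eq_bot_iff.2 fun x hx => ?_⟩
  · have : IsCyclic (U.subgroupOf S) := hg ▸ inferInstance
    exact isCyclic_of_surjective _ (Subgroup.subgroupOfEquivOfLe c.U_le).surjective
  · have := hreg ⟨u, c.U_le hu⟩ hu (fun h => hu1 (congrArg Subtype.val (Subgroup.mem_bot.1 h)))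
      ⟨x, fcore_le S hx.1⟩ (mem_fcore_iff.1 hx.1) (by
        rw [Subgroup.mem_bot]
        ext
        have := mem_cent1.1 hx.2
        simp only [Subgroup.coe_mul, Subgroup.coe_inv, Subgroup.coe_one]
        rw [← this]; group)
    exact Subgroup.mem_bot.2 (congrArg Subtype.val (Subgroup.mem_bot.1 this))

theorem PCtx.frob_der14 (c : PCtx S W₁ U W₂) (hG : PGalois S U) :
    Frob (fittingHallOf S) U ⁅S, S⁆ :=
  ⟨c.sdp_core, fcore_ne_bot c.hG c.hM, c.U_ne_bot, (c.galois_facts14 hG).2⟩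

/-- `C_S(U) = U` for type II -/
theorem PCtx.inf_cent_U14 (c : PCtx S W₁ U W₂) (hII : IsOfTypeII S) : S ⊓ 𝐂(U) ≤ U := by
  have h := c.sdp_core'.inf_cent (A := U) (c.U_le.trans (fcore_normal S).norm)
    (le_norm_of_le le_sup_left)
  rw [(c.t9_3_II hII).1] at h
  rw [← h.right_eq_of_bot]
  exact c.t13_2a.2.2.1.inf_cent_le_ker le_rfl c.U_ne_bot

/-- (14.6) -/
theorem PCtx.galois_of_frob14 (c : PCtx S W₁ U W₂) (hII : IsOfTypeII S) (hp : 5 ≤ Nat.card W₂)
    {H E : Subgroup G} (hH : Group.IsNilpotent H) (hUH : U ≤ H) (hE : Semiregular H E)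
    (hn : E ≤ 𝐍(H)) (hcard : Nat.card E = Nat.card W₂) : PGalois S U := by
  by_contra hG
  have hu := (c.t13_13 hG).2
  have hpo : Odd (Nat.card W₂) := odd_card_of_coatom c.hG W₂
  have huo : Odd (Nat.card U) := odd_card_of_coatom c.hG U
  obtain ⟨a, ha⟩ := hpo
  have ha' : (Nat.card W₂ - 1) / 2 = a := by omega
  rw [ha'] at hu
  obtain ⟨H₁, h₁⟩ := c.t13_2b.2.2.1.t9_7a hG
  have hnr : ¬ Semiregular (fittingHallOf S) U := by
    intro hreg
    have hc : Nat.card (H₁.map S.subtype) = Nat.card W₂ := by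
      rw [Subgroup.card_subtype, ← c.t13_2b.2.2.2, ← h₁.card, Subgroup.relIndex_bot_left]
    have hn₁ : U ≤ 𝐍(H₁.map S.subtype) := by
      have := (Subgroup.map_mono (f := S.subtype) h₁.norm).trans (Subgroup.le_normalizer_map _)
      rwa [Subgroup.subgroupOf_map_subtype, inf_of_le_left c.U_le] at this
    have hd := (hreg.mono_left (Subgroup.map_mono h₁.le)).card_dvd_pred hn₁
    rw [hc, hu, ha, Nat.add_sub_cancel, sq] at hd
    have h2 : a ∣ 2 := Nat.dvd_of_mul_dvd_mul_right (by omega) hd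
    have h3 := Nat.le_of_dvd two_pos h2
    have : a = 2 := by omega
    rw [hu, this] at huo
    exact absurd huo (by decide)
  rw [semiregular_iff] at hnr
  push Not at hnr
  obtain ⟨x, hx, k, hk, hxk, hx1, hk1⟩ := hnr
  have hxA : x ∈ typeA0 S := typeA_subset_typeA0 S (c.mem_typeA.2
    ⟨c.sdp_core.right_le hx, hx1, k, fcore_le_typeCore c.hG c.hM hk, hk1, hxk⟩)
  have hZ : 𝐙(H) ≤ U := le_trans (le_inf (inf_le_right.trans ((cent_le_cent1 (hUH hx)).trans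
    (c.t13_2e.cent1_le hxA))) (inf_le_right.trans (cent_anti hUH))) (c.inf_cent_U14 hII)
  have h1 := (hE.mono_left (inf_le_left : 𝐙(H) ≤ H)).card_modEq (norms_center hn)
  rw [hcard, ha] at h1
  refine N14.num14_6' (hu ▸ Subgroup.card_dvd_of_le hZ) (fun h => ?_) (by omega) h1
  exact nil_center_ne_bot hH (fun h' => c.U_ne_bot (le_bot_iff.1 (h' ▸ hUH)))
    (Subgroup.card_eq_one.1 h)

/-- (14.7) and Appendix C of Bender-Glauberman -/
theorem PPair.not_norm14 (h : PPair S T W₁ W₂ U V) (hqp : Nat.card W₁ + 2 ≤ Nat.card W₂)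
    (hG : PGalois S U) {y : G} (hy : y ∈ fittingHallOf T) (hn : cj y W₂ ≤ 𝐍(U))
    (hreg : Semiregular U (cj y W₂)) : False := by
  classical
  have c := h.cS
  obtain ⟨hq, hp⟩ := c.primes
  have hq3 : 3 ≤ Nat.card W₁ := c.cycTI.three_le₁
  have hu := hreg.card_modEq hn
  rw [card_cj] at hu
  have h46 := Cfsg.Agent.S1546.result _ _ hp hq (by omega) (by omega)
  have h15 := c.t13_15 hG
  by_cases h1 : Nat.card W₂ % Nat.card W₁ = 1
  · rw [if_pos h1] at h15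
    exact N14.num14_7 hq3 hqp (by rw [h15]; exact Nat.div_mul_cancel (h46.2.1 h1)) hu
  rw [if_neg h1] at h15
  obtain ⟨F, _, _, f, ψ, hF, hadd, h0, hsurj, hψ, hmul, hker, hfix⟩ := c.t13_2b.2.2.1.t9_7b hG
  rw [c.cOf_eq_bot14] at hker
  rw [c.t13_2b.2.2.2] at hF hfix
  rw [sup_bot_eq, c.range_f₂] at hfix
  have := Fact.mk hp
  have := Fact.mk hq
  let ext : (S → F) → G → F := fun φ g => if hg : g ∈ S then φ ⟨g, hg⟩ else 0
  have hext : ∀ (φ : S → F) (x : S), ext φ x = φ x := fun φ x => dif_pos x.2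
  have hP : ∀ x ∈ fittingHallOf S, ∃ x' ∈ fittingHall S, (x' : G) = x := fun x hx => hx
  have hU : ∀ x ∈ U, ∃ x' ∈ U.subgroupOf S, (x' : G) = x := fun x hx => ⟨⟨x, c.U_le hx⟩, hx, rfl⟩
  have hW : ∀ x ∈ fittingHallOf S, ext f x ^ Nat.card W₂ = ext f x → x ∈ W₂ := by
    intro x hx he
    obtain ⟨x, hx', rfl⟩ := hP x hx
    rw [hext] at he
    exact (hfix x hx').2 he
  have hf1 : f 1 = 0 := (h0 1 (one_mem _)).2 (one_mem _)
  have key := Cfsg.Agent.S1472.result (Nat.card W₂) (Nat.card W₁) (h46.2.2 h1).1 F hF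
    (fittingHallOf S) U (fittingHallOf T) (ext f) (ext ψ) ⟨fun _ _ => trivial, ?_, ?_⟩ ?_
    (c.U_le.trans (fcore_normal S).norm) ?_ ?_ ?_ (by rw [h15, N14.geom_mul]) h.cT.t13_2b.1.1 ?_
    (fun x hx he => (fcore_normal T).norm (h.cT.W₁_le (hW x hx he))) y hy
    (fun x hx he => hn (conj_mem_cj.2 (hW x hx he)))
  · omega
  · intro x hx z hz he
    obtain ⟨x, hx', rfl⟩ := hP x hx
    obtain ⟨z, hz', rfl⟩ := hP z hz
    rw [hext, hext] at he
    have h2 : f (x * z⁻¹) = 0 := by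
      have h3 := hadd _ (mul_mem hx' (inv_mem hz')) z hz'
      rw [inv_mul_cancel_right, he] at h3
      simpa using h3
    have h4 := (h0 _ (mul_mem hx' (inv_mem hz'))).1 h2
    rw [Subgroup.mem_bot, mul_inv_eq_one] at h4
    rw [h4]
  · intro a _
    obtain ⟨x, hx, rfl⟩ := hsurj a
    exact ⟨x, mem_fcore_iff.2 hx, hext f x⟩
  · intro x hx z hz
    obtain ⟨x, hx', rfl⟩ := hP x hx
    obtain ⟨z, hz', rfl⟩ := hP z hz
    rw [← Subgroup.coe_mul, hext, hext, hext, hadd x hx' z hz']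
  · intro u hu
    obtain ⟨u, hu', rfl⟩ := hU u hu
    refine ⟨by rw [hext]; exact (hψ u hu').1, fun x hx => ?_⟩
    obtain ⟨x, hx', rfl⟩ := hP x hx
    rw [← Subgroup.coe_inv, ← Subgroup.coe_mul, ← Subgroup.coe_mul, hext, hext, hext,
      (hψ u hu').2 x hx']
  · intro x hx z hz
    obtain ⟨x, hx', rfl⟩ := hU x hx
    obtain ⟨z, hz', rfl⟩ := hU z hz
    rw [← Subgroup.coe_mul, hext, hext, hext, hmul x hx' z hz']
  · intro x hx z hz he
    obtain ⟨x, hx', rfl⟩ := hU x hx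
    obtain ⟨z, hz', rfl⟩ := hU z hz
    rw [hext, hext] at he
    have h2 : ψ (x * z⁻¹) = 1 := by
      have h3 := hmul _ (mul_mem hx' (inv_mem hz')) z hz'
      rw [inv_mul_cancel_right, he] at h3
      exact (mul_eq_right₀ (hψ z hz').1).1 h3.symm
    have h4 := (hker _ (mul_mem hx' (inv_mem hz'))).1 h2
    rw [Subgroup.mem_bot, mul_inv_eq_one] at h4
    rw [h4]
  · rw [h.cT.t13_2b.2.1]
    exact Nat.Coprime.pow_left _ c.cycTI.coprime

omit [Fintype G] in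
theorem mem_conjSet_iff14 {A : Set G} {g : G} : g ∈ conjSet A ↔ g ∈ conjSupport A :=
  ⟨fun ⟨a, ha, x, hx⟩ => ⟨x⁻¹, by rw [hx]; simpa [mul_assoc] using ha⟩,
    fun ⟨x, hx⟩ => ⟨_, hx, x⁻¹, by group⟩⟩

/-- in case (9.7.b), the elements of order divisible by `p` lie in `V^G ∪ (P^#)^G` -/
theorem PCtx.not_dvd_orderOf14 (c : PCtx S W₁ U W₂) (hG : PGalois S U) {g : G}
    (hV : g ∉ cycVConj W₁.subtype W₂.subtype)
    (hP : g ∉ conjSet ((fittingHallOf S : Set G) \ {1})) : ¬ Nat.card W₂ ∣ orderOf g := by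
  intro hd
  obtain ⟨hq, hp⟩ := c.primes
  have := Fact.mk hp
  have hsyl : SylowOf (Nat.card W₂) (fittingHallOf S) ⊤ := by
    refine SylowOf.mk' le_top (IsPGroup.of_card c.t13_2b.2.1) fun h => ?_
    have h1 := fcore_hall c.hG c.hM
    rw [Subgroup.relIndex_top_right] at h
    rw [c.t13_2b.2.1] at h1
    exact hp.one_lt.ne' (Nat.Coprime.eq_one_of_dvd
      (Nat.Coprime.coprime_dvd_left (dvd_pow_self _ hq.ne_zero) h1) h)
  have ho : orderOf (g ^ (orderOf g / Nat.card W₂)) = Nat.card W₂ :=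
    orderOf_pow_orderOf_div (orderOf_pos g).ne' hd
  set x := g ^ (orderOf g / Nat.card W₂) with hx
  obtain ⟨y, -, hy⟩ := sylow_conj_le hsyl (Q := Subgroup.zpowers x)
    (IsPGroup.of_card (n := 1) (by rw [Nat.card_zpowers, ho, pow_one])) le_top
  have hyx : y * x * y⁻¹ ∈ fittingHallOf S := hy (conj_mem_cj.2 (Subgroup.mem_zpowers x))
  have hx1 : y * x * y⁻¹ ≠ 1 := by
    intro h
    have : x = 1 := by simpa using h
    rw [this, orderOf_one] at ho
    exact hp.one_lt.ne ho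
  have hcomm : y * g * y⁻¹ ∈ 𝐂₁(y * x * y⁻¹) := by
    rw [mem_cent1]
    have : g * x = x * g := ((Commute.refl g).pow_right _).eq
    calc y * g * y⁻¹ * (y * x * y⁻¹) = y * (g * x) * y⁻¹ := by group
      _ = y * x * y⁻¹ * (y * g * y⁻¹) := by rw [this]; group
  have hS : y * g * y⁻¹ ∈ S := c.t13_2e.cent1_le (c.core_sharp_subset14 ⟨hyx, hx1⟩) hcomm
  have hg1 : y * g * y⁻¹ ≠ 1 := by
    intro h
    have : g = 1 := by simpa using h
    rw [this, orderOf_one] at hd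
    exact hp.one_lt.ne' (Nat.dvd_one.1 hd)
  by_cases hder : y * g * y⁻¹ ∈ ⁅S, S⁆
  · exact hP (mem_conjSet_iff14.2 ⟨y, (c.frob_der14 hG).inf_cent1_le_ker hyx hx1 ⟨hder, hcomm⟩,
      hg1⟩)
  · have hn : (⟨_, hS⟩ : S) ∉ commutator S := by rwa [← der_subgroupOf, Subgroup.mem_subgroupOf]
    rcases c.primeTI.conj_cases hn with h | ⟨m, w, -, hw⟩
    · obtain ⟨m, -, v, hv, he⟩ := c.mem_image_cycVConj.1 ⟨_, h, rfl⟩
      refine hV ⟨y⁻¹ * m, v, hv, ?_⟩
      have he' : y * g * y⁻¹ = m * v * m⁻¹ := he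
      calc g = y⁻¹ * (y * g * y⁻¹) * y := by group
        _ = _ := by rw [he']; group
    · have he : y * g * y⁻¹ = m * w * (m : G)⁻¹ := congrArg Subtype.val hw
      have h1 : orderOf g = orderOf (w : G) := by
        have e1 := (MulAut.conj y).orderOf_eq g
        have e2 := (MulAut.conj (m : G)).orderOf_eq (w : G)
        simp only [MulAut.conj_apply] at e1 e2
        rw [← e1, he, e2]
      rw [h1, Subgroup.orderOf_coe] at hd
      exact hp.one_lt.ne' (Nat.Coprime.eq_one_of_dvd c.cycTI.coprime.symm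
        (hd.trans (orderOf_dvd_natCard w)))

theorem PCtx.ncard_conjSet14 (c : PCtx S W₁ U W₂) :
    ((conjSet ((fittingHallOf S : Set G) \ {1})).ncard : ℝ) / Nat.card G ≤
      1 / (Nat.card U * Nat.card W₁) := by
  have hs : conjSet ((fittingHallOf S : Set G) \ {1}) =
      conjSupport ((fittingHallOf S : Set G) \ {1}) := Set.ext fun _ => mem_conjSet_iff14
  have h := ncard_conjSupport_TI (A := (fittingHallOf S : Set G) \ {1}) (N := S)
    (fun x hx a ha => ⟨conj_mem_of_mem_norm ((fcore_normal S).norm hx) ha.1,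
      by simpa using ha.2⟩)
    (fun g a ha hg => c.t13_2e.mem_of_conj_mem (c.core_sharp_subset14 ha)
      (c.core_sharp_subset14 hg))
  rw [hs, h, ncard_sharp, ← S.card_mul_index, c.card_S14, c.t13_2b.2.1]
  have h1 : (0 : ℝ) < S.index := by exact_mod_cast Nat.pos_of_ne_zero S.index_ne_zero_of_finite
  have h2 : (0 : ℝ) < Nat.card U := by exact_mod_cast Nat.card_pos
  have h3 : (0 : ℝ) < Nat.card W₁ := by exact_mod_cast Nat.card_pos
  have h4 : 0 < Nat.card W₂ ^ Nat.card W₁ := pow_pos Nat.card_pos _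
  have h5 : ((Nat.card W₂ ^ Nat.card W₁ - 1 : ℕ) : ℝ) ≤ (Nat.card W₂ ^ Nat.card W₁ : ℕ) := by
    exact_mod_cast Nat.sub_le _ _
  have h6 : (0 : ℝ) < (Nat.card W₂ ^ Nat.card W₁ : ℕ) := by exact_mod_cast h4
  rw [Nat.cast_mul, Nat.cast_mul, Nat.cast_mul, Nat.cast_mul, div_le_div_iff₀ (by positivity)
    (by positivity)]
  have := mul_le_mul_of_nonneg_left h5 (mul_pos h1 (mul_pos h2 h3)).le
  linarith

end CL.PF
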