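import Cfsg.Agent.PF.P14_Grp
import Cfsg.Agent.PF.A14_Char

/-! Peterfalvi (14.8), (14.9) and the consequences of (13.19) for a Frobenius maximal subgroup. -/

set_option autoImplicit false

namespace CL.PF

open Cfsg CL.BG CL.Char

theorem card_le_of_inner_odd' {G L : Type*} [Group G] [Fintype G] [Group L] [Fintype L]
    {S : Set (L → ℂ)} {ν : (L → ℂ) → (G → ℂ)} {T : Finset (L → ℂ)} (hT : ↑T ⊆ S)
    (hν : IsLinearIsometryOn (zspan S) ν) (hirr : ∀ φ ∈ T, IsIrrCharacter L φ) {Γ : G → ℂ}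
    (hodd : ∀ φ ∈ T, ∃ n : ℤ, classInner Γ (ν φ) = 2 * n + 1) :
    ∃ Y : G → ℂ, IsClassFunction G Y ∧ classInner (Γ - Y) Y = 0 ∧ (T.card : ℝ) ≤ rip Y Y ∧
      ∀ χ : G → ℂ, (∀ φ ∈ T, classInner (ν φ) χ = 0) → classInner Y χ = 0 := by
  have h1 : ∀ φ ∈ T, classInner (ν φ) (ν φ) = 1 := fun φ hφ => by
    rw [iso_inner hν (mem_zspan (hT hφ)) (mem_zspan (hT hφ)), irr_inner_self (hirr φ hφ)]
  have h0 : ∀ φ ∈ T, ∀ ψ ∈ T, φ ≠ ψ → classInner (ν φ) (ν ψ) = 0 := fun φ hφ ψ hψ hne => by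
    rw [iso_inner hν (mem_zspan (hT hφ)) (mem_zspan (hT hψ)),
      irr_inner_of_ne (hirr φ hφ) (hirr ψ hψ) hne]
  set Y := ∑ φ ∈ T, classInner Γ (ν φ) • ν φ with hY
  have hYφ : ∀ ψ ∈ T, classInner Y (ν ψ) = classInner Γ (ν ψ) := fun ψ hψ => by
    rw [hY, classInner_sum_left, Finset.sum_eq_single ψ]
    · rw [classInner_smul_left, h1 ψ hψ, mul_one]
    · intro φ hφ hne
      rw [classInner_smul_left, h0 φ hφ ψ hψ hne, mul_zero]
    · intro h; exact absurd hψ h
  have hXY : classInner (Γ - Y) Y = 0 := by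
    conv_lhs => rw [hY, classInner_sum_right, ← hY]
    refine Finset.sum_eq_zero fun φ hφ => ?_
    rw [classInner_smul_right, classInner_sub_left, hYφ φ hφ, sub_self, mul_zero]
  refine ⟨Y, classFun_sum _ fun φ hφ => classFun_smul _
    (gen_isClassFunction (iso_gen hν (mem_zspan (hT hφ)))), hXY, ?_, fun χ hχ => ?_⟩
  · have hb := bessel_orthonormal_le T ν h1 h0 Y
    refine le_trans ?_ hb
    have := Finset.card_nsmul_le_sum T (fun φ => ‖classInner Y (ν φ)‖ ^ 2) 1 (fun φ hφ => by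
      obtain ⟨n, hn⟩ := hodd φ hφ
      simp only [hYφ φ hφ, hn]
      exact one_le_norm_sq_odd n)
    rwa [nsmul_eq_mul, mul_one] at this
  · rw [hY, classInner_sum_left]
    exact Finset.sum_eq_zero fun φ hφ => by rw [classInner_smul_left, hχ φ hφ, mul_zero]

variable {G : Type*} [Group G] [Fintype G] {S T W₁ W₂ U V L : Subgroup G}

omit [Fintype G] in
theorem PPair.add_two_le14 (h : PPair S T W₁ W₂ U V) (hqp : Nat.card W₁ < Nat.card W₂) :
    Nat.card W₁ + 2 ≤ Nat.card W₂ := by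
  obtain ⟨a, ha⟩ := mFT_odd h.cS.hG W₁
  obtain ⟨b, hb⟩ := mFT_odd h.cS.hG W₂
  omega

theorem PPair.galoisT14 (h : PPair S T W₁ W₂ U V) (hqp : Nat.card W₁ < Nat.card W₂) :
    PGalois T V ∧ Nat.card V = (Nat.card W₁ ^ Nat.card W₂ - 1) / (Nat.card W₁ - 1) := by
  have hq3 : 3 ≤ Nat.card W₁ := h.cS.cycTI.three_le₁
  have hG : PGalois T V := by
    by_contra hG
    have := (h.cT.t13_13 hG).1
    omega
  refine ⟨hG, ?_⟩
  rw [h.cT.t13_15 hG, if_neg]
  rw [Nat.mod_eq_of_lt hqp]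
  omega

/-- (14.8.b) -/
theorem PPair.t14_8 (h : PPair S T W₁ W₂ U V) (hqp : Nat.card W₁ < Nat.card W₂) :
    (Nat.card U - 1) * Nat.card W₂ < (Nat.card V - 1) * Nat.card W₁ :=
  N14.t14_8b h.cS.cycTI.three_le₁ (h.add_two_le14 hqp) h.cS.u_le14 (h.galoisT14 hqp).2

omit [Fintype G] in
theorem conjSet_subset_tildeOf14 (M : Subgroup G) (A : Set G) : conjSet A ⊆ tildeOf M A :=
  fun _ ⟨a, ha, x, hx⟩ => ⟨a, ha, 1, one_mem _, x, by rw [mul_one, hx]⟩

/-- (14.9) -/
theorem PPair.typeII_T14 (h : PPair S T W₁ W₂ U V) (hqp : Nat.card W₁ < Nat.card W₂) :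
    IsOfTypeII T := by
  by_contra hII
  have c := h.cS
  have d := h.cT
  have hG := c.hG
  obtain ⟨B, hB, -⟩ := d.cohBaseD hII
  have hle : fittingHall T ≤ commutator T := (d.hyp92 d.U_ne_bot).H_le
  have hrel : (fittingHall T).relIndex (commutator T) = Nat.card V := by
    rw [← fcore_subgroupOf', ← der_subgroupOf, Subgroup.relIndex_subgroupOf d.sdp_der.left_le,
      d.sdp_core.relIndex_left]
  have hv := d.two_q_le_u14
  have hne : (inducedIrrAbove (commutator T) (fittingHall T)).Nonempty :=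
    inducedIrrAbove_nonempty fun hh => by
      rw [Subgroup.relIndex_eq_one.2 hh] at hrel
      omega
  have hcs := inducedIrrAbove_conjSub_bot (commutator T) (fittingHall T)
  obtain ⟨-, ν, hν⟩ := uniform_degree_coherence_sub hB hcs hne fun φ hφ ψ hψ => by
    rw [(d.t11_9a hII hφ).2.1, (d.t11_9a hII hψ).2.1]
  have hν' : CoherentWith (inducedIrrAbove (commutator T) (fittingHall T)) (ftTau T) ν := hν
  obtain ⟨hA, hA1⟩ := d.typeA_eq_der hII
  have h76 : Hyp76 T (commutator T) (typeA T) (typeA0 T) (supportR T) := by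
    have := Hyp76.of_map (H := commutator T) d.dadeA0 inferInstance (by
      rw [map_commutator_subtype, ← hA]; exact typeA_subset_typeA0 T)
    rwa [map_commutator_subtype, ← hA] at this
  have hsub : inducedIrrAbove (commutator T) (fittingHall T) ⊆
      seqIndD (commutator T) (commutator T) ⊥ := by
    rw [← inducedIrrAbove_eq]; exact hcs.subset
  obtain ⟨j, hj⟩ := c.cycTI.exists_dual_ne_one₂
  obtain ⟨-, hΓ, hΓ1, hΓr⟩ := c.t13_18c hj
  have hidx : (commutator T).index = Nat.card W₂ := d.primeTI.index_eq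
  have hdisj : Disjoint (cycVConj W₁.subtype W₂.subtype ∪ conjSet ((fittingHallOf S : Set G) \ {1}))
      (dadeSupp (typeA T) (supportR T)) := by
    rw [← tildeOf_eq_dadeSupp, Set.disjoint_union_left]
    refine ⟨c.cycTI.cycVConj_symm ▸ d.disjoint_V_tildeA, ?_⟩
    have h1 := disjoint_tildeA1 hG c.hM d.hM h.not_conj
    rw [hA1] at h1
    refine h1.mono_left ((conjSet_subset_tildeOf14 S _).trans ?_)
    rintro g ⟨a, ha, r⟩
    exact ⟨a, mem_typeA1.2 ⟨fcore_le_typeCore hG c.hM ha.1, ha.2⟩, r⟩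
  have hodd : ∀ ζ ∈ inducedIrrAbove (commutator T) (fittingHall T),
      ∃ n : ℤ, classInner (c.Gamma j) (ν ζ) = 2 * n + 1 := by
    intro ζ hζ
    obtain ⟨hi, hd, ho⟩ := d.t11_9a hII hζ
    rw [← hidx] at hd
    rw [d.primeTI.muCol_one] at ho
    refine h76.gamma_inner_odd hG.1 hsub hν' hζ (hcs.conj_mem ζ hζ) hi hd hΓ hΓr hΓ1
      (η := eta W₁.subtype W₂.subtype 1 j) ?_ ?_
    · have h1 := ho j 1
      rw [classInner_sub_left, etaRow, classInner_sum_left, Finset.sum_eq_zero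
        (fun i _ => d.cycTI.eta_inner_of_ne (Or.inl hj.symm)), sub_zero, c.cycTI.eta_swap] at h1
      exact classInner_eq_zero_comm.1 h1
    · have : ((fun _ => 1) - eta W₁.subtype W₂.subtype 1 j + c.Gamma j : G → ℂ) =
          ftTau S (c.beta j) := by rw [PCtx.Gamma]; abel
      rw [this]
      refine classInner_eq_zero_of_disjoint hdisj (fun g hg => ?_)
        fun g hg => h76.beta_eq_zero' (hsub hζ) hd hg
      rw [Set.mem_union, not_or] at hg
      exact (c.t13_18a hj).2.2 g hg.1 hg.2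
  let T₁ := (inducedIrrAbove_finite (commutator T) (fittingHall T)).toFinset
  have hT₁ : (T₁ : Set (T → ℂ)) = inducedIrrAbove (commutator T) (fittingHall T) :=
    Set.Finite.coe_toFinset _
  have hmem : ∀ φ ∈ T₁, φ ∈ inducedIrrAbove (commutator T) (fittingHall T) := fun φ hφ =>
    hT₁ ▸ Finset.mem_coe.2 hφ
  obtain ⟨Y, hY, hXY, hcard, hYo⟩ := card_le_of_inner_odd' hT₁.subset hν'.1
    (fun φ hφ => (d.t11_9a hII (hmem φ hφ)).1) fun φ hφ => hodd φ (hmem φ hφ)
  have hb := c.t13_18d hj (classFun_sub (gen_isClassFunction hΓ) hY) hY (sub_add_cancel _ _).symm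
    hXY fun i k => hYo _ fun φ hφ => c.cycTI.orthEta_swap.1 (d.coherent_orthEta
      (d.induced_subset hII _) hcs.conj_mem hν' (hmem φ hφ) (d.t11_9a hII (hmem φ hφ)).1) i k
  have hsum := sum_inducedIrrAbove_deg_sq hle T₁ hT₁
  rw [Finset.sum_congr rfl (g := fun _ => (Nat.card W₂ : ℝ) ^ 2) (fun φ hφ => by
    obtain ⟨hi, hd, -⟩ := d.t11_9a hII (hmem φ hφ)
    rw [rip_def, irr_inner_self hi, hd]; simp), Finset.sum_const, nsmul_eq_mul, hidx, hrel] at hsum
  have hp : (0 : ℝ) < Nat.card W₂ := by exact_mod_cast Nat.card_pos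
  have h1 : (T₁.card : ℝ) * Nat.card W₂ = Nat.card V - 1 := by
    apply mul_left_cancel₀ hp.ne'
    linarith
  have h2 : T₁.card * Nat.card W₂ = Nat.card V - 1 := by
    have : ((T₁.card * Nat.card W₂ : ℕ) : ℝ) = ((Nat.card V - 1 : ℕ) : ℝ) := by
      rw [Nat.cast_sub (by omega)]; push_cast; exact h1
    exact_mod_cast this
  have h3 : T₁.card ≤ (Nat.card U - 1) / Nat.card W₁ := by exact_mod_cast hcard.trans hb
  have h4 := h.t14_8 hqp
  have h5 := Nat.div_mul_le_self (Nat.card U - 1) (Nat.card W₁)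
  rw [← h2] at h4
  have h6 : T₁.card * Nat.card W₁ ≤ Nat.card U - 1 := (Nat.mul_le_mul_right _ h3).trans h5
  have h7 := Nat.mul_le_mul_right (Nat.card W₂) h6
  nlinarith

/-- the data of (7.8) for a Frobenius maximal subgroup -/
theorem exists_hyp78_frob14 (hG : IsMinSimpleOddOrder G) (hL : IsCoatom L)
    (hF : FrobKer (fittingHall L)) :
    ∃ ν ζ, Hyp78 L (fittingHall L) (typeA L) (typeA0 L) (supportR L) ν ζ := by
  obtain ⟨h0, h1, -⟩ := typeA_of_frob hG hL hF
  obtain ⟨-, ν, hν⟩ := t12_6 hG hL hF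
  obtain ⟨ζ, hζ, hd, -⟩ := exists_seqInd_lin_of_solvable (H := fittingHall L)
    (have := fittingHall_nilpotent L; inferInstance) hF.ne_bot
  rw [inducedIrrAbove_eq] at hν
  refine ⟨ν, ζ, ?_, mFT_odd hG L, hν, hζ, hF.irr_of_mem hζ, hd⟩
  rw [h1]
  exact Hyp76.of_map (dade_typeA0 hG hL) inferInstance (h0 ▸ subset_rfl)

section
variable {ν : (L → ℂ) → (G → ℂ)} {ζ : L → ℂ}

theorem PCtx.orthEta_nu14 (c : PCtx S W₁ U W₂) (hL : IsCoatom L) (hF : FrobKer (fittingHall L))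
    (h78 : Hyp78 L (fittingHall L) (typeA L) (typeA0 L) (supportR L) ν ζ) {φ : L → ℂ}
    (hφ : φ ∈ seqIndD (fittingHall L) (fittingHall L) ⊥) :
    OrthEta W₁.subtype W₂.subtype (ν φ) :=
  c.t13_19b hL (typeI_of_frob c.hG hL hF) (by rw [inducedIrrAbove_eq]; exact h78.coh)
    (by rwa [inducedIrrAbove_eq])

theorem PCtx.t13_19c14 (c : PCtx S W₁ U W₂) (hL : IsCoatom L) (hF : FrobKer (fittingHall L))
    (h78 : Hyp78 L (fittingHall L) (typeA L) (typeA0 L) (supportR L) ν ζ)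
    (hk : (Nat.card U - 1) * (fittingHall L).index < (Nat.card (fittingHall L) - 1) * Nat.card W₁)
    {j : W₂ →* ℂˣ} (hj : j ≠ 1) :
    (∃ n : ℤ, classInner (beta78 L (fittingHall L) (typeA0 L) (supportR L) ζ)
      (eta W₁.subtype W₂.subtype 1 j) = 2 * n + 1) ∧ Nat.card W₂ ≤ (fittingHall L).index := by
  rcases (c.t13_19c hL (typeI_of_frob c.hG hL hF) (τ₁ := ν)
    (by rw [inducedIrrAbove_eq]; exact h78.coh) (by rw [inducedIrrAbove_eq]; exact h78.mem)
    h78.deg hj).2 with ⟨-, h1⟩ | h1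
  · have h2 := Nat.div_mul_le_self (Nat.card U - 1) (Nat.card W₁)
    have h3 := Nat.mul_le_mul_right (Nat.card W₁) h1
    have h4 := Nat.mul_le_mul_left (fittingHall L).index h2
    nlinarith
  · exact h1

/-- (14.11.2) -/
theorem PPair.supp14 (h : PPair S T W₁ W₂ U V) (hL : IsCoatom L) (hF : FrobKer (fittingHall L))
    (h78 : Hyp78 L (fittingHall L) (typeA L) (typeA0 L) (supportR L) ν ζ)
    (hu : (Nat.card U - 1) * (fittingHall L).index < (Nat.card (fittingHall L) - 1) * Nat.card W₁)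
    (hv : (Nat.card V - 1) * (fittingHall L).index < (Nat.card (fittingHall L) - 1) * Nat.card W₂)
    (he : (fittingHall L).index ≤ Nat.card W₁ * Nat.card W₂) :
    (∀ i j, ∃ n : ℤ, classInner (beta78 L (fittingHall L) (typeA0 L) (supportR L) ζ)
      (eta W₁.subtype W₂.subtype i j) = 2 * n + 1) ∧
    (fittingHall L).index = Nat.card W₁ * Nat.card W₂ ∧
      (beta78 L (fittingHall L) (typeA0 L) (supportR L) ζ =
        etaProj W₁.subtype W₂.subtype (beta78 L (fittingHall L) (typeA0 L) (supportR L) ζ) - ν ζ ∨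
      beta78 L (fittingHall L) (typeA0 L) (supportR L) ζ =
        etaProj W₁.subtype W₂.subtype (beta78 L (fittingHall L) (typeA0 L) (supportR L) ζ) +
          ν (conjFun ζ)) := by
  have c := h.cS
  have hodd : ∀ i j, ∃ n : ℤ, classInner (beta78 L (fittingHall L) (typeA0 L) (supportR L) ζ)
      (eta W₁.subtype W₂.subtype i j) = 2 * n + 1 := by
    refine c.cycTI.odd_inner h78.beta_classFun (fun v hv => h78.beta_eq_zero fun hv' => ?_)
      h78.beta_inner_one (fun j hj => (c.t13_19c14 hL hF h78 hu hj).1) fun i hi => ?_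
    · rw [← tildeOf_eq_dadeSupp] at hv'
      refine Set.disjoint_left.1 (c.t13_19a hL (typeI_of_frob c.hG hL hF)) hv' (Or.inr ?_)
      obtain ⟨x, y, -, -, rfl⟩ := hv
      exact ⟨_, Subgroup.mul_mem_sup x.2 y.2, 1, by simp⟩
    · rw [← c.cycTI.eta_swap]
      exact (h.cT.t13_19c14 hL hF h78 hv hi).1
  exact ⟨hodd, h78.supp_coherence c.cycTI (c.orthEta_nu14 hL hF h78 h78.mem)
    (c.orthEta_nu14 hL hF h78 (seqIndD_conjFun h78.mem)) hodd he⟩

end

end CL.PF
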