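import Cfsg.Agent.PF.PrimeGrp
import Cfsg.Agent.Char.CliffordCorr
import Cfsg.Agent.Char.Invariant
import Cfsg.Agent.Char.Perm
import Cfsg.Agent.Char.Inflate

/-! # Peterfalvi (4.3), (4.4), (4.5) -/

set_option autoImplicit false

namespace CL.PF

open Cfsg CL.Char
open scoped ComplexConjugate

section Formal

variable {L X₁ X₂ : Type*} [Group L] [Group X₁] [Group X₂] {f₁ : X₁ →* L} {f₂ : X₂ →* L}

theorem dual_one_inv : (1 : X₁ →* ℂˣ)⁻¹ = 1 := by ext x; simp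

theorem delta_eq (j : X₂ →* ℂˣ) : delta f₁ f₂ j = 1 ∨ delta f₁ f₂ j = -1 := by
  unfold delta; split_ifs <;> simp

theorem delta_cast_eq (j : X₂ →* ℂˣ) : (delta f₁ f₂ j : ℂ) = 1 ∨ (delta f₁ f₂ j : ℂ) = -1 := by
  rcases delta_eq (f₁ := f₁) (f₂ := f₂) j with e | e <;> simp [e]

theorem delta_mul_self (j : X₂ →* ℂˣ) : (delta f₁ f₂ j : ℂ) * delta f₁ f₂ j = 1 := by
  rcases delta_cast_eq (f₁ := f₁) (f₂ := f₂) j with e | e <;> simp [e]

theorem delta_ne_zero (j : X₂ →* ℂˣ) : (delta f₁ f₂ j : ℂ) ≠ 0 := by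
  rcases delta_cast_eq (f₁ := f₁) (f₂ := f₂) j with e | e <;> simp [e]

theorem conj_delta (j : X₂ →* ℂˣ) : conj (delta f₁ f₂ j : ℂ) = delta f₁ f₂ j := map_intCast _ _

theorem mu_def (i : X₁ →* ℂˣ) (j : X₂ →* ℂˣ) :
    mu f₁ f₂ i j = (delta f₁ f₂ j : ℂ) • eta f₁ f₂ i j := rfl

theorem eta_eq_delta_smul_mu (i : X₁ →* ℂˣ) (j : X₂ →* ℂˣ) :
    eta f₁ f₂ i j = (delta f₁ f₂ j : ℂ) • mu f₁ f₂ i j := by
  rw [mu_def, smul_smul, delta_mul_self, one_smul]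

theorem chiRes_apply (K : Subgroup L) (j : X₂ →* ℂˣ) (k : K) :
    chiRes K f₁ f₂ j k = mu f₁ f₂ 1 j k := rfl

theorem chiRes_apply_one (K : Subgroup L) (j : X₂ →* ℂˣ) :
    chiRes K f₁ f₂ j 1 = mu f₁ f₂ 1 j 1 := rfl

theorem muCol_eq_smul [Finite X₁] (j : X₂ →* ℂˣ) :
    muCol f₁ f₂ j = (delta f₁ f₂ j : ℂ) • etaCol f₁ f₂ j := by
  rw [muCol, etaCol, Finset.smul_sum]; rfl

end Formal

variable {L X₁ X₂ : Type*} [Group L] [Fintype L] [Group X₁] [Group X₂]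
  {K : Subgroup L} {f₁ : X₁ →* L} {f₂ : X₂ →* L}

namespace PrimeTI

theorem indHom_apply (h : PrimeTI K f₁ f₂) (α : X₁ × X₂ → ℂ) {x : X₁} (hx : x ≠ 1) (y : X₂) :
    indHom h.tiPair.iota α (f₁ x * f₂ y) = α (x, y) :=
  indHom_apply_of_ti h.tiPair.iota_injective (isClassFunction_of_comm h.tiPair.comm_prod α) (x, y)
    fun _ w' e _ => h.tiPair.iota_range ▸ h.mem_of_conj_mem hx y
      (h.tiPair.iota_range ▸ ⟨w', e.symm⟩)

theorem inner_indHom [Fintype X₁] [Fintype X₂] (h : PrimeTI K f₁ f₂) {α : X₁ × X₂ → ℂ}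
    (hα : ∀ p : X₁ × X₂, p.1 = 1 → α p = 0) (β : X₁ × X₂ → ℂ) :
    classInner (indHom h.tiPair.iota α) (indHom h.tiPair.iota β) = classInner α β := by
  rw [classInner_indHom_left h.tiPair.iota_injective α (indHom_isClassFunction _ _)]
  exact classInner_congr_right fun p hp => h.indHom_apply β (fun e => hp (hα p e)) p.2

/-- (4.3.b), the induction formula -/
theorem indHom_omega_sub (h : PrimeTI K f₁ f₂) (i i' : X₁ →* ℂˣ) (j : X₂ →* ℂˣ) :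
    indHom h.tiPair.iota (omegaF i j - omegaF i' j) = eta f₁ f₂ i j - eta f₁ f₂ i' j := by
  classical
  by_cases hi : i = i'
  · rw [hi, indHom_sub h.tiPair.iota_injective, sub_self, sub_self]
  have := h.finite₁
  have := h.finite₂
  have := Fintype.ofFinite X₁
  have := Fintype.ofFinite X₂
  have := h.cycTI.eq_signed_sub' (gen_indHom h.tiPair.iota_injective
    (gen_sub (gen_omegaF i j) (gen_omegaF i' j))) (by
      rw [h.inner_indHom (fun p hp => by simp [omegaF, hp])]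
      simp only [classInner_sub_left, classInner_sub_right, inner_omegaF, hi, Ne.symm hi, if_true,
        if_false]
      norm_num) (Or.inl rfl) j hi (by
      rintro _ ⟨x, y, hx, hy, rfl⟩
      rw [h.indHom_apply _ hx]
      simp [h.cycTI.eta_apply _ _ hx hy, omegaF])
  simpa using this

theorem eta_apply_one (h : PrimeTI K f₁ f₂) (i : X₁ →* ℂˣ) (j : X₂ →* ℂˣ) :
    eta f₁ f₂ i j 1 = eta f₁ f₂ 1 j 1 := by
  have := congrFun (h.indHom_omega_sub i 1 j) 1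
  rw [indHom_one h.tiPair.iota_injective] at this
  simp only [omegaF, Pi.sub_apply, Prod.fst_one, map_one, sub_self, mul_zero] at this
  exact (sub_eq_zero.1 this.symm)

theorem mu_apply_one (h : PrimeTI K f₁ f₂) (i : X₁ →* ℂˣ) (j : X₂ →* ℂˣ) :
    mu f₁ f₂ i j 1 = mu f₁ f₂ 1 j 1 := by
  simp only [mu_def, Pi.smul_apply, h.eta_apply_one i j]

/-- (4.3.b) -/
theorem mu_irr (h : PrimeTI K f₁ f₂) (i : X₁ →* ℂˣ) (j : X₂ →* ℂˣ) :
    IsIrrCharacter L (mu f₁ f₂ i j) := by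
  have h1 : IsIrrCharacter L (mu f₁ f₂ 1 j) := by
    unfold mu delta
    split_ifs with e
    · simpa using e
    · simpa using (h.cycTI.eta_signed 1 j).resolve_left e
  exact ((h.cycTI.eta_signed i j).sign_smul (delta_eq j)).irr_of_apply_one_eq h1
    (h.mu_apply_one i j)

theorem mu_char (h : PrimeTI K f₁ f₂) (i : X₁ →* ℂˣ) (j : X₂ →* ℂˣ) :
    IsCharacter L (mu f₁ f₂ i j) := irr_isCharacter (h.mu_irr i j)

theorem mu_gen (h : PrimeTI K f₁ f₂) (i : X₁ →* ℂˣ) (j : X₂ →* ℂˣ) :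
    IsGeneralizedCharacter L (mu f₁ f₂ i j) := gen_of_irr (h.mu_irr i j)

theorem mu_classFun (h : PrimeTI K f₁ f₂) (i : X₁ →* ℂˣ) (j : X₂ →* ℂˣ) :
    IsClassFunction L (mu f₁ f₂ i j) := irr_isClassFunction (h.mu_irr i j)

theorem mu_inj (h : PrimeTI K f₁ f₂) {i i' : X₁ →* ℂˣ} {j j' : X₂ →* ℂˣ}
    (he : mu f₁ f₂ i j = mu f₁ f₂ i' j') : i = i' ∧ j = j' := by
  by_contra hne
  have := irr_inner_self (h.mu_irr i j)
  nth_rewrite 2 [he] at this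
  rw [mu_def, mu_def, classInner_smul_left, classInner_smul_right,
    h.cycTI.eta_inner_of_ne (not_and_or.1 hne)] at this
  simp at this

theorem mu_inner_self (h : PrimeTI K f₁ f₂) (i : X₁ →* ℂˣ) (j : X₂ →* ℂˣ) :
    classInner (mu f₁ f₂ i j) (mu f₁ f₂ i j) = 1 := irr_inner_self (h.mu_irr i j)

theorem mu_inner_of_ne (h : PrimeTI K f₁ f₂) {i i' : X₁ →* ℂˣ} {j j' : X₂ →* ℂˣ}
    (hne : i ≠ i' ∨ j ≠ j') : classInner (mu f₁ f₂ i j) (mu f₁ f₂ i' j') = 0 :=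
  irr_inner_of_ne (h.mu_irr _ _) (h.mu_irr _ _) fun e => not_and_or.2 hne (h.mu_inj e)

theorem mu_inner' (h : PrimeTI K f₁ f₂) (i i' : X₁ →* ℂˣ) (j j' : X₂ →* ℂˣ)
    [Decidable (i = i' ∧ j = j')] :
    classInner (mu f₁ f₂ i j) (mu f₁ f₂ i' j') = if i = i' ∧ j = j' then 1 else 0 := by
  split_ifs with e
  · obtain ⟨rfl, rfl⟩ := e; exact h.mu_inner_self i j
  · exact h.mu_inner_of_ne (not_and_or.1 e)

open Classical in
theorem mu_inner (h : PrimeTI K f₁ f₂) (i i' : X₁ →* ℂˣ) (j j' : X₂ →* ℂˣ) :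
    classInner (mu f₁ f₂ i j) (mu f₁ f₂ i' j') = if i = i' ∧ j = j' then 1 else 0 :=
  h.mu_inner' i i' j j'

theorem mu_inner_mul (h : PrimeTI K f₁ f₂) (i i' : X₁ →* ℂˣ) (j j' : X₂ →* ℂˣ)
    [Decidable (i = i')] [Decidable (j = j')] :
    classInner (mu f₁ f₂ i j) (mu f₁ f₂ i' j') =
      (if i = i' then 1 else 0) * (if j = j' then 1 else 0) := by
  rw [h.mu_inner']
  by_cases e1 : i = i' <;> by_cases e2 : j = j' <;> simp [e1, e2]

/-- The values of a class function on `W - W₂`. -/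
theorem apply_eq_sum [Finite X₁] [Finite X₂] (h : PrimeTI K f₁ f₂) {θ : L → ℂ}
    (hθ : IsClassFunction L θ) {x : X₁} (hx : x ≠ 1) (y : X₂) :
    θ (f₁ x * f₂ y) = ∑ i : X₁ →* ℂˣ, ∑ j : X₂ →* ℂˣ,
      classInner θ (eta f₁ f₂ i j) * ((i x : ℂ) * (j y : ℂ)) := by
  have := Fintype.ofFinite X₁
  have := Fintype.ofFinite X₂
  have hr : ∀ i j, classInner (fun w => θ (h.tiPair.iota w)) (omegaF i j) =
      classInner θ (eta f₁ f₂ i j) + (classInner (fun w => θ (h.tiPair.iota w)) (omegaF 1 j) -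
        classInner θ (eta f₁ f₂ 1 j)) := fun i j => by
    have e := classInner_indHom_right h.tiPair.iota_injective (omegaF i j - omegaF 1 j) hθ
    rw [h.indHom_omega_sub] at e
    simp only [classInner_sub_right] at e
    linear_combination -e
  have e2 := fourier_prod h.comm₁ h.comm₂ (fun w => θ (h.tiPair.iota w)) x y
  refine e2.trans ?_
  rw [Finset.sum_congr rfl fun i _ => Finset.sum_congr rfl fun j _ => by rw [hr i j, add_mul]]
  simp only [Finset.sum_add_distrib]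
  rw [add_eq_left, Finset.sum_comm]
  refine Finset.sum_eq_zero fun j _ => ?_
  rw [← Finset.mul_sum, ← Finset.sum_mul, sum_dual_eq_zero h.comm₁ hx, zero_mul, mul_zero]

theorem eta_apply (h : PrimeTI K f₁ f₂) (i : X₁ →* ℂˣ) (j : X₂ →* ℂˣ) {x : X₁} (hx : x ≠ 1)
    (y : X₂) : eta f₁ f₂ i j (f₁ x * f₂ y) = (i x : ℂ) * (j y : ℂ) := by
  classical
  have := h.finite₁
  have := h.finite₂
  rw [h.apply_eq_sum (h.cycTI.eta_classFun i j) hx y]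
  simp [h.cycTI.eta_inner_mul]

/-- (4.3.c) -/
theorem mu_apply (h : PrimeTI K f₁ f₂) (i : X₁ →* ℂˣ) (j : X₂ →* ℂˣ) {x : X₁} (hx : x ≠ 1)
    (y : X₂) :
    mu f₁ f₂ i j (f₁ x * f₂ y) = (delta f₁ f₂ j : ℂ) * ((i x : ℂ) * (j y : ℂ)) := by
  rw [mu_def, Pi.smul_apply, h.eta_apply i j hx, smul_eq_mul]

theorem mu_apply₁ (h : PrimeTI K f₁ f₂) (i : X₁ →* ℂˣ) (j : X₂ →* ℂˣ) {x : X₁} (hx : x ≠ 1) :
    mu f₁ f₂ i j (f₁ x) = (delta f₁ f₂ j : ℂ) * (i x : ℂ) := by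
  simpa using h.mu_apply i j hx 1

theorem orthEta_iff {θ : L → ℂ} :
    OrthEta f₁ f₂ θ ↔ ∀ i j, classInner θ (mu f₁ f₂ i j) = 0 := by
  refine ⟨fun ho i j => ?_, fun ho i j => ?_⟩
  · rw [mu_def, classInner_smul_right, ho, mul_zero]
  · rw [eta_eq_delta_smul_mu, classInner_smul_right, ho, mul_zero]

/-- A class function orthogonal to all `μ_{ij}` vanishes outside `K`. -/
theorem eq_zero_of_orth (h : PrimeTI K f₁ f₂) {θ : L → ℂ} (hθ : IsClassFunction L θ)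
    (ho : ∀ i j, classInner θ (mu f₁ f₂ i j) = 0) {g : L} (hg : g ∉ K) : θ g = 0 := by
  have := h.finite₁
  have := h.finite₂
  obtain ⟨m, x, y, hx, rfl⟩ := h.exists_conj_of_not_mem hg
  rw [hθ, h.apply_eq_sum hθ hx]
  simp [orthEta_iff.2 ho _ _]

/-- (4.3.c), second part -/
theorem irr_eq_zero (h : PrimeTI K f₁ f₂) {θ : L → ℂ} (hθ : IsIrrCharacter L θ)
    (hne : ∀ i j, θ ≠ mu f₁ f₂ i j) {g : L} (hg : g ∉ K) : θ g = 0 :=
  h.eq_zero_of_orth (irr_isClassFunction hθ)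
    (fun i j => irr_inner_of_ne hθ (h.mu_irr i j) (hne i j)) hg

/-- (4.3.d) -/
theorem mu_apply_one_modEq (h : PrimeTI K f₁ f₂) (i : X₁ →* ℂˣ) (j : X₂ →* ℂˣ) :
    ∃ n : ℤ, mu f₁ f₂ i j 1 = (delta f₁ f₂ j : ℂ) + n * (Nat.card X₁ : ℂ) := by
  classical
  have := h.finite₁
  have := Fintype.ofFinite X₁
  obtain ⟨n, hn⟩ := gen_inner_int (gen_comp (h.mu_gen i j) f₁) (gen_of_irr (irr_unitsHom i))
  have e := card_mul_classInner (fun x => mu f₁ f₂ i j (f₁ x)) (fun x => (i x : ℂ))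
  rw [hn, ← Finset.add_sum_erase _ _ (Finset.mem_univ 1), Finset.sum_congr rfl (g := fun _ =>
    (delta f₁ f₂ j : ℂ)) (fun x hx => by
      rw [h.mu_apply₁ i j (Finset.ne_of_mem_erase hx), mul_assoc, linear_mul_conj, mul_one]),
    Finset.sum_const, Finset.card_erase_of_mem (Finset.mem_univ _), Finset.card_univ,
    ← Nat.card_eq_fintype_card, nsmul_eq_mul, Nat.cast_pred Nat.card_pos] at e
  simp only [map_one, Units.val_one, mul_one] at e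
  exact ⟨n - delta f₁ f₂ j, by push_cast; linear_combination -e⟩

theorem eta_eq_mul (h : PrimeTI K f₁ f₂) (i : X₁ →* ℂˣ) (j : X₂ →* ℂˣ) :
    eta f₁ f₂ i j = fun g => (i (h.proj g) : ℂ) * eta f₁ f₂ 1 j g :=
  (h.cycTI.eq_eta ((h.cycTI.eta_signed 1 j).unitsHom_mul (i.comp h.proj)) i j fun x y hx hy => by
    simp [h.proj_map, h.proj_map₂, h.cycTI.eta_apply 1 j hx hy]).symm

theorem delta_one (h : PrimeTI K f₁ f₂) : delta f₁ f₂ 1 = 1 := by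
  unfold delta
  rw [h.cycTI.eta_one, if_pos irr_one]

theorem mu_one (h : PrimeTI K f₁ f₂) : mu f₁ f₂ 1 1 = fun _ => 1 := by
  rw [mu_def, h.delta_one, h.cycTI.eta_one]; simp

theorem mu_col_one_eq_eta (h : PrimeTI K f₁ f₂) (i : X₁ →* ℂˣ) :
    mu f₁ f₂ i 1 = eta f₁ f₂ i 1 := by
  rw [mu_def, h.delta_one]; simp

theorem mu_apply_eq_mul (h : PrimeTI K f₁ f₂) (i : X₁ →* ℂˣ) (j : X₂ →* ℂˣ) (g : L) :
    mu f₁ f₂ i j g = (i (h.proj g) : ℂ) * mu f₁ f₂ 1 j g := by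
  rw [mu_def, mu_def, h.eta_eq_mul i j]
  simp only [Pi.smul_apply, smul_eq_mul]
  ring

theorem mu_col_one (h : PrimeTI K f₁ f₂) (i : X₁ →* ℂˣ) :
    mu f₁ f₂ i 1 = fun g => (i (h.proj g) : ℂ) := by
  funext g
  rw [h.mu_apply_eq_mul, h.mu_one, mul_one]

/-- (4.4): the `μ_{i0}` are the linear characters with kernel containing `K` -/
theorem mu_col_one_apply (h : PrimeTI K f₁ f₂) (i : X₁ →* ℂˣ) {k : L} (hk : k ∈ K)
    (x : X₁) : mu f₁ f₂ i 1 (k * f₁ x) = i x := by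
  simp only [h.mu_col_one, map_mul, h.proj_of_mem hk, h.proj_map, one_mul]

theorem mu_col_one_apply_mem (h : PrimeTI K f₁ f₂) (i : X₁ →* ℂˣ) {k : L} (hk : k ∈ K) :
    mu f₁ f₂ i 1 k = 1 := by
  simp only [h.mu_col_one, h.proj_of_mem hk, map_one, Units.val_one]

theorem exists_eq_mu_col_one (h : PrimeTI K f₁ f₂) {θ : L → ℂ} (hθ : IsIrrCharacter L θ)
    (hK : ∀ k ∈ K, θ k = θ 1) : ∃ i, θ = mu f₁ f₂ i 1 := by
  have := h.finite₁
  obtain ⟨φ, hφ, e⟩ := irr_exists_comp_eq hθ h.proj h.proj_surjective (h.ker_proj.symm ▸ hK)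
  obtain ⟨i, rfl⟩ := (isIrrCharacter_iff_linear_of_comm h.comm₁).1 hφ
  exact ⟨i, by rw [h.mu_col_one]; exact funext fun g => (e g).symm⟩

theorem mu_eq_mul (h : PrimeTI K f₁ f₂) (i : X₁ →* ℂˣ) (j : X₂ →* ℂˣ) :
    mu f₁ f₂ i j = mu f₁ f₂ i 1 * mu f₁ f₂ 1 j := by
  funext g
  rw [h.mu_apply_eq_mul, Pi.mul_apply, h.mu_col_one]

theorem mu_apply_mem (h : PrimeTI K f₁ f₂) (i : X₁ →* ℂˣ) (j : X₂ →* ℂˣ) {k : L} (hk : k ∈ K) :
    mu f₁ f₂ i j k = mu f₁ f₂ 1 j k := by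
  rw [h.mu_apply_eq_mul, h.proj_of_mem hk]; simp

/-- (4.5.a) -/
theorem mu_res (h : PrimeTI K f₁ f₂) (i : X₁ →* ℂˣ) (j : X₂ →* ℂˣ) (k : K) :
    mu f₁ f₂ i j k = chiRes K f₁ f₂ j k := h.mu_apply_mem i j k.2

theorem res_mu (h : PrimeTI K f₁ f₂) (i : X₁ →* ℂˣ) (j : X₂ →* ℂˣ) :
    (fun k : K => mu f₁ f₂ i j k) = chiRes K f₁ f₂ j := funext (h.mu_res i j)

theorem chiRes_one (h : PrimeTI K f₁ f₂) : chiRes K f₁ f₂ 1 = fun _ => 1 := by
  funext k; rw [chiRes_apply, h.mu_one]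

theorem chiRes_char (h : PrimeTI K f₁ f₂) (j : X₂ →* ℂˣ) : IsCharacter K (chiRes K f₁ f₂ j) :=
  char_restrict (h.mu_char 1 j) K

theorem inertia_chiRes (h : PrimeTI K f₁ f₂) (j : X₂ →* ℂˣ) :
    haveI := h.normal
    inertia K (chiRes K f₁ f₂ j) = ⊤ :=
  haveI := h.normal
  inertia_res K (h.mu_classFun 1 j)

theorem delta_inv (h : PrimeTI K f₁ f₂) (j : X₂ →* ℂˣ) :
    delta f₁ f₂ j⁻¹ = delta f₁ f₂ j := by
  have e := h.cycTI.eta_conj 1 j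
  rw [dual_one_inv] at e
  unfold delta
  rw [← e]
  congr 1
  exact propext ⟨fun h' => by simpa [conjFun_conjFun] using irr_conjFun h', irr_conjFun⟩

theorem mu_conj (h : PrimeTI K f₁ f₂) (i : X₁ →* ℂˣ) (j : X₂ →* ℂˣ) :
    conjFun (mu f₁ f₂ i j) = mu f₁ f₂ i⁻¹ j⁻¹ := by
  rw [mu_def, mu_def, h.delta_inv, ← h.cycTI.eta_conj]
  funext g
  simp [conjFun]

theorem delta_aut (h : PrimeTI K f₁ f₂) (σ : ℂ ≃+* ℂ) {j j' : X₂ →* ℂˣ}
    (hj : ∀ y, (j' y : ℂ) = σ (j y)) : delta f₁ f₂ j' = delta f₁ f₂ j := by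
  have e := h.cycTI.eta_aut σ (i := 1) (i' := 1) (by simp) hj
  unfold delta
  rw [e]
  congr 1
  exact propext ⟨fun h' => by simpa using irr_map σ.symm h', irr_map σ⟩

theorem mu_aut (h : PrimeTI K f₁ f₂) (σ : ℂ ≃+* ℂ) {i i' : X₁ →* ℂˣ} {j j' : X₂ →* ℂˣ}
    (hi : ∀ x, (i' x : ℂ) = σ (i x)) (hj : ∀ y, (j' y : ℂ) = σ (j y)) :
    mu f₁ f₂ i' j' = fun g => σ (mu f₁ f₂ i j g) := by
  rw [mu_def, mu_def, h.delta_aut σ hj, h.cycTI.eta_aut σ hi hj]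
  funext g
  simp

theorem chiRes_conj (h : PrimeTI K f₁ f₂) (j : X₂ →* ℂˣ) :
    conjFun (chiRes K f₁ f₂ j) = chiRes K f₁ f₂ j⁻¹ := by
  funext k
  have := congrFun (h.mu_conj 1 j) k
  rwa [dual_one_inv] at this

theorem mu_apply_one_inv (h : PrimeTI K f₁ f₂) (i : X₁ →* ℂˣ) (j : X₂ →* ℂˣ) :
    mu f₁ f₂ i j⁻¹ 1 = mu f₁ f₂ i j 1 := by
  obtain ⟨n, -, hn⟩ := irr_apply_one (h.mu_irr i j)
  rw [h.mu_apply_one, ← h.mu_apply_one i⁻¹, ← h.mu_conj, conjFun_apply, hn, map_natCast]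

variable [Finite X₁]

theorem muCol_apply (h : PrimeTI K f₁ f₂) (j : X₂ →* ℂˣ) (g : L) :
    muCol f₁ f₂ j g = (∑ i : X₁ →* ℂˣ, (i (h.proj g) : ℂ)) * mu f₁ f₂ 1 j g := by
  rw [muCol, Finset.sum_apply, Finset.sum_mul]
  exact Finset.sum_congr rfl fun i _ => h.mu_apply_eq_mul i j g

theorem muCol_apply_mem (h : PrimeTI K f₁ f₂) (j : X₂ →* ℂˣ) {k : L} (hk : k ∈ K) :
    muCol f₁ f₂ j k = (Nat.card X₁ : ℂ) * mu f₁ f₂ 1 j k := by
  rw [h.muCol_apply, h.proj_of_mem hk, ← card_dual h.comm₁]; simp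

theorem muCol_apply_one (h : PrimeTI K f₁ f₂) (j : X₂ →* ℂˣ) :
    muCol f₁ f₂ j 1 = (Nat.card X₁ : ℂ) * mu f₁ f₂ 1 j 1 := h.muCol_apply_mem j K.one_mem

theorem muCol_eq_zero (h : PrimeTI K f₁ f₂) (j : X₂ →* ℂˣ) {g : L} (hg : g ∉ K) :
    muCol f₁ f₂ j g = 0 := by
  rw [h.muCol_apply, sum_dual_eq_zero h.comm₁ (mt h.proj_eq_one_iff.1 hg), zero_mul]

theorem indFun_chiRes (h : PrimeTI K f₁ f₂) (j : X₂ →* ℂˣ) :
    indFun K (chiRes K f₁ f₂ j) = muCol f₁ f₂ j := by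
  have := h.normal
  funext g
  by_cases hg : g ∈ K
  · have := congrFun (res_indFun_of_invariant K (h.inertia_chiRes j)) ⟨g, hg⟩
    rw [h.muCol_apply_mem j hg, ← h.index_eq]
    exact this
  · rw [h.muCol_eq_zero j hg, indFun_eq_zero_of_normal K _ hg]

theorem muCol_char (h : PrimeTI K f₁ f₂) (j : X₂ →* ℂˣ) : IsCharacter L (muCol f₁ f₂ j) :=
  char_sum _ fun i _ => h.mu_char i j

theorem muCol_gen (h : PrimeTI K f₁ f₂) (j : X₂ →* ℂˣ) :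
    IsGeneralizedCharacter L (muCol f₁ f₂ j) := gen_of_char (h.muCol_char j)

theorem muCol_classFun (h : PrimeTI K f₁ f₂) (j : X₂ →* ℂˣ) :
    IsClassFunction L (muCol f₁ f₂ j) := char_isClassFunction (h.muCol_char j)

theorem muCol_one (h : PrimeTI K f₁ f₂) : muCol f₁ f₂ 1 = indFun K (fun _ => 1) := by
  rw [← h.indFun_chiRes, h.chiRes_one]

theorem mu_muCol_inner' (h : PrimeTI K f₁ f₂) (i : X₁ →* ℂˣ) (j k : X₂ →* ℂˣ)
    [Decidable (j = k)] :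
    classInner (mu f₁ f₂ i j) (muCol f₁ f₂ k) = if j = k then 1 else 0 := by
  classical
  simp [muCol, classInner_sum_right, h.mu_inner_mul]

open Classical in
theorem mu_muCol_inner (h : PrimeTI K f₁ f₂) (i : X₁ →* ℂˣ) (j k : X₂ →* ℂˣ) :
    classInner (mu f₁ f₂ i j) (muCol f₁ f₂ k) = if j = k then 1 else 0 := h.mu_muCol_inner' i j k

theorem muCol_mu_inner (h : PrimeTI K f₁ f₂) (i : X₁ →* ℂˣ) (j k : X₂ →* ℂˣ)
    [Decidable (j = k)] :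
    classInner (muCol f₁ f₂ k) (mu f₁ f₂ i j) = if j = k then 1 else 0 := by
  rw [← conj_classInner, h.mu_muCol_inner']; split_ifs <;> simp

theorem muCol_inner' (h : PrimeTI K f₁ f₂) (j k : X₂ →* ℂˣ) [Decidable (j = k)] :
    classInner (muCol f₁ f₂ j) (muCol f₁ f₂ k) = if j = k then (Nat.card X₁ : ℂ) else 0 := by
  nth_rewrite 1 [muCol]
  simp only [classInner_sum_left, h.mu_muCol_inner', Finset.sum_const, Finset.card_univ,
    card_dual h.comm₁]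
  split_ifs <;> simp

open Classical in
theorem muCol_inner (h : PrimeTI K f₁ f₂) (j k : X₂ →* ℂˣ) :
    classInner (muCol f₁ f₂ j) (muCol f₁ f₂ k) = if j = k then (Nat.card X₁ : ℂ) else 0 :=
  h.muCol_inner' j k

theorem muCol_inner_self (h : PrimeTI K f₁ f₂) (j : X₂ →* ℂˣ) :
    classInner (muCol f₁ f₂ j) (muCol f₁ f₂ j) = (Nat.card X₁ : ℂ) := by
  rw [h.muCol_inner, if_pos rfl]

theorem muCol_inner_of_ne (h : PrimeTI K f₁ f₂) {j k : X₂ →* ℂˣ} (hjk : j ≠ k) :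
    classInner (muCol f₁ f₂ j) (muCol f₁ f₂ k) = 0 := by
  rw [h.muCol_inner, if_neg hjk]

theorem muCol_inj (h : PrimeTI K f₁ f₂) : Function.Injective (muCol f₁ f₂) := by
  intro j k e
  by_contra hne
  have := h.muCol_inner_of_ne hne
  rw [e, h.muCol_inner_self] at this
  exact natCard_cast_ne_zero X₁ this

theorem muCol_not_irr (h : PrimeTI K f₁ f₂) (j : X₂ →* ℂˣ) :
    ¬ IsIrrCharacter L (muCol f₁ f₂ j) := by
  intro hi
  have e := irr_inner_self hi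
  rw [h.muCol_inner_self, Nat.cast_eq_one] at e
  have := h.cycTI.three_le₁
  omega

theorem muCol_conj (h : PrimeTI K f₁ f₂) (j : X₂ →* ℂˣ) :
    conjFun (muCol f₁ f₂ j) = muCol f₁ f₂ j⁻¹ := by
  rw [← h.indFun_chiRes, ← h.indFun_chiRes, ← h.chiRes_conj]
  exact (indFun_conj K _).symm

theorem muCol_aut (h : PrimeTI K f₁ f₂) (σ : ℂ ≃+* ℂ) {j j' : X₂ →* ℂˣ}
    (hj : ∀ y, (j' y : ℂ) = σ (j y)) : muCol f₁ f₂ j' = fun g => σ (muCol f₁ f₂ j g) := by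
  funext g
  have e := congrFun (h.mu_aut σ (i := 1) (i' := 1) (by simp) hj) g
  by_cases hg : g ∈ K
  · rw [h.muCol_apply_mem _ hg, h.muCol_apply_mem _ hg, e, map_mul, map_natCast]
  · rw [h.muCol_eq_zero _ hg, h.muCol_eq_zero _ hg, map_zero]

theorem muCol_apply_one_inv (h : PrimeTI K f₁ f₂) (j : X₂ →* ℂˣ) :
    muCol f₁ f₂ j⁻¹ 1 = muCol f₁ f₂ j 1 := by
  rw [h.muCol_apply_one, h.muCol_apply_one, h.mu_apply_one_inv]

theorem mu_apply_one_eq_of_muCol (h : PrimeTI K f₁ f₂) {j k : X₂ →* ℂˣ}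
    (hd : muCol f₁ f₂ j 1 = muCol f₁ f₂ k 1) (i : X₁ →* ℂˣ) :
    mu f₁ f₂ i j 1 = mu f₁ f₂ i k 1 := by
  rw [h.muCol_apply_one, h.muCol_apply_one] at hd
  rw [h.mu_apply_one, h.mu_apply_one i k]
  exact mul_left_cancel₀ (natCard_cast_ne_zero X₁) hd

omit [Finite X₁]

theorem chiRes_inner (h : PrimeTI K f₁ f₂) [Fintype K] (j k : X₂ →* ℂˣ) [Decidable (j = k)] :
    classInner (chiRes K f₁ f₂ j) (chiRes K f₁ f₂ k) = if j = k then 1 else 0 := by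
  have := h.finite₁
  rw [← h.mu_muCol_inner' 1 j k, ← h.indFun_chiRes, classInner_indFun_right K _ (h.mu_classFun 1 j)]
  rfl

theorem chiRes_irr (h : PrimeTI K f₁ f₂) (j : X₂ →* ℂˣ) :
    IsIrrCharacter K (chiRes K f₁ f₂ j) := by
  classical
  exact isIrrCharacter_iff.2 ⟨h.chiRes_char j, by rw [h.chiRes_inner, if_pos rfl]⟩

theorem chiRes_inj (h : PrimeTI K f₁ f₂) : Function.Injective (chiRes K f₁ f₂) := by
  have := h.finite₁
  intro j k e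
  apply h.muCol_inj
  rw [← h.indFun_chiRes, ← h.indFun_chiRes, e]

/-- the sign `δ_j` is determined by the degree of `μ_{ij}` -/
theorem delta_eq_of_apply_one (h : PrimeTI K f₁ f₂) {i i' : X₁ →* ℂˣ} {j k : X₂ →* ℂˣ}
    (hd : mu f₁ f₂ i j 1 = mu f₁ f₂ i' k 1) : delta f₁ f₂ j = delta f₁ f₂ k := by
  obtain ⟨n, hn⟩ := h.mu_apply_one_modEq i j
  obtain ⟨m, hm⟩ := h.mu_apply_one_modEq i' k
  have e : delta f₁ f₂ j + n * (Nat.card X₁ : ℤ) = delta f₁ f₂ k + m * (Nat.card X₁ : ℤ) := by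
    have : ((delta f₁ f₂ j + n * (Nat.card X₁ : ℤ) : ℤ) : ℂ) =
        (delta f₁ f₂ k + m * (Nat.card X₁ : ℤ) : ℤ) := by
      push_cast; rw [← hn, ← hm, hd]
    exact_mod_cast this
  have h3 : (3 : ℤ) ≤ Nat.card X₁ := by exact_mod_cast h.cycTI.three_le₁
  have hd : (Nat.card X₁ : ℤ) ∣ delta f₁ f₂ j - delta f₁ f₂ k := ⟨m - n, by linarith⟩
  have := Int.eq_zero_of_abs_lt_dvd hd (by
    rcases delta_eq (f₁ := f₁) (f₂ := f₂) j with e1 | e1 <;>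
    rcases delta_eq (f₁ := f₁) (f₂ := f₂) k with e2 | e2 <;> rw [e1, e2] <;> norm_num <;> omega)
  omega

/-! ### (4.5.b) -/

/-- An irreducible character of `K` fixed by a nonidentity element of `W₁` is one of the `χ_j`. -/
theorem exists_eq_chiRes_of_fixed (h : PrimeTI K f₁ f₂) {θ : K → ℂ} (hθ : IsIrrCharacter K θ)
    {x : X₁} (hx : x ≠ 1)
    (hfix : ∀ k : K, θ ⟨f₁ x * k * (f₁ x)⁻¹, h.normal.conj_mem k k.2 _⟩ = θ k) :
    ∃ j, θ = chiRes K f₁ f₂ j := by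
  have := h.normal
  have := h.finite₂
  have e1 := brauer_perm_aut (MulAut.conjNormal (f₁ x) : MulAut K)
  have e2 := card_fixed_class_le K (h.coprime_orderOf x)
  rw [← e1, h.cent' hx, h.card_range₂, ← h.cycTI.card_dual₂] at e2
  let F : (X₂ →* ℂˣ) → {χ : IrrCharacter K // ∀ g, (χ : K → ℂ)
      ((MulAut.conjNormal (f₁ x) : MulAut K) g) = (χ : K → ℂ) g} :=
    fun j => ⟨⟨chiRes K f₁ f₂ j, h.chiRes_irr j⟩, fun g => h.mu_classFun 1 j g (f₁ x)⟩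
  have hF : Function.Injective F := fun j k e =>
    h.chiRes_inj (congrArg (fun t => (t.1 : K → ℂ)) e)
  obtain ⟨j, hj⟩ := (hF.bijective_of_nat_card_le e2).2 ⟨⟨θ, hθ⟩, hfix⟩
  exact ⟨j, (congrArg (fun t => (t.1 : K → ℂ)) hj).symm⟩

theorem inertia_le (h : PrimeTI K f₁ f₂) {θ : K → ℂ} (hθ : IsIrrCharacter K θ)
    (hne : ∀ j, θ ≠ chiRes K f₁ f₂ j) :
    haveI := h.normal
    inertia K θ ≤ K := by
  have := h.normal
  intro g hg
  obtain ⟨k, hk, x, rfl⟩ := h.exists_mul g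
  by_cases hx : x = 1
  · simpa [hx] using hk
  · have := (Subgroup.mul_mem_cancel_left _ (le_inertia K (irr_isClassFunction hθ) hk)).1 hg
    obtain ⟨j, hj⟩ := h.exists_eq_chiRes_of_fixed hθ hx this
    exact absurd hj (hne j)

theorem indFun_ne_mu (h : PrimeTI K f₁ f₂) (θ : K → ℂ) (i : X₁ →* ℂˣ) (j : X₂ →* ℂˣ) :
    indFun K θ ≠ mu f₁ f₂ i j := by
  have := h.normal
  have := h.tiPair.nontrivial₁
  obtain ⟨x, hx⟩ := exists_ne (1 : X₁)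
  intro e
  have := congrFun e (f₁ x)
  rw [indFun_eq_zero_of_normal K _ (mt h.mem_iff.1 hx), h.mu_apply₁ i j hx] at this
  exact mul_ne_zero (delta_ne_zero j) (Units.ne_zero _) this.symm

theorem irr_indFun (h : PrimeTI K f₁ f₂) {θ : K → ℂ} (hθ : IsIrrCharacter K θ)
    (hne : ∀ j, θ ≠ chiRes K f₁ f₂ j) : IsIrrCharacter L (indFun K θ) :=
  haveI := h.normal
  irr_indFun_of_inertia_le K hθ (h.inertia_le hθ hne)

/-- (4.5.b) -/
theorem irr_cases (h : PrimeTI K f₁ f₂) {θ : K → ℂ} (hθ : IsIrrCharacter K θ) :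
    (∃ j, θ = chiRes K f₁ f₂ j) ∨
      (IsIrrCharacter L (indFun K θ) ∧ ∀ i j, indFun K θ ≠ mu f₁ f₂ i j) := by
  by_cases e : ∃ j, θ = chiRes K f₁ f₂ j
  · exact Or.inl e
  · exact Or.inr ⟨h.irr_indFun hθ (not_exists.1 e), h.indFun_ne_mu θ⟩

/-- A function induced from an irreducible character of `K` is irreducible or one of the `μ_j`. -/
theorem indFun_cases [Finite X₁] (h : PrimeTI K f₁ f₂) {θ : K → ℂ} (hθ : IsIrrCharacter K θ) :
    (∃ j, θ = chiRes K f₁ f₂ j ∧ indFun K θ = muCol f₁ f₂ j) ∨ IsIrrCharacter L (indFun K θ) := by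
  rcases h.irr_cases hθ with ⟨j, rfl⟩ | e
  · exact Or.inl ⟨j, rfl, h.indFun_chiRes j⟩
  · exact Or.inr e.1

/-- (4.5.b), second part -/
theorem irr_cases' (h : PrimeTI K f₁ f₂) {χ : L → ℂ} (hχ : IsIrrCharacter L χ) :
    (∃ i j, χ = mu f₁ f₂ i j) ∨
      ∃ θ : K → ℂ, IsIrrCharacter K θ ∧ (∀ j, θ ≠ chiRes K f₁ f₂ j) ∧ χ = indFun K θ := by
  have := h.normal
  have := h.finite₁
  obtain ⟨θ, hθ, e⟩ := exists_irr_under K hχ
  by_cases e' : ∃ j, θ = chiRes K f₁ f₂ j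
  · left
    obtain ⟨j, rfl⟩ := e'
    rw [← classInner_indFun_right K _ (irr_isClassFunction hχ), h.indFun_chiRes, muCol,
      classInner_sum_right] at e
    obtain ⟨i, -, hi⟩ := Finset.exists_ne_zero_of_sum_ne_zero e
    exact ⟨i, j, irr_eq_of_inner_ne_zero hχ (h.mu_irr i j) hi⟩
  · exact Or.inr ⟨θ, hθ, not_exists.1 e',
      eq_indFun_of_inertia_le K hθ (h.inertia_le hθ (not_exists.1 e')) hχ e⟩

/-- the `χ_j` are exactly the `W₁`-invariant irreducible characters of `K` -/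
theorem exists_eq_chiRes_iff (h : PrimeTI K f₁ f₂) {θ : K → ℂ} (hθ : IsIrrCharacter K θ) :
    (∃ j, θ = chiRes K f₁ f₂ j) ↔
      ∀ (x : X₁) (k : K), θ ⟨f₁ x * k * (f₁ x)⁻¹, h.normal.conj_mem k k.2 _⟩ = θ k := by
  constructor
  · rintro ⟨j, rfl⟩ x k
    exact h.mu_classFun 1 j k (f₁ x)
  · intro hfix
    have := h.tiPair.nontrivial₁
    obtain ⟨x, hx⟩ := exists_ne (1 : X₁)
    exact h.exists_eq_chiRes_of_fixed hθ hx (hfix x)

/-! ### kernels -/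

theorem apply_eq_one_of_mu_eq (h : PrimeTI K f₁ f₂) {i : X₁ →* ℂˣ} {j : X₂ →* ℂˣ} {y : X₂}
    (hy : mu f₁ f₂ i j (f₂ y) = mu f₁ f₂ i j 1) : j y = 1 := by
  have := h.tiPair.nontrivial₁
  obtain ⟨x, hx⟩ := exists_ne (1 : X₁)
  have e := char_apply_mul_of_eq_one (h.mu_char i j) hy (f₁ x)
  rw [← h.comm, h.mu_apply i j hx, h.mu_apply₁ i j hx] at e
  have := mul_left_cancel₀ (delta_ne_zero j) e
  exact Units.val_eq_one.1 ((mul_eq_left₀ (Units.ne_zero _)).1 this)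

/-- `N ≤ ker χ_j` if and only if `ω_{0j}` is trivial on `N ∩ W₂`. -/
theorem inKer_chiRes_iff (h : PrimeTI K f₁ f₂) (N : Subgroup L) [hN : N.Normal] (hNK : N ≤ K)
    (j : X₂ →* ℂˣ) : InKer N (chiRes K f₁ f₂ j) ↔ ∀ y, f₂ y ∈ N → j y = 1 := by
  classical
  refine ⟨fun hk y hy => h.apply_eq_one_of_mu_eq (hk ⟨f₂ y, h.mem₂ y⟩ hy), fun hj a ha => ?_⟩
  have := h.tiPair.nontrivial₁
  obtain ⟨x, hx⟩ := exists_ne (1 : X₁)
  refine irr_apply_eq_of_inner_res_one_ne_zero (N := N) (h.mu_irr 1 j) (fun e => ?_) ha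
  have e1 := irr_sum_coset (N := N) (h.mu_irr 1 j) (f₁ x)
  rw [e, sum_coset_eq_cent N (f₁ x) (Subgroup.le_normalizer_of_normal (Subgroup.mem_top _))
    ((h.coprime_orderOf x).coprime_dvd_right (Subgroup.card_dvd_of_le hNK)) _
    (fun m _ g => h.mu_classFun 1 j g m), Finset.sum_congr rfl
    (g := fun _ => (delta f₁ f₂ j : ℂ)) (fun c _ => by
      obtain ⟨y, hy⟩ := h.mem_range₂ hx (hNK c.2.1)
        (Subgroup.mem_centralizer_singleton_iff.1 c.2.2)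
      rw [← hy, ← h.comm, h.mu_apply 1 j hx, hj y (hy ▸ c.2.1)]; simp)] at e1
  simp only [Finset.sum_const, Finset.card_univ, nsmul_eq_mul, mul_zero, zero_div, zero_mul,
    mul_eq_zero, Nat.cast_eq_zero, Fintype.card_ne_zero, delta_ne_zero, or_false] at e1
  exact Subgroup.index_ne_zero_of_finite e1

/-- a normal subgroup `N ≤ K` is in the kernel of `χ_j` for exactly `|W₂ : W₂ ∩ N|` indices `j` -/
theorem card_inKer_chiRes (h : PrimeTI K f₁ f₂) (N : Subgroup L) [N.Normal] (hN : N ≤ K) :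
    Nat.card {j : X₂ →* ℂˣ // InKer N (chiRes K f₁ f₂ j)} = N.relIndex f₂.range := by
  have := h.finite₂
  have hc : ∀ a b : X₂ ⧸ N.comap f₂, a * b = b * a := fun a b => by
    obtain ⟨a, rfl⟩ := QuotientGroup.mk_surjective a
    obtain ⟨b, rfl⟩ := QuotientGroup.mk_surjective b
    rw [← QuotientGroup.mk_mul, ← QuotientGroup.mk_mul, h.comm₂]
  rw [← Subgroup.index_comap, Subgroup.index, ← card_linear_of_comm hc]
  refine Nat.card_congr ⟨fun j => QuotientGroup.lift _ j.1 ((h.inKer_chiRes_iff N hN _).1 j.2),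
    fun l => ⟨l.comp (QuotientGroup.mk' _), (h.inKer_chiRes_iff N hN _).2 fun y hy => ?_⟩,
    fun j => ?_, fun l => ?_⟩
  · have : (y : X₂ ⧸ N.comap f₂) = 1 := (QuotientGroup.eq_one_iff y).2 hy
    simp [this]
  · ext y; rfl
  · ext y; rfl

/-- (4.7) -/
theorem not_inKer_chiRes {H : Subgroup L} (h : PrimeTI K f₁ f₂) (hH : f₂.range ≤ H)
    {j : X₂ →* ℂˣ} (hj : j ≠ 1) : ¬ InKer H (chiRes K f₁ f₂ j) := fun hk =>
  hj (MonoidHom.ext fun y => h.apply_eq_one_of_mu_eq (hk ⟨f₂ y, h.mem₂ y⟩ (hH ⟨y, rfl⟩)))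

theorem inKer_chiRes_one (h : PrimeTI K f₁ f₂) (H : Subgroup L) : InKer H (chiRes K f₁ f₂ 1) := by
  rw [h.chiRes_one]; exact fun _ _ => rfl

theorem muCol_mem [Finite X₁] {H : Subgroup L} (h : PrimeTI K f₁ f₂) (hH : f₂.range ≤ H)
    {j : X₂ →* ℂˣ} (hj : j ≠ 1) : muCol f₁ f₂ j ∈ seqIndD K H ⊥ :=
  ⟨_, h.chiRes_irr j, h.not_inKer_chiRes hH hj, fun a ha => by
    rw [show a = 1 from Subtype.ext (Subgroup.mem_bot.1 ha)], (h.indFun_chiRes j).symm⟩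

/-- If `μ_j` is induced from an irreducible character `θ` of `K` then `θ = χ_j`. -/
theorem eq_chiRes_of_indFun_eq [Finite X₁] (h : PrimeTI K f₁ f₂) {θ : K → ℂ}
    (hθ : IsIrrCharacter K θ) {j : X₂ →* ℂˣ} (e : muCol f₁ f₂ j = indFun K θ) :
    θ = chiRes K f₁ f₂ j := by
  rcases h.indFun_cases hθ with ⟨k, rfl, e'⟩ | e'
  · rw [h.muCol_inj (e.trans e')]
  · exact absurd (e ▸ e') (h.muCol_not_irr j)

theorem ne_one_of_muCol_mem [Finite X₁] {H Y : Subgroup L} (h : PrimeTI K f₁ f₂)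
    {j : X₂ →* ℂˣ} (hj : muCol f₁ f₂ j ∈ seqIndD K H Y) : j ≠ 1 := by
  obtain ⟨θ, hθ, h1, -, e⟩ := hj
  rintro rfl
  exact h1 (h.eq_chiRes_of_indFun_eq hθ e ▸ h.inKer_chiRes_one H)

theorem muCol_mem_iff [Finite X₁] {H Y : Subgroup L} (h : PrimeTI K f₁ f₂) {j : X₂ →* ℂˣ} :
    muCol f₁ f₂ j ∈ seqIndD K H Y ↔
      ¬ InKer H (chiRes K f₁ f₂ j) ∧ InKer Y (chiRes K f₁ f₂ j) := by
  constructor
  · rintro ⟨θ, hθ, h1, h2, e⟩
    rw [h.eq_chiRes_of_indFun_eq hθ e] at h1 h2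
    exact ⟨h1, h2⟩
  · exact fun ⟨h1, h2⟩ => ⟨_, h.chiRes_irr j, h1, h2, (h.indFun_chiRes j).symm⟩

/-- A member of `seqIndD` is irreducible or one of the `μ_j`, `j ≠ 0`. -/
theorem seqInd_cases [Finite X₁] {H Y : Subgroup L} (h : PrimeTI K f₁ f₂) {φ : L → ℂ}
    (hφ : φ ∈ seqIndD K H Y) :
    (∃ j, j ≠ 1 ∧ φ = muCol f₁ f₂ j) ∨ IsIrrCharacter L φ := by
  obtain ⟨θ, hθ, h1, h2, rfl⟩ := hφ
  rcases h.indFun_cases hθ with ⟨j, rfl, e⟩ | e
  · exact Or.inl ⟨j, fun e' => h1 (e' ▸ h.inKer_chiRes_one H), e⟩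
  · exact Or.inr e

end PrimeTI

end CL.PF
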