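import Cfsg.Agent.PF.SevenCover
import Cfsg.Agent.Char.Clifford
import Cfsg.Agent.Char.FS

/-!
# Peterfalvi (7.6), (7.7): the adjoint of the Dade map on `H^#`
-/

set_option autoImplicit false

namespace CL.PF

open Cfsg CL.Char
open scoped ComplexConjugate

/-! ### the set of characters induced from the nonprincipal characters of a normal subgroup -/

section SeqInd
variable {L : Type*} [Group L] [Fintype L] {H : Subgroup L}

omit [Fintype L] in
theorem irr_inKer_self_iff {θ : H → ℂ} (hθ : IsIrrCharacter H θ) [Finite H] :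
    InKer H θ ↔ θ = fun _ => 1 := by
  constructor
  · intro h
    classical
    let _ := Fintype.ofFinite H
    have hc : θ = fun _ => θ 1 := funext fun a => h a a.2
    by_contra hne
    have h0 := irr_sum_eq_zero hθ hne
    rw [hc] at h0
    simp only [Finset.sum_const, Finset.card_univ, nsmul_eq_mul, mul_eq_zero,
      Nat.cast_eq_zero, Fintype.card_ne_zero, false_or] at h0
    have := irr_deg_pos hθ
    rw [← irr_cast_deg hθ] at h0
    exact this.ne' (by exact_mod_cast h0)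
  · rintro rfl a _; rfl

theorem mem_seqIndD_self {φ : L → ℂ} : φ ∈ seqIndD H H ⊥ ↔
    ∃ θ : H → ℂ, IsIrrCharacter H θ ∧ θ ≠ (fun _ => 1) ∧ φ = indFun H θ := by
  constructor
  · rintro ⟨θ, hθ, h1, -, rfl⟩
    exact ⟨θ, hθ, fun h => h1 ((irr_inKer_self_iff hθ).2 h), rfl⟩
  · rintro ⟨θ, hθ, h1, rfl⟩
    refine ⟨θ, hθ, fun h => h1 ((irr_inKer_self_iff hθ).1 h), fun a ha => ?_, rfl⟩
    have : a = 1 := Subtype.ext (Subgroup.mem_bot.1 ha)
    rw [this]

theorem inducedIrrAbove_bot_eq_seqIndD (H : Subgroup L) :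
    inducedIrrAbove H ⊥ = seqIndD H H ⊥ := by
  ext φ
  rw [mem_seqIndD_self]
  constructor
  · rintro ⟨θ, hθ, h1, -, rfl⟩
    exact ⟨θ, hθ, h1, rfl⟩
  · rintro ⟨θ, hθ, h1, rfl⟩
    refine ⟨θ, hθ, h1, fun a ha => ?_, rfl⟩
    have : a = 1 := Subtype.ext (Subgroup.mem_bot.1 ha)
    rw [this]

theorem classInner_indOne_one (H : Subgroup L) :
    classInner (indFun H (fun _ => 1)) (fun _ => 1) = 1 := by
  rw [classInner_indFun_left H _ (isClassFunction_const 1)]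
  exact classInner_one_one

theorem indOne_apply_one (H : Subgroup L) : indFun H (fun _ => 1) 1 = H.index := by
  rw [indFun_one, mul_one]

theorem conjFun_indOne (H : Subgroup L) :
    conjFun (indFun H (fun _ => 1)) = indFun H (fun _ => 1) := by
  rw [conjFun_eq, ← indFun_conj]; simp

theorem indOne_apply_of_mem [H.Normal] {x : L} (hx : x ∈ H) :
    indFun H (fun _ => 1) x = H.index := by
  have hi : inertia H (fun _ => (1 : ℂ)) = ⊤ := by
    rw [eq_top_iff]; intro g _; exact fun _ => rfl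
  have := congrFun (res_indFun_of_invariant H hi) ⟨x, hx⟩
  simpa using this

theorem classInner_indOne_self [H.Normal] :
    classInner (indFun H (fun _ => 1)) (indFun H (fun _ => 1)) = H.index := by
  rw [classInner_indFun_right H _ (indFun_isClassFunction H _)]
  have : (fun h : H => indFun H (fun _ => (1 : ℂ)) h) = (H.index : ℂ) • fun _ => 1 := by
    funext h; simp [indOne_apply_of_mem h.2]
  rw [this, classInner_smul_left, classInner_one_one, mul_one]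

namespace SeqSelf

theorem char {φ : L → ℂ} (hφ : φ ∈ seqIndD H H ⊥) : IsCharacter L φ := by
  obtain ⟨θ, hθ, -, -, rfl⟩ := hφ
  exact char_indFun H (irr_isCharacter hθ)

theorem gen {φ : L → ℂ} (hφ : φ ∈ seqIndD H H ⊥) : IsGeneralizedCharacter L φ :=
  gen_of_char (char hφ)

theorem classFun {φ : L → ℂ} (hφ : φ ∈ seqIndD H H ⊥) : IsClassFunction L φ :=
  gen_isClassFunction (gen hφ)

theorem eq_zero [H.Normal] {φ : L → ℂ} (hφ : φ ∈ seqIndD H H ⊥) {x : L} (hx : x ∉ H) :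
    φ x = 0 := by
  obtain ⟨θ, hθ, -, -, rfl⟩ := hφ
  exact indFun_eq_zero_of_normal H θ hx

theorem conj_mem {φ : L → ℂ} (hφ : φ ∈ seqIndD H H ⊥) : conjFun φ ∈ seqIndD H H ⊥ := by
  obtain ⟨θ, hθ, h1, rfl⟩ := mem_seqIndD_self.1 hφ
  refine mem_seqIndD_self.2 ⟨conjFun θ, irr_conjFun hθ, fun h => h1 ?_, ?_⟩
  · rw [← conjFun_conjFun θ, h, conjFun_one]
  · rw [conjFun_eq, conjFun_eq, indFun_conj]

theorem exists_deg {φ : L → ℂ} (hφ : φ ∈ seqIndD H H ⊥) :
    ∃ d : ℕ, 0 < d ∧ φ 1 = d * (H.index : ℂ) := by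
  obtain ⟨θ, hθ, -, -, rfl⟩ := hφ
  exact ⟨deg θ, irr_deg_pos hθ, by rw [indFun_one, irr_cast_deg hθ, mul_comm]⟩

theorem apply_one_ne_zero {φ : L → ℂ} (hφ : φ ∈ seqIndD H H ⊥) : φ 1 ≠ 0 := by
  obtain ⟨d, hd, h⟩ := exists_deg hφ
  rw [h]
  exact mul_ne_zero (by exact_mod_cast hd.ne') (by exact_mod_cast Subgroup.index_ne_zero_of_finite)

theorem inner_one {φ : L → ℂ} (hφ : φ ∈ seqIndD H H ⊥) : classInner φ (fun _ => 1) = 0 := by
  obtain ⟨θ, hθ, h1, rfl⟩ := mem_seqIndD_self.1 hφ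
  rw [classInner_indFun_left H _ (isClassFunction_const 1)]
  exact irr_inner_one hθ h1

theorem ne_one {φ : L → ℂ} (hφ : φ ∈ seqIndD H H ⊥) : φ ≠ fun _ => 1 := by
  intro h
  have := inner_one hφ
  rw [h, classInner_one_one] at this
  exact one_ne_zero this

theorem inner_indOne [H.Normal] {φ : L → ℂ} (hφ : φ ∈ seqIndD H H ⊥) :
    classInner φ (indFun H (fun _ => 1)) = 0 := by
  obtain ⟨θ, hθ, h1, rfl⟩ := mem_seqIndD_self.1 hφ
  refine classInner_indFun_eq_zero_of_not_conj H irr_one hθ fun h => h1 ?_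
  obtain ⟨g, hg⟩ := (mem_conjOrbit H).1 h
  rw [hg, conjChar_const]

theorem inner_of_ne [H.Normal] {φ ψ : L → ℂ} (hφ : φ ∈ seqIndD H H ⊥) (hψ : ψ ∈ seqIndD H H ⊥)
    (h : φ ≠ ψ) : classInner φ ψ = 0 := by
  obtain ⟨θ, hθ, -, -, rfl⟩ := hφ
  obtain ⟨θ', hθ', -, -, rfl⟩ := hψ
  exact classInner_indFun_eq_zero_of_ne H hθ' hθ h

theorem conj_ne (hodd : Odd (Nat.card L)) {φ : L → ℂ} (hφ : φ ∈ seqIndD H H ⊥)
    (hi : IsIrrCharacter L φ) : conjFun φ ≠ φ :=
  irr_conj_ne_of_odd hodd hi (ne_one hφ)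

end SeqSelf

/-- `Φ = ρ_L - Ind 1 = ∑_{θ ≠ 1} θ(1) Ind θ = ∑_{φ ∈ S} (φ(1) / ‖φ‖²) φ`. -/
noncomputable def sumSeq (H : Subgroup L) : L → ℂ := regChar L - indFun H (fun _ => 1)

open Classical in
theorem sumSeq_eq_sum (H : Subgroup L) : sumSeq H =
    ∑ θ ∈ Finset.univ.erase (irrOne H), (deg (θ : H → ℂ) : ℂ) • indFun H θ := by
  rw [sumSeq, ← indFun_regChar H, regChar_eq_sum, indFun_sum,
    ← Finset.add_sum_erase _ _ (Finset.mem_univ (irrOne H))]
  have : indFun H ((irrOne H : H → ℂ) 1 • (irrOne H : H → ℂ)) = indFun H (fun _ => 1) := by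
    rw [irrOne_apply, one_smul]; rfl
  rw [this, add_sub_cancel_left]
  refine Finset.sum_congr rfl fun θ _ => ?_
  rw [indFun_smul, irr_cast_deg θ.2]

theorem sumSeq_mem (H : Subgroup L) : sumSeq H ∈ zspan (seqIndD H H ⊥) := by
  classical
  rw [sumSeq_eq_sum]
  refine zc_sum _ fun θ hθ => zc_natCast_smul _ (mem_zspan ?_)
  refine mem_seqIndD_self.2 ⟨θ, θ.2, fun h => ?_, rfl⟩
  exact (Finset.mem_erase.1 hθ).1 (Subtype.ext h)

theorem sumSeq_apply_one (H : Subgroup L) :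
    sumSeq H 1 = (H.index : ℂ) * ((Nat.card H : ℂ) - 1) := by
  rw [sumSeq, Pi.sub_apply, regChar_one, indOne_apply_one, ← H.index_mul_card]
  push_cast; ring

theorem sumSeq_apply_of_mem [H.Normal] {x : L} (hx : x ∈ H) (h1 : x ≠ 1) :
    sumSeq H x = -(H.index : ℂ) := by
  rw [sumSeq, Pi.sub_apply, regChar_of_ne h1, indOne_apply_of_mem hx, zero_sub]

theorem conjFun_sumSeq (H : Subgroup L) : conjFun (sumSeq H) = sumSeq H := by
  rw [sumSeq, conjFun_sub, conjFun_indOne]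
  congr 1
  funext x
  by_cases hx : x = 1
  · subst hx; simp [conjFun_apply, regChar_one]
  · simp [conjFun_apply, regChar_of_ne hx]

theorem classInner_sumSeq_right [H.Normal] {φ : L → ℂ} (hφ : φ ∈ zspan (seqIndD H H ⊥)) :
    classInner φ (sumSeq H) = φ 1 := by
  rw [sumSeq, classInner_sub_right, classInner_regChar_right,
    classInner_zspan_left (fun _ h => SeqSelf.inner_indOne h) hφ, sub_zero]

theorem classInner_sumSeq_left [H.Normal] {φ : L → ℂ} (hφ : φ ∈ zspan (seqIndD H H ⊥)) :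
    classInner (sumSeq H) φ = φ 1 := by
  rw [gen_inner_comm (gen_of_mem_zspan (fun _ => SeqSelf.gen) (sumSeq_mem H))
    (gen_of_mem_zspan (fun _ => SeqSelf.gen) hφ), classInner_sumSeq_right hφ]

theorem classInner_sumSeq_self [H.Normal] :
    classInner (sumSeq H) (sumSeq H) = (H.index : ℂ) * ((Nat.card H : ℂ) - 1) := by
  rw [classInner_sumSeq_right (sumSeq_mem H), sumSeq_apply_one]

/-- a class function of `L` orthogonal to all `Ind θ - d_θ ζ₀` vanishes on `H^#` -/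
theorem eq_zero_of_inner_indFun_sub {ζ₀ ψ : L → ℂ} (hψ : IsClassFunction L ψ)
    (h : ∀ θ, IsIrrCharacter H θ →
      classInner (indFun H θ - (indFun H θ 1 / ζ₀ 1) • ζ₀) ψ = 0) {x : L} (hx : x ∈ H)
    (h1 : x ≠ 1) : ψ x = 0 := by
  set c : ℂ := (H.index : ℂ) / ζ₀ 1 * classInner ζ₀ ψ with hc
  have hres : (fun y : H => ψ y) = conj c • regChar H := by
    refine classFun_ext (classFun_restrict hψ H)
      (classFun_smul _ (gen_isClassFunction (gen_of_char char_regChar))) fun θ hθ => ?_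
    have h2 := h θ hθ
    rw [classInner_sub_left, classInner_smul_left, classInner_indFun_left H _ hψ, indFun_one,
      sub_eq_zero] at h2
    rw [← conj_classInner, h2, classInner_smul_left, classInner_regChar_left, hc, ← map_mul]
    congr 1; ring
  have := congrFun hres ⟨x, hx⟩
  rw [Pi.smul_apply, regChar_of_ne (fun e => h1 (congrArg Subtype.val e)), smul_zero] at this
  exact this

/-- the expansion of a class function supported on a normal subgroup -/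
theorem eq_sum_of_supp_normal [H.Normal] {T : Finset (L → ℂ)}
    (hT : ∀ φ, φ ∈ T ↔ ∃ θ, IsIrrCharacter H θ ∧ φ = indFun H θ) {ψ : L → ℂ}
    (hψ : IsClassFunction L ψ) (hH : ∀ x, x ∉ H → ψ x = 0) :
    ψ = ∑ ξ ∈ T, (classInner ψ ξ / classInner ξ ξ) • ξ := by
  have hTc : ∀ ξ ∈ T, IsClassFunction L ξ := fun ξ hξ => by
    obtain ⟨θ, -, rfl⟩ := (hT ξ).1 hξ
    exact indFun_isClassFunction H θ
  have hne : ∀ ξ ∈ T, classInner ξ ξ ≠ 0 := fun ξ hξ => by
    obtain ⟨θ, hθ, rfl⟩ := (hT ξ).1 hξ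
    rw [Ne, classInner_self_eq_zero]
    refine indFun_ne_zero H ?_
    rw [← irr_cast_deg hθ]; exact_mod_cast (irr_deg_pos hθ).ne'
  set δ := ψ - ∑ ξ ∈ T, (classInner ψ ξ / classInner ξ ξ) • ξ with hδ
  have hδc : IsClassFunction L δ :=
    classFun_sub hψ (classFun_sum _ fun ξ hξ => classFun_smul _ (hTc ξ hξ))
  have hres : (fun y : H => δ y) = 0 := by
    refine classFun_eq_zero_of_inner (classFun_restrict hδc H) fun θ hθ => ?_
    have hm : indFun H θ ∈ T := (hT _).2 ⟨θ, hθ, rfl⟩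
    rw [← classInner_indFun_right H θ hδc, hδ, classInner_sub_left, classInner_sum_left,
      Finset.sum_eq_single (indFun H θ), classInner_smul_left, div_mul_cancel₀ _ (hne _ hm),
      sub_self]
    · intro ξ hξ hn
      obtain ⟨θ', hθ', rfl⟩ := (hT ξ).1 hξ
      rw [classInner_smul_left, classInner_indFun_eq_zero_of_ne H hθ hθ' hn, mul_zero]
    · exact fun h => (h hm).elim
  rw [← sub_eq_zero, ← hδ]
  funext x
  by_cases hx : x ∈ H
  · exact congrFun hres ⟨x, hx⟩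
  · rw [hδ, Pi.sub_apply, hH x hx, Finset.sum_apply, Finset.sum_eq_zero, sub_zero, Pi.zero_apply]
    intro ξ hξ
    obtain ⟨θ, -, rfl⟩ := (hT ξ).1 hξ
    rw [Pi.smul_apply, indFun_eq_zero_of_normal H θ hx, smul_zero]

open Classical in
/-- `Φ = ∑_{φ ∈ S} (φ(1) / ‖φ‖²) φ` -/
theorem sumSeq_eq_sum_finset [H.Normal] {S : Finset (L → ℂ)} (hS : ∀ φ, φ ∈ S ↔ φ ∈ seqIndD H H ⊥) :
    sumSeq H = ∑ φ ∈ S, (φ 1 / classInner φ φ) • φ := by
  have hn : indFun H (fun _ => 1) ∉ S := fun h => by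
    have h1 := SeqSelf.inner_one ((hS _).1 h)
    rw [classInner_indOne_one] at h1
    exact one_ne_zero h1
  have hT : ∀ φ, φ ∈ insert (indFun H (fun _ => 1)) S ↔
      ∃ θ, IsIrrCharacter H θ ∧ φ = indFun H θ := by
    intro φ
    rw [Finset.mem_insert, hS, mem_seqIndD_self]
    constructor
    · rintro (rfl | ⟨θ, hθ, -, rfl⟩)
      · exact ⟨_, irr_one, rfl⟩
      · exact ⟨θ, hθ, rfl⟩
    · rintro ⟨θ, hθ, rfl⟩
      by_cases h : θ = fun _ => 1
      · left; rw [h]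
      · exact Or.inr ⟨θ, hθ, h, rfl⟩
  have h1 := eq_sum_of_supp_normal hT (ψ := sumSeq H)
    (classFun_of_mem_zspan (fun _ => SeqSelf.classFun) (sumSeq_mem H))
    (fun x hx => zspan_apply_eq_zero (fun _ h => SeqSelf.eq_zero h hx) (sumSeq_mem H))
  rw [Finset.sum_insert hn, classInner_zspan_left (fun _ h => SeqSelf.inner_indOne h)
    (sumSeq_mem H), zero_div, zero_smul, zero_add] at h1
  refine h1.trans (Finset.sum_congr rfl fun φ hφ => ?_)
  rw [classInner_sumSeq_left (mem_zspan ((hS φ).1 hφ))]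

end SeqInd

/-! ### Hypothesis (7.6) -/

/-- Hypothesis (7.6): `H ⊴ L`, `A = H^#`; the Dade isometry `τ` is taken relative to a possibly
larger set `A₀`, its adjoint `ρ` relative to `A`. -/
structure Hyp76 {G : Type*} [Group G] (L : Subgroup G) (H : Subgroup L) (A A₀ : Set G)
    (R : G → Subgroup G) : Prop where
  dade₀ : DadeHypothesis A₀ L R
  normal : H.Normal
  subset : A ⊆ A₀
  mem_iff : ∀ x : L, (x : G) ∈ A ↔ x ∈ H ∧ x ≠ 1

namespace Hyp76
variable {G : Type*} [Group G] {L : Subgroup G} {H : Subgroup L} {A A₀ : Set G}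
  {R : G → Subgroup G}

theorem of_le {H' : Subgroup G} (hD : DadeHypothesis A₀ L R) (hn : (H'.subgroupOf L).Normal)
    (hA : (H' : Set G) \ {1} ⊆ A₀) : Hyp76 L (H'.subgroupOf L) ((H' : Set G) \ {1}) A₀ R :=
  ⟨hD, hn, hA, fun x => by simp [Subgroup.mem_subgroupOf]⟩

theorem of_map (hD : DadeHypothesis A₀ L R) (hn : H.Normal)
    (hA : (H.map L.subtype : Set G) \ {1} ⊆ A₀) :
    Hyp76 L H ((H.map L.subtype : Set G) \ {1}) A₀ R :=
  ⟨hD, hn, hA, fun x => by simp⟩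

theorem conj_mem (h : Hyp76 L H A A₀ R) : ∀ x ∈ L, ∀ a ∈ A, x * a * x⁻¹ ∈ A := by
  intro x hx a ha
  have haL := Dade.mem_L h.dade₀ (h.subset ha)
  obtain ⟨h1, h2⟩ := (h.mem_iff ⟨a, haL⟩).1 ha
  refine (h.mem_iff (⟨x, hx⟩ * ⟨a, haL⟩ * ⟨x, hx⟩⁻¹)).2 ⟨h.normal.conj_mem _ h1 _, fun e => h2 ?_⟩
  simpa [mul_inv_eq_one] using e

theorem dade (h : Hyp76 L H A A₀ R) : DadeHypothesis A L R :=
  Dade.restrict h.dade₀ h.subset h.conj_mem

theorem self (h : Hyp76 L H A A₀ R) : Hyp76 L H A A R :=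
  ⟨h.dade, h.normal, subset_rfl, h.mem_iff⟩

theorem card_A [Finite G] (h : Hyp76 L H A A₀ R) : Nat.card A + 1 = Nat.card H := by
  have e : A ≃ {x : H // x ≠ 1} :=
    { toFun := fun a => ⟨⟨⟨a, Dade.mem_L h.dade a.2⟩, ((h.mem_iff _).1 a.2).1⟩,
        fun e => ((h.mem_iff ⟨a, Dade.mem_L h.dade a.2⟩).1 a.2).2 (congrArg Subtype.val e)⟩
      invFun := fun x => ⟨x.1.1, (h.mem_iff _).2 ⟨x.1.2, fun e => x.2 (Subtype.ext e)⟩⟩
      left_inv := fun _ => rfl
      right_inv := fun _ => rfl }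
  classical
  let _ := Fintype.ofFinite H
  rw [Nat.card_congr e, Nat.card_eq_fintype_card, Nat.card_eq_fintype_card,
    Fintype.card_subtype_compl, Fintype.card_subtype_eq]
  have := Fintype.card_pos (α := H)
  omega

theorem card_A_real [Finite G] (h : Hyp76 L H A A₀ R) :
    (Nat.card A : ℝ) = (Nat.card H : ℝ) - 1 := by
  rw [← h.card_A]; push_cast; ring

theorem card_A_div [Finite G] (h : Hyp76 L H A A₀ R) :
    (Nat.card A : ℝ) / Nat.card L = ((Nat.card H : ℝ) - 1) / (H.index * Nat.card H) := by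
  rw [h.card_A_real, ← H.index_mul_card]; push_cast; ring

theorem supp (h : Hyp76 L H A A₀ R) {α : L → ℂ} (hH : ∀ x, x ∉ H → α x = 0) (h1 : α 1 = 0)
    (x : L) (hx : (x : G) ∉ A) : α x = 0 := by
  by_cases hxH : x ∈ H
  · by_cases e : x = 1
    · rw [e, h1]
    · exact (hx ((h.mem_iff x).2 ⟨hxH, e⟩)).elim
  · exact hH x hxH

theorem supp₀ (h : Hyp76 L H A A₀ R) {α : L → ℂ} (hA : ∀ x : L, (x : G) ∉ A → α x = 0)
    (x : L) (hx : (x : G) ∉ A₀) : α x = 0 := hA x fun ha => hx (h.subset ha)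

theorem tau_eq (h : Hyp76 L H A A₀ R) {α : L → ℂ} (hα : IsClassFunction L α)
    (hA : ∀ x : L, (x : G) ∉ A → α x = 0) :
    dadeIsometry A₀ L R α = dadeIsometry A L R α :=
  (Dade.restrict_eq h.dade₀ h.subset h.conj_mem hα hA).symm

theorem tau_eq_zero (h : Hyp76 L H A A₀ R) {α : L → ℂ} (hα : IsClassFunction L α)
    (hA : ∀ x : L, (x : G) ∉ A → α x = 0) {g : G} (hg : g ∉ dadeSupp A R) :
    dadeIsometry A₀ L R α g = 0 :=
  Dade.apply_eq_zero_of_not_mem_sub h.dade₀ hα hA hg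

variable [Fintype G] [Fintype L]

omit [Fintype G] in
theorem supp_zspanOn (h : Hyp76 L H A A₀ R) {α : L → ℂ}
    (hα : α ∈ zspanOn (seqIndD H H ⊥) {1}ᶜ) (x : L) (hx : (x : G) ∉ A) : α x = 0 := by
  have := h.normal
  exact h.supp (fun y hy => zspan_apply_eq_zero (fun _ hφ => SeqSelf.eq_zero hφ hy) hα.1)
    (apply_one_of_mem_zspanOn hα) x hx

omit [Fintype G] in
theorem supp_indOne_sub (h : Hyp76 L H A A₀ R) {ζ : L → ℂ} (hζ : ζ ∈ seqIndD H H ⊥)
    (h1 : ζ 1 = H.index) (x : L) (hx : (x : G) ∉ A) : (indFun H (fun _ => 1) - ζ) x = 0 := by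
  have := h.normal
  refine h.supp (fun y hy => ?_) ?_ x hx
  · rw [Pi.sub_apply, indFun_eq_zero_of_normal H _ hy, SeqSelf.eq_zero hζ hy, sub_zero]
  · rw [Pi.sub_apply, indOne_apply_one, h1, sub_self]

theorem iso (h : Hyp76 L H A A₀ R) :
    IsLinearIsometryOn (zspanOn (seqIndD H H ⊥) {1}ᶜ) (dadeIsometry A₀ L R) :=
  Dade.isLinearIsometryOn h.dade₀ (fun _ hα => gen_of_mem_zspan (fun _ => SeqSelf.gen) hα.1)
    (fun _ hα => h.supp₀ (h.supp_zspanOn hα))

theorem reciprocity (h : Hyp76 L H A A₀ R) {α : L → ℂ} (hα : IsClassFunction L α)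
    (hA : ∀ x : L, (x : G) ∉ A → α x = 0) {χ : G → ℂ} (hχ : IsClassFunction G χ) :
    classInner (dadeIsometry A₀ L R α) χ = classInner α (invDade A L R χ) := by
  rw [h.tau_eq hα hA, Dade.classInner_invDade h.dade hα hχ]

/-- (7.7.a), uniqueness form -/
theorem invDade_eq_of_inner (h : Hyp76 L H A A₀ R) {ζ₀ : L → ℂ} (hζ : IsClassFunction L ζ₀)
    (hζH : ∀ x, x ∉ H → ζ₀ x = 0) (h0 : ζ₀ 1 ≠ 0) {χ : G → ℂ} (hχ : IsClassFunction G χ)
    {φ₀ : L → ℂ} (hφ : IsClassFunction L φ₀)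
    (hi : ∀ θ, IsIrrCharacter H θ →
      classInner (dadeIsometry A₀ L R (indFun H θ - (indFun H θ 1 / ζ₀ 1) • ζ₀)) χ =
        classInner (indFun H θ - (indFun H θ 1 / ζ₀ 1) • ζ₀) φ₀)
    {x : L} (hx : (x : G) ∈ A) : invDade A L R χ x = φ₀ x := by
  have := h.normal
  obtain ⟨hxH, hx1⟩ := (h.mem_iff x).1 hx
  rw [← sub_eq_zero, ← Pi.sub_apply]
  refine eq_zero_of_inner_indFun_sub (ζ₀ := ζ₀)
    (classFun_sub (Dade.invDade_isClassFunction h.dade hχ) hφ) (fun θ hθ => ?_) hxH hx1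
  rw [classInner_sub_right, ← hi θ hθ, ← h.reciprocity
    (classFun_sub (indFun_isClassFunction H θ) (classFun_smul _ hζ)) _ hχ, sub_self]
  refine h.supp (fun y hy => ?_) ?_
  · rw [Pi.sub_apply, Pi.smul_apply, indFun_eq_zero_of_normal H θ hy, hζH y hy, smul_zero, sub_zero]
  · rw [Pi.sub_apply, Pi.smul_apply, smul_eq_mul, div_mul_cancel₀ _ h0, sub_self]

open Classical in
/-- (7.7.a) -/
theorem invDade_eq_sum (h : Hyp76 L H A A₀ R) {T : Finset (L → ℂ)}
    (hT : ∀ φ, φ ∈ T ↔ ∃ θ, IsIrrCharacter H θ ∧ φ = indFun H θ) {ζ₀ : L → ℂ} (h0 : ζ₀ ∈ T)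
    {χ : G → ℂ} (hχ : IsClassFunction G χ) {x : L} (hx : (x : G) ∈ A) :
    invDade A L R χ x = ∑ ξ ∈ T.erase ζ₀,
      classInner χ (dadeIsometry A₀ L R (ξ - (ξ 1 / ζ₀ 1) • ζ₀)) / classInner ξ ξ * ξ x := by
  have := h.normal
  have hTc : ∀ ξ ∈ T, IsClassFunction L ξ := fun ξ hξ => by
    obtain ⟨θ, -, rfl⟩ := (hT ξ).1 hξ
    exact indFun_isClassFunction H θ
  have hT1 : ∀ ξ ∈ T, ξ 1 ≠ 0 := fun ξ hξ => by
    obtain ⟨θ, hθ, rfl⟩ := (hT ξ).1 hξ
    rw [indFun_one, ← irr_cast_deg hθ]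
    exact mul_ne_zero (by exact_mod_cast Subgroup.index_ne_zero_of_finite)
      (by exact_mod_cast (irr_deg_pos hθ).ne')
  have hne : ∀ ξ ∈ T, classInner ξ ξ ≠ 0 := fun ξ hξ => by
    rw [Ne, classInner_self_eq_zero]
    exact fun e => hT1 ξ hξ (by rw [e]; rfl)
  have horth : ∀ ξ ∈ T, ∀ μ ∈ T, ξ ≠ μ → classInner ξ μ = 0 := fun ξ hξ μ hμ hn => by
    obtain ⟨θ, hθ, rfl⟩ := (hT ξ).1 hξ
    obtain ⟨θ', hθ', rfl⟩ := (hT μ).1 hμ
    exact classInner_indFun_eq_zero_of_ne H hθ' hθ hn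
  have key := h.invDade_eq_of_inner (hTc _ h0) (fun y hy => by
      obtain ⟨θ, -, rfl⟩ := (hT _).1 h0
      exact indFun_eq_zero_of_normal H θ hy) (hT1 _ h0) hχ
    (φ₀ := ∑ ξ ∈ T.erase ζ₀,
      (classInner χ (dadeIsometry A₀ L R (ξ - (ξ 1 / ζ₀ 1) • ζ₀)) / classInner ξ ξ) • ξ)
    (classFun_sum _ fun ξ hξ => classFun_smul _ (hTc ξ (Finset.mem_of_mem_erase hξ)))
    (fun θ hθ => ?_) hx
  · rw [key, Finset.sum_apply]; rfl
  have hm : indFun H θ ∈ T := (hT _).2 ⟨θ, hθ, rfl⟩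
  generalize indFun H θ = μ at hm
  rw [classInner_sum_right]
  by_cases hμ : μ = ζ₀
  · rw [hμ, div_self (hT1 _ h0), one_smul, sub_self, dade_zero, classInner_zero_left]
    exact (Finset.sum_eq_zero fun _ _ => classInner_zero_left _).symm
  rw [Finset.sum_eq_single μ]
  · rw [classInner_smul_right, classInner_sub_left, classInner_smul_left,
      horth _ h0 _ hm (Ne.symm hμ), mul_zero, sub_zero, map_div₀, conj_classInner,
      conj_classInner, div_mul_cancel₀ _ (hne _ hm)]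
  · intro ξ hξ hn
    obtain ⟨hξ0, hξT⟩ := Finset.mem_erase.1 hξ
    rw [classInner_smul_right, classInner_sub_left, classInner_smul_left,
      horth _ h0 _ hξT (Ne.symm hξ0), horth _ hm _ hξT (Ne.symm hn), mul_zero, sub_zero, mul_zero]
  · exact fun hn => (hn (Finset.mem_erase.2 ⟨hμ, hm⟩)).elim

omit [Fintype G] in
/-- the norm of `χ^ρ` when it agrees on `A` with a function `φ₀` vanishing outside `H` -/
theorem norm_invDade_of_eq (h : Hyp76 L H A A₀ R) {χ : G → ℂ} {φ₀ : L → ℂ}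
    (hH : ∀ x, x ∉ H → φ₀ x = 0) (he : ∀ x : L, (x : G) ∈ A → invDade A L R χ x = φ₀ x) :
    rip (invDade A L R χ) (invDade A L R χ) = rip φ₀ φ₀ - ‖φ₀ 1‖ ^ 2 / Nat.card L := by
  classical
  rw [rip_def, rip_def, classInner_self_re, classInner_self_re,
    ← Finset.add_sum_erase _ _ (Finset.mem_univ (1 : L)),
    ← Finset.add_sum_erase _ (fun g => ‖φ₀ g‖ ^ 2) (Finset.mem_univ (1 : L)),
    invDade_of_not_mem χ (fun h1 => ((h.mem_iff 1).1 h1).2 rfl)]
  have : ∑ x ∈ Finset.univ.erase (1 : L), ‖invDade A L R χ x‖ ^ 2 =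
      ∑ x ∈ Finset.univ.erase (1 : L), ‖φ₀ x‖ ^ 2 := by
    refine Finset.sum_congr rfl fun x hx => ?_
    by_cases hA : (x : G) ∈ A
    · rw [he x hA]
    · rw [invDade_of_not_mem χ hA, hH x fun hxH =>
        hA ((h.mem_iff x).2 ⟨hxH, (Finset.mem_erase.1 hx).1⟩)]
  rw [this]
  simp only [norm_zero]
  ring

end Hyp76

end CL.PF
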