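import Cfsg.Agent.PF.SevenC
import Cfsg.Agent.S1524

/-!
# Peterfalvi (7.10), (7.11) for Frobenius groups with TI kernels
-/

set_option autoImplicit false

namespace CL.PF

open Cfsg CL.Char

variable {G : Type*} [Group G]

theorem dadeHyp_sharp_of_TI {H L : Subgroup G} (hTI : IsTISubset (H : Set G))
    (hN : Subgroup.normalizer (H : Set G) = L) :
    DadeHypothesis ((H : Set G) \ {1}) L (fun _ => ⊥) := by
  have hn : Subgroup.normalizer ((H : Set G) \ {1}) = Subgroup.normalizer (H : Set G) := by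
    ext g
    simp only [Subgroup.mem_set_normalizer_iff, Set.mem_diff, Set.mem_singleton_iff,
      SetLike.mem_coe]
    refine forall_congr' fun x => ?_
    by_cases hx : x = 1
    · subst hx; simp
    · have : g * x * g⁻¹ ≠ 1 := fun e => hx (by simpa [mul_inv_eq_one] using e)
      simp [hx, this]
  refine dadeHypothesis_bot_of_TI (fun h => h.2 rfl) (fun g hg x hx hgx => ?_) (hn.trans hN)
  rw [hn] at hg
  exact hTI g hg x hx.1 hgx.1

theorem mem_dadeSupp_bot {A : Set G} {g : G} :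
    g ∈ dadeSupp A (fun _ => ⊥) ↔ ∃ x : G, x * g * x⁻¹ ∈ A := by
  constructor
  · rintro ⟨a, ha, u, hu, x, hx⟩
    rw [Subgroup.mem_bot.1 hu, mul_one] at hx
    exact ⟨x, hx ▸ ha⟩
  · rintro ⟨x, hx⟩
    exact ⟨_, hx, 1, Subgroup.one_mem _, x, (mul_one _).symm⟩

theorem disjoint_dadeSupp_bot_of_coprime {H K : Subgroup G}
    (h : Nat.Coprime (Nat.card H) (Nat.card K)) :
    Disjoint (dadeSupp ((H : Set G) \ {1}) (fun _ => ⊥))
      (dadeSupp ((K : Set G) \ {1}) (fun _ => ⊥)) := by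
  rw [Set.disjoint_left]
  intro g h1 h2
  obtain ⟨x, hx, hx1⟩ := mem_dadeSupp_bot.1 h1
  obtain ⟨y, hy, -⟩ := mem_dadeSupp_bot.1 h2
  have e1 : orderOf g ∣ Nat.card H := by
    have := H.orderOf_dvd_natCard hx
    rwa [← MulAut.conj_apply, MulEquiv.orderOf_eq] at this
  have e2 : orderOf g ∣ Nat.card K := by
    have := K.orderOf_dvd_natCard hy
    rwa [← MulAut.conj_apply, MulEquiv.orderOf_eq] at this
  have : g = 1 := orderOf_eq_one_iff.1 (Nat.eq_one_of_dvd_coprimes h e1 e2)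
  exact hx1 (by simp [this])

/-- Sibley's theorem (6.8) in case (c1), in the form needed for (7.8) -/
theorem exists_hyp78_of_TI [Fintype G] {H L : Subgroup G} [Fintype L] (hodd : Odd (Nat.card L))
    (hHL : H ≤ L) (hF : FrobKer (H.subgroupOf L)) (hnil : Group.IsNilpotent H)
    (hTI : IsTISubset (H : Set G)) (hN : Subgroup.normalizer (H : Set G) = L) :
    ∃ ν ζ, Hyp78 L (H.subgroupOf L) ((H : Set G) \ {1}) ((H : Set G) \ {1}) (fun _ => ⊥) ν ζ := by
  have h76 := Hyp76.of_le (dadeHyp_sharp_of_TI hTI hN) hF.normal subset_rfl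
  obtain ⟨E, hE, hE1, hfpf⟩ := hF.exists_compl
  have hH1 : H ≠ ⊥ := fun e => hF.ne_bot (by rw [e, Subgroup.bot_subgroupOf])
  have hHm : (H.subgroupOf L).map L.subtype = H := Subgroup.map_subgroupOf_eq_of_le hHL
  have hc := Cfsg.Agent.S1524.result H L (E.map L.subtype) hodd hHL (Subgroup.map_subtype_le E) hH1
    (fun e => hE1 ((Subgroup.map_eq_bot_iff_of_injective E L.subtype_injective).1 e)) hnil
    (fun x hx h hh => hF.normal.conj_mem ⟨h, hHL hh⟩ hh ⟨x, hx⟩)
    (by rw [← hHm, ← Subgroup.map_inf _ _ _ L.subtype_injective, hE.disjoint.eq_bot,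
      Subgroup.map_bot])
    (by
      conv_lhs => rw [← hHm, ← Subgroup.map_sup, hE.sup_eq_top]
      rw [← MonoidHom.range_eq_map, Subgroup.range_subtype])
    (by
      rintro _ ⟨w, hw, rfl⟩ hw1 h hh hc
      have := hfpf w hw (fun e => hw1 (by rw [e, map_one])) ⟨h, hHL hh⟩ hh (Subtype.ext hc)
      exact congrArg Subtype.val this) hTI hN
  rw [inducedIrrAbove_bot_eq_seqIndD] at hc
  obtain ⟨ν, hν⟩ := coherent_exists hc
  have hs : Group.IsSolvable (H.subgroupOf L) :=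
    Group.isSolvable_of_surjective (f := (Subgroup.subgroupOfEquivOfLe hHL).symm.toMonoidHom)
      (Subgroup.subgroupOfEquivOfLe hHL).symm.surjective
  obtain ⟨ζ, hζ, hζ1, -⟩ := exists_seqInd_lin_of_solvable hs hF.ne_bot
  refine ⟨ν, ζ, h76, hodd, hν.congr_tau fun α hα => ?_, hζ, hF.irr_of_mem hζ, hζ1⟩
  exact (Dade.eq_indFun h76.dade₀ (fun _ _ => rfl)
    (classFun_of_mem_zspan (fun _ => SeqSelf.classFun) hα.1) (h76.supp_zspanOn hα)).symm

/-- (7.11) -/
theorem t7_11 [Finite G] (hodd : Odd (Nat.card G)) {ι : Type*} [Finite ι] [Nonempty ι]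
    (L H : ι → Subgroup G) (hHL : ∀ i, H i ≤ L i) (hF : ∀ i, FrobKer ((H i).subgroupOf (L i)))
    (hnil : ∀ i, Group.IsNilpotent (H i))
    (hcop : ∀ i j, i ≠ j → Nat.Coprime (Nat.card (H i)) (Nat.card (H j)))
    (hTI : ∀ i, IsTISubset (H i : Set G)) (hN : ∀ i, Subgroup.normalizer (H i : Set G) = L i)
    (hcover : ∀ g : G, g ≠ 1 → ∃ i, ∃ x : G, x * g * x⁻¹ ∈ H i) : False := by
  let _ := Fintype.ofFinite G
  let _ := Fintype.ofFinite ι
  choose ν ζ h using fun i => exists_hyp78_of_TI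
    (hodd.of_dvd_nat (Subgroup.card_subgroup_dvd_card (L i))) (hHL i) (hF i) (hnil i) (hTI i) (hN i)
  have hc : ∀ i, Nat.card ((H i).subgroupOf (L i)) = Nat.card (H i) := fun i =>
    Nat.card_congr (Subgroup.subgroupOfEquivOfLe (hHL i)).toEquiv
  refine t7_11_aux hodd h hF (fun i j hij => disjoint_dadeSupp_bot_of_coprime (hcop i j hij))
    (fun i j hij e => ?_) (fun g hg => ?_)
  · have h1 := hcop i j hij
    have h2 := (hF i).one_lt_card
    rw [hc, hc] at e
    rw [hc] at h2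
    rw [← e, Nat.coprime_self] at h1
    omega
  · obtain ⟨i, x, hx⟩ := hcover g hg
    exact ⟨i, mem_dadeSupp_bot.2 ⟨x, hx, fun e => hg (by simpa [mul_inv_eq_one] using e)⟩⟩

end CL.PF
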