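import Cfsg.Agent.PF.T5
import Cfsg.Agent.PF.SibleyB
import Cfsg.Agent.PF.DadeNorm

/-! Peterfalvi (6.8), case (c2).  Proved from `sibley_core`. -/

set_option autoImplicit false

namespace CL.PF

open Cfsg

/-- (6.8) in case (c2): `L = H ⋊ W₁`, Hypothesis (4.6) holds with `K = H`, `A = H^#`, `|W₂|` is prime
and `W₂ ≤ [H, H]`. -/
theorem t6_8c2 {G X₁ X₂ : Type*} [Group G] [Fintype G] [Group X₁] [Group X₂] [Finite X₁]
    [Finite X₂] {L : Subgroup G} [Fintype L] {H : Subgroup L} {f₁ : X₁ →* L} {f₂ : X₂ →* L}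
    {A₀ : Set G} {R : G → Subgroup G} (hodd : Odd (Nat.card L)) (hnil : Group.IsNilpotent H)
    (hTI : IsTISubset (H.map L.subtype : Set G))
    (hN : Subgroup.normalizer (H.map L.subtype : Set G) = L)
    (h : PrimeDade L H H f₁ f₂ ((H.map L.subtype : Set G) \ {1}) A₀ R)
    (hp : (Nat.card X₂).Prime) (hW₂ : f₂.range ≤ ⁅H, H⁆) :
    IsCoherent (inducedIrrAbove H ⊥) {1}ᶜ (fun α : L → ℂ => indFun L α) := by
  have := h.H_normal
  obtain ⟨B, hB, -⟩ := h.t5_3b hodd
  have hsub : (H.map L.subtype : Set G) \ {1} ⊆ A₀ := h.A₀_eq ▸ Set.subset_union_left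
  have hR : ∀ a ∈ (H.map L.subtype : Set G) \ {1}, R a = ⊥ := by
    intro a ha
    have h1 := h.dade.le_centralizer a (hsub ha)
    have h2 : Subgroup.centralizer ({a} : Set G) ≤ L := by
      intro g hg
      by_contra hgL
      refine ha.2 (hTI g (hN.symm ▸ hgL) a ha.1 ?_)
      rw [Subgroup.mem_centralizer_singleton_iff.1 hg, mul_inv_cancel_right]
      exact ha.1
    rw [← h.dade.inf_eq_bot a (hsub ha), inf_eq_left.2 (le_inf (h1.trans h2) h1)]
  rw [inducedIrrAbove_eq]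
  refine sibley_core hodd hnil hTI hN (subcoh_congr_tau hB fun α hα => ?_)
    (h.primeTI.fpfMod_of_le hW₂ (Subgroup.commutator_le_left H H)) (h.primeTI.sibley_cases hp hW₂)
  refine (Dade.eq_indFun_of_sub h.dade hsub hR
    (classFun_of_mem_zspan (fun _ hφ => seqIndD_classFun hφ) (zspanOn_subset hα)) ?_).symm
  intro x hx
  by_cases h1 : x = 1
  · rw [h1]; exact apply_one_of_mem_zspanOn hα
  · exact seqIndD_zspan_apply_eq_zero (zspanOn_subset hα) fun hxH =>
      hx ⟨⟨x, hxH, rfl⟩, fun h => h1 (Subtype.ext h)⟩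

end CL.PF
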