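import Cfsg.Agent.PF.T8_Cover
import Cfsg.Agent.PF.T9_3
import Cfsg.Agent.PF.T6_8
import Cfsg.Agent.PF.A10_Ten
import Cfsg.Agent.PF.CohSix

/-! Exports of Peterfalvi section 10.  Owner: helper10 (helper93). -/

set_option autoImplicit false
set_option linter.unusedSectionVars false

namespace CL.PF

open Cfsg CL.BG CL.Char

variable {G : Type*} [Group G] [Fintype G] {M W₁ U W₂ : Subgroup G}

theorem PCtx.range_f₂_le_der2 (c : PCtx M W₁ U W₂) :
    c.f₂.range ≤ ⁅commutator M, commutator M⁆ := by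
  rintro _ ⟨x, rfl⟩
  have h1 : (x : G) ∈ ⁅commutator M, commutator M⁆.map M.subtype := by
    rw [Subgroup.map_commutator, map_commutator_subtype]
    exact (c.hP.W₂_le x.2).2
  obtain ⟨y, hy, e⟩ := h1
  have : y = c.f₂ x := Subtype.ext e
  exact this ▸ hy

theorem PCtx.solv (c : PCtx M W₁ U W₂) : Group.IsSolvable M := mmax_sol c.hG c.hM

theorem PCtx.der2_ne (c : PCtx M W₁ U W₂) : ⁅commutator M, commutator M⁆ ≠ commutator M := by
  have := c.solv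
  refine (Group.IsSolvable.commutator_lt_of_ne_bot fun e => c.primeTI.ne_bot₂ ?_).ne
  exact le_bot_iff.1 (e ▸ c.primeTI.le₂)

theorem PCtx.Const345.const10 {c : PCtx M W₁ U W₂} {d n : ℕ} {δ : ℤ} (h : c.Const345 d δ n) :
    Const10 c.f₁ c.f₂ d δ n := ⟨h.deg, h.sign, h.one_lt, h.eq⟩

/-- Hypothesis (10.4.a) -/
theorem PCtx.hyp104 (c : PCtx M W₁ U W₂) (h : ¬ IsOfTypeII M) {d n : ℕ} {δ : ℤ}
    (hc : c.Const345 d δ n) {ζ : M → ℂ} (hζ : ζ ∈ inducedIrrAbove (commutator M) ⊥)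
    (hirr : IsIrrCharacter M ζ) (hζ1 : ζ 1 = (Nat.card W₁ : ℂ)) :
    Hyp104 M (commutator M) c.f₁ c.f₂ (typeA M) (typeA0 M) (supportR M) d δ n ζ :=
  ⟨c.primeDadeD h, odd_card_of_coatom c.hG M, hc.const10, inducedIrrAbove_eq (commutator M) ⊥ ▸ hζ,
    hirr, hζ1⟩

/-- the members of `S(M'')` are irreducible of degree `w₁` (any type `P`) -/
theorem PCtx.irr_of_mem_der2 (c : PCtx M W₁ U W₂) {ζ : M → ℂ}
    (hζ : ζ ∈ inducedIrrAbove (commutator M) ⁅commutator M, commutator M⁆) :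
    IsIrrCharacter M ζ ∧ ζ 1 = (Nat.card W₁ : ℂ) :=
  c.primeTI.irr_of_mem_seqIndD_der c.range_f₂_le_der2 (inducedIrrAbove_eq (commutator M) _ ▸ hζ)

/-- (10.2) -/
theorem PCtx.t10_2 (c : PCtx M W₁ U W₂) :
    ∃ ζ ∈ inducedIrrAbove (commutator M) ⊥, IsIrrCharacter M ζ ∧ ζ 1 = (Nat.card W₁ : ℂ) := by
  rw [inducedIrrAbove_eq]
  exact c.primeTI.exists_ref_irr c.range_f₂_le_der2 c.der2_ne

/-- (10.3) (the primality of `w₂` is `PCtx.prime_W₂`) -/
theorem PCtx.t10_3 (c : PCtx M W₁ U W₂) (h : ¬ IsOfTypeII M) :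
    ∃ (d : ℕ) (δ : ℤ) (n : ℕ), c.Const345 d δ n ∧ Even n ∧ 2 ≤ n := by
  obtain ⟨d, δ, n, hc⟩ := c.primeTI.exists_const10 c.range_f₂_le_der2 (c.prime_W₂ h)
  have hodd := odd_card_of_coatom c.hG M
  exact ⟨d, δ, n, ⟨hc.deg, hc.sign, hc.one_lt, hc.eq⟩, hc.n_even c.primeTI hodd,
    hc.two_le_n c.primeTI hodd⟩

section
variable (c : PCtx M W₁ U W₂) (h : ¬ IsOfTypeII M) {d n : ℕ} {δ : ℤ} (hc : c.Const345 d δ n)
  {ζ : M → ℂ} (hζ : ζ ∈ inducedIrrAbove (commutator M) ⊥) (hirr : IsIrrCharacter M ζ)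
  (hζ1 : ζ 1 = (Nat.card W₁ : ℂ))
include h hc hζ hirr hζ1

/-- (10.5), first part -/
theorem PCtx.alpha_mem (i : W₁ →* ℂˣ) {j : W₂ →* ℂˣ} (hj : j ≠ 1) :
    c.alpha δ n ζ i j ∈ genOn M (Subtype.val ⁻¹' typeA0 M) :=
  ⟨(c.hyp104 h hc hζ hirr hζ1).alpha_gen i j, (c.hyp104 h hc hζ hirr hζ1).alpha_supp i hj⟩

theorem PCtx.alpha_norm (i : W₁ →* ℂˣ) {j : W₂ →* ℂˣ} (hj : j ≠ 1) :
    classInner (ftTau M (c.alpha δ n ζ i j)) (ftTau M (c.alpha δ n ζ i j)) =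
      2 + (n : ℂ) ^ 2 :=
  (c.hyp104 h hc hζ hirr hζ1).tau_alpha_norm i hj

/-- last paragraph of the proof of (10.5), reused in (10.10) and (11.8) -/
theorem PCtx.bridge_coherence {S₁ : Set (M → ℂ)} (hS₁ : S₁ ⊆ inducedIrrAbove (commutator M) ⊥)
    (hS₁c : ∀ φ ∈ S₁, conjFun φ ∈ S₁) (hS₁i : ∀ φ ∈ S₁, IsIrrCharacter M φ)
    {τ₁ : (M → ℂ) → (G → ℂ)} (hτ : CoherentWith S₁ (ftTau M) τ₁) (i : W₁ →* ℂˣ) {j : W₂ →* ℂˣ}
    (hj : j ≠ 1) {X Y : G → ℂ} (hXY : ftTau M (c.alpha δ n ζ i j) = X + Y)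
    (hY : Y ∈ zspan (τ₁ '' S₁)) (hX : ∀ φ ∈ S₁, classInner X (τ₁ φ) = 0)
    (hYn : classInner Y Y = (n : ℂ) ^ 2) :
    X = (δ : ℂ) • (eta W₁.subtype W₂.subtype i j - eta W₁.subtype W₂.subtype i 1) :=
  (c.hyp104 h hc hζ hirr hζ1).bridge_coherence
    ⟨inducedIrrAbove_eq (commutator M) ⊥ ▸ hS₁, hS₁c⟩ hS₁i hτ i hj hXY hY hX hYn

end

/-- (10.8) -/
theorem PCtx.t10_8 (c : PCtx M W₁ U W₂) (h : ¬ IsOfTypeII M) :
    ¬ IsCoherent (inducedIrrAbove (commutator M) ⊥) {1}ᶜ (ftTau M) := by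
  intro hcoh
  rw [inducedIrrAbove_eq] at hcoh
  obtain ⟨τ₁, hτ⟩ := coherent_exists hcoh
  obtain ⟨ζ, hζ, hi, h1⟩ := c.t10_2
  obtain ⟨d, δ, n, hc, -, -⟩ := c.t10_3 h
  have H := c.hyp104 h hc hζ hi h1
  obtain ⟨S, V, cS⟩ := c.exists_dual
  have hS : IsOfTypeII S := (c.dual_typeII cS).resolve_left h
  have hV : V ≠ ⊥ := (cS.typeII_facts hS).1
  obtain ⟨H₀, _, h95⟩ := (cS.hyp92 hV).exists_hyp95
  rcases h95.t9_10 with ⟨χ, hχ, hχi, hχ1, -⟩ | ⟨-, -, hcyc, -⟩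
  · obtain ⟨r, -, hr⟩ := h95.exists_muCol
    refine H.false_of_partner hτ cS.primeDadeF (odd_card_of_coatom c.hG S) rfl rfl ?_
      (seqIndD_mono_ker bot_le hχ) hχi (seqIndD_mono_ker bot_le hr)
      ((h95.muCol_facts hr).1.trans hχ1.symm)
    rw [← tildeOf_eq_dadeSupp, ← tildeOf_eq_dadeSupp, ← (c.typeA_eq_der h).2, ← cS.ftA_eq]
    by_contra hd
    rw [Set.not_disjoint_iff_nonempty_inter] at hd
    obtain ⟨g, hg⟩ := (t8_18bW c.hG c.hM cS.hM (cS.dual_not_conj c)).2 hd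
    exact c.not_typeI (typeI_of_frob c.hG c.hM
      ((ftSupports_facts c.hG c.hM hg).2.1 ((typeII_cj g).2 hS)))
  · have hF := cS.frob_der_of_cyclic hS
      (isCyclic_of_surjective _ (Subgroup.subgroupOfEquivOfLe cS.U_le).surjective)
    have hTI : NormedTI ((fittingHallOf S : Set G) \ {1}) S :=
      (cS.fitting_TI hV).sharp_mono (fcore_le_fittingOf S) (fcore_ne_bot c.hG cS.hM)
        (fcore_normal S).norm
    have hu := cS.semiregular_U.two_mul_card_lt cS.hP.U_normal hV (odd_card_of_coatom c.hG V)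
      (odd_card_of_coatom c.hG W₂)
    have h3 := c.cycTI.three_le₂
    refine H.false_of_frobenius hτ c.range_f₂_le_der2 c.der2_ne cS.primeTI rfl rfl
      (H := fittingHallOf S) (fun x => cS.W₂_le_core x.2) (fcore_hall c.hG cS.hM)
      (fun x hx a ha => hTI.conj_mem hx ha) (fun g a ha hg => hTI.mem_of_conj_mem ha hg)
      (fun a ha h1 x hx e => hF.inf_cent1_le_ker ha h1 ⟨?_, ?_⟩) (u := Nat.card V) (by omega) ?_
    · rw [← map_commutator_subtype]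
      exact ⟨x, hx, rfl⟩
    · exact Subgroup.mem_centralizer_singleton_iff.2 e
    · rw [cS.sdp_core.card, cS.sdp_der.card]

/-- (10.9) -/
theorem PCtx.t10_9 (c : PCtx M W₁ U W₂) (h : ¬ IsOfTypeII M) {ζ : M → ℂ}
    (hζ : ζ ∈ inducedIrrAbove (commutator M) ⊥) (hirr : IsIrrCharacter M ζ)
    (hζ1 : ζ 1 = (Nat.card W₁ : ℂ)) (hw : Nat.card W₁ < Nat.card W₂) :
    ∃ χ : G → ℂ, ftTau M (muCol c.f₁ c.f₂ 1 - ζ) = etaCol W₁.subtype W₂.subtype 1 - χ ∧
      IsSignedIrr G χ ∧ OrthEta W₁.subtype W₂.subtype χ := by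
  obtain ⟨χ, e, g, n, o⟩ := (c.primeDadeD h).dade_bridge0
    (inducedIrrAbove_eq (commutator M) ⊥ ▸ hζ) hirr hζ1 hw
  exact ⟨χ, e, isSignedIrr_of_norm_one g n, o⟩

/-- (10.10) -/
theorem PCtx.U_ne_bot (c : PCtx M W₁ U W₂) : U ≠ ⊥ := by
  intro hU
  have h : ¬ IsOfTypeII M := fun h => (c.typeII_facts h).1 hU
  refine c.t10_8 h ?_
  obtain ⟨hH, hcases⟩ := c.typeV_facts hU
  have hodd := odd_card_of_coatom c.hG M
  have hK : fittingHall M = commutator M := by rw [← fcore_subgroupOf', hH, der_subgroupOf]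
  have hnil : Group.IsNilpotent (commutator M) := hK ▸ fittingHall_nilpotent M
  have hpd := c.primeDadeD h
  have hcard : Nat.card (fittingHallOf M) = Nat.card (commutator M) := by rw [card_fcore, hK]
  rcases hcases with hTI | hcases
  · have hm : (commutator M).map M.subtype = fittingHallOf M := by
      rw [map_commutator_subtype, hH]
    have hA : typeA M = (((commutator M).map M.subtype : Subgroup G) : Set G) \ {1} := by
      rw [map_commutator_subtype, (c.typeA_eq_der h).1]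
    have hN : NormedTI (typeA M) M := by
      rw [hA, hm]
      exact (normedTI_sharp_iff_isTISubset (fcore_ne_bot c.hG c.hM)).2 ⟨hTI, norm_fcore c.hG c.hM⟩
    refine coherent_congr_tau (t6_8c2 hodd hnil (hm ▸ hTI) (hm ▸ norm_fcore c.hG c.hM) (hA ▸ hpd)
      (c.prime_W₂ h) c.range_f₂_le_der2) fun α hα => ?_
    rw [inducedIrrAbove_eq] at hα
    have h1 := hpd.zspanOn_subset hα
    exact (c.tau_eq_ind (typeA_subset_typeA0 M) hN (gen_isClassFunction h1.1) h1.2).symm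
  obtain ⟨B, hB, -⟩ := c.cohBaseD h
  have := c.solv
  have hi := c.primeTI.index_eq
  by_contra hn
  have hbad := fun hg => hn (t6_5 (K := commutator M) inferInstance hB hodd (M := ⊥) bot_le
    (isNilpotent_map_of_nilpotent _ hnil)
    (fun e => c.der2_ne (le_antisymm (der_le_self _) (by simpa using e)))
    (by simpa using c.primeTI.fpfMod c.range_f₂_le_der2 (der_le_self _)) hg)
  obtain ⟨q, m, hq, hqm⟩ : ∃ p m : ℕ, p.Prime ∧ (⊥ : Subgroup M).relIndex (commutator M) = p ^ m := by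
    by_contra hq
    exact hbad (.inr (.inr (.inl hq)))
  have hqm' := hqm
  rw [Subgroup.relIndex_bot_left] at hqm'
  have hpq : ∀ p : ℕ, p.Prime → p ∣ Nat.card (fittingHallOf M) → p = q := fun p hp hd => by
    rw [hcard, hqm'] at hd
    exact (Nat.prime_dvd_prime_iff_eq hp hq).1 (hp.dvd_of_dvd_pow hd)
  rcases hcases with ⟨p, hp, hd, h1, -⟩ | ⟨p, hp, hd, h3, h1, -⟩
  · obtain rfl := hpq p hp hd
    exact hbad (.inr (.inr (.inr (.inr ⟨p, m, hp, hqm, hi ▸ h1⟩))))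
  · obtain rfl := hpq p hp hd
    have htop : pCore p (fittingHallOf M) = ⊤ :=
      top_le_iff.1 (le_sSup ⟨inferInstance,
        (IsPGroup.of_card (hcard.trans hqm')).to_subgroup ⊤⟩)
    rw [htop, Subgroup.card_top, hcard] at h3
    refine hn ?_
    rw [inducedIrrAbove_eq]
    refine hpd.coherent_of_card_eq_cube hodd c.range_f₂_le_der2 hp h3 h1 ?_
    by_contra hlt
    exact hbad (.inr (.inl (by simpa [hi] using hlt)))

/-- (10.10) -/
theorem not_typeV (hG : IsMinSimpleOddOrder G) (hM : IsCoatom M) : ¬ IsOfTypeV M := by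
  rintro ⟨W₁, U, W₂, hP, hU, -⟩
  exact PCtx.U_ne_bot ⟨hG, hM, hP⟩ hU

/-- (10.11) -/
theorem PCtx.primes (c : PCtx M W₁ U W₂) : (Nat.card W₁).Prime ∧ (Nat.card W₂).Prime := by
  obtain ⟨T, V, cT⟩ := c.exists_dual
  exact ⟨c.prime_W₁ c.U_ne_bot, cT.prime_W₁ cT.U_ne_bot⟩

/-- (10.11) -/
theorem PCtx.t10_11 (c : PCtx M W₁ U W₂) (h : IsOfTypeII M) :
    IsElementaryAbelian (Nat.card W₂) (fittingHallOf M) ∧
      Nat.card (fittingHallOf M) = Nat.card W₂ ^ Nat.card W₁ ∧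
      Hyp95 (fittingHall M) (U.subgroupOf M) ⊥ c.f₁ c.f₂ ∧
      IsCoherent (seqIndD (commutator M) (fittingHall M) ⊥) {1}ᶜ (ftTau M) := by
  obtain ⟨H₀, _, h95⟩ := (c.hyp92 c.U_ne_bot).exists_hyp95
  have hc := (c.t9_3_II h).2
  have hp := h95.pOf_eq c.primes.2
  have h0 : H₀ = ⊥ := by
    have e := card_eq_card_mul_relIndex h95.H₀_le
    rw [h95.relIndex_H, hp, ← card_fcore, hc] at e
    have hpos : 0 < Nat.card W₂ ^ Nat.card W₁ := pow_pos Nat.card_pos _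
    exact Subgroup.card_eq_one.1 (by nlinarith)
  subst h0
  refine ⟨⟨?_, ?_⟩, hc, h95, ?_⟩
  · rw [← Subgroup.commutator_self_eq_bot_iff, fittingHallOf, ← Subgroup.map_commutator,
      le_bot_iff.1 h95.der_H_le, Subgroup.map_bot]
  · rintro _ ⟨x, hx, rfl⟩
    have := h95.pow_mem hx
    rw [hp, Subgroup.mem_bot] at this
    rw [← map_pow, this, map_one]
  · have := c.t9_11 h95
    have hU := (c.typeII_facts h).2.1
    rwa [show ⁅cOf (fittingHall M) (U.subgroupOf M) ⊥, cOf (fittingHall M) (U.subgroupOf M) ⊥⁆ = ⊥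
      from ?_, sup_bot_eq] at this
    rw [Subgroup.commutator_eq_bot_iff_le_centralizer]
    intro x hx
    rw [Subgroup.mem_centralizer_iff]
    intro y hy
    exact Subtype.ext (setLike_mul_comm (s := U) hy.1 hx.1)

end CL.PF
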