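import Cfsg.Agent.PF.T11
import Cfsg.Agent.PF.P12_7

/-! Exports of Peterfalvi section 12.  Owner: helper11 (helper92). -/

set_option autoImplicit false

namespace CL.PF

open Cfsg CL.BG

variable {G : Type*} [Group G] [Fintype G] {L : Subgroup G}

/-- (5.3.a) for a Frobenius maximal subgroup -/
theorem frob_cohBase (hG : IsMinSimpleOddOrder G) (hL : IsCoatom L) (h : FrobKer (fittingHall L)) :
    (∀ χ ∈ inducedIrrAbove (fittingHall L) ⊥, IsIrrCharacter L χ) ∧
      ∃ B : (L → ℂ) → Finset (G → ℂ),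
        IsCoherenceSystem (inducedIrrAbove (fittingHall L) ⊥) (ftTau L) B := p12_cohBase hG hL h

/-- (12.6) -/
theorem t12_6 (hG : IsMinSimpleOddOrder G) (hL : IsCoatom L) (h : FrobKer (fittingHall L)) :
    IsCoherent (inducedIrrAbove (fittingHall L) ⊥) {1}ᶜ (ftTau L) := p12_6 hG hL h

/-- (12.7), for the weak type I -/
theorem t12_7W (hG : IsMinSimpleOddOrder G) (hL : IsCoatom L) (h : TypeI L) :
    FrobKer (fittingHall L) := p12_7 hG hL h

/-- (12.7) -/
theorem t12_7 (hG : IsMinSimpleOddOrder G) (hL : IsCoatom L) (h : IsOfTypeI L) :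
    FrobKer (fittingHall L) := t12_7W hG hL (typeI_of_isOfTypeI h)

/-- (12.17), for the weak type I -/
theorem t12_17W (hG : IsMinSimpleOddOrder G) : ∃ M : Subgroup G, IsCoatom M ∧ ¬ TypeI M :=
  p12_17 hG fun _ => t12_7W hG

/-- (12.17) -/
theorem t12_17 (hG : IsMinSimpleOddOrder G) : ∃ M : Subgroup G, IsCoatom M ∧ ¬ IsOfTypeI M := by
  obtain ⟨M, hM, h⟩ := t12_17W hG
  exact ⟨M, hM, fun h' => h (typeI_of_isOfTypeI h')⟩

end CL.PF
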