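import Cfsg.Agent.PF.T12

/-! After (12.7) the weak type I coincides with `IsOfTypeI`: the results of section 8 in terms of
`IsOfTypeI`, `typeA`, `typeA0`, `ftTau`, `PPair`.  Owner: helper90. -/

set_option autoImplicit false

namespace CL.PF

open Cfsg CL.BG

section
variable {G : Type*} [Group G] [Finite G] {M W₁ U W₂ : Subgroup G}

theorem typeI_iff (hG : IsMinSimpleOddOrder G) (hM : IsCoatom M) : TypeI M ↔ IsOfTypeI M := by
  haveI := Fintype.ofFinite G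
  exact ⟨fun h => typeI_of_frob hG hM (t12_7W hG hM h), typeI_of_isOfTypeI⟩

theorem ftA_eq (hG : IsMinSimpleOddOrder G) (hM : IsCoatom M) : ftA M = typeA M :=
  ftA_eq_typeA (typeI_iff hG hM)

theorem ftA0_eq (hG : IsMinSimpleOddOrder G) (hM : IsCoatom M) : ftA0 M = typeA0 M :=
  ftA0_eq_typeA0 (typeI_iff hG hM)

theorem tauW_eq (hG : IsMinSimpleOddOrder G) (hM : IsCoatom M) : tauW M = ftTau M := by
  rw [tauW, ftTau, ftA0_eq hG hM]

theorem exists_pctx (hG : IsMinSimpleOddOrder G) (hM : IsCoatom M) (h : ¬ IsOfTypeI M) :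
    ∃ W₁ U W₂ : Subgroup G, PCtx M W₁ U W₂ :=
  exists_pctxW hG hM fun h' => h ((typeI_iff hG hM).1 h')

/-- the hypotheses of statements 1543 to 1549 -/
theorem PPair.of_inf {S T V : Subgroup G} (cS : PCtx S W₁ U W₂) (cT : PCtx T W₂ V W₁) :
    PPair S T W₁ W₂ U V where
  cS := cS
  cT := cT
  inf_eq := cS.dual_inf cT
  typeII := cS.dual_typeII cT
  all M hM := ((cS.ftPair cT).all M hM).imp (typeI_iff cS.hG hM).1 id

theorem PCtx.exists_pair (c : PCtx M W₁ U W₂) : ∃ T V : Subgroup G, PPair M T W₁ W₂ U V := by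
  obtain ⟨T, V, cT⟩ := c.exists_dual
  exact ⟨T, V, PPair.of_inf c cT⟩

/-- (8.8) -/
theorem t8_8 (hG : IsMinSimpleOddOrder G) :
    (∀ M : Subgroup G, IsCoatom M → IsOfTypeI M) ∨
      ∃ S T W₁ W₂ U V : Subgroup G, PPair S T W₁ W₂ U V := by
  rcases t8_8W hG with h | ⟨S, T, W₁, W₂, U, V, cS, cT⟩
  · exact Or.inl fun M hM => (typeI_iff hG hM).1 (h M hM)
  · exact Or.inr ⟨S, T, W₁, W₂, U, V, PPair.of_inf cS cT⟩

/-- (8.15) -/
theorem dade_typeA0 (hG : IsMinSimpleOddOrder G) (hM : IsCoatom M) :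
    DadeHypothesis (typeA0 M) M (supportR M) := ftA0_eq hG hM ▸ dade_ftA0 hG hM

/-- (8.15) -/
theorem dade_typeA (hG : IsMinSimpleOddOrder G) (hM : IsCoatom M) :
    DadeHypothesis (typeA M) M (supportR M) := ftA_eq hG hM ▸ dade_ftA hG hM

theorem norm_typeA0 (hG : IsMinSimpleOddOrder G) (hM : IsCoatom M) :
    Subgroup.normalizer (typeA0 M) = M := ftA0_eq hG hM ▸ norm_ftA0 hG hM

theorem norm_typeA (hG : IsMinSimpleOddOrder G) (hM : IsCoatom M) :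
    Subgroup.normalizer (typeA M) = M := ftA_eq hG hM ▸ norm_ftA hG hM

theorem cent1_le_of_not_mem_typeA1 (hG : IsMinSimpleOddOrder G) (hM : IsCoatom M) {x : G}
    (hx : x ∈ typeA0 M) (hx1 : x ∉ typeA1 M) : 𝐂₁(x) ≤ M :=
  ftA0_cent1_le hG hM (ftA0_eq hG hM ▸ hx) hx1

theorem normedTI_of_cent1_le (hG : IsMinSimpleOddOrder G) (hM : IsCoatom M) {A : Set G}
    (hA : A ⊆ typeA0 M) (hne : A.Nonempty) (hn : ∀ x ∈ M, ∀ a ∈ A, x * a * x⁻¹ ∈ A)
    (hc : ∀ a ∈ A, 𝐂₁(a) ≤ M) : NormedTI A M :=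
  ftA0_normedTI hG hM (ftA0_eq hG hM ▸ hA) hne hn hc

theorem supports_iff (hG : IsMinSimpleOddOrder G) (hM : IsCoatom M) {L : Subgroup G} :
    FtSupports L M ↔ Supports L M := ftSupports_iff (typeI_iff hG hM)

/-- (8.18.a) -/
theorem t8_18a (hG : IsMinSimpleOddOrder G) {S T : Subgroup G} (hS : IsCoatom S) (hT : IsCoatom T)
    (h : ∀ g : G, cj g T ≠ S) :
    (Supports T S ↔ (typeA1 S ∩ typeA T).Nonempty) ∧
      ∀ x ∈ typeA1 S ∩ typeA T, ¬ 𝐂₁(x) ≤ S ∧ 𝐂₁(x) ≤ T := by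
  rw [← ftA_eq hG hT, ← supports_iff hG hS]
  exact t8_18aW hG hS hT h

/-- (8.18.b) -/
theorem t8_18b (hG : IsMinSimpleOddOrder G) {S T : Subgroup G} (hS : IsCoatom S) (hT : IsCoatom T)
    (h : ∀ g : G, cj g T ≠ S) :
    (∃ g : G, Supports (cj g T) S) ↔
      (tildeOf S (typeA1 S) ∩ tildeOf T (typeA T)).Nonempty := by
  rw [← ftA_eq hG hT, ← t8_18bW hG hS hT h]
  simp only [supports_iff hG hS]

/-- (8.18.c) -/
theorem t8_18c (hG : IsMinSimpleOddOrder G) {S T : Subgroup G} (hS : IsCoatom S) (hT : IsCoatom T)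
    (h : ∀ g : G, cj g T ≠ S) :
    Disjoint (tildeOf S (typeA1 S)) (tildeOf T (typeA T)) ∨
      Disjoint (tildeOf T (typeA1 T)) (tildeOf S (typeA S)) := by
  rw [← ftA_eq hG hT, ← ftA_eq hG hS]
  exact t8_18cW hG hS hT h

end

section
variable {G : Type*} [Group G] [Fintype G] {M : Subgroup G}

theorem ftTau_iso (hG : IsMinSimpleOddOrder G) (hM : IsCoatom M) :
    IsLinearIsometryOn (genOn M (Subtype.val ⁻¹' typeA0 M)) (ftTau M) :=
  tauW_eq hG hM ▸ ftA0_eq hG hM ▸ tauW_iso hG hM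

theorem ftTau_eq_dade (hG : IsMinSimpleOddOrder G) (hM : IsCoatom M) {A : Set G}
    (hA : A ⊆ typeA0 M) (hn : ∀ x ∈ M, ∀ a ∈ A, x * a * x⁻¹ ∈ A) {α : M → ℂ}
    (hα : IsClassFunction M α) (hs : ∀ x : M, (x : G) ∉ A → α x = 0) :
    ftTau M α = dadeIsometry A M (supportR M) α :=
  tauW_eq hG hM ▸ tauW_eq_dade hG hM (ftA0_eq hG hM ▸ hA) hn hα hs

theorem ftTau_eq_indFun (hG : IsMinSimpleOddOrder G) (hM : IsCoatom M) {A : Set G}
    (hA : A ⊆ typeA0 M) (hTI : NormedTI A M) {α : M → ℂ} (hα : IsClassFunction M α)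
    (hs : ∀ x : M, (x : G) ∉ A → α x = 0) : ftTau M α = indFun M α :=
  tauW_eq hG hM ▸ tauW_eq_indFun hG hM (ftA0_eq hG hM ▸ hA) hTI hα hs

end

end CL.PF
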