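import Cfsg.Agent.PF.T13_2
import Cfsg.Agent.BG.T1_6
import Cfsg.Agent.BG.T3_9
import Cfsg.Agent.BG.T3_W

/-! Peterfalvi (13.12) to (13.17) ((13.4) to (13.11) are internal).  Owner: helper2. -/

set_option autoImplicit false

namespace CL.PF

open Cfsg CL.BG

variable {G : Type*} [Group G] [Fintype G] {S W₁ U W₂ : Subgroup G}

omit [Fintype G] in
theorem PCtx.card_C_mul_uP (_c : PCtx S W₁ U W₂) :
    Nat.card ↥(U ⊓ 𝐂(fittingHallOf S)) * uP S U = Nat.card U :=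
  (card_eq_card_mul_relIndex inf_le_left).symm

theorem PCtx.coprime_U_W₁ (c : PCtx S W₁ U W₂) : Nat.Coprime (Nat.card U) (Nat.card W₁) :=
  c.semiregular_U.coprime c.sdp_U.norm

theorem PCtx.coprime_fcore_UW₁ (c : PCtx S W₁ U W₂) :
    Nat.Coprime (Nat.card (fittingHallOf S)) (Nat.card ↥(U ⊔ W₁)) :=
  c.sdp_core'.coprime_of_isHall_left (fcore_isHall S)

theorem PCtx.coprime_U_W₂ (c : PCtx S W₁ U W₂) : Nat.Coprime (Nat.card U) (Nat.card W₂) :=
  coprime_card_mono c.coprime_fcore_UW₁.symm le_sup_left c.W₂_le_core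

theorem PCtx.card_ne (c : PCtx S W₁ U W₂) : Nat.card W₂ ≠ Nat.card W₁ := fun e => by
  have h := coprime_card_mono c.coprime_fcore_UW₁ c.W₂_le_core le_sup_right
  rw [e, Nat.coprime_self] at h
  exact c.primes.1.one_lt.ne' h

omit [Fintype G] in
theorem PCtx.card_W₁_ne_two (c : PCtx S W₁ U W₂) : Nat.card W₁ ≠ 2 :=
  mFT_ne_two_of_dvd c.hG dvd_rfl

omit [Fintype G] in
theorem PCtx.card_W₂_ne_two (c : PCtx S W₁ U W₂) : Nat.card W₂ ≠ 2 :=
  mFT_ne_two_of_dvd c.hG dvd_rfl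

theorem PCtx.uP_mul_le (c : PCtx S W₁ U W₂) :
    uP S U * (Nat.card W₂ - 1) ≤ Nat.card W₂ ^ Nat.card W₁ - 1 :=
  (Nat.le_div_iff_mul_le (Nat.sub_pos_of_lt c.primes.2.one_lt)).1 c.t13_2c

theorem PCtx.hyp13 (c : PCtx S W₁ U W₂) : ∃ τ₁ : (S → ℂ) → (G → ℂ),
    Hyp13 W₁.subtype W₂.subtype S (fittingHall S) (fittingSubgroup S) τ₁ (uP S U)
      (Nat.card ↥(U ⊓ 𝐂(fittingHallOf S))) := by
  obtain ⟨τ₁, hτ, hμ⟩ := c.t13_3c
  have h95 := c.hyp95
  have hPn : (fittingHall S).Normal := h95.H_normal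
  have hHn : (fittingSubgroup S).Normal := c.fitting_eq_HC ▸ h95.normal_HC
  have hPH := fittingHall_le_fitting S
  have hHK : fittingSubgroup S ≤ commutator S := by
    rw [c.fitting_eq_HC]
    exact sup_le h95.H_le (inf_le_left.trans h95.U_le)
  have hred : ∀ j, j ≠ 1 → ∃ k, k ≠ 1 ∧ ∃ e : ℤ, (e = 1 ∨ e = -1) ∧
      τ₁ (muCol c.f₁ c.f₂ j) = (e : ℂ) • etaCol W₁.subtype W₂.subtype k := fun j hj => by
    rcases hμ with h | h
    · exact ⟨j, hj, 1, Or.inl rfl, by rw [h j hj]; simp⟩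
    · exact ⟨j⁻¹, dual_inv_ne_one' hj, -1, Or.inr rfl, by rw [h j hj]; simp⟩
  refine ⟨τ₁,
    { cycTI := c.cycTI
      prime₁ := c.primes.1
      prime₂ := c.primes.2
      odd := odd_card_of_coatom c.hG S
      P_normal := hPn
      H_normal := hHn
      P_le := hPH
      comm := c.fitting_comm'
      mem₁ := fun x => c.W₁_le x.2
      mem₂ := fun y => ⟨⟨y, c.W₂_le y.2⟩, mem_fcore_iff.1 (c.W₂_le_core y.2), rfl⟩
      not_mem := fun x hx a ha e => hx (c.primeTI.mem_iff.1 ?_)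
      card_P := by rw [← BG.card_fcore, c.card_fcore]
      card_H := ?_
      index_H := by rw [c.fitting_eq_HC, h95.index_HC.1, c.uOf_bot]
      coprime := by rw [c.card_C_mul_uP]; exact c.coprime_U_W₁
      u_le := c.uP_mul_le
      TI := fun g a ha hg => (c.fitting_TI c.U_ne_bot).mem_of_conj_mem ha hg
      coh := ?_
      red := ?_
      cases := fun ζ hζ => ?_ }⟩
  · have : c.f₁ x = a := Subtype.ext e.symm
    rw [this]
    exact hHK ha
  · rw [c.fitting_eq_HC, h95.card_H_sup (V := cOf _ _ ⊥) le_rfl inf_le_left, ← BG.card_fcore,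
      c.card_fcore, c.cOf_bot, Nat.card_congr (Subgroup.subgroupOfEquivOfLe (inf_le_left.trans c.U_le)).toEquiv]
  · refine (hτ.subgen fun ζ hζ => a13_mem_zspan hPH hHK hζ).congr_tau fun α hα => ?_
    obtain ⟨h1, h2⟩ := mem_zspanOn_one.1 hα
    refine c.tau_eq_indFun (classFun_of_mem_zspan (fun _ => a13_classFun) h1) fun x hx => ?_
    by_cases hx1 : x = 1
    · rw [hx1, h2]
    refine zspan_apply_eq_zero (fun χ hχ => a13_eq_zero hχ fun hxH => hx ?_) h1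
    exact typeA_subset_typeA0 S (c.fitting_subset_typeA ⟨⟨x, hxH, rfl⟩, by simpa using hx1⟩)
  · obtain ⟨j, hj, h⟩ := h95.exists_muCol
    exact ⟨_, a13_mem_of_indLin hPH h95.H_le h (c.t13_3a hj).2.1, hred j hj⟩
  · rcases c.primeDadeF.a13_cases (odd_card_of_coatom c.hG S) hPH hHK
      (fun j hj => (c.t13_3a hj).2.1) hτ hζ with ⟨j, hj, rfl⟩ | h
    · exact Or.inl (hred j hj)
    · exact Or.inr h

theorem PCtx.t13_3b' (c : PCtx S W₁ U W₂) :
    (∃ l ∈ seqIndD (fittingSubgroup S) (fittingHall S) ⊥, IsIrrCharacter S l) ∨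
      (Nat.card ↥(U ⊓ 𝐂(fittingHallOf S)) = 1 ∧
        uP S U * (Nat.card W₂ - 1) = Nat.card W₂ ^ Nat.card W₁ - 1) := by
  refine or_iff_not_imp_left.2 fun h => ?_
  have := c.hyp95.H_normal
  obtain ⟨-, h1, h2⟩ := c.t13_3b fun χ hχ hi hl =>
    h ⟨χ, a13_mem_of_indLin (fittingHall_le_fitting S) c.hyp95.H_le hχ hl, hi⟩
  refine ⟨by rw [h1, Subgroup.card_bot], ?_⟩
  rw [h2]
  exact Nat.div_mul_cancel (by simpa using Nat.sub_dvd_pow_sub_pow (Nat.card W₂) 1 (Nat.card W₁))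

/-- (13.10) -/
theorem PCtx.t13_10 (c : PCtx S W₁ U W₂) :
    m13 (Nat.card W₂) (Nat.card W₁) * (Nat.card W₂ : ℝ) ^ (Nat.card W₁ - 1) *
      Nat.card ↥(U ⊓ 𝐂(fittingHallOf S)) < uP S U * Nat.card W₁ := by
  obtain ⟨T, V, cT⟩ := c.exists_dual
  obtain ⟨τ₁, hS⟩ := c.hyp13
  obtain ⟨τ₂, hT⟩ := cT.hyp13
  exact hS.t13_10' hT c.t13_3b' cT.t13_3b'

/-- (13.12) -/
theorem PCtx.t13_12 (c : PCtx S W₁ U W₂) : U ⊓ 𝐂(fittingHallOf S) = ⊥ := by
  by_contra hne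
  obtain ⟨τ₁, hS⟩ := c.hyp13
  have hq : Nat.card W₁ ∣ Nat.card ↥(U ⊓ 𝐂(fittingHallOf S)) - 1 :=
    (c.semiregular_U.mono_left inf_le_left).card_dvd_pred
      (norms_inf_cent c.sdp_U.norm (c.W₁_le.trans (fcore_normal S).norm))
  have h := arith13_12 c.primes.2 c.primes.1 c.card_W₂_ne_two c.card_W₁_ne_two c.card_ne
    c.uP_mul_le c.uP_facts.2.1 (mFT_odd c.hG _) (one_lt_card_of_ne_bot hne).ne' hq
    (coprime_card_mono c.coprime_U_W₂ inf_le_left le_rfl) c.t13_10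
  rw [← hS.card_H, ← hS.index_H] at h
  have := hS.H_normal
  have hle : fittingSubgroup S ≤ fittingHall S :=
    le_fittingHall (nil_of_comm ⟨⟨c.fitting_comm'⟩⟩) h
  have hle' : fittingOf S ≤ fittingHallOf S := Subgroup.map_mono hle
  rw [c.fitting_eq] at hle'
  exact hne (eq_bot_iff.2 (c.sdp_core.disj ▸ le_inf (le_sup_right.trans hle') inf_le_left))

theorem PCtx.uP_eq (c : PCtx S W₁ U W₂) : uP S U = Nat.card U := by
  rw [uP, c.t13_12, Subgroup.relIndex_bot_left]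

theorem PCtx.fitting_eq_fcore (c : PCtx S W₁ U W₂) : fittingOf S = fittingHallOf S := by
  rw [c.fitting_eq, c.t13_12, sup_bot_eq]

theorem PCtx.fitting_eq_fcore' (c : PCtx S W₁ U W₂) : fittingSubgroup S = fittingHall S :=
  Subgroup.map_injective S.subtype_injective c.fitting_eq_fcore

theorem PCtx.t13_10' (c : PCtx S W₁ U W₂) :
    m13 (Nat.card W₂) (Nat.card W₁) * (Nat.card W₂ : ℝ) ^ (Nat.card W₁ - 1) <
      Nat.card U * Nat.card W₁ := by
  have h := c.t13_10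
  rwa [c.uP_eq, c.t13_12, Subgroup.card_bot, Nat.cast_one, mul_one] at h

/-- (13.13) -/
theorem PCtx.t13_13 (c : PCtx S W₁ U W₂) (h : ¬ PGalois S U) :
    Nat.card W₁ = 3 ∧ Nat.card U = ((Nat.card W₂ - 1) / 2) ^ 2 := by
  obtain ⟨H₁, h₁⟩ := c.hyp95.t9_7a h
  have h2 := h₁.u_dvd.trans (pow_dvd_pow_of_dvd (h₁.a_dvd_u c.hyp95).2.2 _)
  rw [c.uOf_bot, c.uP_eq, c.pOf_bot] at h2
  exact arith13_13 c.primes.2 c.primes.1 c.card_W₂_ne_two c.card_W₁_ne_two c.card_ne h2 c.t13_10'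

/-- (13.15) -/
theorem PCtx.t13_15 (c : PCtx S W₁ U W₂) (h : PGalois S U) :
    Nat.card U = if Nat.card W₂ % Nat.card W₁ = 1 then
      (Nat.card W₂ ^ Nat.card W₁ - 1) / (Nat.card W₂ - 1) / Nat.card W₁
    else (Nat.card W₂ ^ Nat.card W₁ - 1) / (Nat.card W₂ - 1) := by
  have h2 := (c.hyp95.t9_7b' h).2.2.1
  rw [c.uOf_bot, c.uP_eq, c.pOf_bot] at h2
  exact arith13_15 c.primes.2 c.primes.1 c.card_W₂_ne_two c.card_W₁_ne_two c.card_ne h2
    c.coprime_U_W₁ c.t13_10'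

theorem PCtx.fcore_inf_cent_W₁ (c : PCtx S W₁ U W₂) : fittingHallOf S ⊓ 𝐂(W₁) = W₂ :=
  le_antisymm (c.cent_W₁ ▸ inf_le_inf_right _ c.sdp_core.left_le)
    (le_inf c.W₂_le_core c.dp_W.cent)

theorem PCtx.U_inf_norm_W₂ (c : PCtx S W₁ U W₂) : U ⊓ 𝐍(W₂) = ⊥ := by
  set K := U ⊓ 𝐍(W₂) with hK
  have hW : W₁ ≤ 𝐂(W₂) := cent_symm c.dp_W.cent
  have hn : W₁ ≤ 𝐍(K) := norms_inf_norm c.sdp_U.norm (le_norm_of_le_cent hW)
  have hreg : Semiregular K W₁ := c.semiregular_U.mono_left inf_le_left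
  have hKc : K ≤ 𝐂(W₂) := by
    have h1 := t1_6a hn (hreg.coprime hn) (Or.inr (solvable_of_card_prime c.primes.1))
    rw [hreg.inf_cent_eq_bot le_rfl c.hP.W₁_ne, sup_bot_eq] at h1
    rw [← h1]
    exact (Subgroup.commutator_mono le_rfl hW).trans
      (commutator_le_right_of_norm (norms_cent inf_le_right))
  have hle : K ⊔ W₁ ≤ U ⊔ W₁ := sup_le_sup_right inf_le_left _
  have h2 := wielandt_semireg hn hreg (hle.trans c.sdp_core'.norm)
    (coprime_card_mono c.coprime_fcore_UW₁ le_rfl hle) (solvable_of_comm c.fcore_comm)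
  have h3 : fittingHallOf S ⊓ 𝐂(K ⊔ W₁) = W₂ := by
    rw [cent_sup, inf_comm 𝐂(K), ← inf_assoc, c.fcore_inf_cent_W₁, inf_eq_left]
    exact cent_symm hKc
  rw [h3, c.fcore_inf_cent_W₁] at h2
  have h4 := Subgroup.eq_of_le_of_card_ge (inf_le_left : fittingHallOf S ⊓ 𝐂(K) ≤ _)
    (Nat.eq_of_mul_eq_mul_left (pow_pos Nat.card_pos _) h2).le
  rw [eq_bot_iff, ← c.t13_12]
  exact le_inf inf_le_left (cent_symm (inf_eq_left.1 h4))

/-- (13.16), for the subgroup `W₂` -/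
theorem PCtx.t13_16 (c : PCtx S W₁ U W₂) :
    𝐍(W₂) = fittingHallOf S ⊔ W₁ ∧ 𝐂(W₂) = fittingHallOf S ⊔ W₁ := by
  have h1 : fittingHallOf S ⊔ W₁ ≤ 𝐂(W₂) :=
    sup_le (le_cent_of_comm_of_le c.fcore_comm le_rfl c.W₂_le_core) (cent_symm c.dp_W.cent)
  have h2 : fittingHallOf S ⊔ W₁ ≤ 𝐍(W₂) := h1.trans (cent_le_norm _)
  have h3 : 𝐍(W₂) ≤ S := (c.fitting_TI c.U_ne_bot).sharp_norm_le
    (c.W₂_le_core.trans (fcore_le_fittingOf S)) c.W₂_ne_bot
  have h4 := (c.sdp_core'.modl' (le_sup_left.trans h2) h3).sup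
  rw [← (c.sdp_U.modr (le_sup_right.trans h2)).sup, c.U_inf_norm_W₂, bot_sup_eq] at h4
  exact ⟨h4.symm, le_antisymm (h4 ▸ cent_le_norm _) h1⟩

theorem PCtx.U_isHall (c : PCtx S W₁ U W₂) : IsHall U S :=
  (c.sdp_U.isHall_left c.coprime_U_W₁).trans (c.sdp_core'.isHall_right c.coprime_fcore_UW₁)

/-- (13.17) -/
theorem PPair.t13_17 {T V : Subgroup G} (h : PPair S T W₁ W₂ U V) (hII : IsOfTypeII S)
    {L : Subgroup G} (hL : IsCoatom L) (hUL : 𝐍(U) ≤ L) :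
    FrobKer (fittingHall L) ∧ U ≤ fittingHallOf L ∧
      (SDP (fittingHallOf L) W₁ L ∨
        ∃ y ∈ fittingHallOf T, SDP (fittingHallOf L) (W₁ ⊔ cj y W₂) L) := by
  have c := h.cS
  have cT := h.cT
  have hG := c.hG
  obtain ⟨hq, hp⟩ := c.primes
  have hUle : U ≤ L := (le_norm_self U).trans hUL
  have hWle : W₁ ≤ L := c.sdp_U.norm.trans hUL
  have hF := c.t13_2a.2.2.1
  have hS : ∀ g, L ≠ cj g S := by
    rintro g rfl
    have h1 : Hall (primesOf U) (cj g U) (cj g S) := c.U_isHall.hall.cj g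
    obtain ⟨l, hl, e⟩ := hall_conj (mmax_sol hG hL) h1 (h1.of_card_eq hUle (card_cj g U).symm)
    rw [cj_cj, cj_eq_iff_mem_norm] at e
    have hg : g ∈ cj g S := by simpa using mul_mem (inv_mem hl) (hUL e)
    have hg' : g ∈ S := by simpa [mem_cj] using hg
    rw [cj_eq_of_mem hg'] at hUL
    exact (c.typeII_facts hII).2.2.1 hUL
  have hT : ∀ g, L ≠ cj g T := by
    rintro g rfl
    have h1 : Nat.card (fittingHallOf (cj g T)) = Nat.card W₁ ^ Nat.card W₂ := by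
      rw [← cj_fcore, card_cj, cT.card_fcore]
    have h2 : W₁ ≤ fittingHallOf (cj g T) := le_fcore_of_piGrp hWle
      ((piGrp_iff_of_card_prime hq rfl).2 ⟨hq, h1 ▸ dvd_pow_self _ hp.ne_zero⟩)
    have h3 : U ⊓ fittingHallOf (cj g T) = ⊥ :=
      disj_of_coprime (h1 ▸ c.coprime_U_W₁.pow_right _)
    refine hF.not_le_cent (commutator_eq_bot_iff''.1 (eq_bot_iff.2 (h3 ▸ le_inf ?_ ?_)))
    · exact commutator_le_left_of_norm c.sdp_U.norm
    · exact (Subgroup.commutator_mono hUle h2).trans (fcore_normal _).commutator_le'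
  have hI : IsOfTypeI L :=
    (h.all L hL).resolve_right fun ⟨g, hg⟩ => hg.elim (hS g) (hT g)
  have hK := t12_7 hG hL hI
  have hcop : Nat.Coprime (Nat.card (fittingHallOf L)) (Nat.card W₁) :=
    coprime_card_mono (coprime_fcore hG hL cT.hM fun g e => hT g⁻¹ (by rw [← e, cj_inv_cj]))
      le_rfl h.W₁_le_core
  obtain ⟨E₀, hE₀⟩ := (frobKer_fcore_iff_frob hG hL).1 hK
  obtain ⟨k, hk, hkE⟩ := hE₀.exists_cj_le hWle (disj_of_coprime hcop)
  have hE := hE₀.cj_right (inv_mem (hE₀.left_le hk))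
  rw [cj_le_iff_le_cj_inv] at hkE
  generalize cj k⁻¹ E₀ = E at hE hkE
  have hUH : U ⊓ fittingHallOf L ≠ ⊥ := fun hbot => by
    have h1 : fittingHallOf L ⊓ (U ⊔ W₁) ≤ U := PiGrp.le_of_relIndex (π := {Nat.card W₁}ᶜ)
      (((piGrp_compl_singleton_iff_coprime hq).2 hcop).inf_left _) c.sdp_U.normalIn inf_le_right
      (by rw [c.sdp_U.relIndex_left, compl_compl]; exact (piNat_prime_iff hq).2 rfl)
    have h2 : fittingHallOf L ⊓ (U ⊔ W₁) = ⊥ := eq_bot_iff.2 (hbot ▸ le_inf h1 inf_le_left)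
    have h3 := t3_9_normal hq le_sup_right (mFT_odd hG _) hE.ker_ne
      ((sup_le hUle hWle).trans (fcore_normal L).norm)
      (hE.semiregular_of_disj (sup_le hUle hWle) h2)
    exact hF.not_le_cent
      (le_cent_of_norm_of_disj c.sdp_U.norm (le_sup_left.trans h3.norm) c.sdp_U.disj')
  refine ⟨hK, (le_inf hUle (le_cent_of_comm_of_le c.U_comm le_rfl inf_le_left)).trans
    (hE.inf_cent_le_ker inf_le_right hUH), ?_⟩
  have hEn : E ≤ fittingHallOf T ⊔ W₂ := cT.t13_16.1 ▸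
    (t3_9_normal hq hkE (mFT_odd hG _) hE.ker_ne hE.norm hE.reg).norm
  have hQ : SDP (fittingHallOf T) W₂ (fittingHallOf T ⊔ W₂) := cT.sdp_core'.restrict_right le_sup_right
  have hQE : fittingHallOf T ⊓ E = W₁ := by
    have h1 := t3_9_comm (comm_of_le cT.fcore_comm (inf_le_left (b := E))) hE.ker_ne
      (inf_le_right.trans hE.norm) (hE.reg.mono_right inf_le_right)
    obtain ⟨x, hx, e⟩ := exists_zpowers_of_isCyclic h1
    refine (Subgroup.eq_of_le_of_card_ge (le_inf h.W₁_le_core hkE) ?_).symm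
    rw [e, Nat.card_zpowers]
    exact Nat.le_of_dvd hq.pos (orderOf_dvd_of_pow_eq_one (cT.t13_2b.1.2 x hx.1))
  by_cases hpE : Nat.card W₂ ∣ Nat.card E
  · obtain ⟨X, hX, hXc⟩ := exists_card_eq_of_dvd_card hp hpE
    have h1 : Hall {Nat.card W₂} W₂ (fittingHallOf T ⊔ W₂) :=
      hQ.hall_right ((piGrp_iff_of_card_prime hp rfl).2 rfl)
        ((piGrp_compl_singleton_iff_coprime hp).2
          (coprime_card_mono cT.coprime_fcore_UW₁ le_rfl le_sup_right))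
    obtain ⟨g, hg, e⟩ := hall_conj (mmax_sub_sol hG cT.hM (sup_le (fcore_le T) cT.W₁_le)) h1
      (h1.of_card_eq (hX.trans hEn) hXc)
    obtain ⟨y, hy, w, hw, rfl⟩ := hQ.exists_mul hg
    rw [cj_mul, cj_eq_of_mem hw] at e
    have h2 := ((hQ.cj_right (hQ.left_le hy)).modr' (e ▸ hX) hEn).sup
    rw [hQE] at h2
    exact Or.inr ⟨y, hy, h2 ▸ hE.sdp⟩
  · have h1 : E ≤ fittingHallOf T := PiGrp.le_of_relIndex (π := {Nat.card W₂}ᶜ)
      ((piGrp_compl_singleton_iff hp).2 hpE) hQ.normalIn hEn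
      (by rw [hQ.relIndex_left, compl_compl]; exact (piNat_prime_iff hp).2 rfl)
    rw [inf_eq_right.2 h1] at hQE
    exact Or.inl (hQE ▸ hE.sdp)

end CL.PF
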