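import Cfsg.Agent.PF.T13_12
import Cfsg.Agent.PF.P13_18A
import Cfsg.Agent.PF.P13_18B

/-! Peterfalvi (13.18), (13.19).  Owner: helper13. -/

set_option autoImplicit false

namespace CL.PF

open Cfsg CL.BG CL.Char

variable {G : Type*} [Group G] [Fintype G] {S W₁ U W₂ : Subgroup G}

theorem PCtx.dvd_card_U_sub_one (c : PCtx S W₁ U W₂) : Nat.card W₁ ∣ Nat.card U - 1 := by
  have := c.t13_2b.2.2.1.uOf_facts.2.2.1
  rwa [c.uOf_bot, c.uP_eq] at this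

theorem PCtx.p18_le (c : PCtx S W₁ U W₂) : fittingHall S ≤ commutator S :=
  (c.hyp92 c.U_ne_bot).H_le

theorem PCtx.p18_W₂_le (c : PCtx S W₁ U W₂) : c.f₂.range ≤ fittingHall S :=
  (c.hyp92 c.U_ne_bot).W₂_le

theorem PCtx.p18_relIndex (c : PCtx S W₁ U W₂) :
    (fittingHall S).relIndex (commutator S) = Nat.card U := by
  have := (c.hyp92 c.U_ne_bot).relIndex_H_sup (V := ⊥) bot_le
  rwa [sup_bot_eq, Subgroup.relIndex_bot_left, card_subgroupOf_of_le c.U_le] at this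

theorem PCtx.p18_fitting (c : PCtx S W₁ U W₂) : fittingSubgroup S = fittingHall S :=
  Subgroup.map_injective S.subtype_injective c.fitting_eq_fcore

theorem PCtx.p18_mu_one (c : PCtx S W₁ U W₂) (i : W₁ →* ℂˣ) {j : W₂ →* ℂˣ} (hj : j ≠ 1) :
    mu c.f₁ c.f₂ i j 1 = (fittingHall S).relIndex (commutator S) := by
  rw [(c.t13_3a hj).2.2.2 i, c.uP_eq, c.p18_relIndex]

theorem PCtx.p18_mu_zero (c : PCtx S W₁ U W₂) {j : W₂ →* ℂˣ} (hj : j ≠ 1) :
    ∀ x ∈ commutator S, x ∉ fittingHall S → mu c.f₁ c.f₂ 1 j x = 0 := by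
  intro x hx hxP
  obtain ⟨ξ, hξ⟩ := (c.t13_3a hj).2.1
  have h1 := c.primeTI.muCol_apply_mem j hx
  have h2 : indFun (fittingSubgroup S) (fun x => (ξ x : ℂ)) x = 0 :=
    indFun_eq_zero_of_le_normal _ c.p18_fitting.le _ hxP
  rw [hξ, h2] at h1
  exact (mul_eq_zero.1 h1.symm).resolve_left (natCard_cast_ne_zero W₁)

theorem PCtx.beta_eq (c : PCtx S W₁ U W₂) (j : W₂ →* ℂˣ) :
    c.beta j = indFun (fittingHall S ⊔ c.f₁.range) (fun _ => 1) - mu c.f₁ c.f₂ 1 j := by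
  rw [c.range_f₁]; rfl

theorem PCtx.beta_gen (c : PCtx S W₁ U W₂) (j : W₂ →* ℂˣ) :
    IsGeneralizedCharacter S (c.beta j) :=
  gen_sub (gen_of_char (char_indFun_one _)) (c.primeTI.mu_gen 1 j)

theorem PCtx.beta_eq_zero (c : PCtx S W₁ U W₂) {j : W₂ →* ℂˣ} (hj : j ≠ 1) {x : S}
    (hV : x ∉ cycVConj c.f₁ c.f₂) (hx : x ∈ fittingHall S → x = 1) : c.beta j x = 0 := by
  rw [c.beta_eq]
  exact c.primeTI.p18_beta_eq_zero c.p18_le c.p18_W₂_le (c.delta_eq_one j) (c.p18_mu_one 1 hj)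
    (c.p18_mu_zero hj) hV hx

theorem PCtx.beta_supp (c : PCtx S W₁ U W₂) {j : W₂ →* ℂˣ} (hj : j ≠ 1) (x : S)
    (hx : (x : G) ∉ typeA0 S) : c.beta j x = 0 := by
  refine c.beta_eq_zero hj (fun hV => hx (c.primeDadeF.mem_A₀_of_mem_cycVConj hV)) fun hP => ?_
  by_contra h1
  exact hx (typeA_subset_typeA0 S (c.primeDadeF.mem_A_of_mem_H hP h1))

/-- (13.18.a) -/
theorem PCtx.t13_18a (c : PCtx S W₁ U W₂) {j : W₂ →* ℂˣ} (hj : j ≠ 1) :
    c.beta j ∈ genOn S (Subtype.val ⁻¹' typeA0 S) ∧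
      (∀ x : S, x ∉ cycVConj c.f₁ c.f₂ → (x ∈ fittingHall S → x = 1) → c.beta j x = 0) ∧
      ∀ g : G, g ∉ cycVConj W₁.subtype W₂.subtype →
        g ∉ conjSet ((fittingHallOf S : Set G) \ {1}) → ftTau S (c.beta j) g = 0 := by
  refine ⟨⟨c.beta_gen j, c.beta_supp hj⟩, fun x hV hx => c.beta_eq_zero hj hV hx,
    fun g hV hP => ?_⟩
  rw [c.tau_eq_indFun (gen_isClassFunction (c.beta_gen j)) (c.beta_supp hj)]
  refine indFun_eq_zero_of_forall _ _ fun x hx => c.beta_eq_zero hj (fun h => hV ?_) fun h => ?_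
  · obtain ⟨m, -, v, hv, e⟩ := c.mem_image_cycVConj.1 ⟨_, h, rfl⟩
    exact mem_cycVConj_of_conj (m := x) ⟨m, v, hv, e⟩
  · by_contra h1
    refine hP ⟨x * g * x⁻¹, ⟨mem_fcore_iff.2 h, fun e => h1 (Subtype.ext e)⟩, x⁻¹, by group⟩

/-- (13.18.b) -/
theorem PCtx.t13_18b (c : PCtx S W₁ U W₂) {j : W₂ →* ℂˣ} (hj : j ≠ 1) :
    classInner (c.beta j) (c.beta j) = (((Nat.card U - 1) / Nat.card W₁ + 2 : ℕ) : ℂ) := by
  rw [c.beta_eq, c.primeTI.p18_beta_norm c.p18_le c.p18_W₂_le hj (c.p18_mu_zero hj),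
    c.p18_relIndex, Nat.cast_add,
    Nat.cast_div c.dvd_card_U_sub_one (natCard_cast_ne_zero W₁), Nat.cast_sub Nat.card_pos]
  push_cast; ring

theorem PCtx.tau_beta_gen (c : PCtx S W₁ U W₂) {j : W₂ →* ℂˣ} (hj : j ≠ 1) :
    IsGeneralizedCharacter G (ftTau S (c.beta j)) :=
  iso_gen c.tau_iso (c.t13_18a hj).1

theorem PCtx.tau_beta_inner_one (c : PCtx S W₁ U W₂) {j : W₂ →* ℂˣ} (hj : j ≠ 1) :
    classInner (ftTau S (c.beta j)) (fun _ => 1) = 1 :=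
  (Dade.classInner_one c.dadeA0 (gen_isClassFunction (c.beta_gen j)) (c.beta_supp hj)).trans
    (c.primeTI.p18_beta_inner_one _ hj)

theorem PCtx.tau_beta_sub (c : PCtx S W₁ U W₂) {j k : W₂ →* ℂˣ} (hj : j ≠ 1) (hk : k ≠ 1) :
    ftTau S (c.beta k) - ftTau S (c.beta j) =
      eta W₁.subtype W₂.subtype 1 j - eta W₁.subtype W₂.subtype 1 k := by
  have h := (c.t4_8 1 hj hk ((c.p18_mu_one 1 hj).trans (c.p18_mu_one 1 hk).symm)).2.2
  rw [c.delta_eq_one, Int.cast_one, one_smul] at h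
  rw [← h, ftTau, ← dade_sub]
  congr 1
  unfold PCtx.beta
  abel

theorem PCtx.Gamma_eq (c : PCtx S W₁ U W₂) {j k : W₂ →* ℂˣ} (hj : j ≠ 1) (hk : k ≠ 1) :
    c.Gamma k = c.Gamma j := by
  have h := c.tau_beta_sub hj hk
  unfold PCtx.Gamma
  rw [← sub_eq_zero, ← sub_eq_zero.2 h]
  abel

theorem PCtx.conjFun_Gamma (c : PCtx S W₁ U W₂) {j : W₂ →* ℂˣ} (hj : j ≠ 1) :
    conjFun (c.Gamma j) = c.Gamma j := by
  rw [← c.Gamma_eq hj (dual_inv_ne_one' hj)]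
  conv_lhs => rw [c.Gamma_eq hj (dual_inv_ne_one' hj)]
  unfold PCtx.Gamma PCtx.beta
  rw [conjFun_add, conjFun_sub, conjFun_one, c.cycTI.eta_conj, ftTau, ← dade_conjFun, conjFun_sub,
    conjFun_indOne, c.primeTI.mu_conj, dual_one_inv]

/-- (13.18.c) -/
theorem PCtx.t13_18c (c : PCtx S W₁ U W₂) {j : W₂ →* ℂˣ} (hj : j ≠ 1) :
    (∀ k, k ≠ 1 → c.Gamma k = c.Gamma j) ∧ IsGeneralizedCharacter G (c.Gamma j) ∧
      classInner (c.Gamma j) (fun _ => 1) = 0 ∧ conjFun (c.Gamma j) = c.Gamma j := by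
  refine ⟨fun k hk => c.Gamma_eq hj hk, gen_add (gen_sub (c.tau_beta_gen hj)
    (c.cycTI.eta_one ▸ c.cycTI.eta_gen 1 1)) (c.cycTI.eta_gen 1 j), ?_, c.conjFun_Gamma hj⟩
  unfold PCtx.Gamma
  rw [classInner_add_left, classInner_sub_left, c.tau_beta_inner_one hj, classInner_one_one,
    c.cycTI.eta_inner_one (Or.inr hj)]
  ring

theorem PCtx.rip_tau_beta (c : PCtx S W₁ U W₂) {j : W₂ →* ℂˣ} (hj : j ≠ 1) :
    rip (ftTau S (c.beta j)) (ftTau S (c.beta j)) =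
      (((Nat.card U - 1) / Nat.card W₁ : ℕ) : ℝ) + 2 := by
  rw [iso_rip c.tau_iso (c.t13_18a hj).1 (c.t13_18a hj).1,
    rip_of_classInner_eq_nat (c.t13_18b hj), Nat.cast_add, Nat.cast_ofNat]

/-- (13.18.d) -/
theorem PCtx.t13_18d (c : PCtx S W₁ U W₂) {j : W₂ →* ℂˣ} (hj : j ≠ 1) {X Y : G → ℂ}
    (_hX : IsClassFunction G X) (_hY : IsClassFunction G Y) (hXY : c.Gamma j = X + Y)
    (ho : classInner X Y = 0) (hYo : OrthEta W₁.subtype W₂.subtype Y) :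
    (classInner Y Y).re ≤ (((Nat.card U - 1) / Nat.card W₁ : ℕ) : ℝ) := by
  have := c.cycTI.p18_d (c.tau_beta_gen hj) (c.tau_beta_inner_one hj) hj (c.conjFun_Gamma hj) hXY
    ho hYo
  rw [c.rip_tau_beta hj, rip_def] at this
  linarith

theorem PCtx.p19_disjoint_fcore (c : PCtx S W₁ U W₂) {L : Subgroup G} (hL : IsCoatom L)
    (hI : IsOfTypeI L) {g : G} (hg : g ∈ tildeOf L (typeA L)) : g ∉ fittingHallOf S := by
  intro hP
  have hA := typeA_of_frob c.hG hL (t12_7 c.hG hL hI)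
  have hg1 : g ≠ 1 := by
    rintro rfl
    rw [tildeOf_eq_dadeSupp] at hg
    exact Dade.one_not_mem_supp (dade_typeA c.hG hL) hg
  rw [hA.2.1, ← hA.2.2] at hg
  refine Set.disjoint_left.1 (disjoint_tildeA1 c.hG hL c.hM fun x hx => c.not_typeI ?_) hg ?_
  · rw [← hx, typeI_cj]; exact hI
  · rw [tildeOf_eq_dadeSupp]
    exact subset_dadeSupp (mem_typeA1.2 ⟨fcore_le_typeCore c.hG c.hM hP, hg1⟩)

section
variable (c : PCtx S W₁ U W₂) {L : Subgroup G} (hL : IsCoatom L) (hI : IsOfTypeI L)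
include c hL hI

theorem PCtx.p19_not_V {g : G} (hg : g ∈ tildeOf L (typeA L)) :
    g ∉ cycVConj W₁.subtype W₂.subtype := by
  have hA := typeA_of_frob c.hG hL (t12_7 c.hG hL hI)
  rw [hA.2.1, ← hA.2.2] at hg
  exact fun hV => Set.disjoint_left.1 (c.disjoint_V_tildeA1 hL) hV hg

/-- (13.19.a) -/
theorem PCtx.t13_19a :
    Disjoint (tildeOf L (typeA L))
      (conjSet (fittingHallOf S : Set G) ∪ conjSet ((W₁ ⊔ W₂ : Subgroup G) : Set G)) := by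
  have hconj : ∀ {a x : G}, x * a * x⁻¹ ∈ tildeOf L (typeA L) → a ∈ tildeOf L (typeA L) := by
    intro a x h
    rw [tildeOf_eq_dadeSupp] at h ⊢
    exact conj_mem_dadeSupp_iff.1 h
  rw [Set.disjoint_left]
  rintro g hg (⟨a, ha, x, rfl⟩ | ⟨a, ha, x, rfl⟩)
  · exact c.p19_disjoint_fcore hL hI (hconj hg) ha
  · have hg' := hconj hg
    obtain ⟨T, V, hp⟩ := c.exists_pair
    by_cases h1 : a ∈ W₁
    · exact hp.cT.p19_disjoint_fcore hL hI hg' (hp.W₁_le_core h1)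
    by_cases h2 : a ∈ W₂
    · exact c.p19_disjoint_fcore hL hI hg' (c.W₂_le_core h2)
    refine c.p19_not_V hL hI hg' (cycV_subset_cycVConj (c.cycTI.mem_cycV_iff.2 ?_))
    simp only [Subgroup.range_subtype]
    exact ⟨ha, h1, h2⟩

omit c hI in
theorem p19_hyp76 (hG : IsMinSimpleOddOrder G) (hF : FrobKer (fittingHall L)) :
    Hyp76 L (fittingHall L) (typeA L) (typeA0 L) (supportR L) := by
  refine ⟨dade_typeA0 hG hL, inferInstance, typeA_subset_typeA0 L, fun x => ?_⟩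
  rw [(typeA_of_frob hG hL hF).2.1, Set.mem_sdiff, SetLike.mem_coe, mem_fcore_iff]
  simp

theorem PCtx.p19_tau_beta_zero {j : W₂ →* ℂˣ} (hj : j ≠ 1) :
    ∀ g ∈ dadeSupp (typeA L) (supportR L), ftTau S (c.beta j) g = 0 := by
  intro g hg
  rw [← tildeOf_eq_dadeSupp] at hg
  refine (c.t13_18a hj).2.2 g (c.p19_not_V hL hI hg) ?_
  rintro ⟨a, ha, x, e⟩
  exact Set.disjoint_left.1 (c.t13_19a hL hI) hg (Or.inl ⟨a, ha.1, x, e⟩)

variable {τ₁ : (L → ℂ) → (G → ℂ)}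
  (hτ : CoherentWith (inducedIrrAbove (fittingHall L) ⊥) (ftTau L) τ₁)
include hτ

/-- (13.19.b) -/
theorem PCtx.t13_19b {φ : L → ℂ} (hφ : φ ∈ inducedIrrAbove (fittingHall L) ⊥) :
    OrthEta W₁.subtype W₂.subtype (τ₁ φ) := by
  have hF := t12_7 c.hG hL hI
  rw [inducedIrrAbove_bot_eq_seqIndD] at hφ hτ
  refine (p19_hyp76 hL c.hG hF).p19_b (odd_card_of_coatom c.hG L) c.cycTI hτ (fun v hv hv' => ?_)
    hφ (hF.irr_of_mem hφ)
  rw [← tildeOf_eq_dadeSupp] at hv'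
  exact c.p19_not_V hL hI hv' (cycV_subset_cycVConj hv)

/-- (13.19.c) -/
theorem PCtx.t13_19c {φ : L → ℂ} (hφ : φ ∈ inducedIrrAbove (fittingHall L) ⊥)
    (hφ1 : φ 1 = ((fittingHall L).index : ℂ)) {j : W₂ →* ℂˣ} (hj : j ≠ 1) :
    (∀ k, k ≠ 1 → classInner (ftTau L (indFun (fittingHall L) (fun _ => 1) - φ))
        (eta W₁.subtype W₂.subtype 1 k) =
      classInner (ftTau L (indFun (fittingHall L) (fun _ => 1) - φ))
        (eta W₁.subtype W₂.subtype 1 j)) ∧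
    (((∃ n : ℤ, classInner (ftTau S (c.beta j)) (τ₁ φ) = 2 * n + 1) ∧
        Nat.card (fittingHall L) - 1 ≤
          (fittingHall L).index * ((Nat.card U - 1) / Nat.card W₁)) ∨
      ((∃ n : ℤ, classInner (ftTau L (indFun (fittingHall L) (fun _ => 1) - φ))
          (eta W₁.subtype W₂.subtype 1 j) = 2 * n + 1) ∧
        Nat.card W₂ ≤ (fittingHall L).index)) := by
  have hF := t12_7 c.hG hL hI
  have ho : ∀ ψ ∈ seqIndD (fittingHall L) (fittingHall L) ⊥,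
      OrthEta W₁.subtype W₂.subtype (τ₁ ψ) := fun ψ hψ =>
    c.t13_19b hL hI hτ (by rwa [inducedIrrAbove_bot_eq_seqIndD])
  rw [inducedIrrAbove_bot_eq_seqIndD] at hφ hτ
  have h : Hyp78 L (fittingHall L) (typeA L) (typeA0 L) (supportR L) τ₁ φ :=
    { p19_hyp76 hL c.hG hF with
      odd := odd_card_of_coatom c.hG L
      coh := hτ
      mem := hφ
      irr := hF.irr_of_mem hφ
      deg := hφ1 }
  have hodd : Odd (Nat.card G) := c.hG.1
  have hind : ∀ k, k ≠ 1 → classInner (beta78 L (fittingHall L) (typeA0 L) (supportR L) φ)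
      (eta W₁.subtype W₂.subtype 1 k) = classInner
        (beta78 L (fittingHall L) (typeA0 L) (supportR L) φ) (eta W₁.subtype W₂.subtype 1 j) := by
    intro k hk
    rw [← sub_eq_zero, ← classInner_sub_right, ← c.tau_beta_sub hk hj]
    refine classInner_eq_zero_of_disjoint (D₁ := dadeSupp (typeA L) (supportR L))
      (D₂ := (dadeSupp (typeA L) (supportR L))ᶜ) disjoint_compl_right
      (fun g hg => h.beta_eq_zero hg) fun g hg => ?_
    rw [Set.notMem_compl_iff] at hg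
    rw [Pi.sub_apply, c.p19_tau_beta_zero hL hI hj g hg, c.p19_tau_beta_zero hL hI hk g hg,
      sub_zero]
  have hne : ∀ n : ℤ, (2 * n + 1 : ℂ) ≠ 0 := fun n e => by
    have : 2 * n + 1 = 0 := by exact_mod_cast e
    omega
  refine ⟨hind, ?_⟩
  rcases h.p19_parity hodd c.cycTI (c.tau_beta_gen hj) (c.tau_beta_inner_one hj) hj
    (c.conjFun_Gamma hj) (c.p19_tau_beta_zero hL hI hj) (ho φ hφ) with ⟨n, hn⟩ | ⟨n, hn⟩
  · refine Or.inl ⟨⟨n, hn⟩, ?_⟩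
    have h1 := h.p19_c1 c.cycTI (c.tau_beta_gen hj) (c.tau_beta_inner_one hj) hj
      (c.conjFun_Gamma hj) (c.p19_tau_beta_zero hL hI hj) ho (hn ▸ hne n)
    have he : (0 : ℝ) < (fittingHall L).index :=
      Nat.cast_pos.2 (zero_lt_one.trans hF.one_lt_index)
    rw [c.rip_tau_beta hj, add_le_add_iff_right, div_le_iff₀ he, mul_comm,
      ← Nat.cast_one (R := ℝ), ← Nat.cast_sub Nat.card_pos] at h1
    exact_mod_cast h1
  · exact Or.inr ⟨⟨n, hn⟩, h.p19_c2 hF c.cycTI ho fun k hk => by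
      rw [hind k hk, hn]; exact hne n⟩

end

end CL.PF
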