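import Cfsg.Agent.PF.T12_Strong
import Cfsg.Agent.PF.A13_Seq

/-! Peterfalvi (13.2), (13.3).  `P = S_F`, `p = |W₂|`, `q = |W₁|`, `u = uP S U`,
`C = U ⊓ C(P)`; `fittingSubgroup S = P C` is the subgroup `H` of (13.1).  Owner: helper2. -/

set_option autoImplicit false

namespace CL.PF

open Cfsg CL.BG

variable {G : Type*} [Group G] [Fintype G] {S W₁ U W₂ : Subgroup G}

/-- (13.2.a) -/
theorem PCtx.t13_2a (c : PCtx S W₁ U W₂) :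
    (IsOfTypeII S ∨ IsOfTypeIII S) ∧ (Nat.card W₁ < Nat.card W₂ → IsOfTypeII S) ∧
      Frob U W₁ (U ⊔ W₁) ∧ IsMulCommutative U := by
  have hF : Frob U W₁ (U ⊔ W₁) := ⟨c.sdp_U, c.U_ne_bot, c.hP.W₁_ne, c.semiregular_U⟩
  by_cases h : IsOfTypeII S
  · exact ⟨Or.inl h, fun _ => h, hF, (c.typeII_facts h).2.1⟩
  · obtain ⟨h1, h2, -, h3, -⟩ := c.t11_9 h
    exact ⟨Or.inr h2, fun h' => absurd h1 h'.not_gt, hF, h3.isMulCommutative⟩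

theorem PCtx.U_comm (c : PCtx S W₁ U W₂) : IsMulCommutative U := c.t13_2a.2.2.2

/-- (13.2.b) -/
theorem PCtx.t13_2b (c : PCtx S W₁ U W₂) :
    IsElementaryAbelian (Nat.card W₂) (fittingHallOf S) ∧
      Nat.card (fittingHallOf S) = Nat.card W₂ ^ Nat.card W₁ ∧
      Hyp95 (fittingHall S) (U.subgroupOf S) ⊥ c.f₁ c.f₂ ∧
      pOf (fittingHall S) ⊥ = Nat.card W₂ := by
  by_cases h : IsOfTypeII S
  · obtain ⟨h1, h2, h3, -⟩ := c.t10_11 h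
    exact ⟨h1, h2, h3, h3.pOf_eq c.primes.2⟩
  · obtain ⟨h1, h2, h3⟩ := c.t11_7 h
    exact ⟨h1, h2, h3, h3.pOf_eq c.primes.2⟩

theorem PCtx.hyp95 (c : PCtx S W₁ U W₂) : Hyp95 (fittingHall S) (U.subgroupOf S) ⊥ c.f₁ c.f₂ :=
  c.t13_2b.2.2.1

theorem PCtx.pOf_bot (c : PCtx S W₁ U W₂) : pOf (fittingHall S) ⊥ = Nat.card W₂ := c.t13_2b.2.2.2

theorem PCtx.card_fcore (c : PCtx S W₁ U W₂) :
    Nat.card (fittingHallOf S) = Nat.card W₂ ^ Nat.card W₁ := c.t13_2b.2.1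

theorem PCtx.fcore_comm (c : PCtx S W₁ U W₂) : IsMulCommutative (fittingHallOf S) := c.t13_2b.1.1

/-- (13.2.c) -/
theorem PCtx.t13_2c (c : PCtx S W₁ U W₂) :
    uP S U ≤ (Nat.card W₂ ^ Nat.card W₁ - 1) / (Nat.card W₂ - 1) := by
  have h := c.hyp95.uOf_le
  rwa [c.pOf_bot, c.uOf_bot] at h

theorem PCtx.uP_facts (c : PCtx S W₁ U W₂) :
    1 < uP S U ∧ Odd (uP S U) ∧ Nat.card W₁ ∣ uP S U - 1 ∧
      2 * Nat.card W₁ + 1 ≤ uP S U ∧ Nat.Coprime (uP S U) (Nat.card W₂) := by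
  have h := c.hyp95.uOf_facts
  rwa [c.pOf_bot, c.uOf_bot] at h

theorem PCtx.der_cOf (c : PCtx S W₁ U W₂) :
    ⊥ ⊔ ⁅cOf (fittingHall S) (U.subgroupOf S) ⊥, cOf (fittingHall S) (U.subgroupOf S) ⊥⁆ = ⊥ := by
  have := c.U_comm
  rw [bot_sup_eq, Subgroup.commutator_eq_bot_iff_le_centralizer]
  intro a ha
  rw [Subgroup.mem_centralizer_iff]
  intro b hb
  exact Subtype.ext (setLike_mul_comm (s := U) hb.1 ha.1)

/-- (13.2.d) -/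
theorem PCtx.t13_2d (c : PCtx S W₁ U W₂) :
    IsCoherent (seqIndD (commutator S) (fittingHall S) ⊥) {1}ᶜ (ftTau S) := by
  have h := c.t9_11 c.hyp95
  rwa [c.der_cOf] at h

/-- (13.2.e) -/
theorem PCtx.t13_2e (c : PCtx S W₁ U W₂) : NormedTI (typeA0 S) S := by
  refine normedTI_of_cent1_le c.hG c.hM subset_rfl ?_ (fun x hx a ha => conj_mem_typeA0 hx ha)
    fun a ha => ?_
  · obtain ⟨x, hx, hx1⟩ := exists_mem_ne_one_of_ne_bot (fcore_ne_bot c.hG c.hM)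
    exact ⟨x, typeA_subset_typeA0 S (c.fitting_subset_typeA ⟨fcore_le_fittingOf S hx, hx1⟩)⟩
  by_contra hne
  obtain ⟨L, hL⟩ := t16_II_ex c.hG c.hM (c.ftA0_eq ▸ ha) hne
  rcases hL.type_cases with hI | hII
  · have hF := t12_7W c.hG hL.uniq.coatom hI
    refine hL.notMemA1 ?_
    rw [(typeA_of_frob c.hG hL.uniq.coatom hF).2.2, ← (ftA_of_frob c.hG hL.uniq.coatom hF).2]
    exact hL.memA
  · exact c.not_wtypeI (hL.typeII hII).1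

/-- (13.2.e) -/
theorem PCtx.tau_eq_indFun (c : PCtx S W₁ U W₂) {α : S → ℂ} (hα : IsClassFunction S α)
    (hs : ∀ x : S, (x : G) ∉ typeA0 S → α x = 0) : ftTau S α = indFun S α :=
  c.tau_eq_ind subset_rfl c.t13_2e hα hs

theorem PCtx.fitting_comm (c : PCtx S W₁ U W₂) : IsMulCommutative (fittingOf S) := by
  have h : CP (fittingHallOf S) (U ⊓ 𝐂(fittingHallOf S)) (fittingOf S) :=
    ⟨c.fitting_eq.symm, inf_le_right⟩
  exact h.comm c.fcore_comm (comm_of_le c.U_comm inf_le_left)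

theorem PCtx.fitting_comm' (c : PCtx S W₁ U W₂) (a b : fittingSubgroup S) : a * b = b * a := by
  have := c.fitting_comm
  exact Subtype.ext (Subtype.ext (setLike_mul_comm (s := fittingOf S)
    ⟨a, a.2, rfl⟩ ⟨b, b.2, rfl⟩))

theorem PCtx.muCol_mem (c : PCtx S W₁ U W₂) {j : W₂ →* ℂˣ} (hj : j ≠ 1) :
    muCol c.f₁ c.f₂ j ∈ seqIndD (commutator S) (fittingHall S) ⊥ :=
  c.primeTI.muCol_mem c.primeDadeF.le_H hj

/-- (13.3.a) -/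
theorem PCtx.t13_3a (c : PCtx S W₁ U W₂) {j : W₂ →* ℂˣ} (hj : j ≠ 1) :
    muCol c.f₁ c.f₂ j ∈ seqIndD (commutator S) (fittingHall S) ⊥ ∧
      IsIndLin (fittingSubgroup S) (muCol c.f₁ c.f₂ j) ∧
      muCol c.f₁ c.f₂ j 1 = ((uP S U * Nat.card W₁ : ℕ) : ℂ) ∧
      ∀ i, mu c.f₁ c.f₂ i j 1 = (uP S U : ℂ) := by
  obtain ⟨h1, -, h3⟩ := c.hyp95.muCol_facts (c.muCol_mem hj)
  rw [c.uOf_bot] at h1
  rw [← c.fitting_eq_HC] at h3
  refine ⟨c.muCol_mem hj, h3, by rw [h1, mul_comm], fun i => ?_⟩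
  rw [c.primeTI.muCol_apply_one, Nat.cast_mul] at h1
  rw [c.primeTI.mu_apply_one]
  exact mul_left_cancel₀ (Nat.cast_ne_zero.2 Nat.card_pos.ne') h1

/-- (13.3.b) -/
theorem PCtx.t13_3b (c : PCtx S W₁ U W₂)
    (h : ∀ χ ∈ seqIndD (commutator S) (fittingHall S) ⊥, IsIrrCharacter S χ →
      ¬ IsIndLin (fittingSubgroup S) χ) :
    PGalois S U ∧ U ⊓ 𝐂(fittingHallOf S) = ⊥ ∧
      uP S U = (Nat.card W₂ ^ Nat.card W₁ - 1) / (Nat.card W₂ - 1) := by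
  rcases c.hyp95.t9_10 with ⟨χ, h1, h2, -, h3⟩ | ⟨h1, h2, -, h3⟩
  · rw [c.der_cOf] at h1
    rw [← c.fitting_eq_HC] at h3
    exact absurd h3 (h χ h1 h2)
  · refine ⟨h1, ?_, ?_⟩
    · rw [c.cOf_bot, Subgroup.subgroupOf_eq_bot] at h2
      exact h2.eq_bot_of_le (inf_le_left.trans c.U_le)
    · rw [← c.uOf_bot, uOf, h2, Subgroup.relIndex_bot_left, h3, c.pOf_bot]

/-- (13.3.c) -/
theorem PCtx.delta_eq_one (c : PCtx S W₁ U W₂) (j : W₂ →* ℂˣ) : delta c.f₁ c.f₂ j = 1 := by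
  by_cases hj : j = 1
  · rw [hj, c.primeTI.delta_one]
  refine (delta_eq j).resolve_right fun hd => ?_
  obtain ⟨n, hn⟩ := c.primeTI.mu_apply_one_modEq 1 j
  rw [(c.t13_3a hj).2.2.2, hd] at hn
  have h1 : (uP S U : ℤ) = -1 + n * Nat.card W₁ := by exact_mod_cast hn
  obtain ⟨hu, -, ⟨k, hk⟩, -⟩ := c.uP_facts
  have h2 : (uP S U : ℤ) = Nat.card W₁ * k + 1 := by
    have : uP S U = Nat.card W₁ * k + 1 := by omega
    exact_mod_cast this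
  have h3 : (Nat.card W₁ : ℤ) ∣ 2 := ⟨n - k, by linear_combination h1 - h2⟩
  have h4 := Nat.le_of_dvd two_pos (Int.natCast_dvd_natCast.1 h3)
  have := c.hyp95.three_le_q
  omega

/-- (13.3.c) -/
theorem PCtx.t13_3c (c : PCtx S W₁ U W₂) :
    ∃ τ₁ : (S → ℂ) → (G → ℂ),
      CoherentWith (seqIndD (commutator S) (fittingHall S) ⊥) (ftTau S) τ₁ ∧
      ((∀ j, j ≠ 1 → τ₁ (muCol c.f₁ c.f₂ j) = etaCol W₁.subtype W₂.subtype j) ∨
        ∀ j, j ≠ 1 → τ₁ (muCol c.f₁ c.f₂ j) = -etaCol W₁.subtype W₂.subtype j⁻¹) :=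
  c.primeDadeF.a13_coh (odd_card_of_coatom c.hG S)
    (fun _ _ hj hk => by rw [(c.t13_3a hj).2.2.1, (c.t13_3a hk).2.2.1]) c.delta_eq_one c.t13_2d

end CL.PF
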