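import Cfsg.Agent.PF.P14_Fin

/-! Peterfalvi section 14 and the odd order theorem.  Owner: helper14. -/

set_option autoImplicit false

namespace CL.PF

open Cfsg CL.BG

/-- (14.2) contradicts BG Appendix C -/
theorem PPair.t14_2 {G : Type*} [Group G] [Fintype G] {S T W₁ W₂ U V : Subgroup G}
    (h : PPair S T W₁ W₂ U V) (hqp : Nat.card W₁ < Nat.card W₂) : False := h.final14 hqp

/-- There is no minimal simple group of odd order. -/
theorem not_minSimpleOdd {G : Type*} [Group G] [Finite G] : ¬ IsMinSimpleOddOrder G := by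
  intro hG
  have := Fintype.ofFinite G
  obtain ⟨M, hM, hI⟩ := t12_17 hG
  rcases t8_8 hG with h | ⟨S, T, W₁, W₂, U, V, h⟩
  · exact hI (h M hM)
  · rcases lt_trichotomy (Nat.card W₁) (Nat.card W₂) with hlt | heq | hgt
    · exact h.t14_2 hlt
    · have h1 := h.cS.cycTI.coprime
      have h2 := h.cS.cycTI.three_le₁
      rw [← heq, Nat.coprime_self] at h1
      omega
    · exact h.symm.t14_2 hgt

end CL.PF
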