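import Cfsg.Agent.PF.T8_Types
import Cfsg.Agent.PF.T5
import Cfsg.Agent.PF.DadeNorm
import Cfsg.Agent.PF.SeqInd

/-! Peterfalvi (8.15), (8.16) and the link between maximal subgroups of type `P` and the
hypotheses of sections 3, 4, 9.  Owner: helper90. -/

set_option autoImplicit false
set_option linter.unusedSectionVars false
set_option linter.unusedVariables false

namespace CL.PF

open Cfsg CL.BG

/-! ### transport to `↥M` -/

section
variable {G : Type*} [Group G] {M A B : Subgroup G}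

theorem card_subOf (h : A ≤ M) : Nat.card (A.subgroupOf M) = Nat.card A :=
  Nat.card_congr (Subgroup.subgroupOfEquivOfLe h).toEquiv

theorem subOf_sup (hA : A ≤ M) (hB : B ≤ M) :
    (A ⊔ B).subgroupOf M = A.subgroupOf M ⊔ B.subgroupOf M :=
  Subgroup.subgroupOf_sup hA hB

theorem subOf_inf (A B : Subgroup G) : (A ⊓ B).subgroupOf M = A.subgroupOf M ⊓ B.subgroupOf M :=
  Subgroup.comap_inf _ _ _

theorem subOf_mono (h : A ≤ B) : A.subgroupOf M ≤ B.subgroupOf M := Subgroup.comap_mono h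

theorem map_subOf (h : A ≤ M) : (A.subgroupOf M).map M.subtype = A :=
  Subgroup.map_subgroupOf_eq_of_le h

theorem subOf_map (N : Subgroup M) : (N.map M.subtype).subgroupOf M = N :=
  Subgroup.comap_map_eq_self_of_injective M.subtype_injective N

theorem subOf_le_iff (hA : A ≤ M) : A.subgroupOf M ≤ B.subgroupOf M ↔ A ≤ B :=
  ⟨fun h x hx => h (show (⟨x, hA hx⟩ : M) ∈ A.subgroupOf M from hx), subOf_mono⟩

theorem subOf_inj (hA : A ≤ M) (hB : B ≤ M) : A.subgroupOf M = B.subgroupOf M ↔ A = B := by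
  rw [le_antisymm_iff, le_antisymm_iff, subOf_le_iff hA, subOf_le_iff hB]

theorem subOf_eq_bot_iff (hA : A ≤ M) : A.subgroupOf M = ⊥ ↔ A = ⊥ := by
  rw [← Subgroup.bot_subgroupOf M, subOf_inj hA bot_le]

theorem subOf_cent (h : A ≤ M) : 𝐂(A.subgroupOf M) = (𝐂(A)).subgroupOf M := by
  ext x
  rw [Subgroup.mem_subgroupOf, mem_cent, mem_cent]
  exact ⟨fun hx a ha => congrArg Subtype.val (hx ⟨a, h ha⟩ ha), fun hx a ha => Subtype.ext (hx a ha)⟩

theorem subOf_cent1 (x : M) : 𝐂₁(x) = (𝐂₁((x : G))).subgroupOf M := by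
  ext y
  rw [Subgroup.mem_subgroupOf, mem_cent1, mem_cent1]
  exact ⟨fun h => congrArg Subtype.val h, fun h => Subtype.ext h⟩

theorem subOf_norm (h : A ≤ M) : 𝐍(A.subgroupOf M) = (𝐍(A)).subgroupOf M :=
  (Subgroup.subgroupOf_normalizer_eq h).symm

theorem subOf_commutator (hA : A ≤ M) (hB : B ≤ M) :
    ⁅A, B⁆.subgroupOf M = ⁅A.subgroupOf M, B.subgroupOf M⁆ := by
  rw [← subOf_map ⁅A.subgroupOf M, B.subgroupOf M⁆, Subgroup.map_commutator, map_subOf hA,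
    map_subOf hB]

theorem isCyclic_subOf (h : A ≤ M) : IsCyclic (A.subgroupOf M) ↔ IsCyclic A :=
  (Subgroup.subgroupOfEquivOfLe h).isCyclic

theorem nilpotent_subOf (h : A ≤ M) : Group.IsNilpotent (A.subgroupOf M) ↔ Group.IsNilpotent A :=
  ⟨fun _ => Group.nilpotent_of_mulEquiv (Subgroup.subgroupOfEquivOfLe h),
    fun _ => Group.nilpotent_of_mulEquiv (Subgroup.subgroupOfEquivOfLe h).symm⟩

theorem centMod_bot {L : Type*} [Group L] (H : Subgroup L) : centMod H ⊥ = 𝐂(H) := by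
  ext g
  simp only [centMod, Subgroup.mem_comap, Subgroup.mem_centralizer_iff, Subgroup.coe_map,
    Set.mem_image, SetLike.mem_coe, forall_exists_index, and_imp, forall_apply_eq_imp_iff₂]
  refine forall₂_congr fun a ha => ?_
  rw [← map_mul, ← map_mul]
  exact (QuotientGroup.quotientBot (G := L)).symm.injective.eq_iff

end

/-- The Dade isometry relative to `(A₀(M), M, G)`, for the weak type I. -/
noncomputable def tauW {G : Type*} [Group G] (M : Subgroup G) : (M → ℂ) → (G → ℂ) :=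
  dadeIsometry (ftA0 M) M (supportR M)

section
variable {G : Type*} [Group G] [Finite G] {M W₁ U W₂ : Subgroup G}

theorem PCtx.tauW_eq (c : PCtx M W₁ U W₂) : tauW M = ftTau M := by
  rw [tauW, ftTau, c.ftA0_eq]

theorem tauW_eq_of_typeI (h : IsOfTypeI M) : tauW M = ftTau M := by
  rw [tauW, ftTau, ftA0_eq_of_isOfTypeI h]

theorem supportR_eq_bot {x : G} (h : 𝐂₁(x) ≤ M) : supportR M x = ⊥ := BG.supportR_eq_bot h

/-- for `x ∈ D`, `R(x) = C_{L_F}(x)` -/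
theorem supportR_eq {x : G} (h : ¬ 𝐂₁(x) ≤ M) {L : Subgroup G} (hL : UniqMax 𝐂₁(x) L) :
    supportR M x = fittingHallOf L ⊓ 𝐂₁(x) := supportR_eq_fcore h hL

/-- (8.15) -/
theorem dade_ftA0 (hG : IsMinSimpleOddOrder G) (hM : IsCoatom M) :
    DadeHypothesis (ftA0 M) M (supportR M) := by
  have key : ∀ a ∈ ftA0 M, SDP (supportR M a) (M ⊓ 𝐂₁(a)) 𝐂₁(a) ∧
      ∀ b ∈ ftA0 M, Nat.Coprime (Nat.card (supportR M a)) (Nat.card ↥(M ⊓ 𝐂₁(b))) := by
    intro a ha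
    by_cases h : 𝐂₁(a) ≤ M
    · rw [supportR_eq_bot h, inf_eq_right.2 h]
      exact ⟨⟨bot_sup_eq _, by rw [norm_bot]; exact le_top, bot_inf_eq _⟩, fun b _ => by simp⟩
    · obtain ⟨L, hL⟩ := t16_II_ex hG hM ha h
      rw [hL.R_eq]
      exact ⟨hL.sdpC, fun b hb => (hL.coprime b hb).coprime_dvd_left
        (Subgroup.card_dvd_of_le inf_le_left)⟩
  exact
    { one_not_mem := fun h => (ftA0_subset M h).2 rfl
      subset := fun a ha => (ftA0_subset M ha).1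
      conj_mem := fun x hx a ha => conj_mem_ftA0 hx ha
      fusion := fun a ha g hg => t16_II_fusion hG hM ha hg
      le_centralizer := fun a ha => (key a ha).1.left_le
      conj_mem_H := fun a ha c hc u hu => conj_mem_of_mem_norm ((key a ha).1.normalIn.norm hc) hu
      inf_eq_bot := fun a ha => (key a ha).1.disj
      sup_eq := fun a ha => (key a ha).1.sup
      coprime := fun a ha => (key a ha).2 }

/-- (8.15) -/
theorem dade_ftA (hG : IsMinSimpleOddOrder G) (hM : IsCoatom M) :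
    DadeHypothesis (ftA M) M (supportR M) :=
  Dade.restrict (dade_ftA0 hG hM) (ftA_subset_ftA0 M) fun _ hx _ ha => conj_mem_ftA hx ha

theorem PCtx.dadeA0 (c : PCtx M W₁ U W₂) : DadeHypothesis (typeA0 M) M (supportR M) :=
  c.ftA0_eq ▸ dade_ftA0 c.hG c.hM

theorem PCtx.dadeA (c : PCtx M W₁ U W₂) : DadeHypothesis (typeA M) M (supportR M) :=
  c.ftA_eq ▸ dade_ftA c.hG c.hM

/-- (8.15) -/
theorem dade_typeA1 (hG : IsMinSimpleOddOrder G) (hM : IsCoatom M) :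
    DadeHypothesis (typeA1 M) M (supportR M) :=
  Dade.restrict (dade_ftA hG hM) (typeA1_subset_ftA hG hM) fun _ hx _ ha => conj_mem_typeA1 hx ha

theorem dade_fcore (hG : IsMinSimpleOddOrder G) (hM : IsCoatom M) :
    DadeHypothesis ((fittingHallOf M : Set G) \ {1}) M (supportR M) :=
  Dade.restrict (dade_typeA1 hG hM) (fun _ ha => ⟨fcore_le_typeCore hG hM ha.1, ha.2⟩)
    fun x hx a ha => ⟨conj_mem_of_mem_norm ((fcore_normal M).norm hx) ha.1, fun h => ha.2 (by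
      simpa [mul_inv_eq_one] using h)⟩

theorem norm_ftA0 (hG : IsMinSimpleOddOrder G) (hM : IsCoatom M) :
    Subgroup.normalizer (ftA0 M) = M := (t16_supp_facts hG hM).2.2.2.2.2

theorem norm_ftA (hG : IsMinSimpleOddOrder G) (hM : IsCoatom M) :
    Subgroup.normalizer (ftA M) = M := (t16_supp_facts hG hM).2.2.2.2.1

theorem norm_typeA1 (hG : IsMinSimpleOddOrder G) (hM : IsCoatom M) :
    Subgroup.normalizer (typeA1 M) = M := (t16_supp_facts hG hM).2.2.2.1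

/-- (8.13.b): outside `A₁(M)` the signaliser is trivial -/
theorem ftA0_cent1_le (hG : IsMinSimpleOddOrder G) (hM : IsCoatom M) {x : G}
    (hx : x ∈ ftA0 M) (hx1 : x ∉ typeA1 M) : 𝐂₁(x) ≤ M := by
  by_contra h
  obtain ⟨L, hL⟩ := t16_II_ex hG hM hx h
  exact hx1 hL.memA1

/-- a normal subset of `M` inside `A₀(M)` is TI iff it contains the centralisers -/
theorem ftA0_normedTI (hG : IsMinSimpleOddOrder G) (hM : IsCoatom M) {A : Set G}
    (hA : A ⊆ ftA0 M) (hne : A.Nonempty) (hn : ∀ x ∈ M, ∀ a ∈ A, x * a * x⁻¹ ∈ A)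
    (hc : ∀ a ∈ A, 𝐂₁(a) ≤ M) : NormedTI A M := by
  refine normedTI_of hne hn fun x hx g hg => ?_
  obtain ⟨m, hm, h⟩ := t16_II_fusion hG hM (hA hx) (hA hg)
  have h1 : m⁻¹ * g ∈ 𝐂₁(x) := by
    rw [mem_cent1]
    calc m⁻¹ * g * x = m⁻¹ * (g * x * g⁻¹) * g := by group
      _ = x * (m⁻¹ * g) := by rw [← h]; group
  simpa using M.mul_mem hm (hc x hx h1)

/-- (8.16) -/
theorem t8_16 (hG : IsMinSimpleOddOrder G) (hM : IsCoatom M) (h : IsOfTypeII M) :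
    NormedTI (typeA0 M) M ∧ NormedTI (typeA M) M ∧ NormedTI (typeA1 M) M := by
  obtain ⟨W₁, U, W₂, hP, hU, -⟩ := id h
  have c : PCtx M W₁ U W₂ := ⟨hG, hM, hP⟩
  have hne : (typeA1 M).Nonempty := (t16_supp_facts hG hM).1
  have h0 : NormedTI (typeA0 M) M := by
    refine ftA0_normedTI hG hM c.ftA0_eq.ge
      (hne.mono ((typeA1_subset_typeA hG hM).trans (typeA_subset_typeA0 M)))
      (fun _ hx _ ha => conj_mem_typeA0 hx ha) fun a ha => ?_
    by_cases h1 : a ∈ typeA1 M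
    · rw [mem_typeA1, typeCore_of_typeII hG hM h] at h1
      exact (c.fitting_TI hU).cent1_le ⟨fcore_le_fittingOf M h1.1, h1.2⟩
    · exact ftA0_cent1_le hG hM (c.ftA0_eq.ge ha) h1
  exact ⟨h0, h0.mono (typeA_subset_typeA0 M) (hne.mono (typeA1_subset_typeA hG hM))
      fun _ hx _ ha => conj_mem_typeA hx ha,
    h0.mono ((typeA1_subset_typeA hG hM).trans (typeA_subset_typeA0 M)) hne
      fun _ hx _ ha => conj_mem_typeA1 hx ha⟩

/-! ### the internal structure of `M` -/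

theorem PCtx.cycTI (c : PCtx M W₁ U W₂) : CycTI W₁.subtype W₂.subtype :=
  { inj₁ := W₁.subtype_injective
    inj₂ := W₂.subtype_injective
    selfNorm := by simpa only [Subgroup.range_subtype] using c.hP.selfNormalizing
    odd := mFT_odd c.hG _ }

theorem PCtx.range_f₁ (c : PCtx M W₁ U W₂) : c.f₁.range = W₁.subgroupOf M :=
  Subgroup.inclusion_range _

theorem PCtx.range_f₂ (c : PCtx M W₁ U W₂) : c.f₂.range = W₂.subgroupOf M :=
  Subgroup.inclusion_range _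

theorem der_subgroupOf (M : Subgroup G) : ⁅M, M⁆.subgroupOf M = commutator M := by
  rw [subOf_commutator le_rfl le_rfl, Subgroup.subgroupOf_self]; rfl

theorem map_commutator_subtype (M : Subgroup G) : (commutator M).map M.subtype = ⁅M, M⁆ := by
  rw [← der_subgroupOf, map_subOf (NormalIn.der M).le]

theorem fcore_subgroupOf' (M : Subgroup G) : (fittingHallOf M).subgroupOf M = fittingHall M :=
  fcore_subgroupOf M

theorem PCtx.primeTI (c : PCtx M W₁ U W₂) : PrimeTI (commutator M) c.f₁ c.f₂ := by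
  have hW : W₁ ⊔ W₂ ≤ M := sup_le c.W₁_le c.W₂_le
  have h1 := c.range_f₁
  have h2 := c.range_f₂
  refine ⟨Subgroup.inclusion_injective _, Subgroup.inclusion_injective _, inferInstance, ?_, ?_, ?_,
    ?_, ?_, ?_, ?_, ?_, ?_, ?_⟩
  · rw [h1, ← der_subgroupOf, ← subOf_inf, c.sdp_der.disj, Subgroup.bot_subgroupOf]
  · rw [h1, ← der_subgroupOf, ← subOf_sup (NormalIn.der M).le c.W₁_le, c.sdp_der.sup,
      Subgroup.subgroupOf_self]
  · rw [h1, Ne, subOf_eq_bot_iff c.W₁_le]; exact c.hP.W₁_ne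
  · rw [h1, isCyclic_subOf c.W₁_le]; exact c.hP.W₁_cyclic
  · rw [h1, card_subOf c.W₁_le]; exact c.hP.W₁_hall
  · rw [h2, Ne, subOf_eq_bot_iff c.W₂_le]; exact c.W₂_ne_bot
  · rw [h2, isCyclic_subOf c.W₂_le]; exact SelfNorm.cyclic₂ c.hP.selfNormalizing
  · rw [h2, ← der_subgroupOf]; exact subOf_mono (TypeP.W₂_le_der c.hP)
  · intro x hx hx1
    rw [h1] at hx
    rw [h2, ← der_subgroupOf, subOf_cent1, ← subOf_inf,
      c.hP.W₂_centralizer x hx fun h => hx1 (Subtype.ext h)]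
  · rw [h1, h2, ← subOf_sup c.W₁_le c.W₂_le, card_subOf hW]; exact mFT_odd c.hG _

theorem PCtx.primeDade_of (c : PCtx M W₁ U W₂) {H : Subgroup G} (hH : H ⊴ M) (h₂ : W₂ ≤ H)
    (hs : H ≤ typeCore M) :
    PrimeDade M (commutator M) (H.subgroupOf M) c.f₁ c.f₂ (typeA M) (typeA0 M) (supportR M) where
  primeTI := c.primeTI
  cycTI := c.cycTI
  H_normal := hH.normal
  le_H := by rw [c.range_f₂]; exact subOf_mono h₂
  H_le := by rw [← der_subgroupOf]; exact subOf_mono (hs.trans (typeCore_le_der c.hG c.hM))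
  A_conj := fun _ hx _ ha => conj_mem_typeA hx ha
  cent_mem := fun h hh hh1 k hk hk1 hc => by
    rw [← der_subgroupOf] at hk
    exact c.mem_typeA.2 ⟨hk, fun h0 => hk1 (Subtype.ext h0), h, hs hh,
      fun h0 => hh1 (Subtype.ext h0), congrArg Subtype.val hc⟩
  A_sub := fun a ha => by
    obtain ⟨h1, h2, -⟩ := c.mem_typeA.1 ha
    refine ⟨h2, ⟨a, (NormalIn.der M).le h1⟩, ?_, rfl⟩
    rw [← der_subgroupOf]; exact h1
  A₀_eq := c.typeA0_eq
  dade := c.dadeA0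

/-- (8.15): Hypothesis (4.6) with `H = M_s` -/
theorem PCtx.primeDade (c : PCtx M W₁ U W₂) :
    PrimeDade M (commutator M) ((typeCore M).subgroupOf M) c.f₁ c.f₂ (typeA M) (typeA0 M)
      (supportR M) :=
  c.primeDade_of (typeCore_normal M) (c.W₂_le_core.trans (fcore_le_typeCore c.hG c.hM)) le_rfl

/-- (8.15): Hypothesis (4.6) with `H = M_F` -/
theorem PCtx.primeDadeF (c : PCtx M W₁ U W₂) :
    PrimeDade M (commutator M) (fittingHall M) c.f₁ c.f₂ (typeA M) (typeA0 M)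
      (supportR M) :=
  fcore_subgroupOf M ▸ c.primeDade_of (fcore_normal M) c.W₂_le_core (fcore_le_typeCore c.hG c.hM)

/-- (8.15): Hypothesis (4.6) with `H = M'`, for types III, IV, V -/
theorem PCtx.primeDadeD (c : PCtx M W₁ U W₂) (h : ¬ IsOfTypeII M) :
    PrimeDade M (commutator M) (commutator M) c.f₁ c.f₂ (typeA M) (typeA0 M)
      (supportR M) := by
  have := c.primeDade
  rwa [c.typeCore_eq_der h, der_subgroupOf] at this

theorem PCtx.hyp92 (c : PCtx M W₁ U W₂) (h : U ≠ ⊥) :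
    Hyp92 (fittingHall M) (U.subgroupOf M) c.f₁ c.f₂ := by
  have hH := fcore_le M
  have hD := (NormalIn.der M).le
  refine ⟨c.primeTI, mFT_odd c.hG _, mmax_sol c.hG c.hM, inferInstance, fittingHall_nilpotent M,
    fittingHall_coprime M, (nilpotent_subOf c.U_le).2 c.hP.U_nilpotent, ?_, ?_, ?_, ?_, ?_, ?_, ?_,
    c.prime_W₁ h⟩ <;>
    simp only [c.range_f₁, c.range_f₂, ← der_subgroupOf, ← fcore_subgroupOf]
  · rw [subOf_norm c.U_le]; exact subOf_mono c.hP.U_normal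
  · rw [← subOf_inf, c.sdp_core.disj, Subgroup.bot_subgroupOf]
  · rw [← subOf_sup hH c.U_le, c.sdp_core.sup]
  · exact subOf_mono c.W₂_le_core
  · rw [← subOf_commutator hD hD]; exact subOf_mono (c.hP.W₂_le.trans inf_le_right)
  · rw [← subOf_commutator c.U_le c.U_le, subOf_cent hH]
    exact subOf_mono (TypeP.der_U_le_cent c.hP)
  · rw [subOf_cent hH, subOf_le_iff c.U_le]
    exact fun h' => h (TypeP.eq_bot_of_le_cent c.hP h')

theorem PCtx.cOf_bot (c : PCtx M W₁ U W₂) :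
    cOf (fittingHall M) (U.subgroupOf M) ⊥ = (U ⊓ 𝐂(fittingHallOf M)).subgroupOf M := by
  rw [cOf, centMod_bot, ← fcore_subgroupOf, subOf_cent (fcore_le M), subOf_inf]

theorem PCtx.uOf_bot (c : PCtx M W₁ U W₂) :
    uOf (fittingHall M) (U.subgroupOf M) ⊥ = uP M U := by
  rw [uOf, c.cOf_bot, Subgroup.relIndex_subgroupOf c.U_le]

theorem PCtx.fitting_eq_HC (c : PCtx M W₁ U W₂) :
    fittingSubgroup M = fittingHall M ⊔ cOf (fittingHall M) (U.subgroupOf M) ⊥ := by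
  rw [c.cOf_bot, ← fcore_subgroupOf, ← subOf_sup (fcore_le M) (inf_le_left.trans c.U_le),
    ← c.fitting_eq, fittingOf, subOf_map]

theorem odd_card_of_coatom (hG : IsMinSimpleOddOrder G) (M : Subgroup G) : Odd (Nat.card M) :=
  mFT_odd hG M

end

section
variable {G : Type*} [Group G] [Fintype G] {M W₁ U W₂ : Subgroup G}

theorem seqIndD_self {L : Type*} [Group L] [Fintype L] (K Y : Subgroup L) :
    seqIndD K K Y = inducedIrrAbove K Y := (inducedIrrAbove_eq K Y).symm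

/-- `τ` is a linear isometry on the virtual characters supported on `A₀(M)` -/
theorem tauW_iso (hG : IsMinSimpleOddOrder G) (hM : IsCoatom M) :
    IsLinearIsometryOn (genOn M (Subtype.val ⁻¹' ftA0 M)) (tauW M) :=
  Dade.isLinearIsometryOn (dade_ftA0 hG hM) (fun _ h => h.1) fun _ h => h.2

theorem tauW_eq_dade (hG : IsMinSimpleOddOrder G) (hM : IsCoatom M) {A : Set G}
    (hA : A ⊆ ftA0 M) (hn : ∀ x ∈ M, ∀ a ∈ A, x * a * x⁻¹ ∈ A) {α : M → ℂ}
    (hα : IsClassFunction M α) (hs : ∀ x : M, (x : G) ∉ A → α x = 0) :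
    tauW M α = dadeIsometry A M (supportR M) α :=
  (Dade.restrict_eq (dade_ftA0 hG hM) hA hn hα hs).symm

/-- `τ` coincides with induction on class functions supported on a TI-subset of `A₀(M)` -/
theorem tauW_eq_indFun (hG : IsMinSimpleOddOrder G) (hM : IsCoatom M) {A : Set G}
    (hA : A ⊆ ftA0 M) (hTI : NormedTI A M) {α : M → ℂ} (hα : IsClassFunction M α)
    (hs : ∀ x : M, (x : G) ∉ A → α x = 0) : tauW M α = indFun M α :=
  Dade.eq_indFun_of_sub (dade_ftA0 hG hM) hA (fun _ ha => supportR_eq_bot (hTI.cent1_le ha)) hα hs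

theorem PCtx.tau_iso (c : PCtx M W₁ U W₂) :
    IsLinearIsometryOn (genOn M (Subtype.val ⁻¹' typeA0 M)) (ftTau M) :=
  c.tauW_eq ▸ c.ftA0_eq ▸ tauW_iso c.hG c.hM

theorem PCtx.tau_eq_dade (c : PCtx M W₁ U W₂) {A : Set G}
    (hA : A ⊆ typeA0 M) (hn : ∀ x ∈ M, ∀ a ∈ A, x * a * x⁻¹ ∈ A) {α : M → ℂ}
    (hα : IsClassFunction M α) (hs : ∀ x : M, (x : G) ∉ A → α x = 0) :
    ftTau M α = dadeIsometry A M (supportR M) α :=
  c.tauW_eq ▸ tauW_eq_dade c.hG c.hM (c.ftA0_eq ▸ hA) hn hα hs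

theorem PCtx.tau_eq_ind (c : PCtx M W₁ U W₂) {A : Set G}
    (hA : A ⊆ typeA0 M) (hTI : NormedTI A M) {α : M → ℂ} (hα : IsClassFunction M α)
    (hs : ∀ x : M, (x : G) ∉ A → α x = 0) : ftTau M α = indFun M α :=
  c.tauW_eq ▸ tauW_eq_indFun c.hG c.hM (c.ftA0_eq ▸ hA) hTI hα hs

/-- (5.3.b) for `M`, `H = M_s` -/
theorem PCtx.cohBase (c : PCtx M W₁ U W₂) :
    ∃ B : (M → ℂ) → Finset (G → ℂ),
      IsCoherenceSystem (seqIndD (commutator M) ((typeCore M).subgroupOf M) ⊥) (ftTau M) B ∧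
        IsPrDadeBase (seqIndD (commutator M) ((typeCore M).subgroupOf M) ⊥) c.f₁ c.f₂ B :=
  c.primeDade.t5_3b (mFT_odd c.hG M)

/-- (5.3.b) for `M`, `H = M_F` -/
theorem PCtx.cohBaseF (c : PCtx M W₁ U W₂) :
    ∃ B : (M → ℂ) → Finset (G → ℂ),
      IsCoherenceSystem (seqIndD (commutator M) (fittingHall M) ⊥) (ftTau M) B ∧
        IsPrDadeBase (seqIndD (commutator M) (fittingHall M) ⊥) c.f₁ c.f₂ B :=
  c.primeDadeF.t5_3b (mFT_odd c.hG M)

/-- (5.3.b) for `M` of type III, IV, V and `S = {Ind θ | θ ∈ Irr M', θ ≠ 1}` -/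
theorem PCtx.cohBaseD (c : PCtx M W₁ U W₂) (h : ¬ IsOfTypeII M) :
    ∃ B : (M → ℂ) → Finset (G → ℂ),
      IsCoherenceSystem (inducedIrrAbove (commutator M) ⊥) (ftTau M) B ∧
        IsPrDadeBase (inducedIrrAbove (commutator M) ⊥) c.f₁ c.f₂ B := by
  rw [inducedIrrAbove_eq]
  exact (c.primeDadeD h).t5_3b (mFT_odd c.hG M)

theorem PCtx.seqIndF_subset (c : PCtx M W₁ U W₂) (Y : Subgroup M) :
    seqIndD (commutator M) (fittingHall M) Y ⊆
      seqIndD (commutator M) ((typeCore M).subgroupOf M) ⊥ :=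
  seqIndD_mono (fcore_subgroupOf M ▸ subOf_mono (fcore_le_typeCore c.hG c.hM)) bot_le

theorem PCtx.induced_subset (c : PCtx M W₁ U W₂) (h : ¬ IsOfTypeII M) (Y : Subgroup M) :
    inducedIrrAbove (commutator M) Y ⊆
      seqIndD (commutator M) ((typeCore M).subgroupOf M) ⊥ := by
  rw [inducedIrrAbove_eq, c.typeCore_eq_der h, der_subgroupOf]
  exact seqIndD_mono le_rfl bot_le

/-- (4.7) -/
theorem PCtx.seqInd_eq_zero (c : PCtx M W₁ U W₂) {φ : M → ℂ}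
    (hφ : φ ∈ seqIndD (commutator M) ((typeCore M).subgroupOf M) ⊥) {x : M} (hx : x ≠ 1)
    (hA : (x : G) ∉ typeA M) : φ x = 0 := c.primeDade.seqInd_eq_zero hφ hx hA

/-- (4.8) -/
theorem PCtx.t4_8 (c : PCtx M W₁ U W₂) (i : W₁ →* ℂˣ) {j k : W₂ →* ℂˣ} (hj : j ≠ 1) (hk : k ≠ 1)
    (hd : mu c.f₁ c.f₂ i j 1 = mu c.f₁ c.f₂ i k 1) :
    (∀ x : M, (x : G) ∉ typeA0 M → (mu c.f₁ c.f₂ i j - mu c.f₁ c.f₂ i k) x = 0) ∧
      delta c.f₁ c.f₂ j = delta c.f₁ c.f₂ k ∧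
      ftTau M (mu c.f₁ c.f₂ i j - mu c.f₁ c.f₂ i k) = (delta c.f₁ c.f₂ j : ℂ) •
        (eta W₁.subtype W₂.subtype i j - eta W₁.subtype W₂.subtype i k) :=
  c.primeDade.t4_8 i hj hk hd

/-- (4.9) -/
theorem PCtx.t4_9a (c : PCtx M W₁ U W₂) {j k : W₂ →* ℂˣ} (hj : j ≠ 1) (hk : k ≠ 1)
    (hd : muCol c.f₁ c.f₂ j 1 = muCol c.f₁ c.f₂ k 1) :
    ftTau M (muCol c.f₁ c.f₂ j - muCol c.f₁ c.f₂ k) = (delta c.f₁ c.f₂ j : ℂ) •
      (etaCol W₁.subtype W₂.subtype j - etaCol W₁.subtype W₂.subtype k) :=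
  c.primeDade.t4_9a hj hk hd

/-- (4.9) -/
theorem PCtx.t4_9 (c : PCtx M W₁ U W₂) {k : W₂ →* ℂˣ} (hk : k ≠ 1) :
    ∃ τ₁ : (M → ℂ) → (G → ℂ),
      CoherentWith {φ | ∃ j, j ≠ 1 ∧ muCol c.f₁ c.f₂ j 1 = muCol c.f₁ c.f₂ k 1 ∧
        φ = muCol c.f₁ c.f₂ j} (ftTau M) τ₁ ∧
      ∀ j, j ≠ 1 → muCol c.f₁ c.f₂ j 1 = muCol c.f₁ c.f₂ k 1 → τ₁ (muCol c.f₁ c.f₂ j) =
        (delta c.f₁ c.f₂ k : ℂ) • etaCol W₁.subtype W₂.subtype j :=
  c.primeDade.t4_9 hk

/-- (4.10) -/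
theorem PCtx.t4_10 (c : PCtx M W₁ U W₂) (i : W₁ →* ℂˣ) (j : W₂ →* ℂˣ) :
    (∀ x : M, x ∉ cycVConj c.f₁ c.f₂ → ((delta c.f₁ c.f₂ j : ℂ) • mu c.f₁ c.f₂ i j -
        (delta c.f₁ c.f₂ j : ℂ) • mu c.f₁ c.f₂ 1 j - mu c.f₁ c.f₂ i 1 + mu c.f₁ c.f₂ 1 1) x = 0) ∧
      ftTau M ((delta c.f₁ c.f₂ j : ℂ) • mu c.f₁ c.f₂ i j -
        (delta c.f₁ c.f₂ j : ℂ) • mu c.f₁ c.f₂ 1 j - mu c.f₁ c.f₂ i 1 + mu c.f₁ c.f₂ 1 1) =
      eta W₁.subtype W₂.subtype i j - eta W₁.subtype W₂.subtype 1 j -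
        eta W₁.subtype W₂.subtype i 1 + eta W₁.subtype W₂.subtype 1 1 :=
  c.primeDade.t4_10 i j

theorem PCtx.tau_apply_V (c : PCtx M W₁ U W₂) {α : M → ℂ} (hα : IsClassFunction M α) {x : W₁}
    {y : W₂} (hx : x ≠ 1) (hy : y ≠ 1) :
    ftTau M α (W₁.subtype x * W₂.subtype y) = α (c.f₁ x * c.f₂ y) :=
  c.primeDade.dade_apply_V hα hx hy

theorem PCtx.tau_eq_zero_V (c : PCtx M W₁ U W₂) {α : M → ℂ} (hα : IsClassFunction M α)
    (hA : ∀ x : M, (x : G) ∉ typeA M → α x = 0) {v : G} (hv : v ∈ cycV W₁.subtype W₂.subtype) :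
    ftTau M α v = 0 :=
  c.primeDade.dade_eq_zero_V hα hA hv

/-- `coherent_ortho_cycTIiso` -/
theorem PCtx.coherent_orthEta (c : PCtx M W₁ U W₂) {S : Set (M → ℂ)}
    (hS : S ⊆ seqIndD (commutator M) ((typeCore M).subgroupOf M) ⊥)
    (hc : ∀ φ ∈ S, conjFun φ ∈ S) {τ₁ : (M → ℂ) → (G → ℂ)} (hτ : CoherentWith S (ftTau M) τ₁)
    {χ : M → ℂ} (hχ : χ ∈ S) (hirr : IsIrrCharacter M χ) :
    OrthEta W₁.subtype W₂.subtype (τ₁ χ) :=
  c.primeDade.coherent_orthEta (odd_card_of_coatom c.hG M) hS hc hτ hχ hirr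

theorem PCtx.tau_sub_orthEta (c : PCtx M W₁ U W₂) {φ ψ : M → ℂ}
    (hφ : φ ∈ seqIndD (commutator M) ((typeCore M).subgroupOf M) ⊥)
    (hψ : ψ ∈ seqIndD (commutator M) ((typeCore M).subgroupOf M) ⊥) (hφi : IsIrrCharacter M φ)
    (hψi : IsIrrCharacter M ψ) (hd : φ 1 = ψ 1) :
    OrthEta W₁.subtype W₂.subtype (ftTau M (φ - ψ)) :=
  c.primeDade.dade_sub_orthEta (odd_card_of_coatom c.hG M) hφ hψ hφi hψi hd

/-- (5.8) -/
theorem PCtx.t5_8 (c : PCtx M W₁ U W₂) {S : Set (M → ℂ)}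
    (hS : S ⊆ seqIndD (commutator M) ((typeCore M).subgroupOf M) ⊥)
    (hc : ∀ φ ∈ S, conjFun φ ∈ S) {τ₁ : (M → ℂ) → (G → ℂ)} (hτ : CoherentWith S (ftTau M) τ₁)
    (hirr : ∃ χ ∈ S, IsIrrCharacter M χ) {k : W₂ →* ℂˣ} (hk : muCol c.f₁ c.f₂ k ∈ S) :
    τ₁ (muCol c.f₁ c.f₂ k) = (delta c.f₁ c.f₂ k : ℂ) • etaCol W₁.subtype W₂.subtype k ∨
      (τ₁ (muCol c.f₁ c.f₂ k) = -((delta c.f₁ c.f₂ k : ℂ) • etaCol W₁.subtype W₂.subtype k⁻¹) ∧
      ∀ j, muCol c.f₁ c.f₂ j ∈ S → muCol c.f₁ c.f₂ j 1 = muCol c.f₁ c.f₂ k 1 →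
        j = k ∨ j = k⁻¹) :=
  c.primeDade.t5_8 (odd_card_of_coatom c.hG M) hS hc hτ hirr hk

end

end CL.PF
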