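import Cfsg.Agent.PF.Defs9
import Cfsg.Agent.BG.T16_PF
import Cfsg.Agent.BG.Fcore
import Cfsg.Agent.BG.Sigma
import Cfsg.Agent.BG.Frob
import Cfsg.Agent.BG.A16_TypeF
import Cfsg.Agent.BG.T14_2
import Cfsg.Agent.BG.T15_2
import Cfsg.Agent.PF.T3

/-! Peterfalvi section 8: the types of maximal subgroups, `M_s`, `A₁(M)`, `A(M)`, `A₀(M)`, (8.8).
Owner: helper90.

Before (12.7) only the weak type I (`CL.BG.TypeI`, with `ftA`, `ftA0`, `FtSupports`, `FtPair`) is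
available; see `PF/T12_Strong.lean` for the versions with `IsOfTypeI`, `typeA`, `typeA0`. -/

set_option autoImplicit false
set_option linter.unusedSectionVars false
set_option linter.unusedVariables false

namespace CL.PF

open Cfsg CL.BG

variable {G : Type*} [Group G] [Finite G] {M W₁ U W₂ : Subgroup G}

/-! ### conjugation -/

theorem typeI_cj (g : G) : IsOfTypeI (cj g M) ↔ IsOfTypeI M := isOfTypeI_cj

theorem wtypeI_cj (g : G) : TypeI (cj g M) ↔ TypeI M := BG.typeI_cj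

theorem typeII_cj (g : G) : IsOfTypeII (cj g M) ↔ IsOfTypeII M := isOfTypeII_cj

theorem typeIII_cj (g : G) : IsOfTypeIII (cj g M) ↔ IsOfTypeIII M := isOfTypeIII_cj

theorem typeIV_cj (g : G) : IsOfTypeIV (cj g M) ↔ IsOfTypeIV M := isOfTypeIV_cj

theorem typeV_cj (g : G) : IsOfTypeV (cj g M) ↔ IsOfTypeV M := isOfTypeV_cj

theorem PCtx.conj (c : PCtx M W₁ U W₂) (g : G) : PCtx (cj g M) (cj g W₁) (cj g U) (cj g W₂) :=
  ⟨c.hG, mmax_cj g c.hM, typePWith_cj c.hP g⟩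

theorem typeCore_cj (g : G) (M : Subgroup G) : typeCore (cj g M) = cj g (typeCore M) :=
  BG.typeCore_cj g M

theorem mem_typeA1_cj {g x : G} : g * x * g⁻¹ ∈ typeA1 (cj g M) ↔ x ∈ typeA1 M :=
  BG.mem_typeA1_cj

theorem mem_typeA_cj {g x : G} : g * x * g⁻¹ ∈ typeA (cj g M) ↔ x ∈ typeA M :=
  BG.mem_typeA_cj

theorem mem_typeA0_cj {g x : G} : g * x * g⁻¹ ∈ typeA0 (cj g M) ↔ x ∈ typeA0 M :=
  BG.mem_typeA0_cj

theorem mem_ftA_cj {g x : G} : g * x * g⁻¹ ∈ ftA (cj g M) ↔ x ∈ ftA M := BG.mem_ftA_cj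

theorem mem_ftA0_cj {g x : G} : g * x * g⁻¹ ∈ ftA0 (cj g M) ↔ x ∈ ftA0 M :=
  BG.mem_ftA0_cj

theorem supportR_cj (g x : G) (M : Subgroup G) :
    supportR (cj g M) (g * x * g⁻¹) = cj g (supportR M x) := BG.supportR_cj g M x

theorem tildeOf_cj_of_iff {A B : Set G} (g : G) (h : ∀ x, g * x * g⁻¹ ∈ B ↔ x ∈ A) :
    tildeOf (cj g M) B = tildeOf M A := by
  ext y
  constructor
  · rintro ⟨b, hb, r, hr, z, rfl⟩
    have hb' : b = g * (g⁻¹ * b * g) * g⁻¹ := by group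
    rw [hb', supportR_cj, mem_cj] at hr
    refine ⟨g⁻¹ * b * g, (h _).1 (hb' ▸ hb), _, hr, z * g, by group⟩
  · rintro ⟨a, ha, r, hr, z, rfl⟩
    refine ⟨g * a * g⁻¹, (h _).2 ha, g * r * g⁻¹, ?_, z * g⁻¹, by group⟩
    rw [supportR_cj, conj_mem_cj]
    exact hr

theorem tildeOf_typeA1_cj (g : G) (M : Subgroup G) :
    tildeOf (cj g M) (typeA1 (cj g M)) = tildeOf M (typeA1 M) :=
  tildeOf_cj_of_iff g fun _ => mem_typeA1_cj

theorem tildeOf_typeA_cj (g : G) (M : Subgroup G) :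
    tildeOf (cj g M) (typeA (cj g M)) = tildeOf M (typeA M) :=
  tildeOf_cj_of_iff g fun _ => mem_typeA_cj

theorem tildeOf_typeA0_cj (g : G) (M : Subgroup G) :
    tildeOf (cj g M) (typeA0 (cj g M)) = tildeOf M (typeA0 M) :=
  tildeOf_cj_of_iff g fun _ => mem_typeA0_cj

theorem tildeOf_ftA_cj (g : G) (M : Subgroup G) :
    tildeOf (cj g M) (ftA (cj g M)) = tildeOf M (ftA M) :=
  tildeOf_cj_of_iff g fun _ => mem_ftA_cj

theorem tildeOf_ftA0_cj (g : G) (M : Subgroup G) :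
    tildeOf (cj g M) (ftA0 (cj g M)) = tildeOf M (ftA0 M) :=
  tildeOf_cj_of_iff g fun _ => mem_ftA0_cj

/-! ### type `P` data -/

/-- any two choices of type `P` data are conjugate in `M` -/
theorem PCtx.exists_conj (c : PCtx M W₁ U W₂) {W₁' U' W₂' : Subgroup G}
    (h : IsTypePWith M W₁' U' W₂') : ∃ m ∈ M, W₁' = cj m W₁ ∧ U' = cj m U ∧ W₂' = cj m W₂ := by
  obtain ⟨m, hm, h⟩ := typePWith_conj c.hP h
  exact ⟨m, (NormalIn.der M).le hm, h⟩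

/-- any complement to `M'` in `M` is part of type `P` data -/
theorem PCtx.exists_of_compl (c : PCtx M W₁ U W₂) {W : Subgroup G} (h : IsComplIn ⁅M, M⁆ W M) :
    ∃ U' W' : Subgroup G, PCtx M W U' W' := by
  obtain ⟨m, -, -, h⟩ := typePWith_of_sdp c.hP
    (sdp_of_isComplIn h (h.2.1.trans (NormalIn.der M).norm))
  exact ⟨_, _, c.hG, c.hM, h⟩

theorem PCtx.not_typeI (c : PCtx M W₁ U W₂) : ¬ IsOfTypeI M := typeP_not_isOfTypeI c.hP

theorem PCtx.not_wtypeI (c : PCtx M W₁ U W₂) : ¬ TypeI M := typeP_not_typeI c.hP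

theorem PCtx.ftA_eq (c : PCtx M W₁ U W₂) : ftA M = typeA M :=
  ftA_eq_typeA ⟨fun h => absurd h c.not_wtypeI, fun h => absurd h c.not_typeI⟩

theorem PCtx.ftA0_eq (c : PCtx M W₁ U W₂) : ftA0 M = typeA0 M :=
  ftA0_eq_typeA0 ⟨fun h => absurd h c.not_wtypeI, fun h => absurd h c.not_typeI⟩

theorem exists_pctxW (hG : IsMinSimpleOddOrder G) (hM : IsCoatom M) (h : ¬ TypeI M) :
    ∃ W₁ U W₂ : Subgroup G, PCtx M W₁ U W₂ := by
  obtain ⟨W₁, U, W₂, hP⟩ := (t16_typeI_or_typeP hG hM).resolve_left h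
  exact ⟨W₁, U, W₂, hG, hM, hP⟩

theorem PCtx.types (c : PCtx M W₁ U W₂) :
    IsOfTypeII M ∨ IsOfTypeIII M ∨ IsOfTypeIV M ∨ IsOfTypeV M :=
  (t16_type_cases c.hG c.hM).resolve_left c.not_wtypeI

theorem PCtx.typeII_iff (c : PCtx M W₁ U W₂) : IsOfTypeII M ↔ U ≠ ⊥ ∧ ¬ 𝐍(U) ≤ M := by
  refine ⟨fun h => ⟨(typeII_data h c.hP).1, (typeII_data h c.hP).2.2.2.2.1⟩, fun h => ?_⟩
  rcases c.types with h' | h' | h' | h'
  · exact h'
  · exact absurd (typeIII_data h' c.hP).2.2.2.2 h.2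
  · exact absurd (typeIV_data h' c.hP).2.2.2.2 h.2
  · exact absurd (typeV_data h' c.hP).1 h.1

theorem PCtx.typeIII_iff (c : PCtx M W₁ U W₂) :
    IsOfTypeIII M ↔ IsMulCommutative U ∧ 𝐍(U) ≤ M := by
  refine ⟨fun h => (typeIII_data h c.hP).2.2.2, fun h => ?_⟩
  rcases c.types with h' | h' | h' | h'
  · exact absurd h.2 (typeII_data h' c.hP).2.2.2.2.1
  · exact h'
  · exact absurd h.1 (typeIV_data h' c.hP).2.2.2.1
  · have := h.2
    rw [(typeV_data h' c.hP).1, norm_bot, top_le_iff] at this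
    exact absurd this c.hM.1

theorem PCtx.typeIV_iff (c : PCtx M W₁ U W₂) : IsOfTypeIV M ↔ ¬ IsMulCommutative U := by
  refine ⟨fun h => (typeIV_data h c.hP).2.2.2.1, fun h => ?_⟩
  rcases c.types with h' | h' | h' | h'
  · exact absurd (typeII_data h' c.hP).2.2.2.1 h
  · exact absurd (typeIII_data h' c.hP).2.2.2.1 h
  · exact h'
  · rw [(typeV_data h' c.hP).1] at h
    exact absurd (comm_iff_le_cent.2 bot_le) h

theorem PCtx.typeV_iff (c : PCtx M W₁ U W₂) : IsOfTypeV M ↔ U = ⊥ := by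
  refine ⟨fun h => (typeV_data h c.hP).1, fun h => ?_⟩
  rcases c.types with h' | h' | h' | h'
  · exact absurd h (typeII_data h' c.hP).1
  · exact absurd h (typeIII_data h' c.hP).1
  · exact absurd h (typeIV_data h' c.hP).1
  · exact h'

theorem PCtx.type34_iff (c : PCtx M W₁ U W₂) :
    (IsOfTypeIII M ∨ IsOfTypeIV M) ↔ (U ≠ ⊥ ∧ ¬ IsOfTypeII M) := by
  refine ⟨fun h => ⟨(type34_data h c.hP).1, fun h' => typeII_not_type34 h' h⟩, fun h => ?_⟩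
  rcases c.types with h' | h' | h' | h'
  · exact absurd h' h.2
  · exact Or.inl h'
  · exact Or.inr h'
  · exact absurd (typeV_data h' c.hP).1 h.1

theorem PCtx.typeII_facts (c : PCtx M W₁ U W₂) (h : IsOfTypeII M) :
    U ≠ ⊥ ∧ IsMulCommutative U ∧ ¬ 𝐍(U) ≤ M ∧ IsOfTypeF ↥⁅M, M⁆ ∧
      fittingHallOf ⁅M, M⁆ = fittingHallOf M :=
  ⟨(typeII_data h c.hP).1, (typeII_data h c.hP).2.2.2⟩

theorem PCtx.type34_facts (c : PCtx M W₁ U W₂) (h : IsOfTypeIII M ∨ IsOfTypeIV M) :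
    U ≠ ⊥ ∧ 𝐍(U) ≤ M := ⟨(type34_data h c.hP).1, (type34_data h c.hP).2.2.2⟩

theorem PCtx.typeV_facts (c : PCtx M W₁ U W₂) (h : U = ⊥) :
    fittingHallOf M = ⁅M, M⁆ ∧ (IsTISubset (fittingHallOf M : Set G) ∨
      (∃ p : ℕ, p.Prime ∧ p ∣ Nat.card (fittingHallOf M) ∧ Nat.card W₁ ∣ p - 1 ∧
        IsCyclic (pPrimeCore p (fittingHallOf M))) ∨
      (∃ p : ℕ, p.Prime ∧ p ∣ Nat.card (fittingHallOf M) ∧
        Nat.card (pCore p (fittingHallOf M)) = p ^ 3 ∧ Nat.card W₁ ∣ p + 1 ∧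
        IsCyclic (pPrimeCore p (fittingHallOf M)))) := by
  refine ⟨?_, (typeV_data (c.typeV_iff.2 h) c.hP).2⟩
  rw [← (TypeP.sdp_H c.hP).sup, h, sup_bot_eq]

theorem PCtx.prime_W₁ (c : PCtx M W₁ U W₂) (h : U ≠ ⊥) : (Nat.card W₁).Prime := by
  rcases c.types with h' | h' | h' | h'
  · exact (typeII_data h' c.hP).2.1
  · exact (typeIII_data h' c.hP).2.1
  · exact (typeIV_data h' c.hP).2.1
  · exact absurd (typeV_data h' c.hP).1 h

/-- for types III, IV, V -/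
theorem PCtx.prime_W₂ (c : PCtx M W₁ U W₂) (h : ¬ IsOfTypeII M) : (Nat.card W₂).Prime := by
  obtain ⟨T, V, hp⟩ := t16_pair_ex c.hG c.hM c.hP
  exact (typeII_data (hp.typeII.resolve_left h) hp.dataT).2.1

theorem PCtx.fitting_TI (c : PCtx M W₁ U W₂) (h : U ≠ ⊥) :
    NormedTI ((fittingOf M : Set G) \ {1}) M := by
  have hne : fittingOf M ≠ ⊥ := fun h0 =>
    TypeP.H_ne_bot c.hP (le_bot_iff.1 (h0 ▸ fcore_le_fittingOf M))
  refine (normedTI_sharp_iff_isTISubset hne).2 ⟨?_, mmax_normal c.hG c.hM (fit_normal M) hne⟩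
  rcases c.types with h' | h' | h' | h'
  · exact (typeII_data h' c.hP).2.2.1
  · exact (typeIII_data h' c.hP).2.2.1
  · exact (typeIV_data h' c.hP).2.2.1
  · exact absurd (typeV_data h' c.hP).1 h

/-- (8.5.a) -/
theorem PCtx.fitting_eq (c : PCtx M W₁ U W₂) :
    fittingOf M = fittingHallOf M ⊔ (U ⊓ 𝐂(fittingHallOf M)) := TypeP.fit_eq c.hP

theorem PCtx.sdp_der (c : PCtx M W₁ U W₂) : SDP ⁅M, M⁆ W₁ M := TypeP.sdp_der c.hP

theorem PCtx.sdp_core (c : PCtx M W₁ U W₂) : SDP (fittingHallOf M) U ⁅M, M⁆ := TypeP.sdp_H c.hP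

theorem PCtx.sdp_core' (c : PCtx M W₁ U W₂) : SDP (fittingHallOf M) (U ⊔ W₁) M :=
  TypeP.sdp_H_UW c.hP

theorem PCtx.sdp_U (c : PCtx M W₁ U W₂) : SDP U W₁ (U ⊔ W₁) := TypeP.sdp_UW c.hP

theorem PCtx.dp_W (c : PCtx M W₁ U W₂) : DP W₁ W₂ (W₁ ⊔ W₂) := SelfNorm.dp c.hP.selfNormalizing

theorem PCtx.coprime_der (c : PCtx M W₁ U W₂) :
    Nat.Coprime (Nat.card ↥⁅M, M⁆) (Nat.card W₁) := TypeP.coprime_der_W₁ c.hP

theorem PCtx.W₂_ne_bot (c : PCtx M W₁ U W₂) : W₂ ≠ ⊥ := c.hP.selfNormalizing.2.1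

theorem PCtx.W₂_le_core (c : PCtx M W₁ U W₂) : W₂ ≤ fittingHallOf M := TypeP.W₂_le_H c.hP

theorem PCtx.semiregular_U (c : PCtx M W₁ U W₂) : Semiregular U W₁ :=
  fun _ hx hx1 => TypeP.U_inf_cent1 c.hP hx hx1

theorem PCtx.cent_W₁ (c : PCtx M W₁ U W₂) : ⁅M, M⁆ ⊓ 𝐂(W₁) = W₂ := TypeP.der_inf_cent c.hP

theorem PCtx.cent1_W₁ (c : PCtx M W₁ U W₂) {x : G} (hx : x ∈ W₁) (hx1 : x ≠ 1) :
    M ⊓ 𝐂₁(x) = W₁ ⊔ W₂ := TypeP.inf_cent1 c.hP hx hx1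

theorem PCtx.hall_kappa (c : PCtx M W₁ U W₂) : Hall (kappa M) W₁ M :=
  (t16_typeP_facts c.hG c.hM c.hP).2.1

theorem PCtx.W₂_eq (c : PCtx M W₁ U W₂) : W₂ = sigmaCore M ⊓ 𝐂(W₁) :=
  (t16_typeP_facts c.hG c.hM c.hP).2.2.1.symm

/-! ### `M_s` -/

theorem typeCore_eq_sigmaCore (hG : IsMinSimpleOddOrder G) (hM : IsCoatom M) :
    typeCore M = sigmaCore M := t16_typeCore hG hM

theorem typeCore_of_wtypeI (hG : IsMinSimpleOddOrder G) (hM : IsCoatom M) (h : TypeI M) :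
    typeCore M = fittingHallOf M := typeCore_of_typeF h.1

theorem typeCore_of_typeI (hG : IsMinSimpleOddOrder G) (hM : IsCoatom M) (h : IsOfTypeI M) :
    typeCore M = fittingHallOf M := typeCore_of_typeF h.1

theorem typeCore_of_typeII (hG : IsMinSimpleOddOrder G) (hM : IsCoatom M) (h : IsOfTypeII M) :
    typeCore M = fittingHallOf M := typeCore_of_isOfTypeII h

theorem PCtx.typeCore_eq_der (c : PCtx M W₁ U W₂) (h : ¬ IsOfTypeII M) :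
    typeCore M = ⁅M, M⁆ := by
  by_cases hU : U = ⊥
  · rw [typeCore_of_isOfTypeV (c.typeV_iff.2 hU), (c.typeV_facts hU).1]
  · exact typeCore_of_type34 (c.type34_iff.2 ⟨hU, h⟩)

theorem fcore_le_typeCore (hG : IsMinSimpleOddOrder G) (hM : IsCoatom M) :
    fittingHallOf M ≤ typeCore M := BG.fcore_le_typeCore M

theorem typeCore_le_der (hG : IsMinSimpleOddOrder G) (hM : IsCoatom M) :
    typeCore M ≤ ⁅M, M⁆ := by
  rw [typeCore_eq_sigmaCore hG hM]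
  exact (t15_2_chain hG hM).2.2.1

theorem fcore_ne_bot (hG : IsMinSimpleOddOrder G) (hM : IsCoatom M) : fittingHallOf M ≠ ⊥ :=
  (t15_2_chain hG hM).1

theorem typeCore_normal (M : Subgroup G) : typeCore M ⊴ M := typeCore_normalIn M

theorem norm_typeCore (hG : IsMinSimpleOddOrder G) (hM : IsCoatom M) : 𝐍(typeCore M) = M :=
  mmax_normal hG hM (typeCore_normal M) fun h =>
    fcore_ne_bot hG hM (le_bot_iff.1 (h ▸ fcore_le_typeCore hG hM))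

theorem norm_fcore (hG : IsMinSimpleOddOrder G) (hM : IsCoatom M) : 𝐍(fittingHallOf M) = M :=
  mmax_normal hG hM (fcore_normal M) (fcore_ne_bot hG hM)

/-- (8.11) -/
theorem fcore_hall (hG : IsMinSimpleOddOrder G) (hM : IsCoatom M) :
    Nat.Coprime (Nat.card (fittingHallOf M)) (fittingHallOf M).index := by
  have := (t16_core_facts hG hM).2.1.coprime
  rwa [Subgroup.relIndex_top_right] at this

/-- (8.11) -/
theorem typeCore_hall (hG : IsMinSimpleOddOrder G) (hM : IsCoatom M) :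
    Nat.Coprime (Nat.card (typeCore M)) (typeCore M).index := by
  have := (t16_core_facts hG hM).2.2.coprime
  rwa [Subgroup.relIndex_top_right] at this

/-- (8.11) -/
theorem norm_sylow_typeCore (hG : IsMinSimpleOddOrder G) (hM : IsCoatom M) {p : ℕ} (hp : p.Prime)
    {P : Subgroup G} (hP : SylowOf p P (typeCore M)) (hne : P ≠ ⊥) :
    𝐍(P) ≤ M ∧ SylowOf p P ⊤ := by
  have := Fact.mk hp
  refine ⟨(t16_core_facts hG hM).1 p P hp hP hne, ?_⟩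
  exact hP.trans_hall (t16_core_facts hG hM).2.2.hall ⟨hp, hP.ne_bot_iff.1 hne⟩

/-! ### `A₁(M) ⊆ A(M) ⊆ A₀(M)` -/

theorem mem_typeA1 {x : G} : x ∈ typeA1 M ↔ x ∈ typeCore M ∧ x ≠ 1 := BG.mem_typeA1

theorem typeA1_subset_typeA (hG : IsMinSimpleOddOrder G) (hM : IsCoatom M) :
    typeA1 M ⊆ typeA M := by
  intro a ha
  rw [mem_typeA1] at ha
  unfold typeA
  split_ifs with h
  · exact ⟨(typeCore_normal M).le ha.1, ha.2, a, typeCore_of_typeI hG hM h ▸ ha.1, ha.2, rfl⟩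
  · exact ⟨typeCore_le_der hG hM ha.1, ha.2, a, ha.1, ha.2, rfl⟩

theorem typeA1_subset_ftA (hG : IsMinSimpleOddOrder G) (hM : IsCoatom M) :
    typeA1 M ⊆ ftA M := (t16_supp_facts hG hM).2.1

theorem ftA0_subset (M : Subgroup G) : ftA0 M ⊆ (M : Set G) \ {1} := by
  rintro a (ha | ⟨-, W₁, U, W₂, hP, m, hm, w, hw, hw₁, -, rfl⟩)
  · unfold ftA at ha
    split_ifs at ha
    · exact ⟨ha.1, ha.2.1⟩
    · exact ⟨(NormalIn.der M).le ha.1, ha.2.1⟩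
  · refine ⟨M.mul_mem (M.mul_mem hm (sup_le (TypeP.W₁_le hP) (TypeP.W₂_le hP) hw)) (M.inv_mem hm),
      fun h => hw₁ ?_⟩
    have : w = 1 := by simpa [mul_inv_eq_one] using h
    exact this ▸ W₁.one_mem

theorem mem_ftA_of_typeI (h : TypeI M) {a : G} :
    a ∈ ftA M ↔ a ∈ M ∧ a ≠ 1 ∧ ∃ x ∈ fittingHallOf M, x ≠ 1 ∧ a * x = x * a := by
  rw [ftA_of_typeI h]; rfl

theorem conj_mem_typeA1 {x a : G} (hx : x ∈ M) (ha : a ∈ typeA1 M) : x * a * x⁻¹ ∈ typeA1 M :=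
  (BG.conj_mem_typeA1 hx).2 ha

theorem conj_mem_ftA {x a : G} (hx : x ∈ M) (ha : a ∈ ftA M) : x * a * x⁻¹ ∈ ftA M :=
  (BG.conj_mem_ftA hx).2 ha

theorem conj_mem_ftA0 {x a : G} (hx : x ∈ M) (ha : a ∈ ftA0 M) : x * a * x⁻¹ ∈ ftA0 M :=
  (BG.conj_mem_ftA0 hx).2 ha

theorem conj_mem_typeA {x a : G} (hx : x ∈ M) (ha : a ∈ typeA M) : x * a * x⁻¹ ∈ typeA M := by
  have := (mem_typeA_cj (g := x)).2 ha
  rwa [cj_eq_of_mem hx] at this

theorem conj_mem_typeA0 {x a : G} (hx : x ∈ M) (ha : a ∈ typeA0 M) : x * a * x⁻¹ ∈ typeA0 M := by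
  have := (mem_typeA0_cj (g := x)).2 ha
  rwa [cj_eq_of_mem hx] at this

theorem typeA_subset_typeA0 (M : Subgroup G) : typeA M ⊆ typeA0 M := Set.subset_union_left

theorem typeA0_subset (M : Subgroup G) : typeA0 M ⊆ (M : Set G) \ {1} := by
  rintro a (ha | ⟨-, W₁, U, W₂, hP, m, hm, w, hw, hw₁, -, rfl⟩)
  · unfold typeA at ha
    split_ifs at ha
    · exact ⟨ha.1, ha.2.1⟩
    · exact ⟨(NormalIn.der M).le ha.1, ha.2.1⟩
  · refine ⟨M.mul_mem (M.mul_mem hm (sup_le (TypeP.W₁_le hP) (TypeP.W₂_le hP) hw)) (M.inv_mem hm),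
      fun h => hw₁ ?_⟩
    have : w = 1 := by simpa [mul_inv_eq_one] using h
    exact this ▸ W₁.one_mem

theorem typeA0_of_typeI (h : IsOfTypeI M) : typeA0 M = typeA M := by
  ext v; simp [typeA0, h]

theorem mem_typeA_of_typeI (h : IsOfTypeI M) {a : G} :
    a ∈ typeA M ↔ a ∈ M ∧ a ≠ 1 ∧ ∃ x ∈ fittingHallOf M, x ≠ 1 ∧ a * x = x * a := by
  rw [typeA, if_pos h]; rfl

theorem PCtx.mem_typeA (c : PCtx M W₁ U W₂) {a : G} :
    a ∈ typeA M ↔ a ∈ ⁅M, M⁆ ∧ a ≠ 1 ∧ ∃ x ∈ typeCore M, x ≠ 1 ∧ a * x = x * a := by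
  rw [typeA, if_neg c.not_typeI]; rfl

theorem PCtx.typeA_eq_der (c : PCtx M W₁ U W₂) (h : ¬ IsOfTypeII M) :
    typeA M = ((⁅M, M⁆ : Subgroup G) : Set G) \ {1} ∧ typeA1 M = typeA M := by
  have h1 : typeA M = ((⁅M, M⁆ : Subgroup G) : Set G) \ {1} := by
    ext a
    rw [c.mem_typeA, c.typeCore_eq_der h]
    exact ⟨fun h => ⟨h.1, h.2.1⟩, fun h => ⟨h.1, h.2, a, h.1, h.2, rfl⟩⟩
  refine ⟨h1, ?_⟩
  rw [h1, typeA1, c.typeCore_eq_der h]

theorem PCtx.mem_cycV (c : PCtx M W₁ U W₂) {v : G} :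
    v ∈ cycV W₁.subtype W₂.subtype ↔ v ∈ zhat W₁ W₂ := by
  constructor
  · rintro ⟨x, y, hx, hy, rfl⟩
    exact SelfNorm.mul_mem_diff c.hP.selfNormalizing x.2 (fun h => hx (Subtype.ext h)) y.2
      (fun h => hy (Subtype.ext h))
  · rintro ⟨hv, hn⟩
    obtain ⟨a, ha, b, hb, rfl⟩ := (mem_sup_iff_of_norm (le_norm_of_le_cent c.dp_W.cent)).1 hv
    refine ⟨⟨a, ha⟩, ⟨b, hb⟩, fun h => hn (Or.inr ?_), fun h => hn (Or.inl ?_), rfl⟩
    · have : a = 1 := congrArg Subtype.val h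
      simpa [this] using hb
    · have : b = 1 := congrArg Subtype.val h
      simpa [this] using ha

theorem PCtx.cycV_eq (c : PCtx M W₁ U W₂) : cycV W₁.subtype W₂.subtype = zhat W₁ W₂ :=
  Set.ext fun _ => c.mem_cycV

theorem PCtx.cycVConj_eq (c : PCtx M W₁ U W₂) :
    cycVConj W₁.subtype W₂.subtype = classSupport (zhat W₁ W₂) := by
  rw [cycVConj, c.cycV_eq]; rfl

theorem PCtx.mem_image_cycVConj (c : PCtx M W₁ U W₂) {x : G} :
    x ∈ Subtype.val '' cycVConj c.f₁ c.f₂ ↔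
      ∃ m ∈ M, ∃ v ∈ cycV W₁.subtype W₂.subtype, x = m * v * m⁻¹ := by
  constructor
  · rintro ⟨_, ⟨m, _, ⟨a, b, ha, hb, rfl⟩, rfl⟩, rfl⟩
    exact ⟨m, m.2, _, ⟨a, b, ha, hb, rfl⟩, rfl⟩
  · rintro ⟨m, hm, _, ⟨a, b, ha, hb, rfl⟩, rfl⟩
    exact ⟨_, ⟨⟨m, hm⟩, _, ⟨a, b, ha, hb, rfl⟩, rfl⟩, rfl⟩

theorem PCtx.typeA0_eq (c : PCtx M W₁ U W₂) :
    typeA0 M = typeA M ∪ Subtype.val '' cycVConj c.f₁ c.f₂ := by
  rw [typeA0_eq_union c.hP]
  congr 1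
  ext x
  rw [c.mem_image_cycVConj, c.cycV_eq]
  rfl

/-- `F(M)^# ⊆ A(M)` -/
theorem PCtx.fitting_subset_typeA (c : PCtx M W₁ U W₂) :
    (fittingOf M : Set G) \ {1} ⊆ typeA M := by
  rintro a ⟨ha, ha1⟩
  refine c.mem_typeA.2 ⟨c.hP.fitting_le ha, ha1, ?_⟩
  have hne : fittingHallOf M ⊓ 𝐙(fittingOf M) ≠ ⊥ :=
    nil_meet_center (fit_nil M) ⟨fcore_le_fittingOf M, (fit_le M).trans (fcore_normal M).norm⟩
      (fcore_ne_bot c.hG c.hM)
  obtain ⟨x, hx, hx1⟩ := exists_mem_ne_one_of_ne_bot hne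
  exact ⟨x, fcore_le_typeCore c.hG c.hM hx.1, hx1, mem_cent.1 hx.2.2 a ha⟩

theorem frobKer_fcore_iff (hG : IsMinSimpleOddOrder G) (hM : IsCoatom M) :
    FrobKer (fittingHall M) ↔
      ∀ x ∈ fittingHallOf M, x ≠ 1 → M ⊓ 𝐂₁(x) ≤ fittingHallOf M := by
  constructor
  · rintro h _ ⟨x, hx, rfl⟩ hx1 y hy
    have : (⟨y, hy.1⟩ : M) ∈ fittingHall M :=
      h.cent_le x hx (fun h0 => hx1 (by rw [h0]; rfl))
        (mem_cent1.2 (Subtype.ext (mem_cent1.1 hy.2)))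
    exact mem_fcore_iff.2 this
  · intro h
    refine ⟨inferInstance, fun h0 => fcore_ne_bot hG hM (fcore_eq_bot_iff.2 h0), fun h0 => ?_,
      fun k hk hk1 y hy => ?_⟩
    · have h1 := t15_2_chain hG hM
      exact ((h1.2.1.trans h1.2.2.1).trans_lt h1.2.2.2).ne (fcore_eq_self_iff'.2 h0)
    · exact mem_fcore_iff.1 (h k (mem_fcore_iff.2 hk) (fun h0 => hk1 (Subtype.ext h0))
        ⟨y.2, mem_cent1.2 (congrArg Subtype.val (mem_cent1.1 hy))⟩)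

theorem frobKer_fcore_iff_frob (hG : IsMinSimpleOddOrder G) (hM : IsCoatom M) :
    FrobKer (fittingHall M) ↔ ∃ E : Subgroup G, Frob (fittingHallOf M) E M := by
  rw [frobKer_fcore_iff hG hM]
  refine ⟨fun h => ?_, fun ⟨E, hE⟩ x hx hx1 => hE.inf_cent1_le_ker hx hx1⟩
  obtain ⟨E, hE⟩ := exists_sdp_of_isHall (fcore_isHall M) (fcore_normal M).norm
  refine ⟨E, frob_of_cent1_le hE (fcore_ne_bot hG hM) (fun h0 => ?_) h⟩
  have h1 := t15_2_chain hG hM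
  have h2 := hE.sup
  rw [h0, sup_bot_eq] at h2
  exact ((h1.2.1.trans h1.2.2.1).trans_lt h1.2.2.2).ne h2

/-- if `M` is a Frobenius group with kernel `M_F` -/
theorem typeI_of_frob (hG : IsMinSimpleOddOrder G) (hM : IsCoatom M)
    (h : FrobKer (fittingHall M)) : IsOfTypeI M := by
  have h' := (frobKer_fcore_iff hG hM).1 h
  refine isOfTypeI_of_typeI ?_ h'
  by_contra hI
  obtain ⟨W₁, U, W₂, c⟩ := exists_pctxW hG hM hI
  obtain ⟨x, hx, hx1⟩ := exists_mem_ne_one_of_ne_bot c.W₂_ne_bot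
  have h1 : W₁ ≤ fittingHallOf M :=
    (le_inf c.W₁_le ((cent_symm c.dp_W.cent).trans (cent_le_cent1 hx))).trans
      (h' x (c.W₂_le_core hx) hx1)
  apply c.hP.W₁_ne
  rw [eq_bot_iff, ← c.sdp_der.disj]
  exact le_inf (h1.trans c.hP.U_compl.1) le_rfl

theorem typeA_of_frob (hG : IsMinSimpleOddOrder G) (hM : IsCoatom M)
    (h : FrobKer (fittingHall M)) :
    typeA0 M = (fittingHallOf M : Set G) \ {1} ∧ typeA M = (fittingHallOf M : Set G) \ {1} ∧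
      typeA1 M = (fittingHallOf M : Set G) \ {1} := by
  have hI := typeI_of_frob hG hM h
  have h' := (frobKer_fcore_iff hG hM).1 h
  have h1 : typeA M = (fittingHallOf M : Set G) \ {1} := by
    ext a
    rw [mem_typeA_of_typeI hI]
    exact ⟨fun ⟨ha, ha1, x, hx, hx1, hc⟩ => ⟨h' x hx hx1 ⟨ha, mem_cent1.2 hc⟩, ha1⟩,
      fun ⟨ha, ha1⟩ => ⟨fcore_le M ha, ha1, a, ha, ha1, rfl⟩⟩
  refine ⟨by rw [typeA0_of_typeI hI, h1], h1, ?_⟩
  rw [typeA1, typeCore_of_typeI hG hM hI]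

theorem ftA_of_frob (hG : IsMinSimpleOddOrder G) (hM : IsCoatom M)
    (h : FrobKer (fittingHall M)) :
    ftA0 M = (fittingHallOf M : Set G) \ {1} ∧ ftA M = (fittingHallOf M : Set G) \ {1} := by
  have hI := typeI_of_frob hG hM h
  have hi : TypeI M ↔ IsOfTypeI M := ⟨fun _ => hI, typeI_of_isOfTypeI'⟩
  rw [ftA0_eq_typeA0 hi, ftA_eq_typeA hi]
  exact ⟨(typeA_of_frob hG hM h).1, (typeA_of_frob hG hM h).2.1⟩

/-! ### (8.8), (8.9) -/

theorem PCtx.exists_dual (c : PCtx M W₁ U W₂) : ∃ T V : Subgroup G, PCtx T W₂ V W₁ := by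
  obtain ⟨T, V, hp⟩ := t16_pair_ex c.hG c.hM c.hP
  exact ⟨T, V, c.hG, hp.maxT, hp.dataT⟩

theorem PCtx.ftPair {S T V : Subgroup G} (cS : PCtx S W₁ U W₂) (cT : PCtx T W₂ V W₁) :
    FtPair S T W₁ W₂ U V := t16_pair_of cS.hG cS.hM cT.hM cS.hP cT.hP

/-- (8.8) -/
theorem t8_8W (hG : IsMinSimpleOddOrder G) :
    (∀ M : Subgroup G, IsCoatom M → TypeI M) ∨
      ∃ S T W₁ W₂ U V : Subgroup G, PCtx S W₁ U W₂ ∧ PCtx T W₂ V W₁ := by
  rcases t16_I2 hG with h | ⟨S, T, W₁, W₂, U, V, hp⟩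
  · exact Or.inl h
  · exact Or.inr ⟨S, T, W₁, W₂, U, V, ⟨hG, hp.maxS, hp.dataS⟩, ⟨hG, hp.maxT, hp.dataT⟩⟩

theorem PCtx.dual_inf {S T V : Subgroup G} (cS : PCtx S W₁ U W₂) (cT : PCtx T W₂ V W₁) :
    S ⊓ T = W₁ ⊔ W₂ := (cS.ftPair cT).inf_eq

theorem PCtx.dual_typeII {S T V : Subgroup G} (cS : PCtx S W₁ U W₂) (cT : PCtx T W₂ V W₁) :
    IsOfTypeII S ∨ IsOfTypeII T := (cS.ftPair cT).typeII

theorem PCtx.dual_not_conj {S T V : Subgroup G} (cS : PCtx S W₁ U W₂) (cT : PCtx T W₂ V W₁)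
    (g : G) : cj g S ≠ T := ((cS.ftPair cT).not_conj g).symm

/-- every maximal subgroup of type `P` is conjugate to `S` or `T` -/
theorem PCtx.dual_conj {S T V : Subgroup G} (cS : PCtx S W₁ U W₂) (cT : PCtx T W₂ V W₁)
    (hM : IsCoatom M) (h : ¬ TypeI M) : ∃ g : G, M = cj g S ∨ M = cj g T :=
  ((cS.ftPair cT).all M hM).resolve_left h

theorem PPair.not_conj {S T V : Subgroup G} (h : PPair S T W₁ W₂ U V) (g : G) : cj g S ≠ T :=
  h.cS.dual_not_conj h.cT g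

theorem PPair.W₁_le_core {S T V : Subgroup G} (h : PPair S T W₁ W₂ U V) :
    W₁ ≤ fittingHallOf T := h.cT.W₂_le_core

theorem PCtx.cent1_W₂_le (c : PCtx M W₁ U W₂) {x : G} (hx : x ∈ W₂) (hx1 : x ≠ 1) :
    𝐂₁(x) ≤ M := by
  have h := t16_typeP_facts c.hG c.hM c.hP
  exact t14_2c_elt c.hG h.1 h.2.1 (h.2.2.1.symm ▸ hx) hx1

theorem PCtx.uniqMax_cent_W₂ (c : PCtx M W₁ U W₂) {X : Subgroup G} (hX : X ≤ W₂)
    (hp : (Nat.card X).Prime) : UniqMax 𝐂(X) M := by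
  have h := t16_typeP_facts c.hG c.hM c.hP
  exact t14_2c c.hG h.1 h.2.1 (h.2.2.1.symm ▸ hX) hp

end CL.PF
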