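import Cfsg.Agent.PF.T9_6
import Cfsg.Agent.BG.Conj
import Cfsg.Agent.Small.PSL2Rec4

/-! Peterfalvi (9.7).  Owner: helper54. -/

set_option autoImplicit false
set_option linter.unusedSectionVars false

namespace CL.PF

open Cfsg Subgroup BG

section general
variable {L : Type*} [Group L] {H₀ K : Subgroup L} [H₀.Normal]

theorem cj_of_normal (g : L) (N : Subgroup L) [N.Normal] : cj g N = N :=
  cj_eq_of_mem_norm (le_normalizer_of_normal (mem_top g))

theorem mem_centMod_cj {g x : L} : x ∈ centMod (cj g K) H₀ ↔ g⁻¹ * x * g ∈ centMod K H₀ := by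
  simp only [mem_centMod]
  constructor
  · intro h k hk
    have := Normal.conj_mem inferInstance _ (h _ (conj_mem_cj.2 hk)) g⁻¹
    convert this using 1; group
  · intro h k hk
    have := Normal.conj_mem inferInstance _ (h _ (mem_cj.1 hk)) g
    convert this using 1; group

theorem cj_centMod (g : L) : cj g (centMod K H₀) = centMod (cj g K) H₀ := by
  ext x; rw [mem_cj, mem_centMod_cj]

theorem uOf_cj {U : Subgroup L} {g : L} (hg : g ∈ normalizer (U : Set L)) :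
    uOf (cj g K) U H₀ = uOf K U H₀ := by
  have := relIndex_cj g (U ⊓ centMod K H₀) U
  rwa [cj_inf, cj_centMod, cj_eq_of_mem_norm hg] at this

theorem le_centMod_iSup {ι : Sort*} {N : ι → Subgroup L} {x : L}
    (hx : ∀ i, x ∈ centMod (N i) H₀) : x ∈ centMod (⨆ i, N i) H₀ := by
  have : (⨆ i, N i) ≤ centMod (zpowers x) H₀ := iSup_le fun i => le_centMod_iff.2 (by
    rw [commutator_comm]; exact le_centMod_iff.1 (zpowers_le.2 (hx i)))
  refine le_centMod_iff.2 ?_ (mem_zpowers x)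
  rw [commutator_comm]; exact le_centMod_iff.1 this

/-- A subgroup between `H₀` and `K`, where `|K : H₀|` is prime. -/
theorem eq_or_eq_of_relIndex_prime [Finite L] {A B N : Subgroup L} (hp : (A.relIndex B).Prime)
    (h1 : A ≤ N) (h2 : N ≤ B) : N = A ∨ N = B := by
  have := relIndex_mul_relIndex A N B h1 h2
  rcases (Nat.dvd_prime hp).1 ⟨_, this.symm⟩ with h | h
  · exact Or.inl (le_antisymm (relIndex_eq_one.1 h) h1)
  · rw [← h] at this
    refine Or.inr (le_antisymm h2 (relIndex_eq_one.1 ?_))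
    exact Nat.eq_of_mul_eq_mul_left (h ▸ hp.pos) (this.trans (mul_one _).symm)

/-- The action of `U` on a section of prime order. -/
theorem exists_hom_of_relIndex_prime [Finite L] {U : Subgroup L} {p : ℕ} (hp : p.Prime)
    (hK : H₀.relIndex K = p) (hU : U ≤ normalizer (K : Set L)) :
    ∃ χ : U →* (ZMod p)ˣ, ∀ u : U, χ u = 1 ↔ (u : L) ∈ centMod K H₀ := by
  have := Fact.mk hp
  set π := QuotientGroup.mk' H₀
  have hc : Nat.card (K.map π) = p := by rw [card_map_mk'_eq, hK]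
  have := isCyclic_of_prime_card hc
  subst hc
  let φ : U →* normalizer (K.map π : Set (L ⧸ H₀)) :=
    (π.comp U.subtype).codRestrict _ fun u => le_normalizer_map π ⟨u, hU u.2, rfl⟩
  refine ⟨(IsCyclic.mulAutMulEquiv (K.map π)).toMonoidHom.comp
    ((K.map π).normalizerMonoidHom.comp φ), fun u => ?_⟩
  rw [MonoidHom.comp_apply, MulEquiv.coe_toMonoidHom, MulEquiv.map_eq_one_iff,
    MonoidHom.comp_apply, ← MonoidHom.mem_ker, normalizerMonoidHom_ker]
  rfl

end general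

variable {M X₁ X₂ : Type*} [Group M] [Finite M] [Group X₁] [Group X₂] [Finite X₁] [Finite X₂]
  {H U H₀ : Subgroup M} [H₀.Normal] {f₁ : X₁ →* M} {f₂ : X₂ →* M}

theorem Hyp95.H_le_normalizer (h : Hyp95 H U H₀ f₁ f₂) {N : Subgroup M} (h0 : H₀ ≤ N)
    (h1 : N ≤ H) : H ≤ normalizer (N : Set M) :=
  le_normalizer_of_commutator_le ((commutator_mono le_rfl h1).trans (h.der_H_le.trans h0))

theorem Hyp92.f₁_mem_norm (h : Hyp92 H U f₁ f₂) (x : X₁) : f₁ x ∈ normalizer (U : Set M) :=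
  h.W₁_norm ⟨x, rfl⟩

theorem Hyp92.norm_cj (h : Hyp92 H U f₁ f₂) {N : Subgroup M} (hN : U ≤ normalizer (N : Set M))
    (x : X₁) : U ≤ normalizer (cj (f₁ x) N : Set M) := by
  rw [← cj_norm, ← cj_eq_of_mem_norm (h.f₁_mem_norm x)]
  exact cj_mono _ hN

theorem Hyp92.cj_le_H (h : Hyp92 H U f₁ f₂) {N : Subgroup M} (hN : N ≤ H) (g : M) :
    cj g N ≤ H := by
  have := h.H_normal
  rw [← cj_of_normal g H]; exact cj_mono _ hN

theorem le_cj_of_normal {N : Subgroup M} (hN : H₀ ≤ N) (g : M) : H₀ ≤ cj g N := by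
  rw [← cj_of_normal g H₀]; exact cj_mono _ hN

theorem relIndex_cj_of_normal (N : Subgroup M) (g : M) :
    H₀.relIndex (cj g N) = H₀.relIndex N := by
  conv_lhs => rw [← cj_of_normal g H₀, relIndex_cj]

/-- The `W₁`-conjugates of a `U`-invariant section generate `H / H₀`. -/
theorem Hyp95.iSup_cj_eq (h : Hyp95 H U H₀ f₁ f₂) {N : Subgroup M} (h0 : H₀ < N) (h1 : N ≤ H)
    (hN : U ≤ normalizer (N : Set M)) : ⨆ x : X₁, cj (f₁ x) N = H := by
  have hle : ⨆ x : X₁, cj (f₁ x) N ≤ H := iSup_le fun x => h.cj_le_H h1 _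
  have hge : N ≤ ⨆ x : X₁, cj (f₁ x) N := le_iSup_of_le 1 (by rw [map_one, cj_one])
  have hn : (⨆ x : X₁, cj (f₁ x) N).Normal := by
    refine h.normal_of_le (h.H_le_normalizer (h0.le.trans hge) hle)
      (sup_le (norms_iSup fun x => h.norm_cj hN x) ?_)
    rintro _ ⟨y, rfl⟩
    refine mem_norm_of_cj_le ?_
    rw [cj_def, Subgroup.map_iSup]
    refine iSup_le fun x => le_iSup_of_le (y * x) ?_
    rw [← cj_def, cj_cj, map_mul]
  exact (h.chief _ hn (h0.le.trans hge) hle).resolve_left fun e => h0.not_ge (e ▸ hge)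

theorem Hyp92.exists_eq_commutator (h : Hyp92 H U f₁ f₂) {w : X₁} (hw : w ≠ 1) {u : M}
    (hu : u ∈ U) : ∃ v ∈ U, u = (f₁ w)⁻¹ * v * f₁ w * v⁻¹ := by
  let F : U → U := fun v => ⟨(f₁ w)⁻¹ * v * f₁ w * (v : M)⁻¹,
    mul_mem (h.conj_inv_mem_U w v.2) (inv_mem v.2)⟩
  have hF : Function.Injective F := by
    intro v v' e
    have e' : (f₁ w)⁻¹ * v * f₁ w * (v : M)⁻¹ = (f₁ w)⁻¹ * v' * f₁ w * (v' : M)⁻¹ :=
      congrArg Subtype.val e
    have := h.fpf (x := f₁ w) ⟨w, rfl⟩ (fun e => hw (h.primeTI.inj₁ (by rw [e, map_one])))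
      (mul_mem (inv_mem v'.2) v.2) (by
        calc f₁ w * ((v' : M)⁻¹ * v)
            = (v' : M)⁻¹ * f₁ w * ((f₁ w)⁻¹ * v' * f₁ w * (v' : M)⁻¹) * v := by group
          _ = (v' : M)⁻¹ * v * f₁ w := by rw [← e']; group)
    exact Subtype.ext (inv_mul_eq_one.1 this).symm
  obtain ⟨v, hv⟩ := Finite.injective_iff_surjective.1 hF ⟨u, hu⟩
  exact ⟨v, v.2, (congrArg Subtype.val hv).symm⟩

/-- The data of (9.7.a), from a `U`-invariant section of order `p`. -/
theorem Hyp95.nonGalois9_of (h : Hyp95 H U H₀ f₁ f₂) {N : Subgroup M} (h0 : H₀ ≤ N) (h1 : N ≤ H)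
    (hc : H₀.relIndex N = pOf H H₀) (hN : U ≤ normalizer (N : Set M)) :
    NonGalois9 H U H₀ f₁ N := by
  classical
  have hp := h.p_prime
  have h0' : ¬ N ≤ H₀ := fun e => hp.one_lt.ne' (hc ▸ relIndex_eq_one.2 e)
  have hgen := h.iSup_cj_eq (lt_of_le_not_ge h0 h0') h1 hN
  obtain ⟨χ, hχ⟩ := exists_hom_of_relIndex_prime hp hc hN
  have hker : χ.ker = (cOf N U H₀).subgroupOf U := by
    ext u; simp [MonoidHom.mem_ker, hχ, mem_subgroupOf]
  have ha : uOf N U H₀ = Nat.card χ.range := by rw [← index_ker, hker]; rfl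
  have := Fact.mk hp
  refine ⟨h0, h1, hc, hN, hgen, ?_, ?_, ?_⟩
  · have h2 : uOf N U H₀ ≠ 1 := fun e =>
      h.not_U_le_centMod h1 h0' ((relIndex_eq_one.1 e).trans inf_le_right)
    have h3 : 0 < uOf N U H₀ := ha ▸ Nat.card_pos
    omega
  · rw [ha]
    simpa [Nat.totient_prime hp] using card_subgroup_dvd_card χ.range
  · let c : X₁ → U →* U := fun x =>
      { toFun := fun u => ⟨(f₁ x)⁻¹ * u * f₁ x, h.conj_inv_mem_U x u.2⟩
        map_one' := by ext; simp
        map_mul' := fun u v => by ext; simp [mul_assoc] }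
    let Ψ : U →* ({x : X₁ // x ≠ 1} → χ.range) :=
      Pi.monoidHom fun x => χ.rangeRestrict.comp (c x)
    have := Fintype.ofFinite X₁
    have hnorm : ∀ u : U, ∏ x, χ (c x u) = 1 := by
      intro u
      have := Finite.one_lt_card_iff_nontrivial.1 h.prime.one_lt
      obtain ⟨w, hw⟩ := exists_ne (1 : X₁)
      obtain ⟨v, hv, e⟩ := h.exists_eq_commutator hw u.2
      have e1 : ∀ x, c x u = c (w * x) ⟨v, hv⟩ * (c x ⟨v, hv⟩)⁻¹ := fun x => by
        ext; simp [c, e, mul_assoc]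
      simp only [e1, map_mul, map_inv, Finset.prod_mul_distrib, Finset.prod_inv_distrib]
      rw [Fintype.prod_equiv (Equiv.mulLeft w) (fun x => χ (c (w * x) ⟨v, hv⟩))
        (fun x => χ (c x ⟨v, hv⟩)) (fun _ => rfl), mul_inv_cancel]
    have hΨ : Ψ.ker = (cOf H U H₀).subgroupOf U := by
      ext u
      rw [MonoidHom.mem_ker, mem_subgroupOf, funext_iff]
      have e1 : ∀ x : {x : X₁ // x ≠ 1}, Ψ u x = (1 : {x : X₁ // x ≠ 1} → χ.range) x ↔
          χ (c x u) = 1 := fun x => Subtype.ext_iff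
      simp only [e1]
      constructor
      · intro hu
        have h2 : ∀ x, χ (c x u) = 1 := by
          intro x
          by_cases hx : x = 1
          · have := hnorm u
            rwa [Finset.prod_eq_single 1 (fun y _ hy => hu ⟨y, hy⟩) (by simp), ← hx] at this
          · exact hu ⟨x, hx⟩
        refine ⟨u.2, ?_⟩
        rw [← hgen]
        exact le_centMod_iSup fun x => mem_centMod_cj.2 ((hχ _).1 (h2 x))
      · intro hu x
        exact (hχ _).2 (mem_centMod_cj.1 (centMod_anti (h.cj_le_H h1 _) hu.2))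
    have : uOf H U H₀ = Nat.card Ψ.range := by rw [← index_ker, hΨ]; rfl
    rw [this, ha]
    convert card_subgroup_dvd_card Ψ.range using 1
    rw [Nat.card_fun]
    congr 1
    simp [Nat.card_eq_fintype_card]

/-- (9.7.a) -/
theorem Hyp95.t9_7a (h : Hyp95 H U H₀ f₁ f₂) (hG : ¬ IsGalois9 H U H₀) :
    ∃ H₁ : Subgroup M, NonGalois9 H U H₀ f₁ H₁ := by
  classical
  obtain ⟨N', hN'⟩ := not_forall.1 hG
  simp only [not_forall, not_or] at hN'
  obtain ⟨h0', h1', hU', hne0, hne1⟩ := hN'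
  obtain ⟨N, ⟨hN0, hN1, hNU⟩, hmin⟩ := exists_minimal_of_wellFoundedLT
    (fun N : Subgroup M => H₀ < N ∧ N ≤ N' ∧ U ≤ normalizer (N : Set M))
    ⟨N', lt_of_le_of_ne h0' (Ne.symm hne0), le_rfl, hU'⟩
  have hNH := hN1.trans h1'
  have hmin' : ∀ (x : X₁) (K : Subgroup M), H₀ ≤ K → U ≤ normalizer (K : Set M) →
      K ⊓ cj (f₁ x) N = H₀ ∨ cj (f₁ x) N ≤ K := by
    intro x K hK hKU
    by_cases e : K ⊓ cj (f₁ x) N ≤ H₀
    · exact Or.inl (le_antisymm e (le_inf hK (le_cj_of_normal hN0.le _)))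
    · right
      have h2 : cj (f₁ x⁻¹) K ⊓ N ≤ N := inf_le_right
      have h3 := hmin ⟨lt_of_le_not_ge (le_inf (le_cj_of_normal hK _) hN0.le) fun e' => e (by
        have := cj_mono (f₁ x) e'
        rwa [cj_inf, cj_cj, ← map_mul, mul_inv_cancel, map_one, cj_one,
          cj_of_normal _ H₀] at this),
        h2.trans hN1, le_normalizer_inf (h.norm_cj hKU _) hNU⟩ h2
      have := cj_mono (f₁ x) (h3.trans inf_le_left)
      rwa [cj_cj, ← map_mul, mul_inv_cancel, map_one, cj_one] at this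
  have key : ∀ s : Finset X₁, ∃ k : ℕ,
      H₀.relIndex (H₀ ⊔ ⨆ x ∈ s, cj (f₁ x) N) = H₀.relIndex N ^ k := by
    intro s
    induction s using Finset.induction_on with
    | empty => exact ⟨0, by simp⟩
    | insert x s hx ih =>
      obtain ⟨k, hk⟩ := ih
      rw [Finset.iSup_insert, sup_left_comm, sup_comm]
      set K := H₀ ⊔ ⨆ x ∈ s, cj (f₁ x) N
      have hKH : K ≤ H := sup_le h.H₀_le (iSup₂_le fun y _ => h.cj_le_H hNH _)
      rcases hmin' x K le_sup_left (le_normalizer_sup le_normalizer_of_normal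
        (norms_iSup fun y => norms_iSup fun _ => h.norm_cj hNU y)) with e | e
      · refine ⟨k + 1, ?_⟩
        have h2 := BG.card_sup_mul_card_inf ((h.cj_le_H hNH (f₁ x)).trans
          (h.H_le_normalizer le_sup_left hKH))
        rw [e, card_eq_card_mul_relIndex (le_sup_left.trans le_sup_left : H₀ ≤ K ⊔ _),
          card_eq_card_mul_relIndex (le_sup_left : H₀ ≤ K), hk,
          card_eq_card_mul_relIndex (le_cj_of_normal hN0.le (f₁ x)), relIndex_cj_of_normal] at h2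
        refine Nat.eq_of_mul_eq_mul_left (Nat.mul_pos (Nat.card_pos (α := H₀))
          (Nat.card_pos (α := H₀))) ?_
        linear_combination h2
      · exact ⟨k, by rwa [sup_eq_left.2 e]⟩
  have := Fintype.ofFinite X₁
  obtain ⟨k, hk⟩ := key Finset.univ
  simp only [Finset.mem_univ, iSup_pos] at hk
  rw [h.iSup_cj_eq hN0 hNH hNU, sup_eq_right.2 h.H₀_le, h.relIndex_H] at hk
  have hmul := relIndex_mul_relIndex H₀ N H hN0.le hNH
  rw [h.relIndex_H] at hmul
  obtain ⟨d, -, hd⟩ := (Nat.dvd_prime_pow h.p_prime).1 ⟨_, hmul.symm⟩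
  rw [hd, ← pow_mul] at hk
  have hq := Nat.pow_right_injective h.p_prime.two_le hk
  rcases (Nat.dvd_prime h.prime).1 ⟨k, hq⟩ with e | e
  · exact ⟨N, h.nonGalois9_of hN0.le hNH (by rw [hd, e, pow_one]) hNU⟩
  · rw [hd, e] at hmul
    have : N.relIndex H = 1 := Nat.eq_of_mul_eq_mul_left (pow_pos h.p_prime.pos _)
      (hmul.trans (mul_one _).symm)
    exact absurd (le_antisymm h1' ((relIndex_eq_one.1 this).trans hN1)) hne1

theorem NonGalois9.a_dvd_u (h : Hyp95 H U H₀ f₁ f₂) {H₁ : Subgroup M}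
    (h₁ : NonGalois9 H U H₀ f₁ H₁) :
    uOf H₁ U H₀ ∣ uOf H U H₀ ∧ Odd (uOf H₁ U H₀) ∧ uOf H₁ U H₀ ∣ (pOf H H₀ - 1) / 2 := by
  have h1 : uOf H₁ U H₀ ∣ uOf H U H₀ :=
    relIndex_dvd_of_le_left _ (inf_le_inf_left _ (centMod_anti h₁.le))
  have h2 := Odd.of_dvd_nat h.uOf_facts.2.1 h1
  refine ⟨h1, h2, ?_⟩
  obtain ⟨k, hk⟩ := h.p_odd.1
  have h3 := h₁.dvd
  rw [hk, Nat.add_sub_cancel] at h3 ⊢
  rw [Nat.mul_div_cancel_left _ two_pos]
  exact (Nat.coprime_two_right.2 h2).dvd_of_dvd_mul_left h3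

theorem NonGalois9.not_isGalois9 (h : Hyp95 H U H₀ f₁ f₂) {H₁ : Subgroup M}
    (h₁ : NonGalois9 H U H₀ f₁ H₁) : ¬ IsGalois9 H U H₀ := fun hG => by
  have h2 := h₁.card
  rcases hG H₁ h₁.le₀ h₁.le h₁.norm with e | e
  · rw [e, relIndex_self] at h2
    exact h.p_prime.one_lt.ne h2
  · rw [e, h.relIndex_H] at h2
    have := Nat.pow_right_injective h.p_prime.two_le (h2.trans (pow_one _).symm)
    exact h.prime.one_lt.ne' this

/-- (9.7.b), the field structure -/
theorem Hyp95.t9_7b (h : Hyp95 H U H₀ f₁ f₂) (hG : IsGalois9 H U H₀) :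
    ∃ (F : Type) (_ : Field F) (_ : Fintype F) (f ψ : M → F),
      Fintype.card F = pOf H H₀ ^ Nat.card X₁ ∧
      (∀ x ∈ H, ∀ y ∈ H, f (x * y) = f x + f y) ∧ (∀ x ∈ H, f x = 0 ↔ x ∈ H₀) ∧
      (∀ a, ∃ x ∈ H, f x = a) ∧
      (∀ u ∈ U, ψ u ≠ 0 ∧ ∀ x ∈ H, f (u * x * u⁻¹) = ψ u * f x) ∧
      (∀ u ∈ U, ∀ v ∈ U, ψ (u * v) = ψ u * ψ v) ∧ (∀ u ∈ U, ψ u = 1 ↔ u ∈ cOf H U H₀) ∧
      (∀ x ∈ H, x ∈ f₂.range ⊔ H₀ ↔ f x ^ pOf H H₀ = f x) := by
  classical
  have := h.H_normal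
  have := Fact.mk h.p_prime
  set π := QuotientGroup.mk' H₀ with hπ
  have hπ1 : ∀ x, π x = 1 ↔ x ∈ H₀ := fun x => QuotientGroup.eq_one_iff x
  have hπe : ∀ x y, x * y⁻¹ ∈ H₀ → π x = π y := fun x y e => by
    rw [← mul_inv_eq_one, ← map_inv, ← map_mul, hπ1]; exact e
  obtain ⟨F, _, _, e, hcard, hadd, hinj, hmem, hsurj, hact⟩ :=
    PSL2Rec.exists_field_of_irreducible_subgroup (H.map π)
      (fun e => h.H₀_lt.not_ge (by
        simpa [hπ] using (Subgroup.map_eq_bot_iff _).1 e))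
      (by
        rintro _ ⟨x, hx, rfl⟩ _ ⟨y, hy, rfl⟩
        rw [← map_mul, ← map_mul]
        exact hπe _ _ (by simpa [mul_assoc] using mem_centMod.1 (h.H_le_centMod hx) y hy))
      (U.map π)
      (by
        rintro _ ⟨u, hu, rfl⟩ _ ⟨x, hx, rfl⟩
        exact ⟨_, Normal.conj_mem inferInstance x hx u, by simp⟩)
      (by
        rintro _ ⟨u, hu, rfl⟩ _ ⟨v, hv, rfl⟩ _ ⟨x, hx, rfl⟩
        simp only [← map_mul, ← map_inv]
        refine hπe _ _ ?_
        have := mem_centMod.1 (h.der_le_cOf (commutator_mem_commutator hu hv)).2 _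
          (Normal.conj_mem inferInstance x hx (v * u))
        convert this using 1
        rw [commutatorElement_def]; group)
      (by
        intro W hW hWU
        have h1 : W.comap π ≤ H := fun x hx => by
          obtain ⟨y, hy, e⟩ := hW hx
          have : x * y⁻¹ ∈ H₀ := by rw [← hπ1, map_mul, map_inv, e, mul_inv_cancel]
          simpa using mul_mem (h.H₀_le this) hy
        have h2 : U ≤ normalizer (W.comap π : Set M) := fun u hu =>
          mem_norm_of_cj_le (cj_le_iff.2 fun x hx => by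
            simpa using hWU _ ⟨u, hu, rfl⟩ _ hx)
        rcases hG _ (fun x hx => by rw [mem_comap, (hπ1 x).2 hx]; exact one_mem _) h1 h2
          with e | e
        · left
          rw [← map_comap_eq_self_of_surjective (QuotientGroup.mk'_surjective H₀) W, e]
          exact (Subgroup.map_eq_bot_iff _).2 (QuotientGroup.ker_mk' H₀).ge
        · right
          rw [← map_comap_eq_self_of_surjective (QuotientGroup.mk'_surjective H₀) W, e])
  rw [card_map_mk'_eq, h.relIndex_H] at hcard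
  have := charP_of_card_eq_prime_pow hcard
  have he0 : e 0 = 1 := by
    have := hadd 0 0
    rw [add_zero] at this
    exact left_eq_mul.1 this
  let g : M → F := fun x => Function.invFun e (π x)
  have hg : ∀ x ∈ H, e (g x) = π x := fun x hx =>
    Function.invFun_eq (hsurj _ ⟨x, hx, rfl⟩)
  have hgadd : ∀ x ∈ H, ∀ y ∈ H, g (x * y) = g x + g y := fun x hx y hy => hinj (by
    rw [hadd, hg _ (mul_mem hx hy), hg _ hx, hg _ hy, map_mul])
  have hg0 : ∀ x ∈ H, g x = 0 ↔ x ∈ H₀ := fun x hx => by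
    rw [← hinj.eq_iff, hg _ hx, he0, hπ1]
  choose! ψ hψ using hact
  have hgψ : ∀ u ∈ U, ∀ x ∈ H, g (u * x * u⁻¹) = ψ (π u) * g x := fun u hu x hx => hinj (by
    rw [hg _ (Normal.conj_mem inferInstance x hx u), ← hψ _ ⟨u, hu, rfl⟩, hg _ hx]; simp)
  obtain ⟨s, hs, hs0⟩ : ∃ s ∈ f₂.range, s ∉ H₀ := by
    by_contra! hh
    exact h.p_prime.one_lt.ne' (h.relIndex_W₂ ▸ relIndex_eq_one.2 hh)
  have hsH := h.W₂_le hs
  have hgs : g s ≠ 0 := fun e => hs0 ((hg0 s hsH).1 e)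
  let φ : H →* Multiplicative F :=
    { toFun := fun x => Multiplicative.ofAdd (g x / g s)
      map_one' := by rw [OneMemClass.coe_one, (hg0 1 (one_mem _)).2 (one_mem _)]; simp
      map_mul' := fun x y => by rw [coe_mul, hgadd _ x.2 _ y.2, add_div, ofAdd_add] }
  have hzpow : ∀ (n : ℤ), g (s ^ n) / g s = n := fun n => by
    have := map_zpow φ ⟨s, hsH⟩ n
    simpa [φ, div_self hgs, ← ofAdd_zsmul] using this
  have hψ0 : ∀ u ∈ U, ψ (π u) ≠ 0 := fun u hu e => by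
    have h1 := hgψ u hu s hsH
    rw [e, zero_mul, hg0 _ (Normal.conj_mem inferInstance s hsH u)] at h1
    exact hs0 (by simpa [mul_assoc] using Normal.conj_mem inferInstance _ h1 u⁻¹)
  have hinv : ∀ x ∈ H, ∀ y ∈ H, x * y⁻¹ ∈ H₀ ↔ g x = g y := fun x hx y hy => by
    have h1 := hgadd _ (mul_mem hx (inv_mem hy)) y hy
    rw [inv_mul_cancel_right] at h1
    rw [← hg0 _ (mul_mem hx (inv_mem hy)), h1, add_eq_right]
  refine ⟨F, inferInstance, inferInstance, fun x => g x / g s, fun u => ψ (π u), hcard,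
    fun x hx y hy => by simp only [hgadd x hx y hy, add_div],
    fun x hx => by simp [hgs, hg0 x hx], fun a => ?_,
    fun u hu => ⟨hψ0 u hu, fun x hx => by simp only [hgψ u hu x hx, mul_div_assoc]⟩,
    fun u hu v hv => ?_, fun u hu => ?_, fun x hx => ?_⟩
  · obtain ⟨x, hx, e1⟩ := hmem (a * g s)
    refine ⟨x, hx, ?_⟩
    have : g x = a * g s := hinj (by rw [hg _ hx, e1])
    simp only [this, mul_div_cancel_right₀ _ hgs]
  · have h1 := hgψ _ (mul_mem hu hv) s hsH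
    have h2 := hgψ u hu _ (Normal.conj_mem inferInstance s hsH v)
    rw [hgψ v hv s hsH, show u * (v * s * v⁻¹) * u⁻¹ = u * v * s * (u * v)⁻¹ by group, h1,
      ← mul_assoc] at h2
    exact mul_right_cancel₀ hgs h2
  · constructor
    · intro e1
      refine ⟨hu, mem_centMod.2 fun x hx => ?_⟩
      rw [hinv _ (Normal.conj_mem inferInstance x hx u) _ hx, hgψ u hu x hx]
      simp only at e1
      rw [e1, one_mul]
    · intro e1
      have := mem_centMod.1 e1.2 s hsH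
      rw [hinv _ (Normal.conj_mem inferInstance s hsH u) _ hsH, hgψ u hu s hsH] at this
      exact mul_left_eq_self₀.1 this |>.resolve_right hgs
  · rw [← Subfield.mem_bot_iff_pow_eq_self, mem_bot_iff_intCast (pOf H H₀)]
    have hW : f₂.range ⊔ H₀ = zpowers s ⊔ H₀ := by
      refine ((eq_or_eq_of_relIndex_prime (A := H₀) (B := f₂.range ⊔ H₀)
        (by rw [relIndex_sup_right, h.relIndex_W₂]; exact h.p_prime) le_sup_right
        (sup_le_sup_right (zpowers_le.2 hs) _)).resolve_left fun e => hs0 ?_).symm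
      exact e ▸ mem_sup_left (mem_zpowers s)
    rw [hW, sup_comm, mem_sup_iff_of_normal]
    constructor
    · rintro ⟨a, ha, _, ⟨n, rfl⟩, rfl⟩
      refine ⟨n, ?_⟩
      simp only
      rw [hgadd a (h.H₀_le ha) _ (zpow_mem hsH n), (hg0 a (h.H₀_le ha)).2 ha, zero_add, hzpow]
    · rintro ⟨n, hn⟩
      refine ⟨x * (s ^ n)⁻¹, ?_, s ^ n, ⟨n, rfl⟩, by group⟩
      rw [hinv x hx _ (zpow_mem hsH n), ← div_left_inj' hgs, hzpow]
      exact hn.symm

/-- (9.7.b), the numerical consequences; `U / C` is cyclic and acts semiregularly on `H / H₀` -/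
theorem Hyp95.t9_7b' (h : Hyp95 H U H₀ f₁ f₂) (hG : IsGalois9 H U H₀) :
    (∃ g ∈ U, Subgroup.zpowers g ⊔ cOf H U H₀ = U) ∧
      Nat.Coprime (uOf H U H₀) (pOf H H₀ - 1) ∧
      uOf H U H₀ ∣ (pOf H H₀ ^ Nat.card X₁ - 1) / (pOf H H₀ - 1) ∧
      ∀ u ∈ U, u ∉ cOf H U H₀ → ∀ x ∈ H, u * x * u⁻¹ * x⁻¹ ∈ H₀ → x ∈ H₀ := by
  classical
  have := h.H_normal
  have := Fact.mk h.p_prime
  obtain ⟨F, _, _, f, ψ, hcard, hadd, h0, hsurj, hact, hmul, hone, -⟩ := h.t9_7b hG
  have := charP_of_card_eq_prime_pow hcard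
  have hinv : ∀ x ∈ H, ∀ y ∈ H, x * y⁻¹ ∈ H₀ ↔ f x = f y := fun x hx y hy => by
    have h1 := hadd _ (mul_mem hx (inv_mem hy)) y hy
    rw [inv_mul_cancel_right] at h1
    rw [← h0 _ (mul_mem hx (inv_mem hy)), h1, add_eq_right]
  let Ψ : U →* Fˣ :=
    { toFun := fun u => Units.mk0 (ψ u) (hact u u.2).1
      map_one' := Units.ext ((hone 1 (one_mem _)).2 (one_mem _))
      map_mul' := fun u v => Units.ext (hmul u u.2 v v.2) }
  have hker : Ψ.ker = (cOf H U H₀).subgroupOf U := by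
    ext u
    rw [MonoidHom.mem_ker, mem_subgroupOf, ← hone u u.2, Units.ext_iff]; rfl
  have hu : uOf H U H₀ = Nat.card Ψ.range := by rw [← index_ker, hker]; rfl
  let φ : H →* Multiplicative F :=
    { toFun := fun x => Multiplicative.ofAdd (f x)
      map_one' := by rw [OneMemClass.coe_one, (h0 1 (one_mem _)).2 (one_mem _)]; simp
      map_mul' := fun x y => by rw [coe_mul, hadd _ x.2 _ y.2, ofAdd_add] }
  have hzpow : ∀ x ∈ H, ∀ (n : ℤ), f (x ^ n) = n * f x := fun x hx n => by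
    have := map_zpow φ ⟨x, hx⟩ n
    simpa [φ, ← ofAdd_zsmul] using this
  have hprime : ∀ u ∈ U, ψ u ^ pOf H H₀ = ψ u → u ∈ cOf H U H₀ := by
    intro u hu e
    rw [← Subfield.mem_bot_iff_pow_eq_self, mem_bot_iff_intCast (pOf H H₀)] at e
    obtain ⟨n, hn⟩ := e
    have h1 : ∀ x ∈ H, u * x * u⁻¹ * (x ^ n)⁻¹ ∈ H₀ := fun x hx => by
      rw [hinv _ (Normal.conj_mem inferInstance x hx u) _ (zpow_mem hx n), (hact u hu).2 x hx,
        hzpow x hx, hn]
    refine h.mem_cOf_of_fixed hu fun w => ?_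
    have hw := h.conj_mem_U w hu
    obtain ⟨x, hx, hx1⟩ := hsurj 1
    have h2 := Normal.conj_mem inferInstance _ (h1 _ (Normal.conj_mem' inferInstance x hx (f₁ w)))
      (f₁ w)
    have h3 : f₁ w * (u * ((f₁ w)⁻¹ * x * f₁ w) * u⁻¹ * (((f₁ w)⁻¹ * x * f₁ w) ^ n)⁻¹) * (f₁ w)⁻¹ =
        (f₁ w * u * (f₁ w)⁻¹) * x * (f₁ w * u * (f₁ w)⁻¹)⁻¹ * (x ^ n)⁻¹ := by
      have := conj_zpow (i := n) (a := (f₁ w)⁻¹) (b := x)
      rw [inv_inv] at this
      rw [this]; group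
    rw [h3, hinv _ (Normal.conj_mem inferInstance x hx _) _ (zpow_mem hx n), (hact _ hw).2 x hx,
      hzpow x hx, hn, hx1, mul_one, mul_one] at h2
    have h4 := hmul _ (mul_mem hw (inv_mem hu)) u hu
    rw [inv_mul_cancel_right, h2] at h4
    exact (hone _ (mul_mem hw (inv_mem hu))).1
      ((mul_left_eq_self₀.1 h4.symm).resolve_right (hact u hu).1)
  have hcop : Nat.Coprime (uOf H U H₀) (pOf H H₀ - 1) := by
    refine Nat.coprime_of_dvd fun r hr h1 h2 => ?_
    have := Fact.mk hr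
    obtain ⟨⟨_, u, rfl⟩, hy⟩ := exists_prime_orderOf_dvd_card' (G := Ψ.range) r (hu ▸ h1)
    have h3 : Ψ u ^ (pOf H H₀ - 1) = 1 := by
      rw [← hy, orderOf_dvd_iff_pow_eq_one] at h2
      exact congrArg Subtype.val h2
    have h4 : ψ u ^ pOf H H₀ = ψ u := by
      have h5 : ψ u ^ (pOf H H₀ - 1) = 1 := by simpa [Ψ, Units.ext_iff] using h3
      rw [← Nat.sub_add_cancel h.p_prime.one_le, pow_succ, h5, one_mul]
    have h6 : Ψ u = 1 := Units.ext ((hone u u.2).2 (hprime u u.2 h4))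
    have : (⟨Ψ u, u, rfl⟩ : Ψ.range) = 1 := Subtype.ext h6
    rw [this, orderOf_one] at hy
    exact hr.one_lt.ne hy
  refine ⟨?_, hcop, ?_, fun u hu huC x hx e => ?_⟩
  · obtain ⟨⟨_, g, rfl⟩, hg⟩ := IsCyclic.exists_generator (α := Ψ.range)
    refine ⟨g, g.2, le_antisymm (sup_le (zpowers_le.2 g.2) inf_le_left) fun v hv => ?_⟩
    obtain ⟨n, hn⟩ := hg ⟨Ψ ⟨v, hv⟩, _, rfl⟩
    have h1 : Ψ g ^ n = Ψ ⟨v, hv⟩ := congrArg Subtype.val hn
    have h2 : (g ^ n)⁻¹ * ⟨v, hv⟩ ∈ Ψ.ker := by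
      rw [MonoidHom.mem_ker, map_mul, map_inv, map_zpow, h1, inv_mul_cancel]
    rw [hker, mem_subgroupOf] at h2
    have : v = (g : M) ^ n * (((g : M) ^ n)⁻¹ * v) := by group
    rw [this]
    exact mul_mem (mem_sup_left ⟨n, rfl⟩) (mem_sup_right (by simpa using h2))
  · have h1 : uOf H U H₀ ∣ pOf H H₀ ^ Nat.card X₁ - 1 := by
      rw [hu, ← hcard, ← Fintype.card_units, ← Nat.card_eq_fintype_card]
      exact card_subgroup_dvd_card _
    have h2 : pOf H H₀ - 1 ∣ pOf H H₀ ^ Nat.card X₁ - 1 := Nat.sub_one_dvd_pow_sub_one _ _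
    rw [← Nat.mul_div_cancel' h2] at h1
    exact hcop.dvd_of_dvd_mul_left h1
  · rw [hinv _ (Normal.conj_mem inferInstance x hx u) _ hx, (hact u hu).2 x hx] at e
    exact (h0 x hx).1 ((mul_left_eq_self₀.1 e).resolve_left fun e => huC ((hone u hu).1 e))

/-- (13.2.c), both cases of (9.7) -/
theorem Hyp95.uOf_le (h : Hyp95 H U H₀ f₁ f₂) :
    uOf H U H₀ ≤ (pOf H H₀ ^ Nat.card X₁ - 1) / (pOf H H₀ - 1) := by
  have hp := h.three_le_p
  have hq := h.three_le_q
  have h1 : pOf H H₀ ^ (Nat.card X₁ - 1) ≤ (pOf H H₀ ^ Nat.card X₁ - 1) / (pOf H H₀ - 1) := by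
    rw [Nat.le_div_iff_mul_le (by omega), Nat.mul_sub_one, ← pow_succ,
      Nat.sub_add_cancel (by omega)]
    exact Nat.sub_le_sub_left (Nat.one_le_pow _ _ (by omega)) _
  by_cases hG : IsGalois9 H U H₀
  · exact Nat.le_of_dvd (lt_of_lt_of_le (pow_pos (by omega) _) h1) (h.t9_7b' hG).2.2.1
  · obtain ⟨H₁, h₁⟩ := h.t9_7a hG
    have h2 := h₁.one_lt
    have h3 := Nat.le_of_dvd (by omega) h₁.dvd
    exact (Nat.le_of_dvd (pow_pos (by omega) _) h₁.u_dvd).trans
      ((Nat.pow_le_pow_left (by omega) _).trans h1)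

end CL.PF
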